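import Mathlib
import Cfsg.Prelude.Def_Blocks

/-!
# The local ring at a modular maximal ideal of the algebraic integers

`Cfsg.MemLocalRing M` and `Cfsg.MemLocalIdeal M` form a local subring of `ℂ` and its maximal
ideal; `Cong M` is congruence modulo the latter.
-/

namespace Cfsg.Agent.Blocks

open Polynomial

variable {p : ℕ} {M : Ideal Cfsg.AlgInt}

theorem isMaximal_of_pm (hM : Cfsg.IsPModular p M) : M.IsMaximal := hM.2.1

theorem isPrime_of_pm (hM : Cfsg.IsPModular p M) : M.IsPrime := hM.2.1.isPrime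

theorem fact_prime_of_pm (hM : Cfsg.IsPModular p M) : Fact p.Prime := ⟨hM.1⟩

theorem intCast_mem_iff (hM : Cfsg.IsPModular p M) (n : ℤ) :
    (n : Cfsg.AlgInt) ∈ M ↔ (p : ℤ) ∣ n := by
  constructor
  · intro h
    by_contra hn
    have hco : IsCoprime (p : ℤ) n :=
      (Irreducible.coprime_iff_not_dvd ((Nat.prime_iff_prime_int.1 hM.1).irreducible)).2 hn
    obtain ⟨a, b, hab⟩ := hco
    refine (isMaximal_of_pm hM).ne_top ((Ideal.eq_top_iff_one M).2 ?_)
    have h1 := M.add_mem (M.mul_mem_left (a : Cfsg.AlgInt) hM.2.2) (M.mul_mem_left (b : Cfsg.AlgInt) h)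
    have h2 : (a : Cfsg.AlgInt) * (p : Cfsg.AlgInt) + b * n = 1 := by
      rw [← Int.cast_natCast (R := Cfsg.AlgInt), ← Int.cast_mul, ← Int.cast_mul, ← Int.cast_add,
        hab, Int.cast_one]
    rwa [h2] at h1
  · rintro ⟨k, rfl⟩
    push_cast
    exact M.mul_mem_right _ hM.2.2

theorem natCast_mem_iff (hM : Cfsg.IsPModular p M) (n : ℕ) :
    (n : Cfsg.AlgInt) ∈ M ↔ p ∣ n := by
  simpa [Int.natCast_dvd_natCast] using intCast_mem_iff hM (n : ℤ)

theorem algInt_coe_ne_zero {b : Cfsg.AlgInt} (hb : b ∉ M) : (b : ℂ) ≠ 0 := fun h =>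
  hb (by rw [show b = 0 from Subtype.ext h]; exact M.zero_mem)

/-! ## The predicates -/

theorem memLocalRing_of_ideal {z : ℂ} (h : Cfsg.MemLocalIdeal M z) : Cfsg.MemLocalRing M z := by
  obtain ⟨a, b, -, hb, h⟩ := h; exact ⟨a, b, hb, h⟩

theorem one_notMem (hM : Cfsg.IsPModular p M) : (1 : Cfsg.AlgInt) ∉ M :=
  (Ideal.ne_top_iff_one M).1 (isMaximal_of_pm hM).ne_top

theorem ring_coe (hM : Cfsg.IsPModular p M) (a : Cfsg.AlgInt) :
    Cfsg.MemLocalRing M (a : ℂ) := ⟨a, 1, one_notMem hM, by simp⟩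

theorem ring_of_isIntegral (hM : Cfsg.IsPModular p M) {z : ℂ} (h : IsIntegral ℤ z) :
    Cfsg.MemLocalRing M z := ring_coe hM ⟨z, h⟩

theorem ring_natCast (hM : Cfsg.IsPModular p M) (n : ℕ) : Cfsg.MemLocalRing M (n : ℂ) :=
  ring_of_isIntegral hM (isIntegral_natCast n)

theorem ring_intCast (hM : Cfsg.IsPModular p M) (n : ℤ) : Cfsg.MemLocalRing M (n : ℂ) :=
  ring_of_isIntegral hM (isIntegral_intCast n)

theorem ring_zero (hM : Cfsg.IsPModular p M) : Cfsg.MemLocalRing M 0 :=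
  ring_of_isIntegral hM isIntegral_zero

theorem ring_one (hM : Cfsg.IsPModular p M) : Cfsg.MemLocalRing M 1 :=
  ring_of_isIntegral hM isIntegral_one

theorem ring_add (hM : Cfsg.IsPModular p M) {x y : ℂ} (hx : Cfsg.MemLocalRing M x)
    (hy : Cfsg.MemLocalRing M y) : Cfsg.MemLocalRing M (x + y) := by
  obtain ⟨a, b, hb, rfl⟩ := hx
  obtain ⟨c, d, hd, rfl⟩ := hy
  refine ⟨a * d + b * c, b * d, fun h => ((isPrime_of_pm hM).mem_or_mem h).elim hb hd, ?_⟩
  have := algInt_coe_ne_zero hb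
  have := algInt_coe_ne_zero hd
  push_cast
  field_simp

theorem ring_mul (hM : Cfsg.IsPModular p M) {x y : ℂ} (hx : Cfsg.MemLocalRing M x)
    (hy : Cfsg.MemLocalRing M y) : Cfsg.MemLocalRing M (x * y) := by
  obtain ⟨a, b, hb, rfl⟩ := hx
  obtain ⟨c, d, hd, rfl⟩ := hy
  refine ⟨a * c, b * d, fun h => ((isPrime_of_pm hM).mem_or_mem h).elim hb hd, ?_⟩
  push_cast
  rw [div_mul_div_comm]

theorem ring_neg (hM : Cfsg.IsPModular p M) {x : ℂ} (hx : Cfsg.MemLocalRing M x) :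
    Cfsg.MemLocalRing M (-x) := by
  simpa using ring_mul hM (ring_intCast hM (-1)) hx

theorem ring_sub (hM : Cfsg.IsPModular p M) {x y : ℂ} (hx : Cfsg.MemLocalRing M x)
    (hy : Cfsg.MemLocalRing M y) : Cfsg.MemLocalRing M (x - y) := by
  simpa [sub_eq_add_neg] using ring_add hM hx (ring_neg hM hy)

theorem ring_sum (hM : Cfsg.IsPModular p M) {ι : Type*} {s : Finset ι} {f : ι → ℂ}
    (h : ∀ i ∈ s, Cfsg.MemLocalRing M (f i)) : Cfsg.MemLocalRing M (∑ i ∈ s, f i) :=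
  Finset.sum_induction f _ (fun _ _ => ring_add hM) (ring_zero hM) h

theorem ring_pow (hM : Cfsg.IsPModular p M) {x : ℂ} (hx : Cfsg.MemLocalRing M x) (n : ℕ) :
    Cfsg.MemLocalRing M (x ^ n) := by
  induction n with
  | zero => simpa using ring_one hM
  | succ n ih => rw [pow_succ]; exact ring_mul hM ih hx

theorem ideal_coe_iff (hM : Cfsg.IsPModular p M) (a : Cfsg.AlgInt) :
    Cfsg.MemLocalIdeal M (a : ℂ) ↔ a ∈ M := by
  refine ⟨?_, fun h => ⟨a, 1, h, one_notMem hM, by simp⟩⟩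
  rintro ⟨c, d, hc, hd, h⟩
  have h' : a * d = c := Subtype.ext (by
    rw [div_eq_iff (algInt_coe_ne_zero hd)] at h
    simpa using h.symm)
  exact ((isPrime_of_pm hM).mem_or_mem (h' ▸ hc)).resolve_right hd

theorem ideal_natCast_iff (hM : Cfsg.IsPModular p M) (n : ℕ) :
    Cfsg.MemLocalIdeal M (n : ℂ) ↔ p ∣ n := by
  rw [← natCast_mem_iff hM, ← ideal_coe_iff hM]; simp

theorem ideal_intCast_iff (hM : Cfsg.IsPModular p M) (n : ℤ) :
    Cfsg.MemLocalIdeal M (n : ℂ) ↔ (p : ℤ) ∣ n := by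
  rw [← intCast_mem_iff hM, ← ideal_coe_iff hM]; simp

theorem ideal_zero (hM : Cfsg.IsPModular p M) : Cfsg.MemLocalIdeal M 0 := by
  simpa using (ideal_natCast_iff hM 0).2 (dvd_zero p)

theorem not_ideal_one (hM : Cfsg.IsPModular p M) : ¬ Cfsg.MemLocalIdeal M 1 := by
  simpa [hM.1.ne_one] using (ideal_natCast_iff hM 1).not.2 (by simp [hM.1.ne_one])

theorem ideal_p (hM : Cfsg.IsPModular p M) : Cfsg.MemLocalIdeal M (p : ℂ) :=
  (ideal_natCast_iff hM p).2 dvd_rfl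

theorem ideal_add (hM : Cfsg.IsPModular p M) {x y : ℂ} (hx : Cfsg.MemLocalIdeal M x)
    (hy : Cfsg.MemLocalIdeal M y) : Cfsg.MemLocalIdeal M (x + y) := by
  obtain ⟨a, b, ha, hb, rfl⟩ := hx
  obtain ⟨c, d, hc, hd, rfl⟩ := hy
  refine ⟨a * d + b * c, b * d, M.add_mem (M.mul_mem_right _ ha) (M.mul_mem_left _ hc),
    fun h => ((isPrime_of_pm hM).mem_or_mem h).elim hb hd, ?_⟩
  have := algInt_coe_ne_zero hb
  have := algInt_coe_ne_zero hd
  push_cast
  field_simp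

theorem ideal_mul_left (hM : Cfsg.IsPModular p M) {x y : ℂ} (hx : Cfsg.MemLocalRing M x)
    (hy : Cfsg.MemLocalIdeal M y) : Cfsg.MemLocalIdeal M (x * y) := by
  obtain ⟨a, b, hb, rfl⟩ := hx
  obtain ⟨c, d, hc, hd, rfl⟩ := hy
  refine ⟨a * c, b * d, M.mul_mem_left _ hc,
    fun h => ((isPrime_of_pm hM).mem_or_mem h).elim hb hd, ?_⟩
  push_cast
  rw [div_mul_div_comm]

theorem ideal_mul_right (hM : Cfsg.IsPModular p M) {x y : ℂ} (hx : Cfsg.MemLocalIdeal M x)
    (hy : Cfsg.MemLocalRing M y) : Cfsg.MemLocalIdeal M (x * y) :=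
  mul_comm y x ▸ ideal_mul_left hM hy hx

theorem ideal_neg (hM : Cfsg.IsPModular p M) {x : ℂ} (hx : Cfsg.MemLocalIdeal M x) :
    Cfsg.MemLocalIdeal M (-x) := by
  simpa using ideal_mul_left hM (ring_intCast hM (-1)) hx

theorem ideal_sub (hM : Cfsg.IsPModular p M) {x y : ℂ} (hx : Cfsg.MemLocalIdeal M x)
    (hy : Cfsg.MemLocalIdeal M y) : Cfsg.MemLocalIdeal M (x - y) := by
  simpa [sub_eq_add_neg] using ideal_add hM hx (ideal_neg hM hy)

theorem ideal_sum (hM : Cfsg.IsPModular p M) {ι : Type*} {s : Finset ι} {f : ι → ℂ}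
    (h : ∀ i ∈ s, Cfsg.MemLocalIdeal M (f i)) : Cfsg.MemLocalIdeal M (∑ i ∈ s, f i) :=
  Finset.sum_induction f _ (fun _ _ => ideal_add hM) (ideal_zero hM) h

/-- A local integer outside the local ideal is a unit. -/
theorem ring_inv (hM : Cfsg.IsPModular p M) {x : ℂ} (hx : Cfsg.MemLocalRing M x)
    (hn : ¬ Cfsg.MemLocalIdeal M x) : Cfsg.MemLocalRing M x⁻¹ := by
  obtain ⟨a, b, hb, rfl⟩ := hx
  exact ⟨b, a, fun ha => hn ⟨a, b, ha, hb, rfl⟩, by rw [inv_div]⟩

theorem ne_zero_of_not_ideal (hM : Cfsg.IsPModular p M) {x : ℂ}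
    (hn : ¬ Cfsg.MemLocalIdeal M x) : x ≠ 0 := fun h => hn (h ▸ ideal_zero hM)

theorem not_ideal_inv (hM : Cfsg.IsPModular p M) {x : ℂ} (hx : Cfsg.MemLocalRing M x)
    (hn : ¬ Cfsg.MemLocalIdeal M x) : ¬ Cfsg.MemLocalIdeal M x⁻¹ := fun h =>
  not_ideal_one hM (by simpa [ne_zero_of_not_ideal hM hn] using ideal_mul_left hM hx h)

theorem ideal_mul_iff (hM : Cfsg.IsPModular p M) {x y : ℂ} (hx : Cfsg.MemLocalRing M x)
    (hy : Cfsg.MemLocalRing M y) :
    Cfsg.MemLocalIdeal M (x * y) ↔ Cfsg.MemLocalIdeal M x ∨ Cfsg.MemLocalIdeal M y := by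
  refine ⟨fun h => ?_, fun h => h.elim (fun h => ideal_mul_right hM h hy) (ideal_mul_left hM hx)⟩
  by_cases h' : Cfsg.MemLocalIdeal M x
  · exact Or.inl h'
  · refine Or.inr ?_
    have := ideal_mul_left hM (ring_inv hM hx h') h
    rwa [inv_mul_cancel_left₀ (ne_zero_of_not_ideal hM h')] at this

theorem ideal_pow (hM : Cfsg.IsPModular p M) {x : ℂ} (hx : Cfsg.MemLocalIdeal M x) {n : ℕ}
    (hn : n ≠ 0) : Cfsg.MemLocalIdeal M (x ^ n) := by
  obtain ⟨m, rfl⟩ := Nat.exists_eq_succ_of_ne_zero hn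
  rw [pow_succ]
  exact ideal_mul_left hM (ring_pow hM (memLocalRing_of_ideal hx) m) hx

theorem ideal_of_pow (hM : Cfsg.IsPModular p M) {x : ℂ} (hx : Cfsg.MemLocalRing M x) :
    ∀ {n : ℕ}, Cfsg.MemLocalIdeal M (x ^ n) → Cfsg.MemLocalIdeal M x := by
  intro n
  induction n with
  | zero => intro h; exact absurd (by simpa using h) (not_ideal_one hM)
  | succ n ih =>
    intro h
    rw [pow_succ, ideal_mul_iff hM (ring_pow hM hx n) hx] at h
    exact h.elim ih id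

/-! ## Congruences -/

/-- Congruence modulo the local ideal. -/
def Cong (M : Ideal Cfsg.AlgInt) (x y : ℂ) : Prop := Cfsg.MemLocalIdeal M (x - y)

theorem cong_refl (hM : Cfsg.IsPModular p M) (x : ℂ) : Cong M x x := by
  simpa [Cong] using ideal_zero hM

theorem cong_of_eq (hM : Cfsg.IsPModular p M) {x y : ℂ} (h : x = y) : Cong M x y :=
  h ▸ cong_refl hM x

theorem cong_symm (hM : Cfsg.IsPModular p M) {x y : ℂ} (h : Cong M x y) : Cong M y x := by
  have := ideal_neg hM h; rwa [neg_sub] at this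

theorem cong_trans (hM : Cfsg.IsPModular p M) {x y z : ℂ} (h : Cong M x y) (h' : Cong M y z) :
    Cong M x z := by
  have := ideal_add hM h h'; rwa [sub_add_sub_cancel] at this

theorem cong_add (hM : Cfsg.IsPModular p M) {x y x' y' : ℂ} (h : Cong M x x') (h' : Cong M y y') :
    Cong M (x + y) (x' + y') := by
  have := ideal_add hM h h'; unfold Cong; rwa [add_sub_add_comm]

theorem cong_sub (hM : Cfsg.IsPModular p M) {x y x' y' : ℂ} (h : Cong M x x') (h' : Cong M y y') :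
    Cong M (x - y) (x' - y') := by
  have := ideal_sub hM h h'; unfold Cong; rwa [sub_sub_sub_comm]

theorem cong_sum (hM : Cfsg.IsPModular p M) {ι : Type*} {s : Finset ι} {f g : ι → ℂ}
    (h : ∀ i ∈ s, Cong M (f i) (g i)) : Cong M (∑ i ∈ s, f i) (∑ i ∈ s, g i) := by
  unfold Cong; rw [← Finset.sum_sub_distrib]; exact ideal_sum hM h

theorem cong_zero_iff {x : ℂ} : Cong M x 0 ↔ Cfsg.MemLocalIdeal M x := by simp [Cong]

theorem ring_of_cong (hM : Cfsg.IsPModular p M) {x y : ℂ} (h : Cong M x y)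
    (hy : Cfsg.MemLocalRing M y) : Cfsg.MemLocalRing M x := by
  simpa using ring_add hM (memLocalRing_of_ideal h) hy

theorem cong_mul_left (hM : Cfsg.IsPModular p M) {c x y : ℂ} (hc : Cfsg.MemLocalRing M c)
    (h : Cong M x y) : Cong M (c * x) (c * y) := by
  unfold Cong; rw [← mul_sub]; exact ideal_mul_left hM hc h

theorem cong_mul (hM : Cfsg.IsPModular p M) {x y x' y' : ℂ} (hx : Cong M x x')
    (hy : Cong M y y') (rx : Cfsg.MemLocalRing M x') (ry : Cfsg.MemLocalRing M y') :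
    Cong M (x * y) (x' * y') := by
  refine cong_trans hM (cong_mul_left hM (ring_of_cong hM hx rx) hy) ?_
  have := cong_mul_left hM ry hx
  rwa [mul_comm y' x, mul_comm y' x'] at this

theorem cong_pow (hM : Cfsg.IsPModular p M) {x y : ℂ} (h : Cong M x y)
    (hy : Cfsg.MemLocalRing M y) (n : ℕ) : Cong M (x ^ n) (y ^ n) := by
  induction n with
  | zero => simpa using cong_refl hM (1 : ℂ)
  | succ n ih => rw [pow_succ, pow_succ]; exact cong_mul hM ih h (ring_pow hM hy n) hy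

theorem ideal_iff_of_cong (hM : Cfsg.IsPModular p M) {x y : ℂ} (h : Cong M x y) :
    Cfsg.MemLocalIdeal M x ↔ Cfsg.MemLocalIdeal M y :=
  ⟨fun hx => cong_zero_iff.1 (cong_trans hM (cong_symm hM h) (cong_zero_iff.2 hx)),
    fun hy => cong_zero_iff.1 (cong_trans hM h (cong_zero_iff.2 hy))⟩

theorem not_cong_zero_one (hM : Cfsg.IsPModular p M) : ¬ Cong M 0 1 := fun h =>
  not_ideal_one hM (cong_zero_iff.1 (cong_symm hM h))

/-! ## Powers of `p`, natural numbers -/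

theorem ring_inv_natCast (hM : Cfsg.IsPModular p M) {n : ℕ} (hn : ¬ p ∣ n) :
    Cfsg.MemLocalRing M (n : ℂ)⁻¹ :=
  ring_inv hM (ring_natCast hM n) ((ideal_natCast_iff hM n).not.2 hn)

theorem exists_natCast_eq_pow_mul (hM : Cfsg.IsPModular p M) {n : ℕ} (hn : n ≠ 0) :
    ∃ u : ℕ, ¬ p ∣ u ∧ (n : ℂ) = (p : ℂ) ^ n.factorization p * (u : ℂ) := by
  refine ⟨n / p ^ n.factorization p, ?_, ?_⟩
  · exact Nat.not_dvd_ordCompl hM.1 hn
  · rw [← Nat.cast_pow, ← Nat.cast_mul, Nat.ordProj_mul_ordCompl_eq_self]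

/-- A quotient of natural numbers is a local integer if the `p`-adic valuations allow it. -/
theorem ring_natCast_div (hM : Cfsg.IsPModular p M) {a b : ℕ}
    (hb : b ≠ 0) (h : b.factorization p ≤ a.factorization p) :
    Cfsg.MemLocalRing M ((a : ℂ) / (b : ℂ)) := by
  rcases eq_or_ne a 0 with rfl | ha
  · simpa using ring_zero hM
  obtain ⟨u, hu, hbe⟩ := exists_natCast_eq_pow_mul hM hb
  obtain ⟨v, -, hae⟩ := exists_natCast_eq_pow_mul hM ha
  have hp : (p : ℂ) ≠ 0 := Nat.cast_ne_zero.2 hM.1.ne_zero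
  have : (a : ℂ) / b = (p : ℂ) ^ (a.factorization p - b.factorization p) * v * (u : ℂ)⁻¹ := by
    conv_lhs => rw [hae, hbe, ← Nat.sub_add_cancel h, pow_add]
    field_simp
  rw [this]
  exact ring_mul hM (ring_mul hM (ring_pow hM (ring_natCast hM p) _) (ring_natCast hM v))
    (ring_inv_natCast hM hu)

theorem ideal_natCast_div (hM : Cfsg.IsPModular p M) {a b : ℕ}
    (hb : b ≠ 0) (h : b.factorization p < a.factorization p) :
    Cfsg.MemLocalIdeal M ((a : ℂ) / (b : ℂ)) := by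
  have hp : (p : ℂ) ≠ 0 := Nat.cast_ne_zero.2 hM.1.ne_zero
  have hb' : (b : ℂ) ≠ 0 := Nat.cast_ne_zero.2 hb
  have hr : Cfsg.MemLocalRing M ((a : ℂ) / ((p * b : ℕ) : ℂ)) := by
    refine ring_natCast_div hM (Nat.mul_ne_zero hM.1.ne_zero hb) ?_
    rw [Nat.factorization_mul hM.1.ne_zero hb, Finsupp.add_apply, Nat.Prime.factorization_self hM.1]
    omega
  have := ideal_mul_left hM hr (ideal_p hM)
  rwa [show (a : ℂ) / ((p * b : ℕ) : ℂ) * (p : ℂ) = (a : ℂ) / b from by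
    push_cast; field_simp] at this

theorem not_ideal_natCast_div (hM : Cfsg.IsPModular p M) {a b : ℕ}
    (ha : a ≠ 0) (hb : b ≠ 0) (h : b.factorization p = a.factorization p) :
    ¬ Cfsg.MemLocalIdeal M ((a : ℂ) / (b : ℂ)) := fun hi =>
  not_ideal_one hM (by
    have := ideal_mul_left hM (ring_natCast_div hM ha h.ge) hi
    rwa [div_mul_div_comm, mul_comm (b : ℂ), div_self (mul_ne_zero (Nat.cast_ne_zero.2 ha)
      (Nat.cast_ne_zero.2 hb))] at this)

/-- Every prime ideal containing `p` is maximal. -/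
theorem isMaximal_of_prime_mem (hp : p.Prime) {Q : Ideal Cfsg.AlgInt} [Q.IsPrime]
    (h : (p : Cfsg.AlgInt) ∈ Q) : Q.IsMaximal := by
  refine Ideal.isMaximal_of_isIntegral_of_isMaximal_comap (R := ℤ) Q ?_
  haveI : (Q.comap (algebraMap ℤ Cfsg.AlgInt)).IsPrime := Ideal.IsPrime.comap _
  refine IsPrime.to_maximal_ideal fun hbot => ?_
  have : (p : ℤ) ∈ Q.comap (algebraMap ℤ Cfsg.AlgInt) := by simpa using h
  rw [hbot] at this
  exact hp.ne_zero (by simpa using this)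

/-- Elements of `M` are, up to a unit, nilpotent modulo `p`. -/
theorem exists_pow_mul_mem_span (hM : Cfsg.IsPModular p M) {x : Cfsg.AlgInt} (hx : x ∈ M) :
    ∃ n : ℕ, ∃ b : Cfsg.AlgInt, b ∉ M ∧ b * x ^ n ∈ Ideal.span {(p : Cfsg.AlgInt)} := by
  haveI := isPrime_of_pm hM
  let S : Submonoid Cfsg.AlgInt :=
    { carrier := {z | ∃ n : ℕ, ∃ b, b ∉ M ∧ z = b * x ^ n}
      one_mem' := ⟨0, 1, one_notMem hM, by simp⟩
      mul_mem' := by
        rintro _ _ ⟨n, b, hb, rfl⟩ ⟨m, c, hc, rfl⟩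
        exact ⟨n + m, b * c, fun h => ((isPrime_of_pm hM).mem_or_mem h).elim hb hc, by ring⟩ }
  by_contra hcon
  push Not at hcon
  have hd : Disjoint (Ideal.span {(p : Cfsg.AlgInt)} : Set Cfsg.AlgInt) (S : Set Cfsg.AlgInt) := by
    rw [Set.disjoint_right]
    rintro z ⟨n, b, hb, rfl⟩ hz
    exact hcon n b hb hz
  obtain ⟨Q, hQp, hIQ, hQS⟩ := Ideal.exists_le_prime_disjoint _ S hd
  haveI := hQp
  have hQmax := isMaximal_of_prime_mem hM.1 (hIQ (Ideal.subset_span rfl))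
  have hle : Q ≤ M := fun z hz => by
    by_contra hzM
    exact Set.disjoint_left.1 hQS hz ⟨0, z, hzM, by simp⟩
  have hQM := hQmax.eq_of_le (isMaximal_of_pm hM).ne_top hle
  exact Set.disjoint_left.1 hQS (hQM ▸ hx) ⟨1, 1, one_notMem hM, by simp⟩

theorem exists_pow_div_p (hM : Cfsg.IsPModular p M) {z : ℂ} (hz : Cfsg.MemLocalIdeal M z) :
    ∃ n : ℕ, Cfsg.MemLocalRing M (z ^ n / (p : ℂ)) := by
  obtain ⟨a, b, ha, hb, rfl⟩ := hz
  obtain ⟨n, c, hc, hmem⟩ := exists_pow_mul_mem_span hM ha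
  obtain ⟨d, hd⟩ := Ideal.mem_span_singleton'.1 hmem
  have hd' : (d : ℂ) * (p : ℂ) = (c : ℂ) * (a : ℂ) ^ n := by
    have := congrArg (Subtype.val) hd; simpa using this
  have hp : (p : ℂ) ≠ 0 := Nat.cast_ne_zero.2 hM.1.ne_zero
  have hb' := algInt_coe_ne_zero hb
  have hc' := algInt_coe_ne_zero hc
  refine ⟨n, d, c * b ^ n,
    fun h => ((isPrime_of_pm hM).mem_or_mem h).elim hc fun h' =>
      hb ((isPrime_of_pm hM).mem_of_pow_mem n h'), ?_⟩
  push_cast
  rw [div_pow, div_div, div_eq_div_iff (by positivity) (mul_ne_zero (pow_ne_zero _ hb') hp)]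
  linear_combination (b : ℂ) ^ n * hd'

theorem exists_pow_div_ideal (hM : Cfsg.IsPModular p M) {z : ℂ} (hz : Cfsg.MemLocalIdeal M z)
    (m : ℕ) (hm : m ≠ 0) :
    ∃ n₀ : ℕ, ∀ n ≥ n₀, Cfsg.MemLocalIdeal M (z ^ n / (m : ℂ)) := by
  obtain ⟨n, hn⟩ := exists_pow_div_p hM hz
  obtain ⟨u, hu, hme⟩ := exists_natCast_eq_pow_mul hM hm
  set a := m.factorization p with ha
  refine ⟨n * a + 1, fun k hk => ?_⟩
  obtain ⟨j, rfl⟩ : ∃ j, k = n * a + (j + 1) := ⟨k - (n * a + 1), by omega⟩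
  have : z ^ (n * a + (j + 1)) / (m : ℂ) = ((z ^ n / (p : ℂ)) ^ a * z ^ j * (u : ℂ)⁻¹) * z := by
    rw [hme, pow_add, pow_mul, pow_succ, div_pow]
    field_simp
  rw [this]
  exact ideal_mul_left hM (ring_mul hM (ring_mul hM (ring_pow hM hn a)
    (ring_pow hM (memLocalRing_of_ideal hz) j)) (ring_inv_natCast hM hu)) hz

theorem exists_pow_div_ideal_family (hM : Cfsg.IsPModular p M) {ι : Type*} [Finite ι]
    {z : ι → ℂ} (hz : ∀ i, Cfsg.MemLocalIdeal M (z i)) (m : ℕ) (hm : m ≠ 0) :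
    ∃ n₀ : ℕ, ∀ n ≥ n₀, ∀ i, Cfsg.MemLocalIdeal M (z i ^ n / (m : ℂ)) := by
  choose f hf using fun i => exists_pow_div_ideal hM (hz i) m hm
  haveI := Fintype.ofFinite ι
  exact ⟨Finset.univ.sup f, fun n hn i =>
    hf i n ((Finset.le_sup (Finset.mem_univ i)).trans hn)⟩

/-! ## Roots of unity -/

/-- Roots of unity of order prime to `p` are distinguished modulo the local ideal. -/
theorem eq_one_of_cong_one (hM : Cfsg.IsPModular p M) {m : ℕ} (hm : ¬ p ∣ m) {η : ℂ}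
    (h : η ^ m = 1) (hc : Cong M η 1) : η = 1 := by
  by_contra hne
  have h0 : ∑ k ∈ Finset.range m, η ^ k = 0 := by
    have := geom_sum_mul η m
    rw [h, sub_self, mul_eq_zero] at this
    exact this.resolve_right (sub_ne_zero.2 hne)
  have : Cong M (∑ k ∈ Finset.range m, η ^ k) (∑ k ∈ Finset.range m, (1 : ℂ)) :=
    cong_sum hM fun k _ => by simpa using cong_pow hM hc (ring_one hM) k
  rw [h0, Finset.sum_const, Finset.card_range, nsmul_eq_mul, mul_one] at this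
  exact hm ((ideal_natCast_iff hM m).1 (cong_zero_iff.1 (cong_symm hM this)))

theorem isIntegral_of_pow_eq_one {n : ℕ} (hn : n ≠ 0) {η : ℂ} (h : η ^ n = 1) :
    IsIntegral ℤ η :=
  IsIntegral.of_pow (Nat.pos_of_ne_zero hn) (h ▸ isIntegral_one)

theorem ring_of_pow_eq_one (hM : Cfsg.IsPModular p M) {n : ℕ} (hn : n ≠ 0) {η : ℂ}
    (h : η ^ n = 1) : Cfsg.MemLocalRing M η :=
  ring_of_isIntegral hM (isIntegral_of_pow_eq_one hn h)

/-- Roots of unity of `p`-power order are congruent to `1`. -/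
theorem cong_one_of_pow_prime_pow (hM : Cfsg.IsPModular p M) :
    ∀ {k : ℕ} {ω : ℂ}, ω ^ p ^ k = 1 → Cong M ω 1 := by
  intro k
  induction k with
  | zero => intro ω h; rw [pow_zero, pow_one] at h; exact cong_of_eq hM h
  | succ k ih =>
    intro ω h
    have hp := hM.1
    haveI := Fact.mk hp
    have hω : Cfsg.MemLocalRing M ω :=
      ring_of_pow_eq_one hM (pow_ne_zero _ hp.ne_zero) h
    have h1 : Cong M (ω ^ p) 1 := ih (by rw [← pow_mul, ← pow_succ']; exact h)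
    have hmem : IsIntegral ℤ ω := isIntegral_of_pow_eq_one (pow_ne_zero _ hp.ne_zero) h
    let w : Cfsg.AlgInt := ⟨ω, hmem⟩
    obtain ⟨r, hr⟩ := exists_add_pow_prime_eq hp (w - 1) 1
    rw [sub_add_cancel, one_pow] at hr
    have h2 : w ^ p - 1 ∈ M := (ideal_coe_iff hM _).1 (by
      have := h1; unfold Cong at this; simpa [w] using this)
    have h3 : (w - 1) ^ p ∈ M := by
      have : (w - 1) ^ p = (w ^ p - 1) - (p : Cfsg.AlgInt) * (w - 1) * r := by
        rw [hr]; ring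
      rw [this]
      exact M.sub_mem h2 (M.mul_mem_right _ (M.mul_mem_right _ hM.2.2))
    have h4 := (ideal_coe_iff hM _).2 ((isPrime_of_pm hM).mem_of_pow_mem p h3)
    simpa [Cong, w] using h4

end Cfsg.Agent.Blocks
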