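import Mathlib
import Cfsg.Prelude.Def_Blocks
import Cfsg.Agent.Lib.Characters.Kernel
import Cfsg.Agent.Lib.Blocks.LocalRing

/-!
# Central characters on the centre of the complex group algebra

Elements of `MonoidAlgebra ℂ G` are handled through their coefficient functions.
`omega χ z` is the central character of `χ` at the central element `z`, and `fourier c` is the
central element with central characters `c`.
-/

set_option linter.style.haveILetI false

namespace Cfsg.Agent.Blocks

open scoped ComplexConjugate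
open Cfsg.Agent.Characters

universe u

variable {G : Type u} [Group G]

/-- The element of the group algebra with the given coefficient function. -/
noncomputable def ofFun [Finite G] (f : G → ℂ) : MonoidAlgebra ℂ G :=
  MonoidAlgebra.ofCoeff (Finsupp.equivFunOnFinite.symm f)

@[simp] theorem coeff_ofFun [Finite G] (f : G → ℂ) (g : G) : (ofFun f).coeff g = f g := by
  simp [ofFun]

theorem el_ext {x y : MonoidAlgebra ℂ G} (h : ∀ g, x.coeff g = y.coeff g) : x = y :=
  MonoidAlgebra.ext (Finsupp.ext h)

theorem eq_sum_single [Fintype G] (z : MonoidAlgebra ℂ G) :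
    z = ∑ g : G, MonoidAlgebra.single g (z.coeff g) := by
  classical
  refine el_ext fun h => ?_
  simp [MonoidAlgebra.coeff_sum, Finsupp.single_apply]

/-- Convolution formula. -/
theorem coeff_mul' [Fintype G] (x y : MonoidAlgebra ℂ G) (g : G) :
    (x * y).coeff g = ∑ h : G, x.coeff h * y.coeff (h⁻¹ * g) := by
  classical
  rw [MonoidAlgebra.coeff_mul_antidiag x y g
    (Finset.univ.image fun h : G => (h, h⁻¹ * g))]
  · rw [Finset.sum_image fun a _ b _ hab => (Prod.ext_iff.1 hab).1]
  · intro q
    simp only [Finset.mem_image, Finset.mem_univ, true_and]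
    constructor
    · rintro ⟨h, rfl⟩; simp
    · intro hq; exact ⟨q.1, Prod.ext rfl (by simp [← hq])⟩

theorem coeff_single_mul' (h g : G) (r : ℂ) (y : MonoidAlgebra ℂ G) :
    (MonoidAlgebra.single h r * y).coeff g = r * y.coeff (h⁻¹ * g) :=
  MonoidAlgebra.coeff_single_mul_eq_mul_coeff _ fun m _ => eq_inv_mul_iff_mul_eq.symm

theorem coeff_mul_single' (h g : G) (r : ℂ) (y : MonoidAlgebra ℂ G) :
    (y * MonoidAlgebra.single h r).coeff g = y.coeff (g * h⁻¹) * r :=
  MonoidAlgebra.coeff_mul_single_eq_coeff_mul _ fun m _ => eq_mul_inv_iff_mul_eq.symm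

/-! ## Central elements -/

/-- The coefficient function is a class function. -/
def IsCentralEl (z : MonoidAlgebra ℂ G) : Prop :=
  ∀ g h : G, z.coeff (h * g * h⁻¹) = z.coeff g

theorem central_isConj {z : MonoidAlgebra ℂ G} (hz : IsCentralEl z) {g h : G} (hgh : IsConj g h) :
    z.coeff g = z.coeff h := by
  obtain ⟨c, rfl⟩ := isConj_iff.1 hgh
  exact (hz g c).symm

theorem central_ofFun [Finite G] {f : G → ℂ} (hf : Cfsg.IsClassFunction G f) :
    IsCentralEl (ofFun f) := fun g h => by simp [hf g h]

theorem central_one : IsCentralEl (1 : MonoidAlgebra ℂ G) := fun g h => by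
  classical
  simp [MonoidAlgebra.one_def, Finsupp.single_apply, eq_comm (a := (1 : G)), conj_eq_one_iff]

theorem central_zero : IsCentralEl (0 : MonoidAlgebra ℂ G) := fun g h => by simp

theorem central_add {x y : MonoidAlgebra ℂ G} (hx : IsCentralEl x) (hy : IsCentralEl y) :
    IsCentralEl (x + y) := fun g h => by simp [hx g h, hy g h]

theorem central_sub {x y : MonoidAlgebra ℂ G} (hx : IsCentralEl x) (hy : IsCentralEl y) :
    IsCentralEl (x - y) := fun g h => by simp [MonoidAlgebra.coeff_sub, hx g h, hy g h]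

theorem central_smul {x : MonoidAlgebra ℂ G} (c : ℂ) (hx : IsCentralEl x) :
    IsCentralEl (c • x) := fun g h => by simp [MonoidAlgebra.coeff_smul_apply, hx g h]

theorem central_sum {ι : Type*} {s : Finset ι} {f : ι → MonoidAlgebra ℂ G}
    (h : ∀ i ∈ s, IsCentralEl (f i)) : IsCentralEl (∑ i ∈ s, f i) :=
  Finset.sum_induction f _ (fun _ _ => central_add) central_zero h

theorem central_mul [Finite G] {x y : MonoidAlgebra ℂ G} (hx : IsCentralEl x)
    (hy : IsCentralEl y) : IsCentralEl (x * y) := by
  haveI := Fintype.ofFinite G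
  intro g h
  rw [coeff_mul', coeff_mul']
  symm
  refine Fintype.sum_equiv (MulAut.conj h).toEquiv _ _ fun k => ?_
  rw [show (MulAut.conj h).toEquiv k = h * k * h⁻¹ from rfl, hx k h]
  rw [show (h * k * h⁻¹)⁻¹ * (h * g * h⁻¹) = h * (k⁻¹ * g) * h⁻¹ by group, hy]

theorem central_pow [Finite G] {x : MonoidAlgebra ℂ G} (hx : IsCentralEl x) (n : ℕ) :
    IsCentralEl (x ^ n) := by
  induction n with
  | zero => simpa using central_one
  | succ n ih => rw [pow_succ]; exact central_mul ih hx

theorem central_commute [Finite G] {z : MonoidAlgebra ℂ G} (hz : IsCentralEl z)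
    (w : MonoidAlgebra ℂ G) : Commute z w := by
  haveI := Fintype.ofFinite G
  refine el_ext fun g => ?_
  rw [coeff_mul', coeff_mul']
  refine Fintype.sum_equiv ((Equiv.inv G).trans (Equiv.mulRight g)) _ _ fun h => ?_
  simp only [Equiv.trans_apply, Equiv.inv_apply, Equiv.coe_mulRight]
  rw [mul_comm, show (h⁻¹ * g)⁻¹ * g = g⁻¹ * h * g⁻¹⁻¹ by group, hz]

open scoped Classical in
/-- The sum of the conjugacy class of `g`. -/
noncomputable def classSum [Finite G] (g : G) : MonoidAlgebra ℂ G :=
  ofFun fun x => if IsConj g x then 1 else 0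

open scoped Classical in
theorem coeff_classSum [Finite G] (g x : G) :
    (classSum g).coeff x = if IsConj g x then 1 else 0 := by simp [classSum]

theorem isConj_conj_right_iff {g x h : G} : IsConj g (h * x * h⁻¹) ↔ IsConj g x := by
  have hc : IsConj x (h * x * h⁻¹) := isConj_iff.2 ⟨h, rfl⟩
  exact ⟨fun e => e.trans hc.symm, fun e => e.trans hc⟩

theorem central_classSum [Finite G] (g : G) : IsCentralEl (classSum g) := fun x h => by
  classical
  simp only [coeff_classSum, isConj_conj_right_iff]

/-- The number of conjugates is the index of the centraliser. -/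
theorem card_conjugates [Finite G] (g : G) :
    Nat.card {x : G // IsConj g x} = (Subgroup.centralizer ({g} : Set G)).index := by
  have h1 := card_carrier_mul_card_centralizer g
  have h2 : Nat.card (ConjClasses.mk g).carrier = Nat.card {x : G // IsConj g x} :=
    Nat.card_congr (Equiv.subtypeEquivRight fun x => by
      rw [ConjClasses.mem_carrier_iff_mk_eq, ConjClasses.mk_eq_mk_iff_isConj, isConj_comm])
  rw [← Subgroup.index_mul_card (Subgroup.centralizer ({g} : Set G)), h2] at h1
  exact mul_right_cancel₀ Nat.card_pos.ne' h1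

open scoped Classical in
theorem card_filter_isConj [Fintype G] (g : G) :
    (Finset.univ.filter fun x : G => IsConj g x).card =
      (Subgroup.centralizer ({g} : Set G)).index := by
  rw [← card_conjugates, Nat.card_eq_fintype_card, Fintype.card_subtype]

/-- A central element is a combination of class sums. -/
theorem central_eq_sum [Finite G] [Fintype (ConjClasses G)] {z : MonoidAlgebra ℂ G}
    (hz : IsCentralEl z) :
    z = ∑ C : ConjClasses G, z.coeff (Quotient.out C) • classSum (Quotient.out C) := by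
  classical
  refine el_ext fun g => ?_
  rw [MonoidAlgebra.coeff_sum, Finsupp.finsetSum_apply, Finset.sum_eq_single (ConjClasses.mk g)]
  · have : IsConj (Quotient.out (ConjClasses.mk g)) g :=
      ConjClasses.mk_eq_mk_iff_isConj.1 (Quotient.out_eq _)
    rw [MonoidAlgebra.coeff_smul_apply, coeff_classSum, if_pos this, central_isConj hz this,
      smul_eq_mul, mul_one]
  · intro C _ hC
    have : ¬ IsConj (Quotient.out C) g := fun h =>
      hC ((Quotient.out_eq C).symm.trans (ConjClasses.mk_eq_mk_iff_isConj.2 h))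
    rw [MonoidAlgebra.coeff_smul_apply, coeff_classSum, if_neg this, smul_zero]
  · simp

/-! ## Evaluation of characters -/

/-- The linear extension of a function on `G` to the group algebra. -/
noncomputable def evalChar (χ : G → ℂ) (z : MonoidAlgebra ℂ G) : ℂ :=
  z.coeff.sum fun g c => c * χ g

theorem evalChar_eq_sum [Fintype G] (χ : G → ℂ) (z : MonoidAlgebra ℂ G) :
    evalChar χ z = ∑ g : G, z.coeff g * χ g :=
  Finsupp.sum_fintype _ _ fun _ => zero_mul _

theorem evalChar_add [Finite G] (χ : G → ℂ) (x y : MonoidAlgebra ℂ G) :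
    evalChar χ (x + y) = evalChar χ x + evalChar χ y := by
  haveI := Fintype.ofFinite G
  simp [evalChar_eq_sum, add_mul, Finset.sum_add_distrib]

theorem evalChar_sub [Finite G] (χ : G → ℂ) (x y : MonoidAlgebra ℂ G) :
    evalChar χ (x - y) = evalChar χ x - evalChar χ y := by
  haveI := Fintype.ofFinite G
  simp [evalChar_eq_sum, MonoidAlgebra.coeff_sub, sub_mul, Finset.sum_sub_distrib]

theorem evalChar_smul [Finite G] (χ : G → ℂ) (c : ℂ) (x : MonoidAlgebra ℂ G) :
    evalChar χ (c • x) = c * evalChar χ x := by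
  haveI := Fintype.ofFinite G
  simp [evalChar_eq_sum, MonoidAlgebra.coeff_smul_apply, mul_assoc, Finset.mul_sum]

theorem evalChar_zero (χ : G → ℂ) : evalChar χ (0 : MonoidAlgebra ℂ G) = 0 := by
  simp [evalChar]

theorem evalChar_sum [Finite G] (χ : G → ℂ) {ι : Type*} (s : Finset ι)
    (f : ι → MonoidAlgebra ℂ G) : evalChar χ (∑ i ∈ s, f i) = ∑ i ∈ s, evalChar χ (f i) := by
  classical
  induction s using Finset.induction with
  | empty => simp [evalChar_zero]
  | insert i s hi ih => simp [Finset.sum_insert hi, evalChar_add, ih]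

theorem evalChar_single (χ : G → ℂ) (g : G) (r : ℂ) :
    evalChar χ (MonoidAlgebra.single g r) = r * χ g := by
  simp [evalChar, MonoidAlgebra.coeff_single]

theorem evalChar_one (χ : G → ℂ) : evalChar χ (1 : MonoidAlgebra ℂ G) = χ 1 := by
  rw [MonoidAlgebra.one_def, evalChar_single, one_mul]

theorem evalChar_eq_trace [Finite G] {n : ℕ} (ρ : Representation ℂ G (Fin n → ℂ))
    (z : MonoidAlgebra ℂ G) :
    evalChar ρ.character z = LinearMap.trace ℂ (Fin n → ℂ) (ρ.asAlgebraHom z) := by
  haveI := Fintype.ofFinite G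
  conv_rhs => rw [eq_sum_single z]
  simp only [map_sum, Representation.asAlgebraHom_single, map_smul, evalChar_eq_sum,
    smul_eq_mul, Representation.character]

/-- The central character of `χ` on the centre of the group algebra. -/
noncomputable def omega (χ : G → ℂ) (z : MonoidAlgebra ℂ G) : ℂ := evalChar χ z / χ 1

theorem omega_add [Finite G] (χ : G → ℂ) (x y : MonoidAlgebra ℂ G) :
    omega χ (x + y) = omega χ x + omega χ y := by simp [omega, evalChar_add, add_div]

theorem omega_sub [Finite G] (χ : G → ℂ) (x y : MonoidAlgebra ℂ G) :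
    omega χ (x - y) = omega χ x - omega χ y := by simp [omega, evalChar_sub, sub_div]

theorem omega_smul [Finite G] (χ : G → ℂ) (c : ℂ) (x : MonoidAlgebra ℂ G) :
    omega χ (c • x) = c * omega χ x := by simp [omega, evalChar_smul, mul_div_assoc]

theorem omega_zero (χ : G → ℂ) : omega χ (0 : MonoidAlgebra ℂ G) = 0 := by
  simp [omega, evalChar_zero]

theorem omega_sum [Finite G] (χ : G → ℂ) {ι : Type*} (s : Finset ι)
    (f : ι → MonoidAlgebra ℂ G) : omega χ (∑ i ∈ s, f i) = ∑ i ∈ s, omega χ (f i) := by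
  simp [omega, evalChar_sum, Finset.sum_div]

theorem omega_one {χ : G → ℂ} (h : χ 1 ≠ 0) : omega χ (1 : MonoidAlgebra ℂ G) = 1 := by
  rw [omega, evalChar_one, div_self h]

theorem omega_classSum [Finite G] {χ : G → ℂ} (hχ : Cfsg.IsClassFunction G χ) (g : G) :
    omega χ (classSum g) = Cfsg.centralChar χ g := by
  classical
  haveI := Fintype.ofFinite G
  rw [omega, Cfsg.centralChar, evalChar_eq_sum]
  congr 1
  simp only [coeff_classSum, ite_mul, one_mul, zero_mul, ← Finset.sum_filter]
  rw [Finset.sum_congr rfl (g := fun _ => χ g) fun x hx => by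
    obtain ⟨c, rfl⟩ := isConj_iff.1 (Finset.mem_filter.1 hx).2
    exact hχ g c]
  rw [Finset.sum_const, card_filter_isConj, nsmul_eq_mul]

/-- A central element acts as a scalar on an irreducible representation. -/
theorem asAlgebraHom_central [Finite G] {n : ℕ} (ρ : Representation ℂ G (Fin n → ℂ))
    [ρ.IsIrreducible] {z : MonoidAlgebra ℂ G} (hz : IsCentralEl z) :
    ρ.asAlgebraHom z = omega ρ.character z • LinearMap.id := by
  obtain ⟨c, hc⟩ := schur_scalar ρ (ρ.asAlgebraHom z) (fun g v => by
    rw [← Module.End.mul_apply, ← Module.End.mul_apply, ← Representation.asAlgebraHom_single_one ρ g,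
      ← map_mul, ← map_mul, (central_commute hz _).eq])
  have hn : (Module.finrank ℂ (Fin n → ℂ) : ℂ) ≠ 0 :=
    Nat.cast_ne_zero.2 (finrank_pos_of_isIrreducible ρ).ne'
  rw [omega, evalChar_eq_trace, hc, map_smul, LinearMap.trace_id, ρ.char_one, smul_eq_mul,
    mul_div_assoc, div_self hn, mul_one]

theorem evalChar_central_mul [Finite G] (χ : Cfsg.IrrCharacter G) {z : MonoidAlgebra ℂ G}
    (hz : IsCentralEl z) (w : MonoidAlgebra ℂ G) :
    evalChar (χ : G → ℂ) (z * w) = omega (χ : G → ℂ) z * evalChar (χ : G → ℂ) w := by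
  obtain ⟨χ, n, ρ, hρ, rfl⟩ := χ
  simp only [evalChar_eq_trace, map_mul, asAlgebraHom_central ρ hz]
  rw [show (LinearMap.id : (Fin n → ℂ) →ₗ[ℂ] (Fin n → ℂ)) = 1 from rfl, smul_mul_assoc, one_mul,
    map_smul, smul_eq_mul]

theorem omega_mul [Finite G] (χ : Cfsg.IrrCharacter G) {z : MonoidAlgebra ℂ G}
    (hz : IsCentralEl z) (w : MonoidAlgebra ℂ G) :
    omega (χ : G → ℂ) (z * w) = omega (χ : G → ℂ) z * omega (χ : G → ℂ) w := by
  rw [omega, evalChar_central_mul χ hz, omega.eq_def (z := w), mul_div_assoc]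

theorem omega_pow [Finite G] (χ : Cfsg.IrrCharacter G) {z : MonoidAlgebra ℂ G}
    (hz : IsCentralEl z) (n : ℕ) :
    omega (χ : G → ℂ) (z ^ n) = omega (χ : G → ℂ) z ^ n := by
  induction n with
  | zero => simpa using omega_one (irr_one_ne_zero χ.2)
  | succ n ih => rw [pow_succ', pow_succ', omega_mul χ hz, ih]

/-- Orthogonality in the form needed for idempotents. -/
theorem sum_conj_mul [Fintype G] (χ ψ : Cfsg.IrrCharacter G) [Decidable (χ = ψ)] :
    ∑ g : G, conj ((χ : G → ℂ) g) * (ψ : G → ℂ) g = if χ = ψ then (Nat.card G : ℂ) else 0 := by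
  classical
  have h := classInner_irr ψ χ
  rw [classInner_def, inv_mul_eq_iff_eq_mul₀ natCard_ne_zero] at h
  simp only [mul_comm (conj _)]
  rw [h]
  by_cases he : χ = ψ <;> simp [he, eq_comm]

/-- The central element with prescribed central characters. -/
noncomputable def fourier [Finite G] (c : Cfsg.IrrCharacter G → ℂ) : MonoidAlgebra ℂ G :=
  ofFun fun g => (Nat.card G : ℂ)⁻¹ *
    ∑ᶠ χ : Cfsg.IrrCharacter G, c χ * (χ : G → ℂ) 1 * conj ((χ : G → ℂ) g)

theorem coeff_fourier [Finite G] [Fintype (Cfsg.IrrCharacter G)]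
    (c : Cfsg.IrrCharacter G → ℂ) (g : G) : (fourier c).coeff g = (Nat.card G : ℂ)⁻¹ *
      ∑ χ : Cfsg.IrrCharacter G, c χ * (χ : G → ℂ) 1 * conj ((χ : G → ℂ) g) := by
  simp [fourier, finsum_eq_sum_of_fintype]

theorem central_fourier [Finite G] (c : Cfsg.IrrCharacter G → ℂ) : IsCentralEl (fourier c) :=
  central_ofFun fun g h => by
    simp only [fun χ : Cfsg.IrrCharacter G => irr_isClassFunction χ g h]

theorem omega_fourier [Finite G] (c : Cfsg.IrrCharacter G → ℂ) (ψ : Cfsg.IrrCharacter G) :
    omega (ψ : G → ℂ) (fourier c) = c ψ := by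
  classical
  haveI := Fintype.ofFinite G
  haveI := Fintype.ofFinite (Cfsg.IrrCharacter G)
  rw [omega, evalChar_eq_sum]
  simp only [coeff_fourier, mul_assoc, Finset.sum_mul]
  rw [← Finset.mul_sum, Finset.sum_comm]
  simp only [← Finset.mul_sum, sum_conj_mul, mul_ite, mul_zero, Finset.sum_ite_eq',
    Finset.mem_univ, if_true]
  rw [div_eq_iff (irr_one_ne_zero ψ.2)]
  field_simp [natCard_ne_zero (G := G)]

/-- Fourier inversion on the centre. -/
theorem fourier_omega [Finite G] {z : MonoidAlgebra ℂ G} (hz : IsCentralEl z) :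
    fourier (fun χ : Cfsg.IrrCharacter G => omega (χ : G → ℂ) z) = z := by
  classical
  haveI := Fintype.ofFinite G
  haveI := Fintype.ofFinite (Cfsg.IrrCharacter G)
  refine el_ext fun g => ?_
  rw [coeff_fourier]
  have : ∀ χ : Cfsg.IrrCharacter G,
      omega (χ : G → ℂ) z * (χ : G → ℂ) 1 * conj ((χ : G → ℂ) g) =
        ∑ h : G, z.coeff h * ((χ : G → ℂ) h * conj ((χ : G → ℂ) g)) := fun χ => by
    rw [omega, div_mul_cancel₀ _ (irr_one_ne_zero χ.2), evalChar_eq_sum, Finset.sum_mul]
    simp only [mul_assoc]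
  simp only [this]
  rw [Finset.sum_comm]
  simp only [← Finset.mul_sum, second_orthogonality, mul_ite, mul_zero, ← Finset.sum_filter]
  rw [Finset.sum_congr rfl (g := fun _ => z.coeff g *
    (Nat.card (Subgroup.centralizer ({g} : Set G)) : ℂ)) fun h hh => by
      rw [central_isConj hz (Finset.mem_filter.1 hh).2]]
  rw [Finset.sum_const, nsmul_eq_mul]
  have hc : (Finset.univ.filter fun h : G => IsConj h g).card =
      (Subgroup.centralizer ({g} : Set G)).index := by
    rw [← card_filter_isConj g]; congr 1; ext x; simp only [Finset.mem_filter, isConj_comm]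
  rw [hc, mul_left_comm _ (z.coeff g), ← Nat.cast_mul, Subgroup.index_mul_card,
    mul_left_comm, inv_mul_cancel₀ natCard_ne_zero, mul_one]

theorem central_omega_ext [Finite G] {z w : MonoidAlgebra ℂ G} (hz : IsCentralEl z)
    (hw : IsCentralEl w)
    (h : ∀ χ : Cfsg.IrrCharacter G, omega (χ : G → ℂ) z = omega (χ : G → ℂ) w) : z = w := by
  rw [← fourier_omega hz, ← fourier_omega hw, funext h]

/-! ## Local integrality -/

variable {p : ℕ} {M : Ideal Cfsg.AlgInt}

/-- All coefficients are local integers. -/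
def IntEl (M : Ideal Cfsg.AlgInt) (z : MonoidAlgebra ℂ G) : Prop :=
  ∀ g, Cfsg.MemLocalRing M (z.coeff g)

/-- All coefficients lie in the local ideal. -/
def IdealEl (M : Ideal Cfsg.AlgInt) (z : MonoidAlgebra ℂ G) : Prop :=
  ∀ g, Cfsg.MemLocalIdeal M (z.coeff g)

theorem intEl_of_idealEl {z : MonoidAlgebra ℂ G} (h : IdealEl M z) : IntEl M z :=
  fun g => memLocalRing_of_ideal (h g)

theorem intEl_one (hM : Cfsg.IsPModular p M) : IntEl M (1 : MonoidAlgebra ℂ G) := fun g => by
  classical
  rw [MonoidAlgebra.one_def, MonoidAlgebra.coeff_single, Finsupp.single_apply]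
  split <;> simp [ring_one hM, ring_zero hM]

theorem intEl_zero (hM : Cfsg.IsPModular p M) : IntEl M (0 : MonoidAlgebra ℂ G) :=
  fun g => by simpa using ring_zero hM

theorem idealEl_zero (hM : Cfsg.IsPModular p M) : IdealEl M (0 : MonoidAlgebra ℂ G) :=
  fun g => by simpa using ideal_zero hM

theorem intEl_add (hM : Cfsg.IsPModular p M) {x y : MonoidAlgebra ℂ G} (hx : IntEl M x)
    (hy : IntEl M y) : IntEl M (x + y) := fun g => by simpa using ring_add hM (hx g) (hy g)

theorem intEl_sub (hM : Cfsg.IsPModular p M) {x y : MonoidAlgebra ℂ G} (hx : IntEl M x)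
    (hy : IntEl M y) : IntEl M (x - y) := fun g => by
  simpa [MonoidAlgebra.coeff_sub] using ring_sub hM (hx g) (hy g)

theorem intEl_smul (hM : Cfsg.IsPModular p M) {c : ℂ} (hc : Cfsg.MemLocalRing M c)
    {x : MonoidAlgebra ℂ G} (hx : IntEl M x) : IntEl M (c • x) := fun g => by
  simpa [MonoidAlgebra.coeff_smul_apply] using ring_mul hM hc (hx g)

theorem intEl_sum (hM : Cfsg.IsPModular p M) {ι : Type*} {s : Finset ι}
    {f : ι → MonoidAlgebra ℂ G} (h : ∀ i ∈ s, IntEl M (f i)) : IntEl M (∑ i ∈ s, f i) :=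
  Finset.sum_induction f _ (fun _ _ => intEl_add hM) (intEl_zero hM) h

theorem intEl_classSum [Finite G] (hM : Cfsg.IsPModular p M) (g : G) : IntEl M (classSum g) :=
  fun x => by
    classical
    rw [coeff_classSum]
    split <;> simp [ring_one hM, ring_zero hM]

theorem intEl_single (hM : Cfsg.IsPModular p M) (g : G) {r : ℂ} (hr : Cfsg.MemLocalRing M r) :
    IntEl M (MonoidAlgebra.single g r) := fun x => by
  classical
  rw [MonoidAlgebra.coeff_single, Finsupp.single_apply]
  split <;> simp [hr, ring_zero hM]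

theorem idealEl_add (hM : Cfsg.IsPModular p M) {x y : MonoidAlgebra ℂ G} (hx : IdealEl M x)
    (hy : IdealEl M y) : IdealEl M (x + y) := fun g => by simpa using ideal_add hM (hx g) (hy g)

theorem idealEl_sub (hM : Cfsg.IsPModular p M) {x y : MonoidAlgebra ℂ G} (hx : IdealEl M x)
    (hy : IdealEl M y) : IdealEl M (x - y) := fun g => by
  simpa [MonoidAlgebra.coeff_sub] using ideal_sub hM (hx g) (hy g)

theorem idealEl_smul (hM : Cfsg.IsPModular p M) {c : ℂ} (hc : Cfsg.MemLocalRing M c)
    {x : MonoidAlgebra ℂ G} (hx : IdealEl M x) : IdealEl M (c • x) := fun g => by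
  simpa [MonoidAlgebra.coeff_smul_apply] using ideal_mul_left hM hc (hx g)

section

variable [Finite G]

theorem intEl_mul (hM : Cfsg.IsPModular p M) {x y : MonoidAlgebra ℂ G} (hx : IntEl M x)
    (hy : IntEl M y) : IntEl M (x * y) := fun g => by
  haveI := Fintype.ofFinite G
  rw [coeff_mul']
  exact ring_sum hM fun h _ => ring_mul hM (hx h) (hy _)

theorem intEl_pow (hM : Cfsg.IsPModular p M) {x : MonoidAlgebra ℂ G} (hx : IntEl M x) (n : ℕ) :
    IntEl M (x ^ n) := by
  induction n with
  | zero => simpa using intEl_one hM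
  | succ n ih => rw [pow_succ]; exact intEl_mul hM ih hx

theorem idealEl_mul_left (hM : Cfsg.IsPModular p M) {x y : MonoidAlgebra ℂ G} (hx : IntEl M x)
    (hy : IdealEl M y) : IdealEl M (x * y) := fun g => by
  haveI := Fintype.ofFinite G
  rw [coeff_mul']
  exact ideal_sum hM fun h _ => ideal_mul_left hM (hx h) (hy _)

theorem idealEl_mul_right (hM : Cfsg.IsPModular p M) {x y : MonoidAlgebra ℂ G}
    (hx : IdealEl M x) (hy : IntEl M y) : IdealEl M (x * y) := fun g => by
  haveI := Fintype.ofFinite G
  rw [coeff_mul']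
  exact ideal_sum hM fun h _ => ideal_mul_right hM (hx h) (hy _)

/-- Central characters at class sums are algebraic integers. -/
theorem centralChar_isIntegral (χ : Cfsg.IrrCharacter G) (g : G) :
    IsIntegral ℤ (Cfsg.centralChar (χ : G → ℂ) g) := by
  classical
  haveI := Fintype.ofFinite G
  rw [← omega_classSum (irr_isClassFunction χ) g]
  obtain ⟨χ, n, ρ, hρ, rfl⟩ := χ
  let a : MonoidAlgebra ℤ G :=
    ∑ x ∈ Finset.univ.filter (fun x : G => IsConj g x), MonoidAlgebra.single x 1
  let φ : MonoidAlgebra ℤ G →ₐ[ℤ] Module.End ℂ (Fin n → ℂ) :=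
    MonoidAlgebra.lift ℤ (Module.End ℂ (Fin n → ℂ)) G ρ
  have ha : φ a = ρ.asAlgebraHom (classSum g) := by
    rw [eq_sum_single (classSum g)]
    simp only [a, map_sum, φ, MonoidAlgebra.lift_single, one_smul,
      Representation.asAlgebraHom_single, coeff_classSum, ite_smul, zero_smul, Finset.sum_filter,
      apply_ite, map_zero]
  haveI : Module.Finite ℤ (MonoidAlgebra ℤ G) := inferInstance
  have h1 : IsIntegral ℤ (φ a) := (IsIntegral.of_finite ℤ a).map φ
  rw [ha, asAlgebraHom_central ρ (central_classSum g)] at h1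
  haveI := nontrivial_of_isIrreducible ρ
  have h2 : IsIntegral ℤ (algebraMap ℂ (Module.End ℂ (Fin n → ℂ))
      (omega ρ.character (classSum g))) := by
    rwa [Algebra.algebraMap_eq_smul_one]
  exact (isIntegral_algebraMap_iff (R := ℤ) (algebraMap ℂ _).injective).1 h2

theorem centralChar_ring (hM : Cfsg.IsPModular p M) (χ : Cfsg.IrrCharacter G) (g : G) :
    Cfsg.MemLocalRing M (Cfsg.centralChar (χ : G → ℂ) g) :=
  ring_of_isIntegral hM (centralChar_isIntegral χ g)

theorem irr_value_ring (hM : Cfsg.IsPModular p M) (χ : Cfsg.IrrCharacter G) (g : G) :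
    Cfsg.MemLocalRing M ((χ : G → ℂ) g) :=
  ring_of_isIntegral hM (char_value_isIntegral (irr_isCharacter χ) g)

theorem irr_conj_ring (hM : Cfsg.IsPModular p M) (χ : Cfsg.IrrCharacter G) (g : G) :
    Cfsg.MemLocalRing M (conj ((χ : G → ℂ) g)) := by
  rw [← char_inv (irr_isCharacter χ)]
  exact irr_value_ring hM χ _

theorem omega_ring (hM : Cfsg.IsPModular p M) (χ : Cfsg.IrrCharacter G)
    {z : MonoidAlgebra ℂ G} (hz : IsCentralEl z) (hi : IntEl M z) :
    Cfsg.MemLocalRing M (omega (χ : G → ℂ) z) := by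
  haveI := Fintype.ofFinite (ConjClasses G)
  rw [central_eq_sum hz, omega_sum]
  refine ring_sum hM fun C _ => ?_
  rw [omega_smul, omega_classSum (irr_isClassFunction χ)]
  exact ring_mul hM (hi _) (centralChar_ring hM χ _)

theorem omega_ideal (hM : Cfsg.IsPModular p M) (χ : Cfsg.IrrCharacter G)
    {z : MonoidAlgebra ℂ G} (hz : IsCentralEl z) (hi : IdealEl M z) :
    Cfsg.MemLocalIdeal M (omega (χ : G → ℂ) z) := by
  haveI := Fintype.ofFinite (ConjClasses G)
  rw [central_eq_sum hz, omega_sum]
  refine ideal_sum hM fun C _ => ?_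
  rw [omega_smul, omega_classSum (irr_isClassFunction χ)]
  exact ideal_mul_right hM (hi _) (centralChar_ring hM χ _)

/-- An integral central element whose central characters lie in the local ideal is nilpotent
modulo the local ideal. -/
theorem exists_pow_idealEl (hM : Cfsg.IsPModular p M) {z : MonoidAlgebra ℂ G}
    (hz : IsCentralEl z)
    (h : ∀ χ : Cfsg.IrrCharacter G, Cfsg.MemLocalIdeal M (omega (χ : G → ℂ) z)) :
    ∃ n₀ : ℕ, ∀ n ≥ n₀, IdealEl M (z ^ n) := by
  haveI := Fintype.ofFinite (Cfsg.IrrCharacter G)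
  obtain ⟨n₀, hn₀⟩ := exists_pow_div_ideal_family hM h (Nat.card G) Nat.card_pos.ne'
  refine ⟨n₀, fun n hn g => ?_⟩
  rw [← fourier_omega (central_pow hz n), coeff_fourier, Finset.mul_sum]
  refine ideal_sum hM fun χ _ => ?_
  rw [omega_pow χ hz, ← mul_assoc, ← mul_assoc]
  refine ideal_mul_right hM (ideal_mul_right hM ?_ (irr_value_ring hM χ 1)) (irr_conj_ring hM χ g)
  rw [inv_mul_eq_div]
  exact hn₀ n hn χ

end

end Cfsg.Agent.Blocks
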