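import Mathlib
import Cfsg.Prelude.Def_Blocks
import Cfsg.Agent.Lib.Blocks.GroupAlgebra

/-!
# Blocks and their idempotents
-/

set_option linter.style.haveILetI false

namespace Cfsg.Agent.Blocks

open scoped ComplexConjugate
open Cfsg.Agent.Characters

universe u

variable {G : Type u} [Group G] {p : ℕ} {M : Ideal Cfsg.AlgInt}

theorem sameBlock_refl (hM : Cfsg.IsPModular p M) (χ : G → ℂ) : Cfsg.SameBlock M χ χ :=
  fun _ => cong_refl hM _

theorem sameBlock_symm (hM : Cfsg.IsPModular p M) {χ ψ : G → ℂ} (h : Cfsg.SameBlock M χ ψ) :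
    Cfsg.SameBlock M ψ χ := fun g => cong_symm hM (h g)

theorem sameBlock_trans (hM : Cfsg.IsPModular p M) {χ ψ θ : G → ℂ} (h : Cfsg.SameBlock M χ ψ)
    (h' : Cfsg.SameBlock M ψ θ) : Cfsg.SameBlock M χ θ := fun g => cong_trans hM (h g) (h' g)

theorem mem_blockOf {χ : G → ℂ} {ψ : Cfsg.IrrCharacter G} :
    ψ ∈ Cfsg.blockOf M χ ↔ Cfsg.SameBlock M χ (ψ : G → ℂ) := Iff.rfl

theorem blockOf_eq (hM : Cfsg.IsPModular p M) {χ ψ : G → ℂ} (h : Cfsg.SameBlock M χ ψ) :
    Cfsg.blockOf M χ = Cfsg.blockOf M ψ := by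
  ext θ
  exact ⟨sameBlock_trans hM (sameBlock_symm hM h), sameBlock_trans hM h⟩

theorem mem_blockOf_self (hM : Cfsg.IsPModular p M) (χ : Cfsg.IrrCharacter G) :
    χ ∈ Cfsg.blockOf M (χ : G → ℂ) := sameBlock_refl hM _

theorem isPBlock_blockOf (M : Ideal Cfsg.AlgInt) (χ : Cfsg.IrrCharacter G) :
    Cfsg.IsPBlock M (Cfsg.blockOf M (χ : G → ℂ)) := ⟨χ, rfl⟩

theorem block_nonempty (hM : Cfsg.IsPModular p M) {B : Set (Cfsg.IrrCharacter G)}
    (hB : Cfsg.IsPBlock M B) : B.Nonempty := by
  obtain ⟨χ, rfl⟩ := hB; exact ⟨χ, mem_blockOf_self hM χ⟩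

theorem block_eq_blockOf (hM : Cfsg.IsPModular p M) {B : Set (Cfsg.IrrCharacter G)}
    (hB : Cfsg.IsPBlock M B) {χ : Cfsg.IrrCharacter G} (hχ : χ ∈ B) :
    B = Cfsg.blockOf M (χ : G → ℂ) := by
  obtain ⟨θ, rfl⟩ := hB; exact blockOf_eq hM hχ

theorem sameBlock_of_mem (hM : Cfsg.IsPModular p M) {B : Set (Cfsg.IrrCharacter G)}
    (hB : Cfsg.IsPBlock M B) {χ ψ : Cfsg.IrrCharacter G} (hχ : χ ∈ B) (hψ : ψ ∈ B) :
    Cfsg.SameBlock M (χ : G → ℂ) (ψ : G → ℂ) := by
  rw [block_eq_blockOf hM hB hχ] at hψ; exact hψ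

theorem mem_of_sameBlock (hM : Cfsg.IsPModular p M) {B : Set (Cfsg.IrrCharacter G)}
    (hB : Cfsg.IsPBlock M B) {χ ψ : Cfsg.IrrCharacter G} (hχ : χ ∈ B)
    (h : Cfsg.SameBlock M (χ : G → ℂ) (ψ : G → ℂ)) : ψ ∈ B := by
  rw [block_eq_blockOf hM hB hχ]; exact h

theorem block_eq_of_mem (hM : Cfsg.IsPModular p M) {B B' : Set (Cfsg.IrrCharacter G)}
    (hB : Cfsg.IsPBlock M B) (hB' : Cfsg.IsPBlock M B') {χ : Cfsg.IrrCharacter G}
    (hχ : χ ∈ B) (hχ' : χ ∈ B') : B = B' :=
  (block_eq_blockOf hM hB hχ).trans (block_eq_blockOf hM hB' hχ').symm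

theorem principalBlock_eq (M : Ideal Cfsg.AlgInt) (G : Type u) [Group G] :
    Cfsg.principalBlock M G = Cfsg.blockOf M ((trivIrr G : Cfsg.IrrCharacter G) : G → ℂ) := rfl

theorem isPBlock_principal (M : Ideal Cfsg.AlgInt) (G : Type u) [Group G] :
    Cfsg.IsPBlock M (Cfsg.principalBlock M G) := ⟨trivIrr G, rfl⟩

theorem trivIrr_mem_principal (hM : Cfsg.IsPModular p M) :
    trivIrr G ∈ Cfsg.principalBlock M G := sameBlock_refl hM _

variable [Finite G]

/-- Central characters in one block agree on every integral central element. -/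
theorem sameBlock_iff_omega (hM : Cfsg.IsPModular p M) (χ ψ : Cfsg.IrrCharacter G) :
    Cfsg.SameBlock M (χ : G → ℂ) (ψ : G → ℂ) ↔
      ∀ z : MonoidAlgebra ℂ G, IsCentralEl z → IntEl M z →
        Cong M (omega (χ : G → ℂ) z) (omega (ψ : G → ℂ) z) := by
  constructor
  · intro h z hz hi
    haveI := Fintype.ofFinite (ConjClasses G)
    rw [central_eq_sum hz, omega_sum, omega_sum]
    refine cong_sum hM fun C _ => ?_
    simp only [omega_smul, omega_classSum (irr_isClassFunction χ),
      omega_classSum (irr_isClassFunction ψ)]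
    exact cong_mul_left hM (hi _) (h _)
  · intro h g
    have := h _ (central_classSum g) (intEl_classSum hM g)
    rwa [omega_classSum (irr_isClassFunction χ), omega_classSum (irr_isClassFunction ψ)] at this

theorem omega_cong_of_mem (hM : Cfsg.IsPModular p M) {B : Set (Cfsg.IrrCharacter G)}
    (hB : Cfsg.IsPBlock M B) {χ ψ : Cfsg.IrrCharacter G} (hχ : χ ∈ B) (hψ : ψ ∈ B)
    {z : MonoidAlgebra ℂ G} (hz : IsCentralEl z) (hi : IntEl M z) :
    Cong M (omega (χ : G → ℂ) z) (omega (ψ : G → ℂ) z) :=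
  (sameBlock_iff_omega hM χ ψ).1 (sameBlock_of_mem hM hB hχ hψ) z hz hi

/-! ## Idempotents -/

/-- The idempotent of a set of irreducible characters. -/
noncomputable def blockIdem (A : Set (Cfsg.IrrCharacter G)) : MonoidAlgebra ℂ G :=
  ofFun fun g => Cfsg.blockCoeff A g

@[simp] theorem coeff_blockIdem (A : Set (Cfsg.IrrCharacter G)) (g : G) :
    (blockIdem A).coeff g = Cfsg.blockCoeff A g := coeff_ofFun _ _

open scoped Classical in
theorem blockCoeff_eq_sum [Fintype (Cfsg.IrrCharacter G)] (A : Set (Cfsg.IrrCharacter G)) (g : G) :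
    Cfsg.blockCoeff A g = (Nat.card G : ℂ)⁻¹ *
      ∑ χ : Cfsg.IrrCharacter G,
        if χ ∈ A then (χ : G → ℂ) 1 * conj ((χ : G → ℂ) g) else 0 := by
  rw [Cfsg.blockCoeff, finsum_mem_def, finsum_eq_sum_of_fintype]
  simp only [Set.indicator_apply]

open scoped Classical in
theorem blockIdem_eq_fourier (A : Set (Cfsg.IrrCharacter G)) :
    blockIdem A = fourier fun χ => if χ ∈ A then 1 else 0 := by
  haveI := Fintype.ofFinite (Cfsg.IrrCharacter G)
  refine el_ext fun g => ?_
  rw [coeff_blockIdem, coeff_fourier, blockCoeff_eq_sum]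
  congr 1
  exact Finset.sum_congr rfl fun χ _ => by split_ifs <;> simp

theorem central_blockIdem (A : Set (Cfsg.IrrCharacter G)) : IsCentralEl (blockIdem A) := by
  classical
  rw [blockIdem_eq_fourier]; exact central_fourier _

open scoped Classical in
theorem omega_blockIdem (A : Set (Cfsg.IrrCharacter G)) (ψ : Cfsg.IrrCharacter G) :
    omega (ψ : G → ℂ) (blockIdem A) = if ψ ∈ A then 1 else 0 := by
  rw [blockIdem_eq_fourier, omega_fourier]

theorem omega_blockIdem_mem {A : Set (Cfsg.IrrCharacter G)} {ψ : Cfsg.IrrCharacter G}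
    (h : ψ ∈ A) : omega (ψ : G → ℂ) (blockIdem A) = 1 := by
  classical
  rw [omega_blockIdem, if_pos h]

theorem omega_blockIdem_notMem {A : Set (Cfsg.IrrCharacter G)} {ψ : Cfsg.IrrCharacter G}
    (h : ψ ∉ A) : omega (ψ : G → ℂ) (blockIdem A) = 0 := by
  classical
  rw [omega_blockIdem, if_neg h]

theorem blockIdem_mul (A A' : Set (Cfsg.IrrCharacter G)) :
    blockIdem A * blockIdem A' = blockIdem (A ∩ A') := by
  classical
  refine central_omega_ext (central_mul (central_blockIdem A) (central_blockIdem A'))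
    (central_blockIdem _) fun χ => ?_
  simp only [omega_mul χ (central_blockIdem A), omega_blockIdem, Set.mem_inter_iff]
  split_ifs <;> simp_all

theorem blockIdem_mul_self (A : Set (Cfsg.IrrCharacter G)) :
    blockIdem A * blockIdem A = blockIdem A := by rw [blockIdem_mul, Set.inter_self]

theorem blockIdem_univ : blockIdem (Set.univ : Set (Cfsg.IrrCharacter G)) = 1 :=
  central_omega_ext (central_blockIdem _) central_one fun χ => by
    rw [omega_blockIdem_mem (Set.mem_univ _), omega_one (irr_one_ne_zero χ.2)]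

/-! ## Integrality -/

theorem exists_separator (hM : Cfsg.IsPModular p M) (χ : Cfsg.IrrCharacter G)
    (s : Finset (Cfsg.IrrCharacter G))
    (hs : ∀ θ ∈ s, θ ∉ Cfsg.blockOf M (χ : G → ℂ)) :
    ∃ z : MonoidAlgebra ℂ G, IsCentralEl z ∧ IntEl M z ∧
      (∀ ψ ∈ Cfsg.blockOf M (χ : G → ℂ), Cong M (omega (ψ : G → ℂ) z) 1) ∧
      ∀ θ ∈ s, Cong M (omega (θ : G → ℂ) z) 0 := by
  classical
  induction s using Finset.induction with
  | empty =>
    exact ⟨1, central_one, intEl_one hM,
      fun ψ _ => cong_of_eq hM (omega_one (irr_one_ne_zero ψ.2)), by simp⟩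
  | insert θ s _ ih =>
    obtain ⟨z, hz, hzi, hz1, hz0⟩ := ih fun t ht => hs t (Finset.mem_insert_of_mem ht)
    obtain ⟨g, hg⟩ : ∃ g, ¬ Cfsg.MemLocalIdeal M
        (Cfsg.centralChar (χ : G → ℂ) g - Cfsg.centralChar (θ : G → ℂ) g) := by
      have := hs θ (Finset.mem_insert_self _ _)
      rw [mem_blockOf, Cfsg.SameBlock] at this
      push Not at this
      exact this
    set d := Cfsg.centralChar (χ : G → ℂ) g - Cfsg.centralChar (θ : G → ℂ) g with hd
    have hdr : Cfsg.MemLocalRing M d⁻¹ :=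
      ring_inv hM (ring_sub hM (centralChar_ring hM χ g) (centralChar_ring hM θ g)) hg
    set w : MonoidAlgebra ℂ G := d⁻¹ • (classSum g - Cfsg.centralChar (θ : G → ℂ) g • 1)
    have hw : IsCentralEl w := central_smul _ (central_sub (central_classSum g)
      (central_smul _ central_one))
    have hwi : IntEl M w := intEl_smul hM hdr (intEl_sub hM (intEl_classSum hM g)
      (intEl_smul hM (centralChar_ring hM θ g) (intEl_one hM)))
    have hwv : ∀ ψ : Cfsg.IrrCharacter G, omega (ψ : G → ℂ) w =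
        d⁻¹ * (Cfsg.centralChar (ψ : G → ℂ) g - Cfsg.centralChar (θ : G → ℂ) g) := fun ψ => by
      simp only [w, omega_smul, omega_sub, omega_classSum (irr_isClassFunction ψ),
        omega_one (irr_one_ne_zero ψ.2), mul_one]
    refine ⟨w * z, central_mul hw hz, intEl_mul hM hwi hzi, fun ψ hψ => ?_, fun t ht => ?_⟩
    · have h1 : Cong M (omega (ψ : G → ℂ) w) 1 := by
        rw [hwv, ← inv_mul_cancel₀ (ne_zero_of_not_ideal hM hg)]
        exact cong_mul_left hM hdr (cong_sub hM (cong_symm hM (hψ g)) (cong_refl hM _))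
      rw [omega_mul ψ hw]
      simpa using cong_mul hM h1 (hz1 ψ hψ) (ring_one hM) (ring_one hM)
    · rw [omega_mul t hw, cong_zero_iff]
      rcases Finset.mem_insert.1 ht with rfl | ht
      · simp [hwv, ideal_zero hM]
      · exact ideal_mul_left hM (omega_ring hM t hw hwi) (cong_zero_iff.1 (hz0 t ht))

/-- An integral central element with central characters congruent to `0` or `1` can be improved
to have central characters arbitrarily close to `0` and `1`. -/
theorem exists_approx (hM : Cfsg.IsPModular p M) {z : MonoidAlgebra ℂ G} (hz : IsCentralEl z)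
    (hi : IntEl M z) (δ : Cfsg.IrrCharacter G → ℂ) (hδ : ∀ χ, δ χ = 0 ∨ δ χ = 1)
    (h : ∀ χ : Cfsg.IrrCharacter G, Cong M (omega (χ : G → ℂ) z) (δ χ)) (m : ℕ) (hm : m ≠ 0) :
    ∃ w : MonoidAlgebra ℂ G, IsCentralEl w ∧ IntEl M w ∧
      ∀ χ : Cfsg.IrrCharacter G,
        Cfsg.MemLocalIdeal M ((omega (χ : G → ℂ) w - δ χ) / (m : ℂ)) := by
  -- `x χ` is the element of the local ideal attached to `χ`
  have hx1 : ∀ χ : Cfsg.IrrCharacter G,
      Cfsg.MemLocalIdeal M (if δ χ = 0 then omega (χ : G → ℂ) z else omega (χ : G → ℂ) z - 1) := by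
    intro χ
    rcases hδ χ with h0 | h1
    · rw [if_pos h0]; exact cong_zero_iff.1 (h0 ▸ h χ)
    · rw [if_neg (by rw [h1]; exact one_ne_zero)]; exact h1 ▸ h χ
  obtain ⟨n₀, hn₀⟩ := exists_pow_div_ideal_family hM hx1 m hm
  set n := n₀ + 1
  refine ⟨1 - (1 - z ^ n) ^ n, central_sub central_one (central_pow (central_sub central_one
    (central_pow hz n)) n), intEl_sub hM (intEl_one hM) (intEl_pow hM (intEl_sub hM (intEl_one hM)
    (intEl_pow hM hi n)) n), fun χ => ?_⟩
  have hval : omega (χ : G → ℂ) (1 - (1 - z ^ n) ^ n) =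
      1 - (1 - omega (χ : G → ℂ) z ^ n) ^ n := by
    rw [omega_sub, omega_pow χ (central_sub central_one (central_pow hz n)), omega_sub,
      omega_pow χ hz, omega_one (irr_one_ne_zero χ.2)]
  have hr := omega_ring hM χ hz hi
  set t := omega (χ : G → ℂ) z
  rw [hval]
  rcases hδ χ with h0 | h1
  · have hbig := hn₀ n (by omega) χ
    rw [if_pos h0] at hbig
    rw [h0, sub_zero]
    -- `1 - (1 - u)^n` is a multiple of `u = t^n`
    have hgeo : (∑ k ∈ Finset.range n, (1 - t ^ n) ^ k) * (t ^ n) = 1 - (1 - t ^ n) ^ n := by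
      have := geom_sum_mul (1 - t ^ n) n
      linear_combination -this
    rw [← hgeo, mul_div_assoc]
    exact ideal_mul_left hM (ring_sum hM fun k _ =>
      ring_pow hM (ring_sub hM (ring_one hM) (ring_pow hM hr n)) k) hbig
  · have hbig := hn₀ n (by omega) χ
    rw [if_neg (by rw [h1]; exact one_ne_zero)] at hbig
    rw [h1]
    -- `1 - t^n` is a multiple of `t - 1`
    have hgeo : -(∑ k ∈ Finset.range n, t ^ k) * (t - 1) = 1 - t ^ n := by
      rw [neg_mul, geom_sum_mul, neg_sub]
    rw [← hgeo, mul_pow, sub_sub_cancel_left, neg_div, mul_div_assoc]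
    exact ideal_neg hM (ideal_mul_left hM (ring_pow hM (ring_neg hM
      (ring_sum hM fun k _ => ring_pow hM hr k)) n) hbig)

/-- If an integral central element has central characters congruent to the indicator of `A`,
the idempotent of `A` is integral. -/
theorem intEl_blockIdem_of_approx (hM : Cfsg.IsPModular p M) {A : Set (Cfsg.IrrCharacter G)}
    {z : MonoidAlgebra ℂ G} (hz : IsCentralEl z) (hi : IntEl M z)
    (h1 : ∀ χ ∈ A, Cong M (omega (χ : G → ℂ) z) 1)
    (h0 : ∀ χ ∉ A, Cong M (omega (χ : G → ℂ) z) 0) : IntEl M (blockIdem A) := by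
  classical
  haveI := Fintype.ofFinite (Cfsg.IrrCharacter G)
  obtain ⟨w, hw, hwi, hwd⟩ := exists_approx hM hz hi (fun χ => if χ ∈ A then 1 else 0)
    (fun χ => by by_cases h : χ ∈ A <;> simp [h]) (fun χ => by
      by_cases h : χ ∈ A
      · simpa [h] using h1 χ h
      · simpa [h] using h0 χ h) (Nat.card G) Nat.card_pos.ne'
  intro g
  have hd : (blockIdem A).coeff g - w.coeff g = ∑ χ : Cfsg.IrrCharacter G,
      -((omega (χ : G → ℂ) w - if χ ∈ A then 1 else 0) / (Nat.card G : ℂ)) *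
        ((χ : G → ℂ) 1 * conj ((χ : G → ℂ) g)) := by
    conv_lhs => rw [blockIdem_eq_fourier, ← fourier_omega hw]
    rw [coeff_fourier, coeff_fourier, ← mul_sub, ← Finset.sum_sub_distrib, Finset.mul_sum]
    exact Finset.sum_congr rfl fun χ _ => by ring
  have hr : Cfsg.MemLocalRing M ((blockIdem A).coeff g - w.coeff g) := by
    rw [hd]
    exact ring_sum hM fun χ _ => ring_mul hM (ring_neg hM (memLocalRing_of_ideal (hwd χ)))
      (ring_mul hM (irr_value_ring hM χ 1) (irr_conj_ring hM χ g))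
  simpa using ring_add hM hr (hwi g)

/-- Block idempotents are integral. -/
theorem intEl_blockIdem (hM : Cfsg.IsPModular p M) {B : Set (Cfsg.IrrCharacter G)}
    (hB : Cfsg.IsPBlock M B) : IntEl M (blockIdem B) := by
  classical
  haveI := Fintype.ofFinite (Cfsg.IrrCharacter G)
  obtain ⟨χ, rfl⟩ := hB
  obtain ⟨z, hz, hzi, h1, h0⟩ := exists_separator hM χ
    (Finset.univ.filter (fun θ => θ ∉ Cfsg.blockOf M (χ : G → ℂ)))
    (fun θ hθ => (Finset.mem_filter.1 hθ).2)
  exact intEl_blockIdem_of_approx hM hz hzi h1 fun θ hθ => h0 θ (by simp [hθ])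

theorem blockCoeff_ring (hM : Cfsg.IsPModular p M) {B : Set (Cfsg.IrrCharacter G)}
    (hB : Cfsg.IsPBlock M B) (g : G) : Cfsg.MemLocalRing M (Cfsg.blockCoeff B g) := by
  simpa using intEl_blockIdem hM hB g

/-- A set of characters with integral idempotent is a union of blocks. -/
theorem blockOf_subset_of_intEl (hM : Cfsg.IsPModular p M) {A : Set (Cfsg.IrrCharacter G)}
    (hA : IntEl M (blockIdem A)) {χ : Cfsg.IrrCharacter G} (hχ : χ ∈ A) :
    Cfsg.blockOf M (χ : G → ℂ) ⊆ A := by
  intro ψ hψ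
  by_contra hψA
  have := (sameBlock_iff_omega hM χ ψ).1 hψ _ (central_blockIdem A) hA
  rw [omega_blockIdem_mem hχ, omega_blockIdem_notMem hψA] at this
  exact not_cong_zero_one hM (cong_symm hM this)

/-- An integral central element whose central character on a block lies in the local ideal is
nilpotent on that block, modulo the local ideal. -/
theorem exists_pow_mul_blockIdem (hM : Cfsg.IsPModular p M) {B : Set (Cfsg.IrrCharacter G)}
    (hB : Cfsg.IsPBlock M B) {χ : Cfsg.IrrCharacter G} (hχ : χ ∈ B) {z : MonoidAlgebra ℂ G}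
    (hz : IsCentralEl z) (hi : IntEl M z) (h : Cfsg.MemLocalIdeal M (omega (χ : G → ℂ) z)) :
    ∃ n₀ : ℕ, ∀ n ≥ n₀, IdealEl M ((blockIdem B * z) ^ n) := by
  refine exists_pow_idealEl hM (central_mul (central_blockIdem B) hz) fun ψ => ?_
  rw [omega_mul ψ (central_blockIdem B)]
  by_cases hψ : ψ ∈ B
  · rw [omega_blockIdem_mem hψ, one_mul]
    exact (ideal_iff_of_cong hM (omega_cong_of_mem hM hB hψ hχ hz hi)).2 h
  · rw [omega_blockIdem_notMem hψ, zero_mul]
    exact ideal_zero hM

/-- The finite set of blocks gives a decomposition of `1`. -/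
theorem sum_blockIdem (hM : Cfsg.IsPModular p M)
    [Fintype {B : Set (Cfsg.IrrCharacter G) // Cfsg.IsPBlock M B}] :
    ∑ B : {B : Set (Cfsg.IrrCharacter G) // Cfsg.IsPBlock M B}, blockIdem B.1 = 1 := by
  classical
  refine central_omega_ext (central_sum fun B _ => central_blockIdem _) central_one fun χ => ?_
  rw [omega_sum, omega_one (irr_one_ne_zero χ.2),
    Finset.sum_eq_single (⟨_, isPBlock_blockOf M χ⟩ :
      {B : Set (Cfsg.IrrCharacter G) // Cfsg.IsPBlock M B})]
  · exact omega_blockIdem_mem (mem_blockOf_self hM χ)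
  · intro B _ hne
    exact omega_blockIdem_notMem fun hχ => hne (Subtype.ext (block_eq_blockOf hM B.2 hχ))
  · simp

/-- A linear functional on the group algebra that is multiplicative modulo the local ideal on
integral central elements is the central character of some block. -/
theorem exists_block_of_functional (hM : Cfsg.IsPModular p M)
    (φ : MonoidAlgebra ℂ G →ₗ[ℂ] ℂ)
    (hint : ∀ z, IsCentralEl z → IntEl M z → Cfsg.MemLocalRing M (φ z))
    (hid : ∀ z, IsCentralEl z → IdealEl M z → Cfsg.MemLocalIdeal M (φ z))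
    (hone : Cong M (φ 1) 1)
    (hmul : ∀ x y, IsCentralEl x → IntEl M x → IsCentralEl y → IntEl M y →
      Cong M (φ (x * y)) (φ x * φ y)) :
    ∃ B : Set (Cfsg.IrrCharacter G), Cfsg.IsPBlock M B ∧ ∀ χ ∈ B, ∀ z, IsCentralEl z →
      IntEl M z → Cong M (φ z) (omega (χ : G → ℂ) z) := by
  classical
  haveI := Fintype.ofFinite {B : Set (Cfsg.IrrCharacter G) // Cfsg.IsPBlock M B}
  obtain ⟨⟨B, hB⟩, hne⟩ : ∃ B : {B : Set (Cfsg.IrrCharacter G) // Cfsg.IsPBlock M B},
      ¬ Cfsg.MemLocalIdeal M (φ (blockIdem B.1)) := by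
    by_contra hcon
    push Not at hcon
    refine not_ideal_one hM ((ideal_iff_of_cong hM hone).1 ?_)
    rw [← sum_blockIdem hM, map_sum]
    exact ideal_sum hM fun B _ => hcon B
  refine ⟨B, hB, fun χ hχ z hz hi => ?_⟩
  have he := central_blockIdem B
  have hei := intEl_blockIdem hM hB
  set e := blockIdem B
  have her := hint e he hei
  set c := omega (χ : G → ℂ) z with hc
  have hcr : Cfsg.MemLocalRing M c := omega_ring hM χ hz hi
  set v := z - c • (1 : MonoidAlgebra ℂ G)
  have hv : IsCentralEl v := central_sub hz (central_smul _ central_one)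
  have hvi : IntEl M v := intEl_sub hM hi (intEl_smul hM hcr (intEl_one hM))
  have hv0 : Cfsg.MemLocalIdeal M (omega (χ : G → ℂ) v) := by
    simp [v, omega_sub, omega_smul, omega_one (irr_one_ne_zero χ.2), ← hc, ideal_zero hM]
  obtain ⟨n, hn⟩ := exists_pow_mul_blockIdem hM hB hχ hv hvi hv0
  set u := e * v
  have hu : IsCentralEl u := central_mul he hv
  have hui : IntEl M u := intEl_mul hM hei hvi
  have hpow : ∀ k, Cong M (φ (u ^ k)) (φ u ^ k) := by
    intro k
    induction k with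
    | zero => simpa using hone
    | succ k ih =>
      rw [pow_succ, pow_succ]
      exact cong_trans hM (hmul _ _ (central_pow hu k) (intEl_pow hM hui k) hu hui)
        (cong_mul hM ih (cong_refl hM _) (ring_pow hM (hint u hu hui) k) (hint u hu hui))
  have h0 : Cfsg.MemLocalIdeal M (φ u) := ideal_of_pow hM (hint u hu hui)
    ((ideal_iff_of_cong hM (hpow n)).1 (hid _ (central_pow hu n) (hn n le_rfl)))
  have h1 : Cfsg.MemLocalIdeal M (φ v) := by
    have h2 := (ideal_iff_of_cong hM (hmul e v he hei hv hvi)).1 h0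
    exact ((ideal_mul_iff hM her (hint v hv hvi)).1 h2).resolve_left hne
  have h3 : φ z - c * φ 1 = φ v := by simp [v]
  refine cong_trans hM (show Cong M (φ z) (c * φ 1) by unfold Cong; rw [h3]; exact h1) ?_
  simpa using cong_mul_left hM hcr hone

end Cfsg.Agent.Blocks
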