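import Mathlib
import Cfsg.Prelude.Def_Blocks
import Cfsg.Agent.Lib.Blocks.LocalRing

/-!
# The trace lemma for integral idempotent matrices commuting with a permutation of `p`-power order

If an idempotent matrix with local-integer entries commutes with a permutation `σ` of `p`-power
order and its entries between fixed points of `σ` lie in the local ideal, then the trace of its
product with the permutation vanishes.
-/

set_option linter.style.haveILetI false

namespace Cfsg.Agent.Blocks

open Polynomial Matrix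

universe u

/-- An idempotent complex matrix has natural trace `r` and `det(1 + X c) = (1 + X)^r`. -/
theorem exists_nat_trace_idem {O : Type u} [Fintype O] [DecidableEq O] (c : Matrix O O ℂ)
    (h : c * c = c) :
    ∃ r : ℕ, c.trace = (r : ℂ) ∧
      (1 + (X : ℂ[X]) • c.map C).det = (1 + X) ^ r := by
  set f := Matrix.toLin' c
  set W := LinearMap.range f
  let b := Module.finBasis ℂ W
  set r := Module.finrank ℂ W
  let V : (Fin r → ℂ) →ₗ[ℂ] (O → ℂ) := W.subtype ∘ₗ b.equivFun.symm.toLinearMap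
  let U : (O → ℂ) →ₗ[ℂ] (Fin r → ℂ) := b.equivFun.toLinearMap ∘ₗ f.rangeRestrict
  have hVU : V ∘ₗ U = f := by
    refine LinearMap.ext fun x => ?_
    show W.subtype (b.equivFun.symm (b.equivFun (f.rangeRestrict x))) = f x
    rw [b.equivFun.symm_apply_apply]; rfl
  have hUV : U ∘ₗ V = LinearMap.id := by
    refine LinearMap.ext fun x => ?_
    show b.equivFun (f.rangeRestrict (b.equivFun.symm x : W)) = x
    obtain ⟨y, hy⟩ := (b.equivFun.symm x).2
    have hz : f.rangeRestrict ((b.equivFun.symm x : W) : O → ℂ) = b.equivFun.symm x := by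
      refine Subtype.ext ?_
      show f ((b.equivFun.symm x : W) : O → ℂ) = _
      rw [← hy, ← LinearMap.comp_apply]
      show (f ∘ₗ f) y = f y
      rw [← Matrix.toLin'_mul, h]
    rw [hz, LinearEquiv.apply_symm_apply]
  let v := LinearMap.toMatrix' V
  let u := LinearMap.toMatrix' U
  have hvu : v * u = c := by
    rw [← LinearMap.toMatrix'_comp, hVU, LinearMap.toMatrix'_toLin']
  have huv : u * v = 1 := by
    rw [← LinearMap.toMatrix'_comp, hUV, LinearMap.toMatrix'_id]
  refine ⟨r, ?_, ?_⟩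
  · rw [← hvu, Matrix.trace_mul_comm, huv, Matrix.trace_one, Fintype.card_fin]
  · rw [← hvu, Matrix.map_mul, ← Matrix.smul_mul, Matrix.det_one_add_mul_comm, Matrix.mul_smul,
      ← Matrix.map_mul, huv, Matrix.map_one C (map_zero C) (map_one C)]
    rw [show (1 : Matrix (Fin r) (Fin r) ℂ[X]) + (X : ℂ[X]) • 1 = (1 + X : ℂ[X]) • 1 by
      rw [add_smul, one_smul]]
    rw [Matrix.det_smul, Matrix.det_one, mul_one, Fintype.card_fin]

/-- Deleting rows and columns with vanishing mutual block does not change `det(1 + s N)`. -/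
theorem det_one_add_smul_eq_of_idem {R : Type u} [CommRing R] {O : Type*} [Fintype O]
    [DecidableEq O] (s : R) (N P : Matrix O O R) (hP : P * P = P) (hN : N * N = N)
    (hA : (P * N * P) * (P * N * P) = P * N * P) (h0 : (1 - P) * N * (1 - P) = 0) :
    (1 + s • N).det = (1 + s • (P * N * P)).det := by
  set A := P * N * P
  set B := P * N * (1 - P)
  set D := (1 - P) * N * P
  have hsum : N = A + B + D := by
    have : N = A + B + D + (1 - P) * N * (1 - P) := by
      simp only [A, B, D]; noncomm_ring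
    rwa [h0, add_zero] at this
  have hPQ : P * (1 - P) = 0 := by rw [mul_sub, mul_one, hP, sub_self]
  have hQP : (1 - P) * P = 0 := by rw [sub_mul, one_mul, hP, sub_self]
  have hBA : B * A = 0 := by
    simp only [A, B]
    rw [show P * N * (1 - P) * (P * N * P) = P * N * ((1 - P) * P) * (N * P) by noncomm_ring, hQP]
    noncomm_ring
  have hAD : A * D = 0 := by
    simp only [A, D]
    rw [show P * N * P * ((1 - P) * N * P) = P * N * (P * (1 - P)) * (N * P) by noncomm_ring, hPQ]
    noncomm_ring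
  have hBD : B * D = 0 := by
    simp only [B, D]
    have hQ : (1 - P) * (1 - P) = (1 - P) := by rw [sub_mul, one_mul, hPQ, sub_zero]
    rw [show P * N * (1 - P) * ((1 - P) * N * P) = P * N * ((1 - P) * (1 - P)) * (N * P) by
      noncomm_ring, hQ]
    have hA' : P * N * (P * P) * (N * P) = P * N * P := by
      rw [show P * N * (P * P) * (N * P) = A * A by simp only [A]; noncomm_ring]
      exact hA
    rw [hP] at hA'
    calc P * N * (1 - P) * (N * P) = P * (N * N) * P - P * N * P * (N * P) := by noncomm_ring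
      _ = 0 := by rw [hN, hA', sub_self]
  have hfac : 1 + s • N = (1 + s • B) * ((1 + s • A) * (1 + s • D)) := by
    have h1 : (1 + s • A) * (1 + s • D) = 1 + s • A + s • D := by
      rw [add_mul, one_mul, mul_add, mul_one, smul_mul_smul_comm, hAD, smul_zero, add_zero]
      abel
    rw [h1, add_mul, one_mul, mul_add, mul_add, mul_one, smul_mul_smul_comm, smul_mul_smul_comm,
      hBA, hBD, smul_zero, add_zero, add_zero, hsum, smul_add, smul_add]
    abel
  have hB : (1 + s • B).det = 1 := by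
    rw [show s • B = (s • (P * N)) * (1 - P) by rw [smul_mul_assoc], Matrix.det_one_add_mul_comm,
      Matrix.mul_smul, show (1 - P) * (P * N) = 0 by rw [← Matrix.mul_assoc, hQP, Matrix.zero_mul],
      smul_zero, add_zero, Matrix.det_one]
  have hD : (1 + s • D).det = 1 := by
    rw [show s • D = (s • ((1 - P) * N)) * P by rw [smul_mul_assoc], Matrix.det_one_add_mul_comm,
      Matrix.mul_smul, show P * ((1 - P) * N) = 0 by rw [← Matrix.mul_assoc, hPQ, Matrix.zero_mul],
      smul_zero, add_zero, Matrix.det_one]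
  rw [hfac, Matrix.det_mul, Matrix.det_mul, hB, hD, one_mul, mul_one]

variable {p : ℕ} {M : Ideal Cfsg.AlgInt}

/-- The local ring as a subring of `ℂ`. -/
def locSubring (hM : Cfsg.IsPModular p M) : Subring ℂ where
  carrier := {z | Cfsg.MemLocalRing M z}
  zero_mem' := ring_zero hM
  one_mem' := ring_one hM
  add_mem' := ring_add hM
  mul_mem' := ring_mul hM
  neg_mem' := ring_neg hM

/-- The maximal ideal of the local ring. -/
def locIdeal (hM : Cfsg.IsPModular p M) : Ideal (locSubring hM) where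
  carrier := {z | Cfsg.MemLocalIdeal M (z : ℂ)}
  zero_mem' := ideal_zero hM
  add_mem' := ideal_add hM
  smul_mem' := fun c _ h => ideal_mul_left hM c.2 h

theorem nontrivial_residue (hM : Cfsg.IsPModular p M) :
    Nontrivial (locSubring hM ⧸ locIdeal hM) :=
  Ideal.Quotient.nontrivial_iff.2 fun h =>
    not_ideal_one hM ((Ideal.eq_top_iff_one _).1 h)

theorem residue_eq_iff (hM : Cfsg.IsPModular p M) {a b : locSubring hM} :
    Ideal.Quotient.mk (locIdeal hM) a = Ideal.Quotient.mk (locIdeal hM) b ↔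
      Cong M (a : ℂ) (b : ℂ) := Ideal.Quotient.eq

/-- If two integral idempotent matrices reduce to matrices with the same `det(1 + X ·)`, they
have the same trace. -/
theorem trace_eq_of_det_eq (hM : Cfsg.IsPModular p M) {O : Type u} [Fintype O] [DecidableEq O]
    (c c' : Matrix O O ℂ) (hc : c * c = c) (hc' : c' * c' = c')
    (a a' : Matrix O O (locSubring hM)) (ha : a.map (fun z : locSubring hM => (z : ℂ)) = c)
    (ha' : a'.map (fun z : locSubring hM => (z : ℂ)) = c')
    (hdet : (1 + (X : (locSubring hM ⧸ locIdeal hM)[X]) •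
        (a.map (Ideal.Quotient.mk (locIdeal hM))).map C).det =
      (1 + (X : (locSubring hM ⧸ locIdeal hM)[X]) •
        (a'.map (Ideal.Quotient.mk (locIdeal hM))).map C).det) :
    c.trace = c'.trace := by
  haveI := nontrivial_residue hM
  obtain ⟨r, hr, hpol⟩ := exists_nat_trace_idem c hc
  obtain ⟨r', hr', hpol'⟩ := exists_nat_trace_idem c' hc'
  have key : ∀ (K : Type) [CommRing K] (π : locSubring hM →+* K)
      (b : Matrix O O (locSubring hM)) (d : Matrix O O ℂ) (k : ℕ),
      b.map (fun z : locSubring hM => (z : ℂ)) = d →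
      (1 + (X : ℂ[X]) • d.map C).det = (1 + X) ^ k →
      (1 + (X : K[X]) • (b.map π).map C).det = (1 + X) ^ k := by
    intro K _ π b d k hb hk
    have hD : (1 + (X : (locSubring hM)[X]) • b.map C).det = (1 + X) ^ k := by
      apply Polynomial.map_injective (locSubring hM).subtype Subtype.val_injective
      rw [Polynomial.map_pow, Polynomial.map_add, Polynomial.map_one, Polynomial.map_X, ← hk,
        ← Polynomial.coe_mapRingHom, RingHom.map_det]
      congr 1
      refine Matrix.ext fun i j => ?_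
      subst hb
      by_cases hij : i = j
      · subst hij; simp
      · simp [hij]
    have := congrArg (Polynomial.mapRingHom π) hD
    rw [RingHom.map_det] at this
    simp only [map_pow, map_add, map_one, Polynomial.coe_mapRingHom, Polynomial.map_pow,
      Polynomial.map_add, Polynomial.map_one, Polynomial.map_X] at this
    rw [← this]
    congr 1
    refine Matrix.ext fun i j => ?_
    by_cases hij : i = j
    · subst hij; simp
    · simp [hij]
  have e1 := key _ (Ideal.Quotient.mk (locIdeal hM)) a c r ha hpol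
  have e2 := key _ (Ideal.Quotient.mk (locIdeal hM)) a' c' r' ha' hpol'
  rw [hdet, e2] at e1
  have h1 : (1 + X : (locSubring hM ⧸ locIdeal hM)[X]).Monic := by
    simpa [add_comm] using monic_X_add_C (1 : locSubring hM ⧸ locIdeal hM)
  have hd : (1 + X : (locSubring hM ⧸ locIdeal hM)[X]).natDegree = 1 := by
    simpa [add_comm] using natDegree_X_add_C (1 : locSubring hM ⧸ locIdeal hM)
  have := congrArg natDegree e1
  rw [h1.natDegree_pow, h1.natDegree_pow, hd, mul_one, mul_one] at this
  rw [hr, hr', this]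

/-- Sum over the powers of a primitive root. -/
theorem sum_root_pow {q : ℕ} {η : ℂ} (hη : IsPrimitiveRoot η q) {c k : ℕ} (hc : c < q)
    (hk : k < q) :
    ∑ j ∈ Finset.range q, (η ^ j) ^ c * ((η ^ j)⁻¹) ^ k = if k = c then (q : ℂ) else 0 := by
  have hq : q ≠ 0 := by omega
  have hη0 : η ≠ 0 := hη.ne_zero hq
  have hre : ∀ j, (η ^ j) ^ c * ((η ^ j)⁻¹) ^ k = (η ^ c * (η ^ k)⁻¹) ^ j := fun j => by
    rw [mul_pow, inv_pow, inv_pow, ← pow_mul, ← pow_mul, ← pow_mul, ← pow_mul, mul_comm c j,
      mul_comm k j]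
  simp only [hre]
  split_ifs with h
  · subst h; simp [hη0]
  · set z := η ^ c * (η ^ k)⁻¹
    have hz : z ≠ 1 := fun e => h (hη.pow_inj hk hc
      (mul_inv_eq_one₀ (pow_ne_zero _ hη0) |>.1 e).symm)
    have hzq : z ^ q = 1 := by
      rw [mul_pow, inv_pow, pow_right_comm, pow_right_comm η k, hη.pow_eq_one, one_pow, one_pow,
        inv_one, mul_one]
    have := geom_sum_mul z q
    rw [hzq, sub_self, mul_eq_zero] at this
    exact this.resolve_right (sub_ne_zero.2 hz)

theorem sum_range_shift {α : Type*} [AddCommMonoid α] (q : ℕ) (f : ℕ → α)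
    (hf : ∀ k, f (k + q) = f k) (c : ℕ) :
    ∑ k ∈ Finset.range q, f (k + c) = ∑ k ∈ Finset.range q, f k := by
  induction c with
  | zero => simp
  | succ c ih =>
    rw [← ih]
    calc ∑ k ∈ Finset.range q, f (k + (c + 1))
        = ∑ k ∈ Finset.range q, f ((k + 1) + c) :=
          Finset.sum_congr rfl fun k _ => by rw [add_right_comm, add_assoc]
      _ = ∑ k ∈ Finset.range q, f (k + c) := by
          rcases q with _ | q
          · rfl
          rw [Finset.sum_range_succ, Finset.sum_range_succ' (fun k => f (k + c)), zero_add,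
            show q + 1 + c = c + (q + 1) by omega, hf c]

section Perm

variable {X : Type u} [Fintype X] [DecidableEq X]

/-- `r` is a good representative for the eigenvalue `ζ`. -/
def GoodPt (σ : Equiv.Perm X) (ζ : ℂ) (r : X) : Prop := ∀ l : ℕ, (σ ^ l) r = r → ζ ^ l = 1

omit [Fintype X] [DecidableEq X] in
theorem pow_eq_of_good {σ : Equiv.Perm X} {ζ : ℂ} {r : X} (h : GoodPt σ ζ r) {a b : ℕ}
    (hab : (σ ^ a) r = (σ ^ b) r) : ζ ^ a = ζ ^ b := by
  wlog hle : a ≤ b generalizing a b
  · exact (this hab.symm (by omega)).symm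
  obtain ⟨d, rfl⟩ := Nat.exists_eq_add_of_le hle
  rw [pow_add, Equiv.Perm.mul_apply] at hab
  rw [pow_add, h d ((σ ^ a).injective hab.symm), mul_one]

open scoped Classical in
/-- The trace lemma. -/
theorem trace_mul_perm_eq_zero (hM : Cfsg.IsPModular p M) (σ : Equiv.Perm X) {n : ℕ}
    (hσ : σ ^ p ^ n = 1) (E : Matrix X X ℂ) (hint : ∀ x y, Cfsg.MemLocalRing M (E x y))
    (hidem : E * E = E) (hinv : ∀ x y, E (σ x) (σ y) = E x y)
    (hfix : ∀ x y, σ x = x → σ y = y → Cfsg.MemLocalIdeal M (E x y)) :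
    ∑ x, E x (σ x) = 0 := by
  wlog hn : 0 < n generalizing n
  · exact this (n := n + 1) (by rw [pow_succ, pow_mul, hσ, one_pow]) (Nat.succ_pos n)
  have hp := hM.1
  set q := p ^ n with hqdef
  have hq : q ≠ 0 := pow_ne_zero _ hp.ne_zero
  haveI : NeZero q := ⟨hq⟩
  -- orbits and representatives
  let S : Setoid X :=
    { r := fun x y => σ.SameCycle x y
      iseqv := ⟨fun x => Equiv.Perm.SameCycle.refl σ x, Equiv.Perm.SameCycle.symm,
        Equiv.Perm.SameCycle.trans⟩ }
  let O := Quotient S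
  let cls : X → O := Quotient.mk S
  let rep : O → X := Quotient.out
  have hcls : ∀ o, cls (rep o) = o := fun o => Quotient.out_eq o
  have hkex : ∀ x, ∃ k : ℕ, (σ ^ k) (rep (cls x)) = x := fun x =>
    (Quotient.exact (hcls (cls x))).exists_nat_pow_eq
  choose kk hkk using hkex
  have hclsσ : ∀ x, cls (σ x) = cls x := fun x => Quotient.sound
    (show σ.SameCycle (σ x) x from ⟨-1, by simp⟩)
  have hclspow : ∀ (a : ℕ) (x : X), cls ((σ ^ a) x) = cls x := by
    intro a
    induction a with
    | zero => intro x; rfl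
    | succ a ih => intro x; rw [pow_succ', Equiv.Perm.mul_apply, hclsσ, ih]
  -- matrices attached to an eigenvalue
  let Vm : ℂ → Matrix X O ℂ := fun ζ => Matrix.of fun x o =>
    if cls x = o ∧ GoodPt σ ζ (rep o) then ζ ^ kk x else 0
  let Um : ℂ → Matrix O X ℂ := fun ζ => Matrix.of fun o x =>
    if x = rep o ∧ GoodPt σ ζ (rep o) then 1 else 0
  let T : ℕ → Matrix X X ℂ := fun k => Matrix.of fun x y => if (σ ^ k) x = y then 1 else 0
  let Pm : ℂ → Matrix X X ℂ := fun ζ => (q : ℂ)⁻¹ • ∑ k ∈ Finset.range q, (ζ⁻¹) ^ k • T k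
  let Eig : ℂ → (X → ℂ) → Prop := fun ζ f => ∀ x, f (σ x) = ζ * f x
  have eig_pow : ∀ ζ f, Eig ζ f → ∀ (a : ℕ) x, f ((σ ^ a) x) = ζ ^ a * f x := by
    intro ζ f hf a x
    induction a with
    | zero => simp
    | succ a ih => rw [pow_succ', Equiv.Perm.mul_apply, hf, ih, pow_succ', mul_assoc]
  -- basic identities
  have hUapply : ∀ ζ {ι : Type u} (Y : Matrix X ι ℂ) o i,
      (Um ζ * Y) o i = if GoodPt σ ζ (rep o) then Y (rep o) i else 0 := by
    intro ζ ι Y o i
    rw [Matrix.mul_apply, Finset.sum_eq_single (rep o)]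
    · simp [Um]
    · intro b _ hb; simp [Um, hb]
    · simp
  have hVapply : ∀ ζ {ι : Type u} (Y : Matrix O ι ℂ) x i,
      (Vm ζ * Y) x i = if GoodPt σ ζ (rep (cls x)) then ζ ^ kk x * Y (cls x) i else 0 := by
    intro ζ ι Y x i
    rw [Matrix.mul_apply, Finset.sum_eq_single (cls x)]
    · simp [Vm]
    · intro b _ hb; simp [Vm, Ne.symm hb]
    · simp
  have hVU : ∀ ζ {ι : Type u} (Y : Matrix X ι ℂ), (∀ i, Eig ζ (fun x => Y x i)) →
      Vm ζ * (Um ζ * Y) = Y := by
    intro ζ ι Y hY
    refine Matrix.ext fun x i => ?_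
    rw [hVapply, hUapply]
    have h1 : Y ((σ ^ kk x) (rep (cls x))) i = ζ ^ kk x * Y (rep (cls x)) i :=
      eig_pow ζ (fun y => Y y i) (hY i) (kk x) (rep (cls x))
    rw [hkk] at h1
    split_ifs with hg
    · exact h1.symm
    · rw [GoodPt] at hg
      push Not at hg
      obtain ⟨l, hl, hl'⟩ := hg
      have h2 : Y ((σ ^ l) (rep (cls x))) i = ζ ^ l * Y (rep (cls x)) i :=
        eig_pow ζ (fun y => Y y i) (hY i) l (rep (cls x))
      rw [hl] at h2
      have h3 : Y (rep (cls x)) i = 0 := by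
        by_contra hne
        exact hl' (mul_right_cancel₀ hne (h2.symm.trans (one_mul _).symm))
      rw [h1, h3, mul_zero]
  have hEV : ∀ ζ o, Eig ζ (fun x => Vm ζ x o) := by
    intro ζ o x
    simp only [Vm, Matrix.of_apply, hclsσ]
    split_ifs with h
    · obtain ⟨h, hg⟩ := h
      subst h
      rw [← pow_succ']
      refine pow_eq_of_good hg ?_
      rw [pow_succ' σ (kk x), Equiv.Perm.mul_apply, hkk]
      have := hkk (σ x)
      rwa [hclsσ] at this
    · simp
  have hEmul : ∀ ζ {ι : Type u} (Y : Matrix X ι ℂ), (∀ i, Eig ζ (fun x => Y x i)) →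
      ∀ i, Eig ζ (fun x => (E * Y) x i) := by
    intro ζ ι Y hY i x
    simp only [Matrix.mul_apply]
    rw [← Equiv.sum_comp σ (fun y => E (σ x) y * Y y i), Finset.mul_sum]
    refine Finset.sum_congr rfl fun y _ => ?_
    rw [hinv, show Y (σ y) i = ζ * Y y i from hY i y]
    ring
  have hTapply : ∀ k {ι : Type u} (Y : Matrix X ι ℂ) x i, (T k * Y) x i = Y ((σ ^ k) x) i := by
    intro k ι Y x i
    rw [Matrix.mul_apply, Finset.sum_eq_single ((σ ^ k) x)]
    · simp [T]
    · intro b _ hb; simp [T, Ne.symm hb]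
    · simp
  have hPapply : ∀ ζ {ι : Type u} (Y : Matrix X ι ℂ) x i, (Pm ζ * Y) x i =
      (q : ℂ)⁻¹ * ∑ k ∈ Finset.range q, (ζ⁻¹) ^ k * Y ((σ ^ k) x) i := by
    intro ζ ι Y x i
    simp only [Pm, Matrix.smul_mul, Matrix.sum_mul, Matrix.smul_apply, Matrix.sum_apply, hTapply,
      smul_eq_mul]
  have hPfix : ∀ ζ, ζ ^ q = 1 → ∀ {ι : Type u} (Y : Matrix X ι ℂ),
      (∀ i, Eig ζ (fun x => Y x i)) → Pm ζ * Y = Y := by
    intro ζ hζ ι Y hY
    have hζ0 : ζ ≠ 0 := by rintro rfl; simp [hq] at hζ
    refine Matrix.ext fun x i => ?_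
    rw [hPapply, Finset.sum_congr rfl (g := fun _ => Y x i) fun k _ => by
      rw [show Y ((σ ^ k) x) i = ζ ^ k * Y x i from eig_pow ζ (fun y => Y y i) (hY i) k x,
        ← mul_assoc, ← mul_pow, inv_mul_cancel₀ hζ0, one_pow, one_mul]]
    rw [Finset.sum_const, Finset.card_range, nsmul_eq_mul,
      inv_mul_cancel_left₀ (Nat.cast_ne_zero.2 hq)]
  have hσq : ∀ x, (σ ^ q) x = x := fun x => by rw [hσ]; rfl
  have hPeig : ∀ ζ, ζ ^ q = 1 → ∀ i, Eig ζ (fun x => Pm ζ x i) := by
    intro ζ hζ i x
    have hζ0 : ζ ≠ 0 := by rintro rfl; simp [hq] at hζ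
    have hz : ∀ y, Pm ζ y i = (q : ℂ)⁻¹ * ∑ k ∈ Finset.range q,
        (ζ⁻¹) ^ k * (if (σ ^ k) y = i then 1 else 0) := fun y => by
      simp [Pm, T, Matrix.smul_apply, Matrix.sum_apply]
    simp only [hz]
    rw [mul_left_comm ζ]
    congr 1
    have hs := sum_range_shift q
      (fun k => ζ * ((ζ⁻¹) ^ k * if (σ ^ k) x = i then 1 else 0)) (fun k => by
      simp only [pow_add, inv_pow ζ q, hζ, inv_one, mul_one, Equiv.Perm.mul_apply, hσq]) 1
    rw [Finset.mul_sum, ← hs]
    refine Finset.sum_congr rfl fun k _ => ?_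
    rw [pow_succ σ k, Equiv.Perm.mul_apply, pow_succ', ← mul_assoc, ← mul_assoc ζ,
      mul_inv_cancel₀ hζ0, one_mul]
  -- the reduced idempotent and its trace
  let c : ℂ → Matrix O O ℂ := fun ζ => Um ζ * (E * Vm ζ)
  have hcidem : ∀ ζ, c ζ * c ζ = c ζ := by
    intro ζ
    have h := hVU ζ (E * Vm ζ) (hEmul ζ _ (hEV ζ))
    calc Um ζ * (E * Vm ζ) * (Um ζ * (E * Vm ζ))
        = Um ζ * (E * (Vm ζ * (Um ζ * (E * Vm ζ)))) := by simp only [Matrix.mul_assoc]
      _ = Um ζ * (E * Vm ζ) := by rw [h, ← Matrix.mul_assoc E E, hidem]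
  have hctr : ∀ ζ, ζ ^ q = 1 → (E * Pm ζ).trace = (c ζ).trace := by
    intro ζ hζ
    calc (E * Pm ζ).trace = (E * (Vm ζ * (Um ζ * Pm ζ))).trace := by
          rw [hVU ζ _ (hPeig ζ hζ)]
      _ = (Um ζ * Pm ζ * (E * Vm ζ)).trace := by
          rw [← Matrix.mul_assoc, Matrix.trace_mul_comm]
      _ = (c ζ).trace := by
          rw [Matrix.mul_assoc, hPfix ζ hζ _ (hEmul ζ _ (hEV ζ))]
  -- invariance of the trace under an element of order `p`
  have hN0 : ∀ ζ o' o, c ζ o' o =
      if GoodPt σ ζ (rep o') ∧ GoodPt σ ζ (rep o) then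
        ∑ x ∈ Finset.univ.filter (fun x => cls x = o), E (rep o') x * ζ ^ kk x else 0 := by
    intro ζ o' o
    simp only [c]
    rw [hUapply]
    by_cases h1 : GoodPt σ ζ (rep o')
    · rw [if_pos h1, Matrix.mul_apply]
      by_cases h2 : GoodPt σ ζ (rep o)
      · rw [if_pos ⟨h1, h2⟩, Finset.sum_filter]
        refine Finset.sum_congr rfl fun x _ => ?_
        simp only [Vm, Matrix.of_apply]
        by_cases h3 : cls x = o <;> simp [h3, h2]
      · rw [if_neg (fun h => h2 h.2)]
        refine Finset.sum_eq_zero fun x _ => ?_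
        simp [Vm, h2]
    · simp [h1]
  let R := locSubring hM
  let π := Ideal.Quotient.mk (locIdeal hM)
  let N0 : Matrix O O R := Matrix.of fun o' o =>
    ⟨∑ x ∈ Finset.univ.filter (fun x => cls x = o), E (rep o') x,
      ring_sum hM fun x _ => hint _ _⟩
  have htr_eq : ∀ ζ ω : ℂ, ζ ^ q = 1 → ω ^ p = 1 → ω ≠ 1 →
      (c ζ).trace = (c (ζ * ω)).trace := by
    intro ζ ω hζ hω hω1
    have hωq : ω ^ q = 1 := by
      obtain ⟨j, rfl⟩ := Nat.exists_eq_add_of_le hn
      rw [hqdef, pow_add, pow_one, pow_mul, hω, one_pow]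
    -- integral forms of the two matrices
    have hint' : ∀ ξ, ξ ^ q = 1 → ∀ o' o, Cfsg.MemLocalRing M (c ξ o' o) := by
      intro ξ hξ o' o
      rw [hN0]
      split_ifs
      · exact ring_sum hM fun x _ => ring_mul hM (hint _ _)
          (ring_pow hM (ring_of_pow_eq_one hM hq hξ) _)
      · exact ring_zero hM
    have hζω : (ζ * ω) ^ q = 1 := by rw [mul_pow, hζ, hωq, mul_one]
    let a : Matrix O O R := Matrix.of fun o' o => ⟨c ζ o' o, hint' ζ hζ o' o⟩
    let a' : Matrix O O R := Matrix.of fun o' o => ⟨c (ζ * ω) o' o, hint' _ hζω o' o⟩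
    refine trace_eq_of_det_eq hM (c ζ) (c (ζ * ω)) (hcidem _) (hcidem _) a a'
      (Matrix.ext fun _ _ => rfl) (Matrix.ext fun _ _ => rfl) ?_
    -- masks
    let e : (O → Prop) → Matrix O O (R ⧸ locIdeal hM) := fun P =>
      Matrix.diagonal fun o => if P o then 1 else 0
    have hred : ∀ ξ (hξ : ξ ^ q = 1), (Matrix.of fun o' o => (⟨c ξ o' o, hint' ξ hξ o' o⟩ : R)).map π =
        e (fun o => GoodPt σ ξ (rep o)) * N0.map π * e (fun o => GoodPt σ ξ (rep o)) := by
      intro ξ hξ
      refine Matrix.ext fun o' o => ?_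
      simp only [e, Matrix.diagonal_mul, Matrix.mul_diagonal, Matrix.map_apply, Matrix.of_apply]
      by_cases hb : GoodPt σ ξ (rep o') ∧ GoodPt σ ξ (rep o)
      · rw [if_pos hb.1, if_pos hb.2, one_mul, mul_one]
        refine (residue_eq_iff hM).2 ?_
        show Cong M (c ξ o' o) (∑ x ∈ Finset.univ.filter (fun x => cls x = o), E (rep o') x)
        rw [hN0, if_pos hb]
        refine cong_sum hM fun x _ => ?_
        have hk1 : Cong M (ξ ^ kk x) 1 := by
          simpa using cong_pow hM (cong_one_of_pow_prime_pow hM hξ) (ring_one hM) (kk x)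
        simpa using cong_mul_left hM (hint (rep o') x) hk1
      · have h0 : (⟨c ξ o' o, hint' ξ hξ o' o⟩ : R) = 0 := Subtype.ext (by
          show c ξ o' o = 0
          rw [hN0, if_neg hb])
        rw [h0, map_zero]
        rw [not_and_or] at hb
        rcases hb with hb | hb <;> simp [hb]
    let P := e (fun o => σ (rep o) ≠ rep o ∧ GoodPt σ ζ (rep o))
    have hgood : ∀ o, σ (rep o) ≠ rep o →
        (GoodPt σ ζ (rep o) ↔ GoodPt σ (ζ * ω) (rep o)) := by
      intro o ho
      have hdvd : ∀ l, (σ ^ l) (rep o) = rep o → p ∣ l := by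
        intro l hl
        by_contra hpl
        have hco : Nat.Coprime l q := (hp.coprime_iff_not_dvd.2 hpl).symm.pow_right n
        obtain ⟨m, -, hm⟩ := Nat.exists_mul_mod_eq_one_of_coprime hco
          (Nat.one_lt_pow (by omega) hp.one_lt)
        apply ho
        have hfix : ∀ m : ℕ, ((σ ^ l) ^ m) (rep o) = rep o := by
          intro m
          induction m with
          | zero => rfl
          | succ m ih => rw [pow_succ, Equiv.Perm.mul_apply, hl, ih]
        have h1 := hfix m
        rw [← pow_mul, ← Nat.div_add_mod (l * m) q, hm, pow_add, pow_mul, hσ, one_pow, one_mul,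
          pow_one] at h1
        exact h1
      constructor <;> intro h l hl <;> obtain ⟨j, rfl⟩ := hdvd l hl
      · rw [mul_pow, h _ hl, pow_mul ω, hω, one_pow, mul_one]
      · have := h _ hl
        rwa [mul_pow, pow_mul ω, hω, one_pow, mul_one] at this
    have hfixgood : ∀ ξ o, σ (rep o) = rep o → GoodPt σ ξ (rep o) → ξ = 1 := by
      intro ξ o ho h
      simpa using h 1 (by simpa using ho)
    have hmask : ∀ ξ, (ξ = ζ ∨ ξ = ζ * ω) → ξ ^ q = 1 →
        P * (e (fun o => GoodPt σ ξ (rep o)) * N0.map π * e (fun o => GoodPt σ ξ (rep o))) * P =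
          P * N0.map π * P := by
      intro ξ hξ _
      have : P * e (fun o => GoodPt σ ξ (rep o)) = P ∧ e (fun o => GoodPt σ ξ (rep o)) * P = P := by
        have hh : ∀ o, σ (rep o) ≠ rep o ∧ GoodPt σ ζ (rep o) → GoodPt σ ξ (rep o) := by
          rintro o ⟨ho, hg⟩
          rcases hξ with rfl | rfl
          · exact hg
          · exact (hgood o ho).1 hg
        constructor <;> simp only [P, e, Matrix.diagonal_mul_diagonal] <;> congr 1 <;> funext o <;>
          by_cases hP : σ (rep o) ≠ rep o ∧ GoodPt σ ζ (rep o) <;> simp [hP, hh o] 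
      calc _ = (P * e (fun o => GoodPt σ ξ (rep o))) * N0.map π *
              (e (fun o => GoodPt σ ξ (rep o)) * P) := by simp only [Matrix.mul_assoc]
        _ = _ := by rw [this.1, this.2]
    have hPP : P * P = P := by
      simp only [P, e, Matrix.diagonal_mul_diagonal]
      congr 1; funext o; split_ifs <;> simp
    -- the idempotent reductions
    have hNidem : ∀ ξ (hξ : ξ ^ q = 1),
        (e (fun o => GoodPt σ ξ (rep o)) * N0.map π * e (fun o => GoodPt σ ξ (rep o))) *
          (e (fun o => GoodPt σ ξ (rep o)) * N0.map π * e (fun o => GoodPt σ ξ (rep o))) =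
          e (fun o => GoodPt σ ξ (rep o)) * N0.map π * e (fun o => GoodPt σ ξ (rep o)) := by
      intro ξ hξ
      rw [← hred ξ hξ, ← Matrix.map_mul]
      congr 1
      have hinj : Function.Injective fun A : Matrix O O R => A.map (fun z : R => (z : ℂ)) :=
        fun A B h => Matrix.ext fun i j => Subtype.ext (congrFun (congrFun h i) j)
      apply hinj
      show (_ * _ : Matrix O O R).map R.subtype = Matrix.map _ R.subtype
      rw [Matrix.map_mul]
      have he : (Matrix.of fun o' o => (⟨c ξ o' o, hint' ξ hξ o' o⟩ : R)).map R.subtype = c ξ :=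
        Matrix.ext fun _ _ => rfl
      rw [he]
      exact hcidem ξ
    have hzero : ∀ ξ, (ξ = ζ ∨ ξ = ζ * ω) →
        (1 - P) * (e (fun o => GoodPt σ ξ (rep o)) * N0.map π *
          e (fun o => GoodPt σ ξ (rep o))) * (1 - P) = 0 := by
      intro ξ hξ
      have hPd : (1 - P) = Matrix.diagonal (fun o =>
          1 - if σ (rep o) ≠ rep o ∧ GoodPt σ ζ (rep o) then (1 : R ⧸ locIdeal hM) else 0) := by
        rw [← Matrix.diagonal_one, Matrix.diagonal_sub]
        congr 1; funext o
        by_cases hh : σ (rep o) ≠ rep o ∧ GoodPt σ ζ (rep o)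
        · simp only [if_pos hh]
        · simp only [if_neg hh]
      refine Matrix.ext fun o' o => ?_
      rw [hPd]
      simp only [e, Matrix.diagonal_mul, Matrix.mul_diagonal, Matrix.zero_apply]
      by_cases h1 : σ (rep o') ≠ rep o' ∧ GoodPt σ ζ (rep o')
      · simp [h1]
      by_cases h2 : σ (rep o) ≠ rep o ∧ GoodPt σ ζ (rep o)
      · simp [h2]
      by_cases g1 : GoodPt σ ξ (rep o')
      swap
      · simp [g1]
      by_cases g2 : GoodPt σ ξ (rep o)
      swap
      · simp [g2]
      have hfx : ∀ o, ¬(σ (rep o) ≠ rep o ∧ GoodPt σ ζ (rep o)) → GoodPt σ ξ (rep o) →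
          σ (rep o) = rep o := by
        intro o h g
        by_contra hne
        apply h
        refine ⟨hne, ?_⟩
        rcases hξ with rfl | rfl
        · exact g
        · exact (hgood o hne).2 g
      have hf' := hfx o' h1 g1
      have hf := hfx o h2 g2
      have : π (N0 o' o) = 0 := by
        refine Ideal.Quotient.eq_zero_iff_mem.2 ?_
        show Cfsg.MemLocalIdeal M (∑ x ∈ Finset.univ.filter (fun x => cls x = o), E (rep o') x)
        refine ideal_sum hM fun x hx => hfix _ _ hf' ?_
        have hxo := (Finset.mem_filter.1 hx).2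
        have hall : ∀ l, (σ ^ l) (rep o) = rep o := by
          intro l
          induction l with
          | zero => rfl
          | succ l ih => rw [pow_succ, Equiv.Perm.mul_apply, hf, ih]
        have := hkk x
        rw [hxo, hall] at this
        rw [← this]; exact hf
      simp [this]
    have hnofix : ∃ ξ, (ξ = ζ ∨ ξ = ζ * ω) ∧ ξ ^ q = 1 ∧ ξ ≠ 1 := by
      by_cases h : ζ = 1
      · exact ⟨ζ * ω, Or.inr rfl, hζω, by rw [h, one_mul]; exact hω1⟩
      · exact ⟨ζ, Or.inl rfl, hζ, h⟩
    obtain ⟨ξ₀, hξ₀, hξ₀q, hξ₀1⟩ := hnofix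
    have hA : (P * N0.map π * P) * (P * N0.map π * P) = P * N0.map π * P := by
      have he : e (fun o => GoodPt σ ξ₀ (rep o)) = P := by
        simp only [P, e]
        congr 1; funext o
        suffices hiff : GoodPt σ ξ₀ (rep o) ↔ σ (rep o) ≠ rep o ∧ GoodPt σ ζ (rep o) by
          by_cases hh : GoodPt σ ξ₀ (rep o)
          · rw [if_pos hh, if_pos (hiff.1 hh)]
          · rw [if_neg hh, if_neg (fun h => hh (hiff.2 h))]
        constructor
        · intro h
          have hne : σ (rep o) ≠ rep o := fun hf => hξ₀1 (hfixgood _ o hf h)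
          refine ⟨hne, ?_⟩
          rcases hξ₀ with rfl | rfl
          · exact h
          · exact (hgood o hne).2 h
        · rintro ⟨hne, h⟩
          rcases hξ₀ with rfl | rfl
          · exact h
          · exact (hgood o hne).1 h
      have := hNidem ξ₀ hξ₀q
      rwa [he] at this
    have hcalc : ∀ ξ, (ξ = ζ ∨ ξ = ζ * ω) → ∀ hξ : ξ ^ q = 1,
        (1 + (Polynomial.X : (R ⧸ locIdeal hM)[X]) •
          ((Matrix.of fun o' o => (⟨c ξ o' o, hint' ξ hξ o' o⟩ : R)).map π).map C).det =
        (1 + (Polynomial.X : (R ⧸ locIdeal hM)[X]) • (P * N0.map π * P).map C).det := by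
      intro ξ hξ hξq
      rw [hred ξ hξq]
      rw [det_one_add_smul_eq_of_idem Polynomial.X _ (P.map C)]
      · simp only [← Matrix.map_mul, hmask ξ hξ hξq]
      · rw [← Matrix.map_mul, hPP]
      · rw [← Matrix.map_mul, hNidem ξ hξq]
      · simp only [← Matrix.map_mul, hmask ξ hξ hξq, hA]
      · rw [← Matrix.map_one C (map_zero C) (map_one C), ← Matrix.map_sub C (map_sub C),
          ← Matrix.map_mul, ← Matrix.map_mul, hzero ξ hξ, Matrix.map_zero C (map_zero C)]
    exact (hcalc ζ (Or.inl rfl) hζ).trans (hcalc _ (Or.inr rfl) hζω).symm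
  -- conclusion
  obtain ⟨η, hη⟩ : ∃ η : ℂ, IsPrimitiveRoot η q := ⟨_, Complex.isPrimitiveRoot_exp q hq⟩
  have hroot : ∀ j, (η ^ j) ^ q = 1 := fun j => by rw [pow_right_comm, hη.pow_eq_one, one_pow]
  set t := ∑ x, E x (σ x) with ht
  have hformula : t = ∑ j ∈ Finset.range q, (η ^ j) ^ (q - 1) * (c (η ^ j)).trace := by
    have hEP : ∀ j, (c (η ^ j)).trace =
        (q : ℂ)⁻¹ * ∑ k ∈ Finset.range q, ((η ^ j)⁻¹) ^ k * (E * T k).trace := fun j => by
      rw [← hctr _ (hroot j)]
      simp [Pm, Matrix.mul_smul, Matrix.mul_sum, Matrix.trace_smul, Matrix.trace_sum]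
    have h2 : ∀ j, (η ^ j) ^ (q - 1) * (c (η ^ j)).trace = (q : ℂ)⁻¹ * ∑ k ∈ Finset.range q,
        (η ^ j) ^ (q - 1) * ((η ^ j)⁻¹) ^ k * (E * T k).trace := fun j => by
      rw [hEP, mul_left_comm, Finset.mul_sum]
      simp only [mul_assoc]
    simp only [h2]
    rw [← Finset.mul_sum, Finset.sum_comm]
    simp only [← Finset.sum_mul]
    rw [Finset.sum_congr rfl fun k hk => by
      rw [sum_root_pow hη (show q - 1 < q by omega) (Finset.mem_range.1 hk)]]
    simp only [ite_mul, zero_mul]
    rw [Finset.sum_ite_eq', if_pos (Finset.mem_range.2 (by omega)),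
      inv_mul_cancel_left₀ (Nat.cast_ne_zero.2 hq), ht, Matrix.trace]
    refine Finset.sum_congr rfl fun x _ => ?_
    rw [Matrix.diag_apply, Matrix.mul_apply, Finset.sum_eq_single (σ x)]
    · have : (σ ^ (q - 1)) (σ x) = x := by
        rw [← Equiv.Perm.mul_apply, ← pow_succ, show q - 1 + 1 = q by omega, hσ]; rfl
      simp [T, this]
    · intro y _ hy
      have : (σ ^ (q - 1)) y ≠ x := fun e => hy (by
        have h3 := congrArg σ e
        rw [← Equiv.Perm.mul_apply, ← pow_succ', show q - 1 + 1 = q by omega, hσ] at h3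
        exact h3)
      simp [T, this]
    · simp
  obtain ⟨d, hd⟩ := Nat.exists_eq_succ_of_ne_zero hn.ne'
  have hprim : IsPrimitiveRoot (η ^ p ^ d) p :=
    hη.pow (Nat.pos_of_ne_zero hq) (by rw [hqdef, hd, pow_succ])
  have hωp := hprim.pow_eq_one
  have hω1 := hprim.ne_one hp.one_lt
  have hinvt : (η ^ p ^ d) ^ (q - 1) * t = t := by
    conv_rhs => rw [hformula]
    rw [hformula, Finset.mul_sum]
    have hper := sum_range_shift q (fun j => (η ^ j) ^ (q - 1) * (c (η ^ j)).trace)
      (fun j => by simp only [pow_add, hη.pow_eq_one, mul_one]) (p ^ d)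
    rw [← hper]
    refine Finset.sum_congr rfl fun j _ => ?_
    rw [htr_eq (η ^ j) (η ^ p ^ d) (hroot j) hωp hω1, ← pow_add η, ← mul_assoc, ← mul_pow,
      mul_comm (η ^ p ^ d), ← pow_add]
  have : (η ^ p ^ d) ^ (q - 1) ≠ 1 := by
    intro h
    have h4 : (η ^ p ^ d) ^ q = 1 := by rw [← pow_mul, mul_comm, pow_mul, hη.pow_eq_one, one_pow]
    rw [show q = q - 1 + 1 by omega, pow_succ, h, one_mul] at h4
    exact hω1 h4
  by_contra hne
  exact this (mul_right_cancel₀ hne (hinvt.trans (one_mul t).symm))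

end Perm

end Cfsg.Agent.Blocks
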