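import Mathlib
import Cfsg.Prelude.Def_Blocks
import Cfsg.Agent.Lib.Blocks.GroupAlgebra

/-!
# Fixed-point congruences for `p`-groups and Sylow subgroups of centralisers
-/

set_option linter.style.haveILetI false

namespace Cfsg.Agent.Blocks

universe u v w

section Fixed

open scoped Classical in
/-- An invariant sum over a set with a `p`-group action is congruent to the sum over the fixed
points. -/
theorem exists_sum_eq_fixed_add {p : ℕ} [Fact p.Prime] {P : Type u} [Group P] (hP : IsPGroup p P)
    {X : Type v} [MulAction P X] [Fintype X] {A : Type w} [AddCommGroup A] (f : X → A)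
    (hf : ∀ (u : P) (x : X), f (u • x) = f x) (s : Finset X)
    (hs : ∀ x, x ∈ s ↔ ∀ u : P, u • x = x) :
    ∃ a : A, ∑ x, f x = (∑ x ∈ s, f x) + p • a := by
  rw [show s = Finset.univ.filter (fun x => ∀ u : P, u • x = x) from by ext x; simp [hs]]
  set g : X → A := fun x => if ∀ u : P, u • x = x then 0 else f x with hg
  suffices ∃ a : A, ∑ x, g x = p • a by
    obtain ⟨a, ha⟩ := this
    refine ⟨a, ?_⟩
    rw [← ha, Finset.sum_filter, ← Finset.sum_add_distrib]
    exact Finset.sum_congr rfl fun x _ => by simp only [g]; split_ifs <;> simp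
  haveI : Fintype (MulAction.orbitRel.Quotient P X) := Fintype.ofFinite _
  rw [← (MulAction.selfEquivSigmaOrbits' P X).symm.sum_comp g, Fintype.sum_sigma]
  have : ∀ ω : MulAction.orbitRel.Quotient P X, ∃ a : A,
      ∑ y : ω.orbit, g ((MulAction.selfEquivSigmaOrbits' P X).symm ⟨ω, y⟩) = p • a := by
    intro ω
    obtain ⟨x, rfl⟩ := Quotient.mk_surjective ω
    have hval : ∀ y : (MulAction.orbitRel.Quotient.orbit (⟦x⟧ : MulAction.orbitRel.Quotient P X)),
        g ((MulAction.selfEquivSigmaOrbits' P X).symm ⟨⟦x⟧, y⟩) = g x := by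
      rintro ⟨y, hy⟩
      show g y = g x
      rw [MulAction.orbitRel.Quotient.mem_orbit] at hy
      obtain ⟨u, hu⟩ := Quotient.exact hy
      have hfix : (∀ t : P, t • y = y) ↔ ∀ t : P, t • x = x := by
        have hu' : u • x = y := hu
        constructor
        · intro h t
          have hxy : x = y := by rw [← h u⁻¹, ← hu', inv_smul_smul]
          rw [hxy]; exact h t
        · intro h t
          rw [← hu', h u]; exact h t
      simp only [g, hfix]
      split_ifs
      · rfl
      · rw [← hu]; exact hf u x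
    rw [Finset.sum_congr rfl fun y _ => hval y, Finset.sum_const, Finset.card_univ,
      ← Nat.card_eq_fintype_card]
    by_cases hx : ∀ u : P, u • x = x
    · exact ⟨0, by simp [g, hx]⟩
    · have horb : MulAction.orbitRel.Quotient.orbit (⟦x⟧ : MulAction.orbitRel.Quotient P X) =
          MulAction.orbit P x := MulAction.orbitRel.Quotient.orbit_mk x
      rw [horb]
      obtain ⟨n, hn⟩ := hP.card_orbit x
      rcases Nat.eq_zero_or_pos n with rfl | hpos
      · exfalso
        apply hx
        intro u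
        haveI := Fintype.ofFinite (MulAction.orbit P x)
        rw [Nat.card_eq_fintype_card, pow_zero] at hn
        exact MulAction.mem_fixedPoints.1 (MulAction.mem_fixedPoints_iff_card_orbit_eq_one.2 hn) u
      · refine ⟨p ^ (n - 1) • g x, ?_⟩
        rw [hn, smul_smul, ← pow_succ', Nat.sub_add_cancel hpos]
  choose a ha using this
  exact ⟨∑ ω, a ω, by rw [Finset.smul_sum]; exact Finset.sum_congr rfl fun ω _ => ha ω⟩

variable {p : ℕ} {M : Ideal Cfsg.AlgInt}

open scoped Classical in
/-- Congruence form of the fixed-point principle. -/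
theorem cong_sum_fixed (hM : Cfsg.IsPModular p M) {P : Type u} [Group P] (hP : IsPGroup p P)
    {X : Type v} [MulAction P X] [Fintype X] (f : X → ℂ) (hr : ∀ x, Cfsg.MemLocalRing M (f x))
    (hf : ∀ (u : P) (x : X), f (u • x) = f x) (s : Finset X)
    (hs : ∀ x, x ∈ s ↔ ∀ u : P, u • x = x) :
    Cong M (∑ x, f x) (∑ x ∈ s, f x) := by
  haveI := fact_prime_of_pm hM
  let R : AddSubgroup ℂ :=
    { carrier := {z | Cfsg.MemLocalRing M z}
      zero_mem' := ring_zero hM
      add_mem' := ring_add hM
      neg_mem' := ring_neg hM }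
  obtain ⟨a, ha⟩ := exists_sum_eq_fixed_add hP (A := R) (fun x => ⟨f x, hr x⟩)
    (fun u x => Subtype.ext (hf u x)) s hs
  have h := congrArg (fun z : R => (z : ℂ)) ha
  simp only [AddSubgroup.coe_add, AddSubgroup.val_finsetSum, AddSubgroup.coe_nsmul,
    nsmul_eq_mul] at h
  unfold Cong
  rw [h, add_sub_cancel_left]
  exact ideal_mul_right hM (ideal_p hM) a.2

end Fixed

variable {G : Type u} [Group G]

/-- The conjugation action of a subgroup on the group. -/
@[reducible] def conjActionOn (P : Subgroup G) : MulAction P G where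
  smul u g := (u : G) * g * (u : G)⁻¹
  one_smul g := by show ((1 : P) : G) * g * ((1 : P) : G)⁻¹ = g; simp
  mul_smul u v g := by
    show ((u * v : P) : G) * g * ((u * v : P) : G)⁻¹ = (u : G) * ((v : G) * g * (v : G)⁻¹) * (u : G)⁻¹
    simp [mul_assoc]

theorem conj_fixed_iff (P : Subgroup G) (g : G) :
    (∀ u : P, (u : G) * g * (u : G)⁻¹ = g) ↔ g ∈ Subgroup.centralizer (P : Set G) := by
  simp [Subgroup.mem_centralizer_iff, mul_inv_eq_iff_eq_mul]

section Brauer

variable [Finite G] {p : ℕ} {M : Ideal Cfsg.AlgInt}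

open scoped Classical in
/-- Multiplicativity of the Brauer map. -/
theorem cong_coeff_mul_centralizer [Fintype G] (hM : Cfsg.IsPModular p M) {P : Subgroup G}
    (hP : IsPGroup p P) {x y : MonoidAlgebra ℂ G} (hx : IntEl M x) (hy : IntEl M y)
    (hxP : ∀ u ∈ P, ∀ g, x.coeff (u * g * u⁻¹) = x.coeff g)
    (hyP : ∀ u ∈ P, ∀ g, y.coeff (u * g * u⁻¹) = y.coeff g)
    {c : G} (hc : c ∈ Subgroup.centralizer (P : Set G)) :
    Cong M ((x * y).coeff c)
      (∑ h ∈ Finset.univ.filter (fun h => h ∈ Subgroup.centralizer (P : Set G)),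
        x.coeff h * y.coeff (h⁻¹ * c)) := by
  letI := conjActionOn P
  rw [coeff_mul']
  exact cong_sum_fixed hM hP (X := G) (fun h => x.coeff h * y.coeff (h⁻¹ * c))
    (fun h => ring_mul hM (hx h) (hy _)) (fun u h => by
      show x.coeff ((u : G) * h * (u : G)⁻¹) * y.coeff (((u : G) * h * (u : G)⁻¹)⁻¹ * c) = _
      rw [hxP _ u.2]
      congr 1
      have hcu : (u : G) * c = c * u := hc _ u.2
      have : ((u : G) * h * (u : G)⁻¹)⁻¹ * c = (u : G) * (h⁻¹ * c) * (u : G)⁻¹ := by
        have hcu' : (u : G)⁻¹ * c = c * (u : G)⁻¹ := by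
          rw [inv_mul_eq_iff_eq_mul, ← mul_assoc, hcu, mul_inv_cancel_right]
        simp only [mul_inv_rev, inv_inv, mul_assoc, hcu']
      rw [this, hyP _ u.2])
    _ fun h => by rw [Finset.mem_filter]; exact ⟨fun hh => (conj_fixed_iff P h).2 hh.2,
      fun hh => ⟨Finset.mem_univ _, (conj_fixed_iff P h).1 hh⟩⟩

/-- A product of central elements that is non-zero modulo the local ideal at an element
centralised by a `p`-group `P` has both factors non-zero somewhere on `C(P)`. -/
theorem exists_of_coeff_mul_notIdeal (hM : Cfsg.IsPModular p M) {P : Subgroup G}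
    (hP : IsPGroup p P) {x y : MonoidAlgebra ℂ G} (hxc : IsCentralEl x) (hyc : IsCentralEl y)
    (hx : IntEl M x) (hy : IntEl M y) {c : G} (hc : c ∈ Subgroup.centralizer (P : Set G))
    (h : ¬ Cfsg.MemLocalIdeal M ((x * y).coeff c)) :
    (∃ a ∈ Subgroup.centralizer (P : Set G), ¬ Cfsg.MemLocalIdeal M (x.coeff a)) ∧
      ∃ a ∈ Subgroup.centralizer (P : Set G), ¬ Cfsg.MemLocalIdeal M (y.coeff a) := by
  classical
  haveI := Fintype.ofFinite G
  rw [ideal_iff_of_cong hM (cong_coeff_mul_centralizer hM hP hx hy (fun u _ g => hxc g u)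
    (fun u _ g => hyc g u) hc)] at h
  by_contra hcon
  apply h
  refine ideal_sum hM fun a ha => ?_
  have ha' := (Finset.mem_filter.1 ha).2
  rw [not_and_or] at hcon
  rcases hcon with h1 | h1 <;> push Not at h1
  · exact ideal_mul_right hM (h1 a ha') (hy _)
  · exact ideal_mul_left hM (hx _) (h1 _ (mul_mem (inv_mem ha') hc))

end Brauer

/-! ## Class sums avoiding the centraliser of a normal `p`-subgroup are nilpotent -/

section Nilpotent

variable [Finite G]

open scoped Classical in
/-- The class sum with integer coefficients. -/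
noncomputable def classSumInt (g : G) : MonoidAlgebra ℤ G :=
  haveI := Fintype.ofFinite G
  ∑ x ∈ Finset.univ.filter (fun x : G => IsConj g x), MonoidAlgebra.single x 1

open scoped Classical in
theorem classSum_eq_map (g : G) :
    MonoidAlgebra.mapRingHom G (Int.castRingHom ℂ) (classSumInt g) = classSum g := by
  haveI := Fintype.ofFinite G
  refine el_ext fun x => ?_
  simp only [MonoidAlgebra.coeff_mapRingHom, classSumInt, MonoidAlgebra.coeff_sum,
    Finsupp.finsetSum_apply, MonoidAlgebra.coeff_single, Finsupp.single_apply,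
    Finset.sum_ite_eq', Finset.mem_filter, Finset.mem_univ, true_and, coeff_classSum]
  split_ifs <;> simp

/-- If no conjugate of `g` centralises the normal `p`-subgroup `Q`, then some power of the
class sum of `g` vanishes modulo `p`. -/
theorem exists_pow_classSumInt_dvd {p : ℕ} [Fact p.Prime] {Q : Subgroup G} [Q.Normal]
    (hQ : IsPGroup p Q) {g : G}
    (hg : ∀ x, IsConj g x → x ∉ Subgroup.centralizer (Q : Set G)) :
    ∃ n : ℕ, n ≠ 0 ∧ ∀ x, (p : ℤ) ∣ (classSumInt g ^ n).coeff x := by
  classical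
  haveI := Fintype.ofFinite G
  let φ := MonoidAlgebra.mapRingHom G (Int.castRingHom (ZMod p))
  let A := MonoidAlgebra (ZMod p) G
  haveI : Finite A := Finite.of_equiv _ MonoidAlgebra.coeffEquiv.symm
  set K : A := φ (classSumInt g) with hK
  suffices hnil : ∃ n, n ≠ 0 ∧ K ^ n = 0 by
    obtain ⟨n, hn0, hn⟩ := hnil
    refine ⟨n, hn0, fun x => ?_⟩
    have := congrArg (fun z : A => z.coeff x) hn
    simp only [K, ← map_pow, φ, MonoidAlgebra.coeff_mapRingHom, MonoidAlgebra.coeff_zero,
      Finsupp.zero_apply] at this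
    exact (ZMod.intCast_zmod_eq_zero_iff_dvd _ _).1 this
  have hKeq : K = ∑ x ∈ Finset.univ.filter (fun x : G => IsConj g x),
      MonoidAlgebra.single x (1 : ZMod p) := by
    simp only [K, φ, classSumInt, map_sum]
    refine Finset.sum_congr (Finset.ext fun x => by simp only [Finset.mem_filter, Finset.mem_univ]) fun x _ => ?_
    refine MonoidAlgebra.ext (Finsupp.ext fun z => ?_)
    simp only [MonoidAlgebra.coeff_mapRingHom, MonoidAlgebra.coeff_single, Finsupp.single_apply]
    split_ifs <;> simp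
  -- a vector fixed by `Q` is killed by `K`
  have hkill : ∀ v : A, (∀ q ∈ Q, MonoidAlgebra.single q 1 * v = v) → K * v = 0 := by
    intro v hv
    letI := conjActionOn Q
    set f : G → A := fun x => if IsConj g x then MonoidAlgebra.single x 1 * v else 0 with hf
    have hinv : ∀ (u : Q) (x : G), f (u • x) = f x := by
      intro u x
      show f ((u : G) * x * (u : G)⁻¹) = f x
      simp only [f, isConj_conj_right_iff]
      split_ifs with h
      · have h1 : MonoidAlgebra.single ((u : G) * x * (u : G)⁻¹) (1 : ZMod p) * v =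
            MonoidAlgebra.single ((u : G) * x) 1 *
              (MonoidAlgebra.single ((u : G)⁻¹) 1 * v) := by
          rw [← mul_assoc, MonoidAlgebra.single_mul_single, mul_one]
        rw [h1, hv _ (inv_mem u.2), show (u : G) * x = x * (x⁻¹ * u * x) by group,
          show MonoidAlgebra.single (x * (x⁻¹ * (u : G) * x)) (1 : ZMod p) =
            MonoidAlgebra.single x 1 * MonoidAlgebra.single (x⁻¹ * (u : G) * x) 1 by
              rw [MonoidAlgebra.single_mul_single, mul_one],
          mul_assoc, hv _ (by simpa using (inferInstance : Q.Normal).conj_mem _ u.2 x⁻¹)]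
      · rfl
    obtain ⟨a, ha⟩ := exists_sum_eq_fixed_add hQ f hinv
      (Finset.univ.filter fun x => x ∈ Subgroup.centralizer (Q : Set G))
      (fun x => by rw [Finset.mem_filter]; exact ⟨fun hh => (conj_fixed_iff Q x).2 hh.2,
        fun hh => ⟨Finset.mem_univ _, (conj_fixed_iff Q x).1 hh⟩⟩)
    have hp0 : ∀ z : A, (p : ℕ) • z = 0 := fun z => by
      rw [← Nat.cast_smul_eq_nsmul (ZMod p), ZMod.natCast_self, zero_smul]
    rw [hp0, add_zero, Finset.sum_eq_zero (s := Finset.univ.filter _) fun x hx =>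
      if_neg fun h => hg x h (Finset.mem_filter.1 hx).2] at ha
    rw [hKeq, Finset.sum_mul, Finset.sum_filter]
    exact ha
  obtain ⟨i, j, hne, heq⟩ := Finite.exists_ne_map_eq_of_infinite (fun n : ℕ => K ^ (n + 1))
  wlog hij : i < j generalizing i j
  · exact this j i hne.symm heq.symm (by omega)
  refine ⟨i + 1, by omega, ?_⟩
  by_contra hKi
  -- the additive group `K^(i+1) A`
  let W : AddSubgroup A :=
    { carrier := {v | ∃ w, K ^ (i + 1) * w = v}
      zero_mem' := ⟨0, mul_zero _⟩
      add_mem' := by rintro _ _ ⟨w, rfl⟩ ⟨w', rfl⟩; exact ⟨w + w', mul_add _ _ _⟩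
      neg_mem' := by rintro _ ⟨w, rfl⟩; exact ⟨-w, mul_neg _ _⟩ }
  have hcomm : ∀ q : G, MonoidAlgebra.single q (1 : ZMod p) * K = K * MonoidAlgebra.single q 1 := by
    intro q
    rw [hKeq, Finset.mul_sum, Finset.sum_mul]
    refine Finset.sum_nbij' (fun x => q * x * q⁻¹) (fun x => q⁻¹ * x * q) ?_ ?_
      (fun x _ => by group) (fun x _ => by group) fun x _ => ?_
    · intro x hx
      simpa only [Finset.mem_filter, Finset.mem_univ, true_and, Finset.coe_filter,
        Set.mem_setOf_eq, isConj_conj_right_iff] using hx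
    · intro x hx
      simp only [Finset.mem_filter, Finset.mem_univ, true_and, Finset.coe_filter,
        Set.mem_setOf_eq] at hx ⊢
      rw [show q⁻¹ * x * q = q⁻¹ * x * q⁻¹⁻¹ by group, isConj_conj_right_iff]
      exact hx
    · show MonoidAlgebra.single q (1 : ZMod p) * MonoidAlgebra.single x (1 : ZMod p) =
        MonoidAlgebra.single (q * x * q⁻¹) (1 : ZMod p) * MonoidAlgebra.single q (1 : ZMod p)
      rw [MonoidAlgebra.single_mul_single, MonoidAlgebra.single_mul_single, inv_mul_cancel_right]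
  have hWmem : ∀ (q : Q) (v : A), v ∈ W → MonoidAlgebra.single (q : G) 1 * v ∈ W := by
    rintro q _ ⟨w, rfl⟩
    refine ⟨MonoidAlgebra.single (q : G) 1 * w, ?_⟩
    rw [← mul_assoc, ← mul_assoc]
    exact congrArg (· * w) (Commute.pow_right (hcomm q) (i + 1)).eq.symm
  letI : MulAction Q W :=
    { smul := fun q v => ⟨MonoidAlgebra.single (q : G) (1 : ZMod p) * (v : A), hWmem q v v.2⟩
      one_smul := fun v => Subtype.ext (by
        show MonoidAlgebra.single ((1 : Q) : G) (1 : ZMod p) * (v : A) = v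
        rw [Subgroup.coe_one, ← MonoidAlgebra.one_def, one_mul])
      mul_smul := fun q r v => Subtype.ext (by
        show MonoidAlgebra.single ((q * r : Q) : G) (1 : ZMod p) * (v : A) =
          MonoidAlgebra.single (q : G) (1 : ZMod p) *
            (MonoidAlgebra.single (r : G) (1 : ZMod p) * (v : A))
        rw [← mul_assoc, MonoidAlgebra.single_mul_single, Subgroup.coe_mul, mul_one]) }
  have hdvd : p ∣ Nat.card W := by
    have hmem : K ^ (i + 1) ∈ W := ⟨1, mul_one _⟩
    have hord : addOrderOf (⟨K ^ (i + 1), hmem⟩ : W) = p := by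
      refine addOrderOf_eq_prime (Subtype.ext ?_) (fun h => hKi (congrArg Subtype.val h))
      show (p : ℕ) • (K ^ (i + 1) : A) = 0
      rw [← Nat.cast_smul_eq_nsmul (ZMod p), ZMod.natCast_self, zero_smul]
    have := addOrderOf_dvd_natCard (⟨K ^ (i + 1), hmem⟩ : W)
    rwa [hord] at this
  obtain ⟨⟨b, hbW⟩, hbfix, hb0⟩ := hQ.exists_fixed_point_of_prime_dvd_card_of_fixed_point W hdvd
    (a := 0) (MulAction.mem_fixedPoints.2 fun q => Subtype.ext (mul_zero (M₀ := A) _))
  refine hb0 (Subtype.ext ?_)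
  have hKb : K * b = 0 :=
    hkill b fun q hq => congrArg Subtype.val (MulAction.mem_fixedPoints.1 hbfix ⟨q, hq⟩)
  obtain ⟨w, rfl⟩ := hbW
  show 0 = K ^ (i + 1) * w
  have : K ^ (j + 1) = K ^ (j - i - 1) * K * K ^ (i + 1) := by
    rw [← pow_succ, ← pow_add]; congr 1; omega
  rw [heq, this, mul_assoc (K ^ _ * K), mul_assoc, hKb, mul_zero]

end Nilpotent

/-! ## Sylow subgroups of centralisers -/

section SylCent

/-- `D` is a Sylow `p`-subgroup of the centraliser of `g`, as a subgroup of `G`. -/
def IsSylCent (p : ℕ) (g : G) (D : Subgroup G) : Prop :=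
  ∃ P : Sylow p (Subgroup.centralizer ({g} : Set G)),
    D = (P : Subgroup (Subgroup.centralizer ({g} : Set G))).map
      (Subgroup.centralizer ({g} : Set G)).subtype

/-- Some conjugate of `g` centralises `P`. -/
def MeetsCent (P : Subgroup G) (g : G) : Prop :=
  ∃ c, IsConj g c ∧ c ∈ Subgroup.centralizer (P : Set G)

variable {p : ℕ} {g : G} {D : Subgroup G}

theorem le_centralizer_iff_mem {G : Type u} [Group G] {P : Subgroup G} {g : G} :
    P ≤ Subgroup.centralizer ({g} : Set G) ↔ g ∈ Subgroup.centralizer (P : Set G) := by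
  simp only [SetLike.le_def, Subgroup.mem_centralizer_iff, Set.mem_singleton_iff, forall_eq,
    SetLike.mem_coe]
  exact forall₂_congr fun _ _ => eq_comm

theorem isSylCent_le (h : IsSylCent p g D) : D ≤ Subgroup.centralizer ({g} : Set G) := by
  obtain ⟨P, rfl⟩ := h
  exact Subgroup.map_subtype_le (P : Subgroup (Subgroup.centralizer ({g} : Set G)))

theorem isSylCent_mem (h : IsSylCent p g D) : g ∈ Subgroup.centralizer (D : Set G) :=
  le_centralizer_iff_mem.1 (isSylCent_le h)

theorem isSylCent_meets (h : IsSylCent p g D) : MeetsCent D g :=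
  ⟨g, IsConj.refl g, isSylCent_mem h⟩

theorem isSylCent_isPGroup (h : IsSylCent p g D) : IsPGroup p D := by
  obtain ⟨P, rfl⟩ := h; exact P.isPGroup'.map _

theorem meetsCent_mono {P Q : Subgroup G} (h : P ≤ Q) (hQ : MeetsCent Q g) : MeetsCent P g := by
  obtain ⟨c, hc, hcm⟩ := hQ
  exact ⟨c, hc, fun x hx => hcm x (h hx)⟩

theorem meetsCent_of_isConj {P : Subgroup G} {g' : G} (hg : IsConj g g') (h : MeetsCent P g) :
    MeetsCent P g' := by
  obtain ⟨c, hc, hcm⟩ := h; exact ⟨c, hg.symm.trans hc, hcm⟩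

theorem mem_map_conj_iff {P : Subgroup G} {x y : G} :
    y ∈ P.map (MulAut.conj x).toMonoidHom ↔ x⁻¹ * y * x ∈ P := by
  rw [Subgroup.mem_map]
  refine ⟨?_, fun h => ⟨_, h, ?_⟩⟩
  · rintro ⟨z, hz, rfl⟩
    simpa [MulAut.conj_apply, mul_assoc] using hz
  · simp [MulAut.conj_apply, mul_assoc]

theorem map_conj_map_conj (P : Subgroup G) (x y : G) :
    (P.map (MulAut.conj x).toMonoidHom).map (MulAut.conj y).toMonoidHom =
      P.map (MulAut.conj (y * x)).toMonoidHom := by
  ext z; simp [mem_map_conj_iff, mul_assoc]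

theorem map_conj_one (P : Subgroup G) : P.map (MulAut.conj 1).toMonoidHom = P := by
  ext z; simp [mem_map_conj_iff]

theorem card_map_conj (P : Subgroup G) (x : G) :
    Nat.card (P.map (MulAut.conj x).toMonoidHom) = Nat.card P :=
  (Nat.card_congr (P.equivMapOfInjective _ (MulAut.conj x).injective).toEquiv).symm

theorem meetsCent_conj {P : Subgroup G} (x : G) (h : MeetsCent P g) :
    MeetsCent (P.map (MulAut.conj x).toMonoidHom) g := by
  obtain ⟨c, hc, hcm⟩ := h
  refine ⟨x * c * x⁻¹, isConj_conj_right_iff.2 hc, fun y hy => ?_⟩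
  obtain ⟨z, hz, rfl⟩ := Subgroup.mem_map.1 hy
  have := hcm z hz
  simp only [MulEquiv.coe_toMonoidHom, MulAut.conj_apply, mul_assoc, inv_mul_cancel_left]
  rw [← mul_assoc z c, this, mul_assoc]

variable [Finite G]

theorem isSylCent_iff [Fact p.Prime] : IsSylCent p g D ↔
    D ≤ Subgroup.centralizer ({g} : Set G) ∧
      Nat.card D = p ^ (Nat.card (Subgroup.centralizer ({g} : Set G))).factorization p := by
  constructor
  · intro h
    refine ⟨isSylCent_le h, ?_⟩
    obtain ⟨P, rfl⟩ := h
    exact (Nat.card_congr (Subgroup.equivMapOfInjective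
      (P : Subgroup (Subgroup.centralizer ({g} : Set G))) _
      (Subgroup.subtype_injective _)).toEquiv.symm).trans P.card_eq_multiplicity
  · rintro ⟨hle, hcard⟩
    refine ⟨Sylow.ofCard (D.subgroupOf _) ?_, ?_⟩
    · rw [Nat.card_congr (Subgroup.subgroupOfEquivOfLe hle).toEquiv, hcard]
    · rw [Sylow.coe_ofCard, Subgroup.subgroupOf_map_subtype, inf_eq_left.2 hle]

theorem exists_isSylCent (p : ℕ) [Fact p.Prime] (g : G) : ∃ D, IsSylCent p g D :=
  ⟨_, default, rfl⟩

theorem card_centralizer_conj (g x : G) :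
    Nat.card (Subgroup.centralizer ({x * g * x⁻¹} : Set G)) =
      Nat.card (Subgroup.centralizer ({g} : Set G)) := by
  rw [← card_map_conj (Subgroup.centralizer ({g} : Set G)) x]
  have h : Subgroup.centralizer ({x * g * x⁻¹} : Set G) =
      (Subgroup.centralizer ({g} : Set G)).map (MulAut.conj x).toMonoidHom := by
    ext y
    simp only [mem_map_conj_iff, Subgroup.mem_centralizer_iff, Set.mem_singleton_iff, forall_eq]
    constructor
    · intro h
      calc g * (x⁻¹ * y * x) = x⁻¹ * (x * g * x⁻¹ * y) * x := by group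
        _ = x⁻¹ * (y * (x * g * x⁻¹)) * x := by rw [h]
        _ = x⁻¹ * y * x * g := by group
    · intro h
      calc x * g * x⁻¹ * y = x * (g * (x⁻¹ * y * x)) * x⁻¹ := by group
        _ = x * (x⁻¹ * y * x * g) * x⁻¹ := by rw [h]
        _ = y * (x * g * x⁻¹) := by group
  rw [h]

theorem isSylCent_conj [Fact p.Prime] (h : IsSylCent p g D) (x : G) :
    IsSylCent p (x * g * x⁻¹) (D.map (MulAut.conj x).toMonoidHom) := by
  rw [isSylCent_iff] at h ⊢
  refine ⟨fun y hy => ?_, by rw [card_map_conj, h.2, card_centralizer_conj]⟩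
  obtain ⟨z, hz, rfl⟩ := Subgroup.mem_map.1 hy
  have := Subgroup.mem_centralizer_iff.1 (h.1 hz) g rfl
  rw [Subgroup.mem_centralizer_iff]
  rintro _ rfl
  simp only [MulEquiv.coe_toMonoidHom, MulAut.conj_apply, mul_assoc, inv_mul_cancel_left]
  rw [← mul_assoc g, this, mul_assoc]

/-- A `p`-group some conjugate of `g` centralises is contained in a conjugate of `D`. -/
theorem exists_conj_le_of_meets [Fact p.Prime] {P : Subgroup G} (hP : IsPGroup p P)
    (hD : IsSylCent p g D) (h : MeetsCent P g) :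
    ∃ x, P ≤ D.map (MulAut.conj x).toMonoidHom := by
  obtain ⟨c, hc, hcm⟩ := h
  obtain ⟨z, rfl⟩ := isConj_iff.1 hc
  set C := Subgroup.centralizer ({z * g * z⁻¹} : Set G)
  have hPC : P ≤ C := le_centralizer_iff_mem.2 hcm
  obtain ⟨S, hS⟩ := (hP.comap_of_injective C.subtype C.subtype_injective).exists_le_sylow
  obtain ⟨T, hT⟩ := isSylCent_conj hD z
  obtain ⟨y, hy⟩ := MulAction.exists_smul_eq (Subgroup.centralizer ({z * g * z⁻¹} : Set G)) T S
  refine ⟨y * z, fun a ha => ?_⟩
  rw [← map_conj_map_conj, hT, mem_map_conj_iff, Subgroup.mem_map]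
  have hmem : (⟨a, hPC ha⟩ : C) ∈ (S : Subgroup C) := hS ha
  rw [← hy, Sylow.coe_subgroup_smul, Subgroup.mem_pointwise_smul_iff_inv_smul_mem] at hmem
  refine ⟨_, hmem, ?_⟩
  simp [MulAut.smul_def, MulAut.conj_symm_apply, C]

theorem meetsCent_of_le_conj {P : Subgroup G} {x : G} (hD : IsSylCent p g D)
    (h : P ≤ D.map (MulAut.conj x).toMonoidHom) : MeetsCent P g :=
  meetsCent_mono h (meetsCent_conj x (isSylCent_meets hD))

theorem meetsCent_iff [Fact p.Prime] {P : Subgroup G} (hP : IsPGroup p P)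
    (hD : IsSylCent p g D) :
    MeetsCent P g ↔ ∃ x, P ≤ D.map (MulAut.conj x).toMonoidHom :=
  ⟨exists_conj_le_of_meets hP hD, fun ⟨_, hx⟩ => meetsCent_of_le_conj hD hx⟩

theorem eq_of_le_of_card_le {P Q : Subgroup G} (h : P ≤ Q) (hc : Nat.card Q ≤ Nat.card P) :
    P = Q :=
  SetLike.coe_injective (Set.eq_of_subset_of_ncard_le h
    (by rw [← Nat.card_coe_set_eq, ← Nat.card_coe_set_eq]; exact hc) (Set.toFinite _))

end SylCent

end Cfsg.Agent.Blocks
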