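import Mathlib
import Cfsg.Prelude.Def_Blocks
import Cfsg.Agent.Lib.Blocks.Block
import Cfsg.Agent.Lib.Blocks.PGroupSum
import Cfsg.Agent.Lib.Blocks.Idempotent

/-!
# Block orthogonality

The vanishing of characters at `g₀` times an integral idempotent without support on the
centraliser of the `p`-part, orthogonality of blocks across `p`-sections, and divisibility of
values of combinations of characters vanishing off a point.
-/

set_option linter.style.haveILetI false

namespace Cfsg.Agent.Blocks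

open scoped ComplexConjugate
open Cfsg.Agent.Characters

universe u

variable {G : Type u} [Group G] {p : ℕ} {M : Ideal Cfsg.AlgInt}

theorem exists_ppart [Finite G] (hp : p.Prime) (g : G) : ∃ x, Cfsg.IsPPart p g x := by
  obtain ⟨a, m, hm, hord⟩ :=
    Nat.exists_eq_pow_mul_and_not_dvd (orderOf_pos g).ne' p hp.ne_one
  have hpm : IsCoprime ((p ^ a : ℕ) : ℤ) (m : ℤ) :=
    Int.isCoprime_iff_nat_coprime.2 (by simpa using (hp.coprime_iff_not_dvd.2 hm).pow_left a)
  obtain ⟨r, s, hrs⟩ := hpm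
  have hx : (g ^ (s * m)) ^ p ^ a = 1 := by
    rw [← zpow_natCast, ← zpow_mul, show s * m * ((p ^ a : ℕ) : ℤ) = (orderOf g : ℤ) * s by
      rw [hord]; push_cast; ring, zpow_mul, zpow_natCast, pow_orderOf_eq_one, one_zpow]
  have hy : (g ^ (r * (p ^ a : ℕ))) ^ m = 1 := by
    rw [← zpow_natCast, ← zpow_mul, show r * ((p ^ a : ℕ) : ℤ) * (m : ℤ) = (orderOf g : ℤ) * r by
      rw [hord]; push_cast; ring, zpow_mul, zpow_natCast, pow_orderOf_eq_one, one_zpow]
  refine ⟨g ^ (s * m), g ^ (r * (p ^ a : ℕ)), ?_, (Commute.refl g).zpow_zpow _ _, ?_, ?_⟩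
  · rw [← zpow_add, add_comm, hrs, zpow_one]
  · obtain ⟨k, -, hk⟩ := (Nat.dvd_prime_pow hp).1 (orderOf_dvd_of_pow_eq_one hx)
    exact ⟨k, hk⟩
  · exact fun h => hm (h.trans (orderOf_dvd_of_pow_eq_one hy))

theorem ppart_unique {g x x' : G} (hp : p.Prime) (h : Cfsg.IsPPart p g x)
    (h' : Cfsg.IsPPart p g x') : x = x' := by
  obtain ⟨y, hg, hc, ⟨a, ha⟩, hy⟩ := h
  obtain ⟨y', hg', hc', ⟨b, hb⟩, hy'⟩ := h'
  -- both are the image of `g` under the same power map
  have hco : Nat.Coprime (p ^ max a b) (orderOf y * orderOf y') :=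
    Nat.Coprime.pow_left _ ((hp.coprime_iff_not_dvd.2 hy).mul_right (hp.coprime_iff_not_dvd.2 hy'))
  obtain ⟨e, he1, he0⟩ := Nat.chineseRemainder hco 1 0
  have key : ∀ (u w : G) (c : ℕ), c ≤ max a b → orderOf u = p ^ c → Commute u w →
      orderOf w ∣ orderOf y * orderOf y' → u * w = g → g ^ e = u := by
    intro u w c hcle hu hcw hw huw
    have h1 : w ^ e = 1 :=
      orderOf_dvd_iff_pow_eq_one.1 (hw.trans (Nat.modEq_zero_iff_dvd.1 he0))
    have h2 : u ^ e = u := by
      conv_rhs => rw [← pow_one u]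
      rw [pow_eq_pow_iff_modEq, hu]
      exact he1.of_dvd (pow_dvd_pow p hcle)
    rw [← huw, hcw.mul_pow, h1, h2, mul_one]
  rw [← key x y a (le_max_left _ _) ha hc (dvd_mul_right _ _) hg,
    ← key x' y' b (le_max_right _ _) hb hc' (dvd_mul_left _ _) hg']

variable [Finite G]

/-- `∑_v χ (a * v h v⁻¹) = |G| χ(a) χ(h) / χ(1)`. -/
theorem sum_char_mul_conj [Fintype G] (χ : Cfsg.IrrCharacter G) (a h : G) :
    ∑ v : G, (χ : G → ℂ) (a * (v * h * v⁻¹)) =
      (Nat.card G : ℂ) * ((χ : G → ℂ) a * (χ : G → ℂ) h) / (χ : G → ℂ) 1 := by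
  set z : MonoidAlgebra ℂ G := ∑ v : G, MonoidAlgebra.single (v * h * v⁻¹) 1 with hzdef
  have hz : IsCentralEl z := by
    classical
    intro g c
    simp only [z, MonoidAlgebra.coeff_sum, Finsupp.finsetSum_apply, MonoidAlgebra.coeff_single,
      Finsupp.single_apply]
    refine Fintype.sum_equiv (Equiv.mulLeft c⁻¹) _ _ fun v => ?_
    simp only [Equiv.coe_mulLeft]
    refine if_congr ?_ rfl rfl
    constructor
    · intro e
      rw [show c⁻¹ * v * h * (c⁻¹ * v)⁻¹ = c⁻¹ * (v * h * v⁻¹) * c by group, e]; group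
    · intro e
      rw [show v * h * v⁻¹ = c * (c⁻¹ * v * h * (c⁻¹ * v)⁻¹) * c⁻¹ by group, e]
  have h1 : evalChar (χ : G → ℂ) (z * MonoidAlgebra.single a 1) =
      ∑ v : G, (χ : G → ℂ) (a * (v * h * v⁻¹)) := by
    simp only [z, Finset.sum_mul, evalChar_sum, MonoidAlgebra.single_mul_single, mul_one,
      evalChar_single, one_mul]
    exact Finset.sum_congr rfl fun v _ => by
      rw [show v * h * v⁻¹ * a = v * h * v⁻¹ * (a * (v * h * v⁻¹)) * (v * h * v⁻¹)⁻¹ by group,
        irr_isClassFunction χ]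
  rw [← h1, evalChar_central_mul χ hz, evalChar_single, one_mul, omega]
  have h2 : evalChar (χ : G → ℂ) z = (Nat.card G : ℂ) * (χ : G → ℂ) h := by
    simp only [z, evalChar_sum, evalChar_single, one_mul, fun v => irr_isClassFunction χ h v,
      Finset.sum_const, Finset.card_univ, nsmul_eq_mul, Nat.card_eq_fintype_card]
  rw [h2]
  field_simp [irr_one_ne_zero χ.2]

/-- The trace lemma applied to the group with two-sided multiplication. -/
theorem sum_conj_shift_eq_zero [Fintype G] (hM : Cfsg.IsPModular p M) {E : MonoidAlgebra ℂ G}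
    (hi : IntEl M E) (hid : E * E = E) {x y z w : G} (hxy : Commute x y) (hzw : Commute z w)
    (hx : ∃ k : ℕ, orderOf x = p ^ k) (hy : ¬ p ∣ orderOf y)
    (hz : ∃ k : ℕ, orderOf z = p ^ k) (hw : ¬ p ∣ orderOf w)
    (hEx : ∀ g, E.coeff (x * g * x⁻¹) = E.coeff g) (hEy : ∀ g, E.coeff (y * g * y⁻¹) = E.coeff g)
    (hfix : IsConj x z → ∀ c ∈ Subgroup.centralizer ({x} : Set G),
      Cfsg.MemLocalIdeal M (E.coeff c)) :
    ∑ v : G, E.coeff ((x * y)⁻¹ * (v * (z * w) * v⁻¹)) = 0 := by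
  classical
  obtain ⟨a, ha⟩ := hx
  obtain ⟨b, hb⟩ := hz
  set m := orderOf y * orderOf w with hm
  have hpm : ¬ p ∣ m := fun h => (hM.1.dvd_mul.1 h).elim hy hw
  have hm0 : m ≠ 0 := fun h => hpm (h ▸ dvd_zero p)
  have hym : y ^ m = 1 := by rw [hm, pow_mul, pow_orderOf_eq_one, one_pow]
  have hwm : w ^ m = 1 := by rw [hm, mul_comm, pow_mul, pow_orderOf_eq_one, one_pow]
  have hxpow : ∀ c, a ≤ c → x ^ p ^ c = 1 := fun c hc =>
    orderOf_dvd_iff_pow_eq_one.1 (ha ▸ pow_dvd_pow p hc)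
  have hzpow : ∀ c, b ≤ c → z ^ p ^ c = 1 := fun c hc =>
    orderOf_dvd_iff_pow_eq_one.1 (hb ▸ pow_dvd_pow p hc)
  let σ : Equiv.Perm G := (Equiv.mulLeft x).trans (Equiv.mulRight z⁻¹)
  have hσapp : ∀ v, σ v = x * v * z⁻¹ := fun v => rfl
  have hσpow : ∀ (k : ℕ) v, (σ ^ k) v = x ^ k * v * (z ^ k)⁻¹ := by
    intro k v
    induction k with
    | zero => simp
    | succ k ih =>
      rw [pow_succ', Equiv.Perm.mul_apply, ih, hσapp, pow_succ', pow_succ]
      group
  have hσ : σ ^ p ^ (a + b) = 1 := by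
    refine Equiv.ext fun v => ?_
    rw [hσpow, hxpow _ (Nat.le_add_right _ _), hzpow _ (Nat.le_add_left _ _)]
    simp
  set τ : ℕ → G → G := fun k v => y ^ k * v * (w ^ k)⁻¹ with hτ
  have hτper : ∀ k v, τ (k + m) v = τ k v := fun k v => by simp [τ, pow_add, hym, hwm]
  have hτadd : ∀ k l v, τ k (τ l v) = τ (k + l) v := fun k l v => by
    simp only [τ, pow_add]; group
  have hτσ : ∀ k v, τ k (σ v) = σ (τ k v) := by
    intro k v
    simp only [τ, hσapp]
    have h1 : y ^ k * x = x * y ^ k := (hxy.pow_right k).eq.symm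
    have h2 : z⁻¹ * (w ^ k)⁻¹ = (w ^ k)⁻¹ * z⁻¹ := ((hzw.pow_right k).inv_inv).eq
    calc y ^ k * (x * v * z⁻¹) * (w ^ k)⁻¹ = (y ^ k * x) * v * (z⁻¹ * (w ^ k)⁻¹) := by group
      _ = (x * y ^ k) * v * ((w ^ k)⁻¹ * z⁻¹) := by rw [h1, h2]
      _ = x * (y ^ k * v * (w ^ k)⁻¹) * z⁻¹ := by group
  have hEyk : ∀ (k : ℕ) g, E.coeff (y ^ k * g * (y ^ k)⁻¹) = E.coeff g := by
    intro k
    induction k with
    | zero => intro g; simp
    | succ k ih =>
      intro g
      rw [show y ^ (k + 1) * g * (y ^ (k + 1))⁻¹ = y * (y ^ k * g * (y ^ k)⁻¹) * y⁻¹ by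
        rw [pow_succ']; group, hEy, ih]
  -- the idempotents attached to the roots of unity of order dividing `m`
  set Em : ℂ → Matrix G G ℂ := fun η => Matrix.of fun g h =>
    (m : ℂ)⁻¹ * ∑ k ∈ Finset.range m, η ^ k * E.coeff (g * (τ k h)⁻¹) with hEm
  have hmain : ∀ η : ℂ, η ^ m = 1 → ∑ v, Em η v (σ v) = 0 := by
    intro η hη
    refine trace_mul_perm_eq_zero hM σ hσ (Em η) (fun g h => ?_) ?_ (fun g h => ?_)
      fun g h hg hh => ?_
    · exact ring_mul hM (ring_inv_natCast hM hpm) (ring_sum hM fun k _ =>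
        ring_mul hM (ring_pow hM (ring_of_pow_eq_one hM hm0 hη) k) (hi _))
    · refine Matrix.ext fun g h => ?_
      simp only [Em, Matrix.mul_apply, Matrix.of_apply]
      have hconv : ∀ k l, ∑ u : G, E.coeff (g * (τ k u)⁻¹) * E.coeff (u * (τ l h)⁻¹) =
          E.coeff (g * (τ (k + l) h)⁻¹) := by
        intro k l
        have h1 : ∀ u, E.coeff (u * (τ l h)⁻¹) = E.coeff (τ k u * (τ (k + l) h)⁻¹) := fun u => by
          rw [← hEyk k (u * (τ l h)⁻¹)]
          congr 1
          rw [← hτadd k l]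
          simp only [τ]; group
        simp only [h1]
        have hbij : Function.Bijective (τ k) := by
          refine ⟨fun u u' e => ?_, fun u => ⟨(y ^ k)⁻¹ * u * w ^ k, by simp only [τ]; group⟩⟩
          simpa [τ] using e
        rw [hbij.sum_comp (fun u => E.coeff (g * u⁻¹) * E.coeff (u * (τ (k + l) h)⁻¹))]
        conv_rhs => rw [← hid, coeff_mul']
        refine Fintype.sum_equiv ((Equiv.inv G).trans (Equiv.mulLeft g)) _ _ fun u => ?_
        simp only [Equiv.trans_apply, Equiv.inv_apply, Equiv.coe_mulLeft]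
        congr 2
        group
      calc ∑ u : G, (m : ℂ)⁻¹ * (∑ k ∈ Finset.range m, η ^ k * E.coeff (g * (τ k u)⁻¹)) *
            ((m : ℂ)⁻¹ * ∑ l ∈ Finset.range m, η ^ l * E.coeff (u * (τ l h)⁻¹))
          = (m : ℂ)⁻¹ * (m : ℂ)⁻¹ * ∑ k ∈ Finset.range m, ∑ l ∈ Finset.range m,
              η ^ (k + l) * ∑ u : G, E.coeff (g * (τ k u)⁻¹) * E.coeff (u * (τ l h)⁻¹) := by
            simp only [Finset.mul_sum, Finset.sum_mul]
            rw [Finset.sum_comm]
            conv_rhs => rw [Finset.sum_comm]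
            refine Finset.sum_congr rfl fun l _ => ?_
            rw [Finset.sum_comm]
            refine Finset.sum_congr rfl fun k _ => Finset.sum_congr rfl fun u _ => ?_
            rw [pow_add]; ring
        _ = (m : ℂ)⁻¹ * ∑ k ∈ Finset.range m, η ^ k * E.coeff (g * (τ k h)⁻¹) := by
            simp only [hconv]
            have hshift : ∀ k, ∑ l ∈ Finset.range m, η ^ (k + l) * E.coeff (g * (τ (k + l) h)⁻¹) =
                ∑ l ∈ Finset.range m, η ^ l * E.coeff (g * (τ l h)⁻¹) := fun k => by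
              have := sum_range_shift m (fun l => η ^ l * E.coeff (g * (τ l h)⁻¹))
                (fun l => by simp only [hτper, pow_add, hη, mul_one]) k
              simpa [add_comm k] using this
            simp only [hshift, Finset.sum_const, Finset.card_range, nsmul_eq_mul]
            rw [mul_assoc, inv_mul_cancel_left₀ (Nat.cast_ne_zero.2 hm0)]
    · simp only [Em, Matrix.of_apply, hτσ]
      congr 1
      refine Finset.sum_congr rfl fun k _ => ?_
      rw [← hEx (g * (τ k h)⁻¹), hσapp, hσapp]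
      congr 2
      group
    · simp only [Em, Matrix.of_apply]
      refine ideal_mul_left hM (ring_inv_natCast hM hpm) (ideal_sum hM fun k _ => ideal_mul_left hM
        (ring_pow hM (ring_of_pow_eq_one hM hm0 hη) k) ?_)
      set h' := τ k h
      have hh' : σ h' = h' := by rw [← hτσ, hh]
      rw [hσapp] at hg hh'
      have e1 : x * g = g * z := by
        have := congrArg (· * z) hg; simpa using this
      have e2 : h'⁻¹ * x = z * h'⁻¹ := by
        have e3 : x * h' = h' * z := by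
          have := congrArg (· * z) hh'; simpa using this
        rw [inv_mul_eq_iff_eq_mul, ← mul_assoc, ← e3, mul_inv_cancel_right]
      refine hfix (isConj_iff.2 ⟨g⁻¹, by rw [inv_inv, mul_assoc, e1, inv_mul_cancel_left]⟩) _ ?_
      rw [Subgroup.mem_centralizer_iff]
      rintro _ rfl
      rw [← mul_assoc, e1, mul_assoc, ← e2, ← mul_assoc]
  -- recover the individual shift
  obtain ⟨η, hη⟩ : ∃ η : ℂ, IsPrimitiveRoot η m := ⟨_, Complex.isPrimitiveRoot_exp m hm0⟩
  set d : ℕ → ℂ := fun k => ∑ v, E.coeff (v * (τ k (σ v))⁻¹) with hd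
  have hd0 : ∀ c < m, d c = 0 := by
    intro c hc
    have h0 : ∀ j, ∑ k ∈ Finset.range m, ((η ^ j)⁻¹) ^ k * d k = 0 := by
      intro j
      have := hmain ((η ^ j)⁻¹) (by rw [inv_pow, pow_right_comm, hη.pow_eq_one, one_pow, inv_one])
      simp only [Em, Matrix.of_apply, ← Finset.mul_sum, mul_eq_zero, inv_eq_zero,
        Nat.cast_eq_zero, hm0, false_or] at this
      rw [Finset.sum_comm] at this
      simpa only [d, Finset.mul_sum] using this
    have h1 : ∑ j ∈ Finset.range m, (η ^ j) ^ c *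
        ∑ k ∈ Finset.range m, ((η ^ j)⁻¹) ^ k * d k = (m : ℂ) * d c := by
      simp only [Finset.mul_sum, ← mul_assoc]
      rw [Finset.sum_comm]
      simp only [← Finset.sum_mul]
      rw [Finset.sum_congr rfl fun k hk => by rw [sum_root_pow hη hc (Finset.mem_range.1 hk)]]
      simp only [ite_mul, zero_mul]
      rw [Finset.sum_ite_eq', if_pos (Finset.mem_range.2 hc)]
    simp only [h0, mul_zero, Finset.sum_const_zero] at h1
    exact (mul_eq_zero.1 h1.symm).resolve_left (Nat.cast_ne_zero.2 hm0)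
  have hmod : ∀ v, τ 1 v = τ (1 % m) v := fun v => by
    have e1 : y = y ^ (1 % m) := by
      conv_lhs => rw [← pow_one y]
      exact pow_eq_pow_mod 1 hym
    have e2 : w = w ^ (1 % m) := by
      conv_lhs => rw [← pow_one w]
      exact pow_eq_pow_mod 1 hwm
    simp only [τ, pow_one, ← e1, ← e2]
  have h1 := hd0 (1 % m) (Nat.mod_lt _ (Nat.pos_of_ne_zero hm0))
  rw [← h1]
  refine Finset.sum_congr rfl fun v _ => ?_
  rw [← hmod, ← hEyk 1 ((x * y)⁻¹ * (v * (z * w) * v⁻¹)), ← hEx]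
  congr 1
  simp only [τ, hσapp, pow_one]
  have e : x * y = y * x := hxy.eq
  have e' : z * w = w * z := hzw.eq
  rw [e']
  calc x * (y * ((x * y)⁻¹ * (v * (w * z) * v⁻¹)) * y⁻¹) * x⁻¹
      = x * y * ((x * y)⁻¹ * (v * (w * z) * v⁻¹)) * (x * y)⁻¹ := by group
    _ = v * (w * z) * v⁻¹ * (y * x)⁻¹ := by rw [mul_inv_cancel_left, e]
    _ = v * (y * (x * v * z⁻¹) * w⁻¹)⁻¹ := by group

/-- A character vanishes at `g₀ E` when the idempotent `E` has no support modulo the local ideal
on the centraliser of the `p`-part of `g₀`. -/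
theorem evalChar_single_mul_eq_zero (hM : Cfsg.IsPModular p M) {E : MonoidAlgebra ℂ G}
    (hi : IntEl M E) (hid : E * E = E) {g₀ x : G} (hx : Cfsg.IsPPart p g₀ x)
    (hEinv : ∀ u, Commute u g₀ → ∀ g, E.coeff (u * g * u⁻¹) = E.coeff g)
    (hfix : ∀ c ∈ Subgroup.centralizer ({x} : Set G), Cfsg.MemLocalIdeal M (E.coeff c))
    (χ : Cfsg.IrrCharacter G) :
    evalChar (χ : G → ℂ) (MonoidAlgebra.single g₀ 1 * E) = 0 := by
  haveI := Fintype.ofFinite G
  obtain ⟨y, rfl, hxy, hxo, hyo⟩ := hx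
  set F : MonoidAlgebra ℂ G := MonoidAlgebra.single (x * y) 1 * E
  have hF : ∀ u, F.coeff u = E.coeff ((x * y)⁻¹ * u) := fun u => by
    simp [F, coeff_single_mul']
  have ht : ∀ h : G, ∑ v : G, F.coeff (v * h * v⁻¹) = 0 := by
    intro h
    obtain ⟨z, w, hzw, hc, hzo, hwo⟩ := exists_ppart hM.1 h
    simp only [hF, ← hzw]
    exact sum_conj_shift_eq_zero hM hi hid hxy hc hxo hyo hzo hwo
      (hEinv x (Commute.mul_right (Commute.refl x) hxy))
      (hEinv y (Commute.mul_right hxy.symm (Commute.refl y))) fun _ => hfix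
  have hsum : ∑ h : G, (χ : G → ℂ) h * ∑ v : G, F.coeff (v * h * v⁻¹) =
      (Nat.card G : ℂ) * evalChar (χ : G → ℂ) F := by
    simp only [Finset.mul_sum]
    rw [Finset.sum_comm]
    rw [Finset.sum_congr rfl (g := fun _ => evalChar (χ : G → ℂ) F) fun v _ => ?_]
    · simp [Nat.card_eq_fintype_card]
    rw [evalChar_eq_sum]
    refine Fintype.sum_equiv (MulAut.conj v).toEquiv _ _ fun h => ?_
    rw [show (MulAut.conj v).toEquiv h = v * h * v⁻¹ from rfl, irr_isClassFunction χ h v, mul_comm]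
  simp only [ht, mul_zero, Finset.sum_const_zero] at hsum
  exact (mul_eq_zero.1 hsum.symm).resolve_left natCard_ne_zero

/-- Orthogonality of a set of characters with integral idempotent across `p`-sections. -/
theorem sum_block_mul_conj_eq_zero (hM : Cfsg.IsPModular p M) {A : Set (Cfsg.IrrCharacter G)}
    (hA : IntEl M (blockIdem A)) {g h x z : G} (hx : Cfsg.IsPPart p g x)
    (hz : Cfsg.IsPPart p h z) (hne : ¬ IsConj x z) :
    ∑ᶠ χ ∈ A, (χ : G → ℂ) g * conj ((χ : G → ℂ) h) = 0 := by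
  classical
  haveI := Fintype.ofFinite G
  haveI := Fintype.ofFinite (Cfsg.IrrCharacter G)
  obtain ⟨y, rfl, hxy, hxo, hyo⟩ := hx
  obtain ⟨w, rfl, hzw, hzo, hwo⟩ := hz
  have hc := central_blockIdem A
  have h0 := sum_conj_shift_eq_zero hM hA (blockIdem_mul_self A) hxy hzw hxo hyo hzo hwo
    (fun u => hc u x) (fun u => hc u y) fun e => absurd e hne
  set g := x * y
  set h := z * w
  rw [finsum_mem_def, finsum_eq_sum_of_fintype]
  rw [← h0]
  simp only [coeff_blockIdem, blockCoeff_eq_sum, Set.indicator_apply]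
  rw [← Finset.mul_sum, Finset.sum_comm, Finset.mul_sum]
  refine Finset.sum_congr rfl fun χ _ => ?_
  by_cases hχ : χ ∈ A
  swap
  · simp [hχ]
  simp only [hχ, if_true]
  have hG : (Nat.card G : ℂ) ≠ 0 := natCard_ne_zero
  have hconj : ∀ v, conj ((χ : G → ℂ) (g⁻¹ * (v * h * v⁻¹))) =
      (χ : G → ℂ) (g * (v * h⁻¹ * v⁻¹)) := fun v => by
    rw [← char_inv (irr_isCharacter χ)]
    have e : (g⁻¹ * (v * h * v⁻¹))⁻¹ =
        (v * h⁻¹ * v⁻¹) * (g * (v * h⁻¹ * v⁻¹)) * (v * h⁻¹ * v⁻¹)⁻¹ := by group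
    rw [e, irr_isClassFunction χ]
  simp only [hconj, ← Finset.mul_sum]
  rw [sum_char_mul_conj, char_inv (irr_isCharacter χ) h]
  field_simp [irr_one_ne_zero χ.2, hG]

omit [Finite G] in
theorem isPPart_one {g : G} (hp : p.Prime) (hg : ¬ p ∣ orderOf g) : Cfsg.IsPPart p g 1 :=
  ⟨g, one_mul g, Commute.one_left g, ⟨0, by simp⟩, hg⟩

theorem not_isConj_one_of_singular {g z : G} (hg : p ∣ orderOf g) (hz : Cfsg.IsPPart p g z) :
    ¬ IsConj 1 z := by
  intro h
  obtain rfl := isConj_one_right.1 h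
  obtain ⟨w, rfl, -, -, hw⟩ := hz
  exact hw (by simpa using hg)

/-- Weak block orthogonality. -/
theorem sum_block_reg_sing (hM : Cfsg.IsPModular p M) {A : Set (Cfsg.IrrCharacter G)}
    (hA : IntEl M (blockIdem A)) {x y : G} (hx : ¬ p ∣ orderOf x) (hy : p ∣ orderOf y) :
    ∑ᶠ χ ∈ A, (χ : G → ℂ) x * conj ((χ : G → ℂ) y) = 0 := by
  obtain ⟨z, hz⟩ := exists_ppart hM.1 y
  exact sum_block_mul_conj_eq_zero hM hA (isPPart_one hM.1 hx) hz
    (not_isConj_one_of_singular hy hz)

theorem blockCoeff_eq_zero_of_singular (hM : Cfsg.IsPModular p M)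
    {A : Set (Cfsg.IrrCharacter G)} (hA : IntEl M (blockIdem A)) {g : G} (hg : p ∣ orderOf g) :
    Cfsg.blockCoeff A g = 0 := by
  rw [Cfsg.blockCoeff,
    sum_block_reg_sing hM hA (x := 1) (by simp [hM.1.ne_one]) hg, mul_zero]

/-- Weak block orthogonality, summed over the `p`-regular elements: the `A`-part of a function
supported on `p`-regular elements is again supported there, and is given by the kernel. -/
theorem sum_regular_eq (hM : Cfsg.IsPModular p M) [Fintype G] {A : Set (Cfsg.IrrCharacter G)}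
    [Fintype (Cfsg.IrrCharacter G)] [DecidablePred fun χ => χ ∈ A]
    [DecidablePred fun y : G => ¬ p ∣ orderOf y]
    (hA : IntEl M (blockIdem A)) (φ : G → ℂ) {x : G} (hx : ¬ p ∣ orderOf x) :
    ∑ y ∈ Finset.univ.filter (fun y : G => ¬ p ∣ orderOf y),
        (∑ χ ∈ Finset.univ.filter (fun χ : Cfsg.IrrCharacter G => χ ∈ A),
          (χ : G → ℂ) x * conj ((χ : G → ℂ) y)) * φ y =
      (Nat.card G : ℂ) * ∑ χ ∈ Finset.univ.filter (fun χ : Cfsg.IrrCharacter G => χ ∈ A),
        classInner φ (χ : G → ℂ) * (χ : G → ℂ) x := by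
  rw [Finset.sum_filter]
  rw [Finset.sum_congr rfl (g := fun y => ∑ χ ∈ Finset.univ.filter
    (fun χ : Cfsg.IrrCharacter G => χ ∈ A), (χ : G → ℂ) x * conj ((χ : G → ℂ) y) * φ y) fun y _ => ?_]
  · rw [Finset.sum_comm, Finset.mul_sum]
    refine Finset.sum_congr rfl fun χ _ => ?_
    rw [Cfsg.classInner, ← mul_assoc, ← mul_assoc,
      mul_inv_cancel₀ natCard_ne_zero, one_mul, Finset.sum_mul]
    exact Finset.sum_congr rfl fun y _ => by ring
  · split_ifs with hy
    swap
    · rw [Finset.sum_mul]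
    · rw [← Finset.sum_mul]
      have h0 := sum_block_reg_sing hM hA hx hy
      rw [finsum_mem_def, finsum_eq_sum_of_fintype] at h0
      rw [show (∑ χ ∈ Finset.univ.filter (fun χ : Cfsg.IrrCharacter G => χ ∈ A),
          (χ : G → ℂ) x * conj ((χ : G → ℂ) y)) = 0 by
        rw [← h0, Finset.sum_filter]
        exact Finset.sum_congr rfl fun χ _ => by
          by_cases hh : χ ∈ A <;> simp [hh], zero_mul]

/-! ## Divisibility -/

/-- For `y` centralised by a `p`-group `D` of order prime to that of `y`, the average of a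
character over `y D` is an algebraic integer. -/
theorem avg_coset_isIntegral [Fintype G] {D : Subgroup G} [Fintype D] {y : G}
    (hy : y ∈ Subgroup.centralizer (D : Set G)) {χ : G → ℂ} (hχ : Cfsg.IsCharacter G χ) :
    IsIntegral ℤ ((Nat.card D : ℂ)⁻¹ * ∑ t : D, χ (y * t)) := by
  classical
  set Y := Subgroup.zpowers y
  haveI := Fintype.ofFinite Y
  have hc : ∀ (k : Y) (t : D), Commute (k : G) (t : G) := by
    intro k t
    obtain ⟨n, hn⟩ := Subgroup.mem_zpowers_iff.1 k.2
    rw [← hn]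
    exact (Commute.zpow_right (show Commute (t : G) y from hy _ t.2) n).symm
  let f : Y × D →* G :=
    { toFun := fun kt => (kt.1 : G) * kt.2
      map_one' := by simp
      map_mul' := fun a b => by
        simp only [Prod.fst_mul, Prod.snd_mul, Subgroup.coe_mul]
        rw [mul_assoc, ← mul_assoc (b.1 : G), (hc b.1 a.2).eq, mul_assoc, mul_assoc] }
  set θ : Y → ℂ := fun k => (Nat.card D : ℂ)⁻¹ * ∑ t : D, χ ((k : G) * t) with hθ
  have hcl : Cfsg.IsClassFunction Y θ := fun a b => by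
    have : b * a * b⁻¹ = a := by
      have hcomm : Commute a b := by
        obtain ⟨i, hi⟩ := Subgroup.mem_zpowers_iff.1 a.2
        obtain ⟨j, hj⟩ := Subgroup.mem_zpowers_iff.1 b.2
        exact Subtype.ext (show (a : G) * b = b * a by
          rw [← hi, ← hj]; exact (Commute.refl y).zpow_zpow i j)
      rw [← hcomm.eq, mul_inv_cancel_right]
    rw [this]
  have hchar : Cfsg.IsCharacter Y θ := by
    refine isCharacter_of_classInner_nat hcl fun ξ hξ => ?_
    obtain ⟨n, hn⟩ := classInner_char_nat (isCharacter_comp f hχ)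
      (isCharacter_comp (MonoidHom.fst Y D) (isCharacter_of_isIrr hξ))
    refine ⟨n, ?_⟩
    rw [← hn, classInner_def, classInner_def, Nat.card_prod, Nat.cast_mul, mul_inv,
      Fintype.sum_prod_type, mul_assoc]
    congr 1
    rw [Finset.mul_sum]
    refine Finset.sum_congr rfl fun k _ => ?_
    simp only [θ, Function.comp, MonoidHom.coe_fst, f, MonoidHom.coe_mk, OneHom.coe_mk]
    rw [← Finset.sum_mul, mul_assoc]
  exact char_value_isIntegral hchar ⟨y, Subgroup.mem_zpowers y⟩

/-- A local-integral combination of characters vanishing on `y t` for the non-identity elements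
`t` of `D` has value at `y` divisible by `|D|`. -/
theorem value_div_card_ring [Fintype G] [Fintype (Cfsg.IrrCharacter G)]
    (hM : Cfsg.IsPModular p M) {D : Subgroup G} [Fintype D] {y : G}
    (hy : y ∈ Subgroup.centralizer (D : Set G)) (c : Cfsg.IrrCharacter G → ℂ)
    (hc : ∀ χ, Cfsg.MemLocalRing M (c χ))
    (hvan : ∀ t ∈ D, t ≠ 1 → ∑ χ : Cfsg.IrrCharacter G, c χ * (χ : G → ℂ) (y * t) = 0) :
    Cfsg.MemLocalRing M
      ((∑ χ : Cfsg.IrrCharacter G, c χ * (χ : G → ℂ) y) / (Nat.card D : ℂ)) := by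
  classical
  have h1 : ∑ t : D, ∑ χ : Cfsg.IrrCharacter G, c χ * (χ : G → ℂ) (y * t) =
      ∑ χ : Cfsg.IrrCharacter G, c χ * (χ : G → ℂ) y := by
    rw [Finset.sum_eq_single (1 : D)]
    · simp
    · intro t _ ht
      exact hvan t t.2 fun h => ht (Subtype.ext h)
    · simp
  rw [← h1, Finset.sum_comm, Finset.sum_div]
  refine ring_sum hM fun χ _ => ?_
  rw [← Finset.mul_sum, mul_div_assoc, div_eq_inv_mul]
  exact ring_mul hM (hc χ) (ring_of_isIntegral hM (avg_coset_isIntegral hy (irr_isCharacter χ)))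

end Cfsg.Agent.Blocks
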