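import Mathlib
import Cfsg.Prelude.Def_Blocks
import Cfsg.Agent.Lib.Blocks.Orthogonality
import Cfsg.Agent.Lib.Characters.Integrality

/-!
# Defect classes and defect groups

The min-max characterisation of defect classes, the order of a defect group, and normal
`p`-subgroups.
-/

set_option linter.style.haveILetI false

namespace Cfsg.Agent.Blocks

open scoped ComplexConjugate
open Cfsg.Agent.Characters

universe u

variable {G : Type u} [Group G] {p : ℕ} {M : Ideal Cfsg.AlgInt}

theorem isDefectGroup_iff {B : Set (Cfsg.IrrCharacter G)} {D : Subgroup G} :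
    Cfsg.IsDefectGroup p M B D ↔ ∃ g, Cfsg.IsDefectClass M B g ∧ IsSylCent p g D := Iff.rfl

/-! ## Degrees -/

theorem charDegree_cast (χ : Cfsg.IrrCharacter G) :
    (Cfsg.charDegree (χ : G → ℂ) : ℂ) = (χ : G → ℂ) 1 := by
  obtain ⟨n, -, hn⟩ := irr_one_pos χ.2
  simp [Cfsg.charDegree, hn]

theorem charDegree_pos (χ : Cfsg.IrrCharacter G) : 0 < Cfsg.charDegree (χ : G → ℂ) := by
  obtain ⟨n, hn0, hn⟩ := irr_one_pos χ.2
  simpa [Cfsg.charDegree, hn] using hn0

theorem char_degree_dvd_card [Finite G] (χ : Cfsg.IrrCharacter G) :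
    Cfsg.charDegree (χ : G → ℂ) ∣ Nat.card G := by
  obtain ⟨n, hn, -, hdvd⟩ := irr_degree_dvd_card χ.2
  have h := (charDegree_cast χ).trans hn
  rwa [Nat.cast_inj.1 h]

theorem map_conj_le_iff {P D : Subgroup G} {x : G} :
    P.map (MulAut.conj x).toMonoidHom ≤ D ↔ P ≤ D.map (MulAut.conj x⁻¹).toMonoidHom := by
  constructor
  · intro h y hy
    rw [mem_map_conj_iff, inv_inv]
    exact h (Subgroup.mem_map_of_mem _ hy)
  · intro h y hy
    have := mem_map_conj_iff.1 (h (mem_map_conj_iff.1 hy))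
    simpa [mul_assoc] using this

theorem exists_map_conj_le_iff {P D : Subgroup G} :
    (∃ x, P.map (MulAut.conj x).toMonoidHom ≤ D) ↔
      ∃ x, P ≤ D.map (MulAut.conj x).toMonoidHom :=
  ⟨fun ⟨x, hx⟩ => ⟨x⁻¹, map_conj_le_iff.1 hx⟩,
    fun ⟨x, hx⟩ => ⟨x⁻¹, map_conj_le_iff.2 (by rwa [inv_inv])⟩⟩

theorem natCast_p_pow_ne_zero (hM : Cfsg.IsPModular p M) (k : ℕ) : ((p ^ k : ℕ) : ℂ) ≠ 0 :=
  Nat.cast_ne_zero.2 (pow_ne_zero _ hM.1.ne_zero)

variable [Finite G]

theorem factorization_index_add (H : Subgroup G) (p : ℕ) :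
    H.index.factorization p + (Nat.card H).factorization p = (Nat.card G).factorization p := by
  rw [← H.index_mul_card, Nat.factorization_mul H.index_ne_zero_of_finite Nat.card_pos.ne']
  simp

theorem card_sylCent_eq [Fact p.Prime] {g : G} {D : Subgroup G} (hD : IsSylCent p g D) :
    Nat.card D = p ^ (Nat.card (Subgroup.centralizer ({g} : Set G))).factorization p :=
  (isSylCent_iff.1 hD).2

/-! ## Integral central elements -/

theorem intEl_mul_coeff_ideal (hM : Cfsg.IsPModular p M) {x y : MonoidAlgebra ℂ G}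
    (hx : IntEl M x) (hy : IntEl M y) (h : IdealEl M (x - y)) (g : G) :
    Cfsg.MemLocalIdeal M (x.coeff g) ↔ Cfsg.MemLocalIdeal M (y.coeff g) :=
  ideal_iff_of_cong hM (by simpa [Cong, MonoidAlgebra.coeff_sub] using h g)

theorem exists_coeff_omega_notIdeal (hM : Cfsg.IsPModular p M) (χ : Cfsg.IrrCharacter G)
    {z : MonoidAlgebra ℂ G} (hz : IsCentralEl z) (hi : IntEl M z)
    (h : ¬ Cfsg.MemLocalIdeal M (omega (χ : G → ℂ) z)) :
    ∃ g, ¬ Cfsg.MemLocalIdeal M (z.coeff g) ∧
      ¬ Cfsg.MemLocalIdeal M (Cfsg.centralChar (χ : G → ℂ) g) := by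
  haveI := Fintype.ofFinite (ConjClasses G)
  by_contra hcon
  push Not at hcon
  apply h
  rw [central_eq_sum hz, omega_sum]
  refine ideal_sum hM fun C _ => ?_
  rw [omega_smul, omega_classSum (irr_isClassFunction χ)]
  by_cases hg : Cfsg.MemLocalIdeal M (z.coeff (Quotient.out C))
  · exact ideal_mul_right hM hg (centralChar_ring hM χ _)
  · exact ideal_mul_left hM (hi _) (hcon _ hg)

theorem meetsCent_of_classSum_coeff (hM : Cfsg.IsPModular p M) {P : Subgroup G} {g a : G}
    (ha : a ∈ Subgroup.centralizer (P : Set G))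
    (h : ¬ Cfsg.MemLocalIdeal M ((classSum g).coeff a)) : MeetsCent P g := by
  classical
  rw [coeff_classSum] at h
  by_cases hga : IsConj g a
  · exact ⟨a, hga, ha⟩
  · rw [if_neg hga] at h; exact absurd (ideal_zero hM) h

/-- If the coefficient of `x` in `classSum g * z` is a unit, `g` meets the centraliser of every
`p`-subgroup centralising `x`. -/
theorem meetsCent_of_classSum_mul (hM : Cfsg.IsPModular p M) {P : Subgroup G} (hP : IsPGroup p P)
    {g x : G} {z : MonoidAlgebra ℂ G} (hz : IsCentralEl z) (hi : IntEl M z)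
    (hx : x ∈ Subgroup.centralizer (P : Set G))
    (h : ¬ Cfsg.MemLocalIdeal M ((classSum g * z).coeff x)) : MeetsCent P g := by
  obtain ⟨⟨a, ha, hca⟩, -⟩ := exists_of_coeff_mul_notIdeal hM hP (central_classSum g) hz
    (intEl_classSum hM g) hi hx h
  exact meetsCent_of_classSum_coeff hM ha hca

/-! ## Defect classes -/

theorem not_singular_of_blockCoeff (hM : Cfsg.IsPModular p M) {B : Set (Cfsg.IrrCharacter G)}
    (hB : Cfsg.IsPBlock M B) {g : G} (h : ¬ Cfsg.MemLocalIdeal M (Cfsg.blockCoeff B g)) :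
    ¬ p ∣ orderOf g := fun hs =>
  h (by rw [blockCoeff_eq_zero_of_singular hM (intEl_blockIdem hM hB) hs]; exact ideal_zero hM)

theorem defectClass_regular (hM : Cfsg.IsPModular p M) {B : Set (Cfsg.IrrCharacter G)}
    (hB : Cfsg.IsPBlock M B) {g : G} (hg : Cfsg.IsDefectClass M B g) : ¬ p ∣ orderOf g :=
  not_singular_of_blockCoeff hM hB hg.2.1

theorem exists_defectClass (hM : Cfsg.IsPModular p M) {B : Set (Cfsg.IrrCharacter G)}
    (hB : Cfsg.IsPBlock M B) : ∃ g, Cfsg.IsDefectClass M B g := by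
  obtain ⟨χ, hχ⟩ := block_nonempty hM hB
  obtain ⟨g, hg1, hg2⟩ := exists_coeff_omega_notIdeal hM χ (central_blockIdem B)
    (intEl_blockIdem hM hB) (by rw [omega_blockIdem_mem hχ]; exact not_ideal_one hM)
  rw [coeff_blockIdem] at hg1
  refine ⟨g, blockCoeff_ring hM hB g, hg1, fun ψ hψ hi => hg2 ?_⟩
  exact (ideal_iff_of_cong hM (sameBlock_of_mem hM hB hχ hψ g)).2 hi

theorem exists_defectGroup (hM : Cfsg.IsPModular p M) {B : Set (Cfsg.IrrCharacter G)}
    (hB : Cfsg.IsPBlock M B) : ∃ D, Cfsg.IsDefectGroup p M B D := by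
  haveI := fact_prime_of_pm hM
  obtain ⟨g, hg⟩ := exists_defectClass hM hB
  obtain ⟨D, hD⟩ := exists_isSylCent p g
  exact ⟨D, g, hg, hD⟩

theorem sub_pow_eq_one_sub_mul {R : Type*} [Ring R] (a : R) (n : ℕ) :
    ∃ t : R, t ∈ Subring.closure ({a} : Set R) ∧ (1 - a) ^ n = 1 - a * t := by
  induction n with
  | zero => exact ⟨0, Subring.zero_mem _, by simp⟩
  | succ n ih =>
    obtain ⟨t, ht, he⟩ := ih
    refine ⟨1 + t - a * t, ?_, ?_⟩
    · exact Subring.sub_mem _ (Subring.add_mem _ (Subring.one_mem _) ht)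
        (Subring.mul_mem _ (Subring.subset_closure rfl) ht)
    · rw [pow_succ', he]; noncomm_ring

omit [Finite G] in
theorem defect_aux_closure [Finite G] (hM : Cfsg.IsPModular p M) {a : MonoidAlgebra ℂ G}
    (ha : IsCentralEl a) (hi : IntEl M a) {t : MonoidAlgebra ℂ G}
    (ht : t ∈ Subring.closure ({a} : Set (MonoidAlgebra ℂ G))) : IsCentralEl t ∧ IntEl M t := by
  induction ht using Subring.closure_induction with
  | mem x hx => rw [Set.mem_singleton_iff] at hx; subst hx; exact ⟨ha, hi⟩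
  | zero => exact ⟨central_zero, intEl_zero hM⟩
  | one => exact ⟨central_one, intEl_one hM⟩
  | add x y _ _ hx hy => exact ⟨central_add hx.1 hy.1, intEl_add hM hx.2 hy.2⟩
  | neg x _ hx =>
    exact ⟨fun g h => by simp [MonoidAlgebra.coeff_neg, hx.1 g h], fun g => by
      simpa [MonoidAlgebra.coeff_neg] using ring_neg hM (hx.2 g)⟩
  | mul x y _ _ hx hy => exact ⟨central_mul hx.1 hy.1, intEl_mul hM hx.2 hy.2⟩

/-- Modulo the local ideal, the block idempotent is a multiple of any class sum on which the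
block's central character is a unit. -/
theorem exists_blockIdem_factor (hM : Cfsg.IsPModular p M) {B : Set (Cfsg.IrrCharacter G)}
    (hB : Cfsg.IsPBlock M B) {χ : Cfsg.IrrCharacter G} (hχ : χ ∈ B) {g : G}
    (hg : ¬ Cfsg.MemLocalIdeal M (Cfsg.centralChar (χ : G → ℂ) g)) :
    ∃ w : MonoidAlgebra ℂ G, IsCentralEl w ∧ IntEl M w ∧
      IdealEl M (blockIdem B - classSum g * w) := by
  set c := (Cfsg.centralChar (χ : G → ℂ) g)⁻¹
  have hc : Cfsg.MemLocalRing M c := ring_inv hM (centralChar_ring hM χ g) hg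
  set K := classSum g
  set e := blockIdem B
  have he := central_blockIdem B
  have hei := intEl_blockIdem hM hB
  have hcK : IsCentralEl (c • K) := central_smul _ (central_classSum g)
  have hcKi : IntEl M (c • K) := intEl_smul hM hc (intEl_classSum hM g)
  have hz : IsCentralEl (1 - c • K) := central_sub central_one hcK
  have hzi : IntEl M (1 - c • K) := intEl_sub hM (intEl_one hM) hcKi
  obtain ⟨n, hn⟩ := exists_pow_mul_blockIdem hM hB hχ hz hzi (by
    rw [omega_sub, omega_smul, omega_one (irr_one_ne_zero χ.2),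
      omega_classSum (irr_isClassFunction χ)]
    simp [c, ne_zero_of_not_ideal hM hg, ideal_zero hM])
  obtain ⟨t, ht, hte⟩ := sub_pow_eq_one_sub_mul (c • K) (n + 1)
  obtain ⟨htc, hti⟩ := defect_aux_closure hM hcK hcKi ht
  have hpow : (e * (1 - c • K)) ^ (n + 1) = e * (1 - c • K) ^ (n + 1) := by
    rw [(central_commute he _).mul_pow]
    congr 1
    clear hn hte
    induction n with
    | zero => rw [zero_add, pow_one]
    | succ k ih => rw [pow_succ, ih, blockIdem_mul_self]
  refine ⟨c • (e * t), central_smul _ (central_mul he htc), intEl_smul hM hc (intEl_mul hM hei hti),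
    ?_⟩
  have := hn (n + 1) (by omega)
  rw [hpow, hte, mul_sub, mul_one] at this
  rwa [smul_mul_assoc, mul_smul_comm, ← mul_assoc, (central_commute he K).eq, mul_assoc,
    ← mul_smul_comm] at this

/-- An element on which the central character is a unit and whose centraliser has least
`p`-part among such elements. -/
def IsMinimalOmega (p : ℕ) (M : Ideal Cfsg.AlgInt) (χ : Cfsg.IrrCharacter G) (g : G) : Prop :=
  ¬ Cfsg.MemLocalIdeal M (Cfsg.centralChar (χ : G → ℂ) g) ∧
    ∀ h, ¬ Cfsg.MemLocalIdeal M (Cfsg.centralChar (χ : G → ℂ) h) →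
      (Nat.card (Subgroup.centralizer ({g} : Set G))).factorization p ≤
        (Nat.card (Subgroup.centralizer ({h} : Set G))).factorization p

theorem meets_of_minimal (hM : Cfsg.IsPModular p M) {χ : Cfsg.IrrCharacter G} {g : G}
    {D : Subgroup G} (hg : IsMinimalOmega p M χ g) (hD : IsSylCent p g D) {h : G}
    (hh : ¬ Cfsg.MemLocalIdeal M (Cfsg.centralChar (χ : G → ℂ) h)) : MeetsCent D h := by
  haveI := fact_prime_of_pm hM
  have hcl := irr_isClassFunction χ
  have hprod : ¬ Cfsg.MemLocalIdeal M (omega (χ : G → ℂ) (classSum g * classSum h)) := by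
    rw [omega_mul χ (central_classSum g), omega_classSum hcl, omega_classSum hcl,
      ideal_mul_iff hM (centralChar_ring hM χ g) (centralChar_ring hM χ h)]
    exact fun e => e.elim hg.1 hh
  obtain ⟨x, hx1, hx2⟩ := exists_coeff_omega_notIdeal hM χ
    (central_mul (central_classSum g) (central_classSum h))
    (intEl_mul hM (intEl_classSum hM g) (intEl_classSum hM h)) hprod
  obtain ⟨Q, hQ⟩ := exists_isSylCent p x
  have hQp := isSylCent_isPGroup hQ
  obtain ⟨⟨a, ha, hca⟩, b, hb, hcb⟩ := exists_of_coeff_mul_notIdeal hM hQp (central_classSum g)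
    (central_classSum h) (intEl_classSum hM g) (intEl_classSum hM h) (isSylCent_mem hQ) hx1
  obtain ⟨y, hy⟩ := exists_conj_le_of_meets hQp hD (meetsCent_of_classSum_coeff hM ha hca)
  have hcard : Nat.card (D.map (MulAut.conj y).toMonoidHom) ≤ Nat.card Q := by
    rw [card_map_conj, card_sylCent_eq hD, card_sylCent_eq hQ]
    exact Nat.pow_le_pow_right hM.1.pos (hg.2 x hx2)
  have heq := eq_of_le_of_card_le hy hcard
  have hmeets := meetsCent_conj y⁻¹ (meetsCent_of_classSum_coeff hM hb hcb)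
  rwa [heq, map_conj_map_conj, inv_mul_cancel, map_conj_one] at hmeets

theorem meets_of_minimal_coeff (hM : Cfsg.IsPModular p M) {B : Set (Cfsg.IrrCharacter G)}
    (hB : Cfsg.IsPBlock M B) {χ : Cfsg.IrrCharacter G} (hχ : χ ∈ B) {g : G}
    (hg : IsMinimalOmega p M χ g) {h : G}
    (hh : ¬ Cfsg.MemLocalIdeal M (Cfsg.blockCoeff B h)) {Q : Subgroup G} (hQ : IsPGroup p Q)
    (hhQ : h ∈ Subgroup.centralizer (Q : Set G)) : MeetsCent Q g := by
  obtain ⟨w, hw, hwi, hcong⟩ := exists_blockIdem_factor hM hB hχ hg.1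
  refine meetsCent_of_classSum_mul hM hQ hw hwi hhQ fun hi => hh ?_
  rw [← coeff_blockIdem]
  exact (intEl_mul_coeff_ideal hM (intEl_blockIdem hM hB)
    (intEl_mul hM (intEl_classSum hM g) hwi) hcong h).2 hi

theorem exists_minimal_omega (hM : Cfsg.IsPModular p M) (χ : Cfsg.IrrCharacter G) :
    ∃ g, IsMinimalOmega p M χ g := by
  classical
  haveI := Fintype.ofFinite G
  obtain ⟨g, hg, hmin⟩ := Finset.exists_min_image
    (Finset.univ.filter fun g : G => ¬ Cfsg.MemLocalIdeal M (Cfsg.centralChar (χ : G → ℂ) g))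
    (fun g => (Nat.card (Subgroup.centralizer ({g} : Set G))).factorization p)
    ⟨1, by
      simp only [Finset.mem_filter, Finset.mem_univ, true_and]
      have : Cfsg.centralChar (χ : G → ℂ) 1 = 1 := by
        rw [Cfsg.centralChar, show Subgroup.centralizer ({1} : Set G) = ⊤ by
          ext x; simp [Subgroup.mem_centralizer_iff], Subgroup.index_top, Nat.cast_one, one_mul,
          div_self (irr_one_ne_zero χ.2)]
      rw [this]; exact not_ideal_one hM⟩
  simp only [Finset.mem_filter, Finset.mem_univ, true_and] at hg hmin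
  exact ⟨g, hg, hmin⟩

/-- A defect class is minimal among the elements where the central character is a unit. -/
theorem defectClass_minimal (hM : Cfsg.IsPModular p M) {B : Set (Cfsg.IrrCharacter G)}
    (hB : Cfsg.IsPBlock M B) {g : G} (hg : Cfsg.IsDefectClass M B g) {χ : Cfsg.IrrCharacter G}
    (hχ : χ ∈ B) : IsMinimalOmega p M χ g := by
  haveI := fact_prime_of_pm hM
  obtain ⟨g0, hg0⟩ := exists_minimal_omega hM χ
  obtain ⟨D0, hD0⟩ := exists_isSylCent p g0
  obtain ⟨D, hD⟩ := exists_isSylCent p g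
  refine ⟨hg.2.2 χ hχ, fun h hh => le_trans ?_ (hg0.2 h hh)⟩
  obtain ⟨x, hx⟩ := exists_conj_le_of_meets (isSylCent_isPGroup hD) hD0
    (meets_of_minimal_coeff hM hB hχ hg0 hg.2.1 (isSylCent_isPGroup hD) (isSylCent_mem hD))
  have := Subgroup.card_le_of_le hx
  rw [card_map_conj, card_sylCent_eq hD, card_sylCent_eq hD0] at this
  exact (Nat.pow_le_pow_iff_right hM.1.one_lt).1 this

/-- Min-max, first half: where the central character is a unit, the class meets the centraliser
of the defect group. -/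
theorem meets_defect_of_omega (hM : Cfsg.IsPModular p M) {B : Set (Cfsg.IrrCharacter G)}
    (hB : Cfsg.IsPBlock M B) {D : Subgroup G} (hD : Cfsg.IsDefectGroup p M B D)
    {χ : Cfsg.IrrCharacter G} (hχ : χ ∈ B) {h : G}
    (hh : ¬ Cfsg.MemLocalIdeal M (Cfsg.centralChar (χ : G → ℂ) h)) : MeetsCent D h := by
  obtain ⟨g, hg, hD⟩ := isDefectGroup_iff.1 hD
  exact meets_of_minimal hM (defectClass_minimal hM hB hg hχ) hD hh

/-- Min-max, second half: a `p`-subgroup centralising an element of the support of the block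
idempotent is contained in a defect group. -/
theorem le_defect_of_coeff (hM : Cfsg.IsPModular p M) {B : Set (Cfsg.IrrCharacter G)}
    (hB : Cfsg.IsPBlock M B) {D : Subgroup G} (hD : Cfsg.IsDefectGroup p M B D) {h : G}
    (hh : ¬ Cfsg.MemLocalIdeal M (Cfsg.blockCoeff B h)) {Q : Subgroup G} (hQ : IsPGroup p Q)
    (hhQ : h ∈ Subgroup.centralizer (Q : Set G)) :
    ∃ x, Q ≤ D.map (MulAut.conj x).toMonoidHom := by
  haveI := fact_prime_of_pm hM
  obtain ⟨g, hg, hD⟩ := isDefectGroup_iff.1 hD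
  obtain ⟨χ, hχ⟩ := block_nonempty hM hB
  exact exists_conj_le_of_meets hQ hD
    (meets_of_minimal_coeff hM hB hχ (defectClass_minimal hM hB hg hχ) hh hQ hhQ)

theorem isPGroup_defect {B : Set (Cfsg.IrrCharacter G)} {D : Subgroup G}
    (hD : Cfsg.IsDefectGroup p M B D) : IsPGroup p D := by
  obtain ⟨g, -, hD⟩ := isDefectGroup_iff.1 hD
  exact isSylCent_isPGroup hD

theorem defectClass_conj {B : Set (Cfsg.IrrCharacter G)} {g : G}
    (hg : Cfsg.IsDefectClass M B g) (x : G) : Cfsg.IsDefectClass M B (x * g * x⁻¹) := by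
  have h1 : Cfsg.blockCoeff B (x * g * x⁻¹) = Cfsg.blockCoeff B g := by
    simpa using central_blockIdem B g x
  have h2 : ∀ χ : Cfsg.IrrCharacter G, Cfsg.centralChar (χ : G → ℂ) (x * g * x⁻¹) =
      Cfsg.centralChar (χ : G → ℂ) g := fun χ => by
    rw [← omega_classSum (irr_isClassFunction χ), ← omega_classSum (irr_isClassFunction χ)]
    congr 1
    classical
    refine el_ext fun y => ?_
    simp only [coeff_classSum]
    have hc : IsConj g (x * g * x⁻¹) := isConj_iff.2 ⟨x, rfl⟩
    exact if_congr ⟨fun e => hc.trans e, fun e => hc.symm.trans e⟩ rfl rfl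
  obtain ⟨a, b, c⟩ := hg
  exact ⟨h1 ▸ a, h1 ▸ b, fun χ hχ => h2 χ ▸ c χ hχ⟩

theorem defectGroup_conj (hM : Cfsg.IsPModular p M) {B : Set (Cfsg.IrrCharacter G)}
    {D : Subgroup G} (hD : Cfsg.IsDefectGroup p M B D) (x : G) :
    Cfsg.IsDefectGroup p M B (D.map (MulAut.conj x).toMonoidHom) := by
  haveI := fact_prime_of_pm hM
  obtain ⟨g, hg, hD⟩ := isDefectGroup_iff.1 hD
  exact isDefectGroup_iff.2 ⟨_, defectClass_conj hg x, isSylCent_conj hD x⟩

/-- Defect groups of one block are conjugate. -/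
theorem exists_defectGroup_conj_eq (hM : Cfsg.IsPModular p M) {B : Set (Cfsg.IrrCharacter G)}
    (hB : Cfsg.IsPBlock M B) {D D' : Subgroup G} (hD : Cfsg.IsDefectGroup p M B D)
    (hD' : Cfsg.IsDefectGroup p M B D') : ∃ x, D' = D.map (MulAut.conj x).toMonoidHom := by
  obtain ⟨g, hg, hs⟩ := isDefectGroup_iff.1 hD
  obtain ⟨g', hg', hs'⟩ := isDefectGroup_iff.1 hD'
  obtain ⟨x, hx⟩ := le_defect_of_coeff hM hB hD hg'.2.1 (isSylCent_isPGroup hs') (isSylCent_mem hs')
  obtain ⟨y, hy⟩ := le_defect_of_coeff hM hB hD' hg.2.1 (isSylCent_isPGroup hs) (isSylCent_mem hs)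
  refine ⟨x, eq_of_le_of_card_le hx ?_⟩
  have := Subgroup.card_le_of_le hy
  rw [card_map_conj] at this ⊢
  exact this

theorem meetsCent_defect_iff (hM : Cfsg.IsPModular p M) {B : Set (Cfsg.IrrCharacter G)}
    (hB : Cfsg.IsPBlock M B) {D : Subgroup G} (hD : Cfsg.IsDefectGroup p M B D) {P : Subgroup G}
    (hP : IsPGroup p P) :
    (∃ g, ¬ Cfsg.MemLocalIdeal M (Cfsg.blockCoeff B g) ∧ g ∈ Subgroup.centralizer (P : Set G)) ↔
      ∃ x, P ≤ D.map (MulAut.conj x).toMonoidHom := by
  constructor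
  · rintro ⟨g, hg, hgP⟩
    exact le_defect_of_coeff hM hB hD hg hP hgP
  · rintro ⟨x, hx⟩
    obtain ⟨g, hg, hs⟩ := isDefectGroup_iff.1 hD
    obtain ⟨c, hc, hcP⟩ := meetsCent_of_le_conj hs hx
    refine ⟨c, ?_, hcP⟩
    have := central_isConj (central_blockIdem B) hc
    rw [coeff_blockIdem, coeff_blockIdem] at this
    rw [← this]; exact hg.2.1

/-! ## The order of a defect group -/

theorem le_factorization_degree (hM : Cfsg.IsPModular p M) (χ : Cfsg.IrrCharacter G) {g : G}
    (hg : ¬ Cfsg.MemLocalIdeal M (Cfsg.centralChar (χ : G → ℂ) g)) :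
    (Subgroup.centralizer ({g} : Set G)).index.factorization p ≤
      (Cfsg.charDegree (χ : G → ℂ)).factorization p := by
  by_contra hlt
  apply hg
  rw [Cfsg.centralChar, mul_div_right_comm, ← charDegree_cast χ]
  exact ideal_mul_right hM (ideal_natCast_div hM (charDegree_pos χ).ne' (by omega))
    (irr_value_ring hM χ g)

theorem exists_degree_factorization_le (hM : Cfsg.IsPModular p M)
    {B : Set (Cfsg.IrrCharacter G)} (hB : Cfsg.IsPBlock M B) {g : G}
    (hg : Cfsg.IsDefectClass M B g) :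
    ∃ χ ∈ B, (Cfsg.charDegree (χ : G → ℂ)).factorization p ≤
      (Subgroup.centralizer ({g} : Set G)).index.factorization p := by
  classical
  haveI := fact_prime_of_pm hM
  haveI := Fintype.ofFinite G
  haveI := Fintype.ofFinite (Cfsg.IrrCharacter G)
  set a := (Nat.card G).factorization p with ha
  set d := (Nat.card (Subgroup.centralizer ({g} : Set G))).factorization p with hd
  set b := (Subgroup.centralizer ({g} : Set G)).index.factorization p + 1 with hb
  have hbd : b + d = a + 1 := by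
    have := factorization_index_add (Subgroup.centralizer ({g} : Set G)) p
    omega
  by_contra hcon
  push Not at hcon
  obtain ⟨D, hD⟩ := exists_isSylCent p g
  haveI := Fintype.ofFinite D
  have hp0 : ((p ^ b : ℕ) : ℂ) ≠ 0 := natCast_p_pow_ne_zero hM b
  set c : Cfsg.IrrCharacter G → ℂ := fun χ => if χ ∈ B then (χ : G → ℂ) 1 / (p ^ b : ℕ) else 0
  have hc : ∀ χ, Cfsg.MemLocalRing M (c χ) := fun χ => by
    simp only [c]
    split_ifs with hχ
    · rw [← charDegree_cast χ]
      refine ring_natCast_div hM (pow_ne_zero _ hM.1.ne_zero) ?_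
      rw [hM.1.factorization_pow, Finsupp.single_eq_same]
      exact hcon χ hχ
    · exact ring_zero hM
  have hsum : ∀ z : G, ∑ χ : Cfsg.IrrCharacter G, c χ * (χ : G → ℂ) z =
      (Nat.card G : ℂ) / (p ^ b : ℕ) * Cfsg.blockCoeff B z⁻¹ := by
    intro z
    have hG : (Nat.card G : ℂ) ≠ 0 := natCard_ne_zero
    rw [blockCoeff_eq_sum, ← mul_assoc, div_mul_eq_mul_div, mul_inv_cancel₀ hG, one_div,
      Finset.mul_sum]
    refine Finset.sum_congr rfl fun χ _ => ?_
    simp only [c]
    split_ifs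
    · rw [← char_inv (irr_isCharacter χ), inv_inv, inv_mul_eq_div, div_mul_eq_mul_div]
    · simp
  have hreg := defectClass_regular hM hB hg
  have hgD : g⁻¹ ∈ Subgroup.centralizer (D : Set G) := inv_mem (isSylCent_mem hD)
  have key := value_div_card_ring hM hgD c hc (fun t ht ht1 => by
    rw [hsum, blockCoeff_eq_zero_of_singular hM (intEl_blockIdem hM hB), mul_zero]
    rw [orderOf_inv]
    have hcomm : Commute g⁻¹ t := (show t * g⁻¹ = g⁻¹ * t from hgD t ht).symm
    obtain ⟨k, hk⟩ := IsPGroup.iff_orderOf.1 (isSylCent_isPGroup hD) ⟨t, ht⟩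
    rw [Subgroup.orderOf_mk] at hk
    have hk0 : k ≠ 0 := fun e => ht1 (orderOf_eq_one_iff.1 (by rw [hk, e, pow_zero]))
    rw [hcomm.orderOf_mul_eq_mul_orderOf_of_coprime (by
      rw [orderOf_inv, hk]
      exact ((hM.1.coprime_iff_not_dvd.2 hreg).symm.pow_right k)), hk]
    exact Dvd.dvd.mul_left (dvd_pow_self p hk0) _)
  rw [hsum, inv_inv, card_sylCent_eq hD] at key
  have hq : Cfsg.MemLocalIdeal M (((p ^ b * p ^ d : ℕ) : ℂ) / (Nat.card G : ℂ)) := by
    refine ideal_natCast_div hM Nat.card_pos.ne' ?_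
    rw [← pow_add, hbd, hM.1.factorization_pow, Finsupp.single_eq_same]
    omega
  have h2 := ideal_mul_left hM key hq
  refine hg.2.1 ?_
  have hpd : ((p ^ d : ℕ) : ℂ) ≠ 0 := natCast_p_pow_ne_zero hM d
  convert h2 using 1
  rw [← hd, Nat.cast_mul]
  field_simp [natCard_ne_zero (G := G), hp0, hpd]

/-- The least `p`-exponent of the degrees in a block. -/
theorem sInf_degree_eq (hM : Cfsg.IsPModular p M) {B : Set (Cfsg.IrrCharacter G)}
    (hB : Cfsg.IsPBlock M B) {g : G} (hg : Cfsg.IsDefectClass M B g) :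
    sInf ((fun χ : Cfsg.IrrCharacter G => (Cfsg.charDegree (χ : G → ℂ)).factorization p) '' B) =
      (Subgroup.centralizer ({g} : Set G)).index.factorization p := by
  obtain ⟨χ, hχ, hle⟩ := exists_degree_factorization_le hM hB hg
  refine le_antisymm ((Nat.sInf_le (Set.mem_image_of_mem _ hχ)).trans hle) ?_
  refine le_csInf ⟨_, Set.mem_image_of_mem _ hχ⟩ ?_
  rintro _ ⟨ψ, hψ, rfl⟩
  exact le_factorization_degree hM ψ (hg.2.2 ψ hψ)

theorem blockDefect_eq (hM : Cfsg.IsPModular p M) {B : Set (Cfsg.IrrCharacter G)}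
    (hB : Cfsg.IsPBlock M B) {g : G} (hg : Cfsg.IsDefectClass M B g) :
    Cfsg.blockDefect p B = (Nat.card (Subgroup.centralizer ({g} : Set G))).factorization p := by
  rw [Cfsg.blockDefect, sInf_degree_eq hM hB hg,
    ← factorization_index_add (Subgroup.centralizer ({g} : Set G)) p, Nat.add_sub_cancel_left]

theorem card_defectGroup (hM : Cfsg.IsPModular p M) {B : Set (Cfsg.IrrCharacter G)}
    (hB : Cfsg.IsPBlock M B) {D : Subgroup G} (hD : Cfsg.IsDefectGroup p M B D) :
    Nat.card D = p ^ Cfsg.blockDefect p B := by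
  haveI := fact_prime_of_pm hM
  obtain ⟨g, hg, hs⟩ := isDefectGroup_iff.1 hD
  rw [card_sylCent_eq hs, blockDefect_eq hM hB hg]

theorem blockDefect_le (p : ℕ) (B : Set (Cfsg.IrrCharacter G)) :
    Cfsg.blockDefect p B ≤ (Nat.card G).factorization p := Nat.sub_le _ _

/-- `ν_p(χ(1)) = a - d + height`. -/
theorem degree_factorization_eq (hM : Cfsg.IsPModular p M) {B : Set (Cfsg.IrrCharacter G)}
    (hB : Cfsg.IsPBlock M B) {χ : Cfsg.IrrCharacter G} (hχ : χ ∈ B) :
    (Cfsg.charDegree (χ : G → ℂ)).factorization p + Cfsg.blockDefect p B =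
      (Nat.card G).factorization p + Cfsg.blockHeight p B (χ : G → ℂ) := by
  obtain ⟨g, hg⟩ := exists_defectClass hM hB
  have h1 := le_factorization_degree hM χ (hg.2.2 χ hχ)
  have h2 := factorization_index_add (Subgroup.centralizer ({g} : Set G)) p
  rw [blockDefect_eq hM hB hg, Cfsg.blockHeight, sInf_degree_eq hM hB hg]
  omega

theorem exists_height_zero (hM : Cfsg.IsPModular p M) {B : Set (Cfsg.IrrCharacter G)}
    (hB : Cfsg.IsPBlock M B) : ∃ χ ∈ B, Cfsg.blockHeight p B (χ : G → ℂ) = 0 := by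
  obtain ⟨g, hg⟩ := exists_defectClass hM hB
  obtain ⟨χ, hχ, hle⟩ := exists_degree_factorization_le hM hB hg
  exact ⟨χ, hχ, by rw [Cfsg.blockHeight, sInf_degree_eq hM hB hg]; omega⟩

/-! ## Normal `p`-subgroups -/

theorem centralChar_ideal_of_avoid (hM : Cfsg.IsPModular p M) {Q : Subgroup G} [Q.Normal]
    (hQ : IsPGroup p Q) {g : G} (hg : ∀ x, IsConj g x → x ∉ Subgroup.centralizer (Q : Set G))
    (χ : Cfsg.IrrCharacter G) : Cfsg.MemLocalIdeal M (Cfsg.centralChar (χ : G → ℂ) g) := by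
  haveI := fact_prime_of_pm hM
  obtain ⟨n, hn0, hn⟩ := exists_pow_classSumInt_dvd hQ hg
  have hid : IdealEl M (classSum g ^ n) := fun x => by
    rw [← classSum_eq_map, ← map_pow, MonoidAlgebra.coeff_mapRingHom]
    exact (ideal_intCast_iff hM _).2 (hn x)
  have := omega_ideal hM χ (central_pow (central_classSum g) n) hid
  rw [omega_pow χ (central_classSum g), omega_classSum (irr_isClassFunction χ)] at this
  exact ideal_of_pow hM (centralChar_ring hM χ g) this

theorem omega_ideal_of_avoid (hM : Cfsg.IsPModular p M) {Q : Subgroup G} [Q.Normal]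
    (hQ : IsPGroup p Q) {z : MonoidAlgebra ℂ G} (hz : IsCentralEl z) (hi : IntEl M z)
    (h : ∀ c ∈ Subgroup.centralizer (Q : Set G), Cfsg.MemLocalIdeal M (z.coeff c))
    (χ : Cfsg.IrrCharacter G) : Cfsg.MemLocalIdeal M (omega (χ : G → ℂ) z) := by
  by_contra hne
  obtain ⟨g, hg1, hg2⟩ := exists_coeff_omega_notIdeal hM χ hz hi hne
  refine hg2 (centralChar_ideal_of_avoid hM hQ (fun x hx hxc => hg1 ?_) χ)
  rw [central_isConj hz hx]
  exact h x hxc

theorem normal_le_defect (hM : Cfsg.IsPModular p M) {Q : Subgroup G} [hQn : Q.Normal]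
    (hQ : IsPGroup p Q) {B : Set (Cfsg.IrrCharacter G)} (hB : Cfsg.IsPBlock M B)
    {D : Subgroup G} (hD : Cfsg.IsDefectGroup p M B D) : Q ≤ D := by
  haveI := fact_prime_of_pm hM
  obtain ⟨g, hg, hs⟩ := isDefectGroup_iff.1 hD
  obtain ⟨χ, hχ⟩ := block_nonempty hM hB
  have hmeets : MeetsCent Q g := by
    by_contra hne
    exact hg.2.2 χ hχ (centralChar_ideal_of_avoid hM hQ
      (fun x hx hxc => hne ⟨x, hx, hxc⟩) χ)
  obtain ⟨x, hx⟩ := exists_conj_le_of_meets hQ hs hmeets
  intro q hq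
  have h1 : x * q * x⁻¹ ∈ Q := hQn.conj_mem q hq x
  have h2 := mem_map_conj_iff.1 (hx h1)
  rwa [show x⁻¹ * (x * q * x⁻¹) * x = q by group] at h2

/-! ## Values -/

/-- The value at `x y` is congruent to the value at `y` for a commuting `p`-element `x`. -/
theorem char_cong_of_commute (hM : Cfsg.IsPModular p M) (χ : Cfsg.IrrCharacter G) {x y : G}
    (hc : Commute x y) {k : ℕ} (hxk : x ^ p ^ k = 1) (hy : ¬ p ∣ orderOf y) :
    Cong M ((χ : G → ℂ) (x * y)) ((χ : G → ℂ) y) := by
  obtain ⟨χ, n, ρ, hρ, rfl⟩ := χ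
  obtain ⟨e, he0, he1⟩ := Nat.chineseRemainder
    (Nat.Coprime.pow_left k (hM.1.coprime_iff_not_dvd.2 hy)) 0 1
  have hm : orderOf y ≠ 0 := (orderOf_pos y).ne'
  -- a positive exponent `f` with `(x y)^f = y`
  set f := e + p ^ k * orderOf y with hf
  have hf0 : f ≡ 0 [MOD p ^ k] := by
    have h : p ^ k * orderOf y ≡ 0 [MOD p ^ k] := Nat.modEq_zero_iff_dvd.2 (dvd_mul_right _ _)
    simpa [hf] using he0.add h
  have hf1 : f ≡ 1 [MOD orderOf y] := by
    have h : p ^ k * orderOf y ≡ 0 [MOD orderOf y] := Nat.modEq_zero_iff_dvd.2 (dvd_mul_left _ _)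
    simpa [hf] using he1.add h
  have hfpos : 0 < f := Nat.add_pos_right _ (Nat.mul_pos (pow_pos hM.1.pos k) (orderOf_pos y))
  have hg : (x * y) ^ f = y := by
    rw [hc.mul_pow, orderOf_dvd_iff_pow_eq_one.1
      ((orderOf_dvd_of_pow_eq_one hxk).trans (Nat.modEq_zero_iff_dvd.1 hf0)), one_mul]
    exact (pow_eq_pow_iff_modEq.2 hf1).trans (pow_one y)
  obtain ⟨w, hw, hsum⟩ := exists_rootsOfUnity_sum ρ (x * y)
  have h1 := hsum 1
  have h2 := hsum f
  rw [pow_one] at h1
  simp only [pow_one] at h1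
  rw [hg] at h2
  show Cong M (ρ.character (x * y)) (ρ.character y)
  rw [h1, h2]
  refine cong_sum hM fun i _ => ?_
  have hwr : Cfsg.MemLocalRing M (w i) := ring_of_pow_eq_one hM (orderOf_pos (x * y)).ne' (hw i)
  have hω : (w i ^ (f - 1)) ^ p ^ k = 1 := by
    rw [← pow_mul]
    obtain ⟨j, hj⟩ : orderOf (x * y) ∣ (f - 1) * p ^ k := by
      refine (hc.orderOf_mul_dvd_mul_orderOf).trans ?_
      rw [mul_comm (orderOf x)]
      exact Nat.mul_dvd_mul ((Nat.modEq_iff_dvd' hfpos).1 hf1.symm) (orderOf_dvd_of_pow_eq_one hxk)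
    rw [hj, pow_mul, hw i, one_pow]
  have h3 := cong_mul_left hM hwr (cong_symm hM (cong_one_of_pow_prime_pow hM hω))
  rwa [mul_one, ← pow_succ', Nat.sub_add_cancel hfpos] at h3

/-- If the `p`-part of the class size is smaller than that of the degree, the value vanishes
modulo the local ideal. -/
theorem ideal_value_of_index_lt (hM : Cfsg.IsPModular p M) (χ : Cfsg.IrrCharacter G) (g : G)
    (h : (Subgroup.centralizer ({g} : Set G)).index.factorization p <
      (Cfsg.charDegree (χ : G → ℂ)).factorization p) :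
    Cfsg.MemLocalIdeal M ((χ : G → ℂ) g) := by
  have h2 := ideal_mul_right hM (ideal_natCast_div hM
    (Subgroup.centralizer ({g} : Set G)).index_ne_zero_of_finite h) (centralChar_ring hM χ g)
  rw [charDegree_cast χ, Cfsg.centralChar] at h2
  convert h2 using 1
  field_simp [irr_one_ne_zero χ.2,
    (Nat.cast_ne_zero.2 (Subgroup.centralizer ({g} : Set G)).index_ne_zero_of_finite :
      ((Subgroup.centralizer ({g} : Set G)).index : ℂ) ≠ 0)]

end Cfsg.Agent.Blocks
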