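import Mathlib
import Cfsg.Prelude.Def_Blocks
import Cfsg.Agent.Lib.Blocks.Defect

/-!
# The Brauer map modulo the local ideal

`cutEl P` keeps the coefficients on the centraliser of `P`; `restrEl H` restricts coefficients
to a subgroup.  Also: idempotents modulo the local ideal, and the support of block idempotents
in the presence of a normal `p`-subgroup.
-/

set_option linter.style.haveILetI false
set_option linter.unusedSectionVars false

namespace Cfsg.Agent.Blocks

open scoped ComplexConjugate
open Cfsg.Agent.Characters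

universe u

variable {G : Type u} [Group G] [Finite G] {p : ℕ} {M : Ideal Cfsg.AlgInt}

/-- Congruence of group algebra elements modulo the local ideal. -/
def CongEl (M : Ideal Cfsg.AlgInt) (x y : MonoidAlgebra ℂ G) : Prop := IdealEl M (x - y)

omit [Finite G] in
theorem congEl_iff {x y : MonoidAlgebra ℂ G} :
    CongEl M x y ↔ ∀ g, Cong M (x.coeff g) (y.coeff g) := by
  simp [CongEl, IdealEl, Cong, MonoidAlgebra.coeff_sub]

omit [Finite G] in
theorem congEl_refl (hM : Cfsg.IsPModular p M) (x : MonoidAlgebra ℂ G) : CongEl M x x := by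
  simpa [CongEl] using idealEl_zero (G := G) hM

omit [Finite G] in
theorem congEl_of_eq (hM : Cfsg.IsPModular p M) {x y : MonoidAlgebra ℂ G} (h : x = y) :
    CongEl M x y := h ▸ congEl_refl hM x

omit [Finite G] in
theorem congEl_symm (hM : Cfsg.IsPModular p M) {x y : MonoidAlgebra ℂ G} (h : CongEl M x y) :
    CongEl M y x :=
  congEl_iff.2 fun g => cong_symm hM (congEl_iff.1 h g)

omit [Finite G] in
theorem congEl_trans (hM : Cfsg.IsPModular p M) {x y z : MonoidAlgebra ℂ G} (h : CongEl M x y)
    (h' : CongEl M y z) : CongEl M x z :=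
  congEl_iff.2 fun g => cong_trans hM (congEl_iff.1 h g) (congEl_iff.1 h' g)

omit [Finite G] in
theorem intEl_of_congEl (hM : Cfsg.IsPModular p M) {x y : MonoidAlgebra ℂ G} (h : CongEl M x y)
    (hy : IntEl M y) : IntEl M x :=
  fun g => ring_of_cong hM (congEl_iff.1 h g) (hy g)

theorem congEl_mul (hM : Cfsg.IsPModular p M) {x y x' y' : MonoidAlgebra ℂ G} (hx : CongEl M x x')
    (hy : CongEl M y y') (rx : IntEl M x') (ry : IntEl M y') : CongEl M (x * y) (x' * y') := by
  unfold CongEl
  rw [show x * y - x' * y' = (x - x') * y + x' * (y - y') by noncomm_ring]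
  exact idealEl_add hM (idealEl_mul_right hM hx (intEl_of_congEl hM hy ry))
    (idealEl_mul_left hM rx hy)

theorem omega_cong (hM : Cfsg.IsPModular p M) (χ : Cfsg.IrrCharacter G)
    {x y : MonoidAlgebra ℂ G} (hx : IsCentralEl x) (hy : IsCentralEl y) (h : CongEl M x y) :
    Cong M (omega (χ : G → ℂ) x) (omega (χ : G → ℂ) y) := by
  unfold Cong
  rw [← omega_sub]
  exact omega_ideal hM χ (central_sub hx hy) h

/-- An element that is idempotent and nilpotent modulo the local ideal lies in the ideal. -/
theorem idealEl_of_idem_nilp (hM : Cfsg.IsPModular p M) {u : MonoidAlgebra ℂ G} (hu : IntEl M u)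
    (hid : CongEl M (u * u) u) {n : ℕ} (hn : IdealEl M (u ^ n)) : IdealEl M u := by
  have key : ∀ k, CongEl M (u ^ (k + 1)) u := by
    intro k
    induction k with
    | zero => simpa using congEl_refl hM u
    | succ k ih =>
      rw [pow_succ]
      exact congEl_trans hM (congEl_mul hM ih (congEl_refl hM u) hu hu) hid
  have h1 : IdealEl M (u ^ (n + 1)) := by rw [pow_succ]; exact idealEl_mul_right hM hn hu
  intro g
  exact (ideal_iff_of_cong hM (congEl_iff.1 (key n) g)).1 (h1 g)

/-- Commuting elements, idempotent modulo the local ideal, with nilpotent difference are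
congruent. -/
theorem congEl_of_idem_of_nilp (hM : Cfsg.IsPModular p M) {e c : MonoidAlgebra ℂ G}
    (hec : Commute e c) (he : IntEl M e) (hc : IntEl M c) (he2 : CongEl M (e * e) e)
    (hc2 : CongEl M (c * c) c) {n : ℕ} (hn : IdealEl M ((e - c) ^ n)) : CongEl M e c := by
  have key : ∀ a b : MonoidAlgebra ℂ G, IntEl M a → IntEl M b → CongEl M (a * a) a →
      CongEl M (b * b) b → Commute a b → IdealEl M ((a - b) ^ n) → CongEl M (a * b) a := by
    intro a b ha hb ha2 hb2 hab hnn
    have h1 : CongEl M ((a * (a - b)) * (a * (a - b))) (a * (a - b)) := by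
      have hcomm : Commute (a - b) a := (Commute.refl a).sub_left hab.symm
      have hsub : ∀ {x x' y y' : MonoidAlgebra ℂ G}, CongEl M x x' → CongEl M y y' →
          CongEl M (x - y) (x' - y') := fun hx hy => by
        unfold CongEl at *
        rw [sub_sub_sub_comm]
        exact idealEl_sub hM hx hy
      have hadd : ∀ {x x' y y' : MonoidAlgebra ℂ G}, CongEl M x x' → CongEl M y y' →
          CongEl M (x + y) (x' + y') := fun hx hy => by
        unfold CongEl at *
        rw [add_sub_add_comm]
        exact idealEl_add hM hx hy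
      have hab' : IntEl M (a * b) := intEl_mul hM ha hb
      have hsq : CongEl M ((a - b) * (a - b)) (a - a * b - a * b + b) := by
        rw [show (a - b) * (a - b) = a * a - a * b - b * a + b * b by noncomm_ring, hab.symm.eq]
        exact hadd (hsub (hsub ha2 (congEl_refl hM _)) (congEl_refl hM _)) hb2
      have hti : IntEl M (a - a * b - a * b + b) :=
        intEl_add hM (intEl_sub hM (intEl_sub hM ha hab') hab') hb
      have haab : CongEl M (a * (a * b)) (a * b) := by
        rw [← mul_assoc]; exact congEl_mul hM ha2 (congEl_refl hM b) ha hb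
      refine congEl_trans hM (congEl_of_eq hM ?_) (congEl_trans hM (congEl_mul hM ha2 hsq ha hti) ?_)
      · rw [mul_assoc, ← mul_assoc (a - b), hcomm.eq, mul_assoc a (a - b), ← mul_assoc]
      · refine congEl_trans hM (congEl_of_eq hM (?_ : _ = a * a - a * (a * b) - a * (a * b) + a * b))
          ?_
        · simp only [mul_add, mul_sub]
        · refine congEl_trans hM (hadd (hsub (hsub ha2 haab) haab) (congEl_refl hM _)) ?_
          rw [sub_add_cancel, mul_sub]
          exact hsub (congEl_symm hM ha2) (congEl_refl hM _)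
    have h2 : IdealEl M ((a * (a - b)) ^ n) := by
      rw [((Commute.refl a).sub_right hab).mul_pow]
      exact idealEl_mul_left hM (intEl_pow hM ha n) hnn
    have h3 := idealEl_of_idem_nilp hM (intEl_mul hM ha (intEl_sub hM ha hb)) h1 h2
    unfold CongEl
    have : a * b - a = (a * a - a) - a * (a - b) := by rw [mul_sub]; abel
    rw [this]
    exact idealEl_sub hM ha2 h3
  have h2 : IdealEl M ((c - e) ^ n) := by
    rw [← neg_sub e c, neg_pow]
    refine idealEl_mul_left hM (intEl_pow hM ?_ n) hn
    rw [← zero_sub (1 : MonoidAlgebra ℂ G)]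
    exact intEl_sub hM (intEl_zero hM) (intEl_one hM)
  refine congEl_trans hM (congEl_symm hM (key e c he hc he2 hc2 hec hn)) ?_
  rw [hec.eq]
  exact key c e hc he hc2 he2 hec.symm h2

/-! ## Cutting to a centraliser -/

open scoped Classical in
/-- Keep only the coefficients on the centraliser of `P`. -/
noncomputable def cutEl (P : Subgroup G) (z : MonoidAlgebra ℂ G) : MonoidAlgebra ℂ G :=
  ofFun fun g => if g ∈ Subgroup.centralizer (P : Set G) then z.coeff g else 0

theorem cutEl_coeff_mem {P : Subgroup G} (z : MonoidAlgebra ℂ G) {g : G}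
    (h : g ∈ Subgroup.centralizer (P : Set G)) : (cutEl P z).coeff g = z.coeff g := by
  classical
  simp [cutEl, h]

theorem cutEl_coeff_notMem {P : Subgroup G} (z : MonoidAlgebra ℂ G) {g : G}
    (h : g ∉ Subgroup.centralizer (P : Set G)) : (cutEl P z).coeff g = 0 := by
  classical
  simp [cutEl, h]

theorem intEl_cutEl (hM : Cfsg.IsPModular p M) (P : Subgroup G) {z : MonoidAlgebra ℂ G}
    (hz : IntEl M z) : IntEl M (cutEl P z) := fun g => by
  by_cases h : g ∈ Subgroup.centralizer (P : Set G)
  · rw [cutEl_coeff_mem z h]; exact hz g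
  · rw [cutEl_coeff_notMem z h]; exact ring_zero hM

theorem cutEl_invariant {P : Subgroup G} {z : MonoidAlgebra ℂ G} {u : G}
    (hu : u ∈ Subgroup.normalizer (P : Set G))
    (hz : ∀ g, z.coeff (u * g * u⁻¹) = z.coeff g) (g : G) :
    (cutEl P z).coeff (u * g * u⁻¹) = (cutEl P z).coeff g := by
  have hiff : u * g * u⁻¹ ∈ Subgroup.centralizer (P : Set G) ↔
      g ∈ Subgroup.centralizer (P : Set G) := by
    simp only [Subgroup.mem_centralizer_iff, SetLike.mem_coe]
    constructor
    · intro h x hx
      have h1 := h (u * x * u⁻¹) ((Subgroup.mem_normalizer_iff.1 hu x).1 hx)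
      have e1 : u * x * u⁻¹ * (u * g * u⁻¹) = u * (x * g) * u⁻¹ := by group
      have e2 : u * g * u⁻¹ * (u * x * u⁻¹) = u * (g * x) * u⁻¹ := by group
      rw [e1, e2] at h1
      exact mul_left_cancel (mul_right_cancel h1)
    · intro h x hx
      have hx' : u⁻¹ * x * u ∈ P := by
        have := (Subgroup.mem_normalizer_iff.1 hu (u⁻¹ * x * u)).2
        apply this
        simpa [mul_assoc] using hx
      have h1 := h _ hx'
      calc x * (u * g * u⁻¹) = u * ((u⁻¹ * x * u) * g) * u⁻¹ := by group
        _ = u * (g * (u⁻¹ * x * u)) * u⁻¹ := by rw [h1]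
        _ = u * g * u⁻¹ * x := by group
  by_cases h : g ∈ Subgroup.centralizer (P : Set G)
  · rw [cutEl_coeff_mem z h, cutEl_coeff_mem z (hiff.2 h), hz]
  · rw [cutEl_coeff_notMem z h, cutEl_coeff_notMem z (fun e => h (hiff.1 e))]

/-- The Brauer map is multiplicative modulo the local ideal. -/
theorem congEl_cutEl_mul (hM : Cfsg.IsPModular p M) {P : Subgroup G} (hP : IsPGroup p P)
    {x y : MonoidAlgebra ℂ G} (hx : IntEl M x) (hy : IntEl M y)
    (hxP : ∀ u ∈ P, ∀ g, x.coeff (u * g * u⁻¹) = x.coeff g)
    (hyP : ∀ u ∈ P, ∀ g, y.coeff (u * g * u⁻¹) = y.coeff g) :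
    CongEl M (cutEl P (x * y)) (cutEl P x * cutEl P y) := by
  classical
  haveI := Fintype.ofFinite G
  refine congEl_iff.2 fun c => ?_
  rw [coeff_mul']
  by_cases hc : c ∈ Subgroup.centralizer (P : Set G)
  · rw [cutEl_coeff_mem _ hc]
    refine cong_trans hM (cong_coeff_mul_centralizer hM hP hx hy hxP hyP hc) (cong_of_eq hM ?_)
    rw [Finset.sum_filter]
    refine Finset.sum_congr rfl fun h _ => ?_
    by_cases hh : h ∈ Subgroup.centralizer (P : Set G)
    · rw [if_pos hh, cutEl_coeff_mem x hh, cutEl_coeff_mem y (mul_mem (inv_mem hh) hc)]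
    · rw [if_neg hh, cutEl_coeff_notMem x hh, zero_mul]
  · rw [cutEl_coeff_notMem _ hc]
    refine cong_of_eq hM (Finset.sum_eq_zero fun h _ => ?_).symm
    by_cases hh : h ∈ Subgroup.centralizer (P : Set G)
    · rw [cutEl_coeff_notMem y (fun e => hc ?_), mul_zero]
      simpa using mul_mem hh e
    · rw [cutEl_coeff_notMem x hh, zero_mul]

theorem congEl_cutEl_idem (hM : Cfsg.IsPModular p M) {P : Subgroup G} (hP : IsPGroup p P)
    {B : Set (Cfsg.IrrCharacter G)} (hB : Cfsg.IsPBlock M B) :
    CongEl M (cutEl P (blockIdem B) * cutEl P (blockIdem B)) (cutEl P (blockIdem B)) := by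
  have h := congEl_cutEl_mul hM hP (intEl_blockIdem hM hB) (intEl_blockIdem hM hB)
    (fun u _ g => central_blockIdem B g u) (fun u _ g => central_blockIdem B g u)
  rw [blockIdem_mul_self] at h
  exact congEl_symm hM h

theorem central_cutEl_normal {Q : Subgroup G} [Q.Normal] {z : MonoidAlgebra ℂ G}
    (hz : IsCentralEl z) : IsCentralEl (cutEl Q z) := fun g h =>
  cutEl_invariant (P := Q) (by
    rw [Subgroup.normalizer_eq_top]; trivial) (fun g => hz g h) g

/-- With a normal `p`-subgroup `Q`, block idempotents are supported on `C(Q)` modulo the local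
ideal. -/
theorem blockIdem_congEl_cutEl (hM : Cfsg.IsPModular p M) {Q : Subgroup G} [Q.Normal]
    (hQ : IsPGroup p Q) {B : Set (Cfsg.IrrCharacter G)} (hB : Cfsg.IsPBlock M B) :
    CongEl M (blockIdem B) (cutEl Q (blockIdem B)) := by
  set e := blockIdem B
  have he := central_blockIdem B
  have hei := intEl_blockIdem hM hB
  have hcc : IsCentralEl (cutEl Q e) := central_cutEl_normal he
  have hci := intEl_cutEl hM Q hei
  obtain ⟨n, hn⟩ := exists_pow_idealEl hM (central_sub he hcc) (fun χ =>
    omega_ideal_of_avoid hM hQ (central_sub he hcc) (intEl_sub hM hei hci) (fun c hc => by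
      rw [MonoidAlgebra.coeff_sub, Finsupp.sub_apply, cutEl_coeff_mem e hc, sub_self]
      exact ideal_zero hM) χ)
  exact congEl_of_idem_of_nilp hM (central_commute he _) hei hci
    (congEl_of_eq hM (blockIdem_mul_self B)) (congEl_cutEl_idem hM hQ hB) (hn n le_rfl)

/-- With a normal `p`-subgroup `Q`, a unit coefficient of a block idempotent sits in `C(Q)`. -/
theorem mem_centralizer_of_blockCoeff (hM : Cfsg.IsPModular p M) {Q : Subgroup G} [Q.Normal]
    (hQ : IsPGroup p Q) {B : Set (Cfsg.IrrCharacter G)} (hB : Cfsg.IsPBlock M B) {g : G}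
    (hg : ¬ Cfsg.MemLocalIdeal M (Cfsg.blockCoeff B g)) :
    g ∈ Subgroup.centralizer (Q : Set G) := by
  by_contra hc
  have h := congEl_iff.1 (blockIdem_congEl_cutEl hM hQ hB) g
  rw [coeff_blockIdem, cutEl_coeff_notMem _ hc, cong_zero_iff] at h
  exact hg h

/-! ## Restriction to a subgroup -/

/-- Restriction of the coefficient function to a subgroup. -/
noncomputable def restrEl (H : Subgroup G) (z : MonoidAlgebra ℂ G) : MonoidAlgebra ℂ H :=
  ofFun fun h => z.coeff (h : G)

@[simp] theorem coeff_restrEl (H : Subgroup G) (z : MonoidAlgebra ℂ G) (h : H) :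
    (restrEl H z).coeff h = z.coeff (h : G) := by simp [restrEl]

theorem central_restrEl (H : Subgroup G) {z : MonoidAlgebra ℂ G} (hz : IsCentralEl z) :
    IsCentralEl (restrEl H z) := fun g h => by simp [hz (g : G) (h : G)]

theorem intEl_restrEl (H : Subgroup G) {z : MonoidAlgebra ℂ G} (hz : IntEl M z) :
    IntEl M (restrEl H z) := fun h => by simpa using hz (h : G)

theorem congEl_restrEl (H : Subgroup G) {x y : MonoidAlgebra ℂ G} (h : CongEl M x y) :
    CongEl M (restrEl H x) (restrEl H y) :=
  congEl_iff.2 fun g => by simpa using congEl_iff.1 h (g : G)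

theorem restrEl_one (H : Subgroup G) : restrEl H (1 : MonoidAlgebra ℂ G) = 1 := by
  classical
  refine el_ext fun h => ?_
  simp only [coeff_restrEl, MonoidAlgebra.one_def, MonoidAlgebra.coeff_single, Finsupp.single_apply]
  exact if_congr (by rw [← Subgroup.coe_one H, SetLike.coe_eq_coe]) rfl rfl

theorem restrEl_add (H : Subgroup G) (x y : MonoidAlgebra ℂ G) :
    restrEl H (x + y) = restrEl H x + restrEl H y := el_ext fun h => by simp

theorem restrEl_smul (H : Subgroup G) (c : ℂ) (x : MonoidAlgebra ℂ G) :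
    restrEl H (c • x) = c • restrEl H x :=
  el_ext fun h => by simp [MonoidAlgebra.coeff_smul_apply]

theorem restrEl_sum (H : Subgroup G) {ι : Type*} (s : Finset ι) (f : ι → MonoidAlgebra ℂ G) :
    restrEl H (∑ i ∈ s, f i) = ∑ i ∈ s, restrEl H (f i) :=
  el_ext fun h => by simp [MonoidAlgebra.coeff_sum]

/-- Restriction is multiplicative as soon as the left factor is supported in the subgroup. -/
theorem restrEl_mul (H : Subgroup G) {x y : MonoidAlgebra ℂ G}
    (hx : ∀ g, g ∉ H → x.coeff g = 0) : restrEl H (x * y) = restrEl H x * restrEl H y := by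
  classical
  haveI := Fintype.ofFinite G
  haveI := Fintype.ofFinite H
  refine el_ext fun h => ?_
  rw [coeff_restrEl, coeff_mul', coeff_mul']
  symm
  refine Fintype.sum_of_injective (Subtype.val : H → G) Subtype.val_injective _ _ ?_ ?_
  · intro g hg
    rw [hx g (fun e => hg ⟨⟨g, e⟩, rfl⟩), zero_mul]
  · intro k; simp

/-- The embedding of the group algebra of a subgroup. -/
noncomputable def inclEl (H : Subgroup G) :
    MonoidAlgebra ℂ H →+* MonoidAlgebra ℂ G :=
  MonoidAlgebra.mapDomainRingHom ℂ H.subtype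

theorem inclEl_single (H : Subgroup G) (h : H) (r : ℂ) :
    inclEl H (MonoidAlgebra.single h r) = MonoidAlgebra.single (h : G) r := by
  simp [inclEl, MonoidAlgebra.mapDomainRingHom]

theorem coeff_inclEl_mem (H : Subgroup G) (x : MonoidAlgebra ℂ H) (h : H) :
    (inclEl H x).coeff (h : G) = x.coeff h := by
  classical
  haveI := Fintype.ofFinite H
  conv_lhs => rw [eq_sum_single x]
  simp only [map_sum, inclEl_single, MonoidAlgebra.coeff_sum, Finsupp.finsetSum_apply,
    MonoidAlgebra.coeff_single, Finsupp.single_apply, SetLike.coe_eq_coe, Finset.sum_ite_eq',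
    Finset.mem_univ, if_true]

theorem coeff_inclEl_notMem (H : Subgroup G) (x : MonoidAlgebra ℂ H) {g : G} (hg : g ∉ H) :
    (inclEl H x).coeff g = 0 := by
  classical
  haveI := Fintype.ofFinite H
  rw [eq_sum_single x]
  simp only [map_sum, inclEl_single, MonoidAlgebra.coeff_sum, Finsupp.finsetSum_apply,
    MonoidAlgebra.coeff_single]
  exact Finset.sum_eq_zero fun h _ =>
    Finsupp.single_eq_of_ne fun e => hg (e ▸ h.2)

theorem restrEl_inclEl (H : Subgroup G) (x : MonoidAlgebra ℂ H) : restrEl H (inclEl H x) = x :=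
  el_ext fun h => by simp [coeff_inclEl_mem]

theorem intEl_inclEl (hM : Cfsg.IsPModular p M) (H : Subgroup G) {x : MonoidAlgebra ℂ H}
    (hx : IntEl M x) : IntEl M (inclEl H x) := fun g => by
  by_cases hg : g ∈ H
  · exact (coeff_inclEl_mem H x ⟨g, hg⟩).symm ▸ hx _
  · rw [coeff_inclEl_notMem H x hg]; exact ring_zero hM

end Cfsg.Agent.Blocks
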