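import Mathlib
import Cfsg.Prelude.Def_Blocks
import Cfsg.Agent.Lib.Blocks.Brauer

/-!
# Induced blocks and Brauer's main theorems for `P C(P) ≤ H ≤ N(P)`
-/

set_option linter.style.haveILetI false
set_option linter.unusedSectionVars false

namespace Cfsg.Agent.Blocks

open scoped ComplexConjugate
open Cfsg.Agent.Characters

universe u

variable {G : Type u} [Group G] [Finite G] {p : ℕ} {M : Ideal Cfsg.AlgInt}

/-! ## Induced central characters -/

theorem omega_restrEl_classSum (H : Subgroup G) (ξ : H → ℂ) (g : G) :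
    omega ξ (restrEl H (classSum g)) = Cfsg.inducedCentralChar H ξ g := by
  classical
  haveI := Fintype.ofFinite H
  rw [omega, evalChar_eq_sum, Cfsg.inducedCentralChar, finsum_mem_def, finsum_eq_sum_of_fintype,
    Finset.sum_div]
  refine Finset.sum_congr rfl fun h _ => ?_
  rw [coeff_restrEl, coeff_classSum, Set.indicator_apply]
  by_cases hh : IsConj g (h : G)
  · rw [if_pos hh, if_pos (show h ∈ {h : H | IsConj g (h : G)} from hh), one_mul]
  · rw [if_neg hh, if_neg (show h ∉ {h : H | IsConj g (h : G)} from hh), zero_mul, zero_div]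

theorem omega_restrEl_eq_sum [Fintype (ConjClasses G)] (H : Subgroup G) (ξ : H → ℂ)
    {z : MonoidAlgebra ℂ G} (hz : IsCentralEl z) :
    omega ξ (restrEl H z) = ∑ C : ConjClasses G,
      z.coeff (Quotient.out C) * Cfsg.inducedCentralChar H ξ (Quotient.out C) := by
  conv_lhs => rw [central_eq_sum hz]
  rw [restrEl_sum, omega_sum]
  simp only [restrEl_smul, omega_smul, omega_restrEl_classSum]

theorem inducedCentralChar_cong (hM : Cfsg.IsPModular p M) {H : Subgroup G}
    {b : Set (Cfsg.IrrCharacter H)} (hb : Cfsg.IsPBlock M b) {ξ ξ' : Cfsg.IrrCharacter H}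
    (hξ : ξ ∈ b) (hξ' : ξ' ∈ b) {z : MonoidAlgebra ℂ G} (hz : IsCentralEl z) (hi : IntEl M z) :
    Cong M (omega (ξ : H → ℂ) (restrEl H z)) (omega (ξ' : H → ℂ) (restrEl H z)) :=
  omega_cong_of_mem hM hb hξ hξ' (central_restrEl H hz) (intEl_restrEl H hi)

theorem omega_cong_of_isInduced (hM : Cfsg.IsPModular p M) {H : Subgroup G}
    {b : Set (Cfsg.IrrCharacter H)} {B : Set (Cfsg.IrrCharacter G)}
    (hind : Cfsg.IsInducedBlock M H b B) {ξ : Cfsg.IrrCharacter H} (hξ : ξ ∈ b)
    {χ : Cfsg.IrrCharacter G} (hχ : χ ∈ B) {z : MonoidAlgebra ℂ G} (hz : IsCentralEl z)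
    (hi : IntEl M z) : Cong M (omega (ξ : H → ℂ) (restrEl H z)) (omega (χ : G → ℂ) z) := by
  haveI := Fintype.ofFinite (ConjClasses G)
  rw [omega_restrEl_eq_sum H _ hz]
  conv => arg 3; rw [central_eq_sum hz, omega_sum]
  refine cong_sum hM fun C _ => ?_
  rw [omega_smul, omega_classSum (irr_isClassFunction χ)]
  exact cong_mul_left hM (hi _) (hind.2.2 ξ hξ χ hχ _)

/-- One member of each block suffices to check induction. -/
theorem isInduced_of_omega (hM : Cfsg.IsPModular p M) {H : Subgroup G}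
    {b : Set (Cfsg.IrrCharacter H)} (hb : Cfsg.IsPBlock M b) {B : Set (Cfsg.IrrCharacter G)}
    (hB : Cfsg.IsPBlock M B) {ξ : Cfsg.IrrCharacter H} (hξ : ξ ∈ b)
    {χ : Cfsg.IrrCharacter G} (hχ : χ ∈ B)
    (h : ∀ g, Cong M (omega (ξ : H → ℂ) (restrEl H (classSum g)))
      (Cfsg.centralChar (χ : G → ℂ) g)) :
    Cfsg.IsInducedBlock M H b B := by
  refine ⟨hb, hB, fun ξ' hξ' χ' hχ' g => ?_⟩
  rw [← omega_restrEl_classSum]
  exact cong_trans hM (inducedCentralChar_cong hM hb hξ' hξ (central_classSum g)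
    (intEl_classSum hM g)) (cong_trans hM (h g) (sameBlock_of_mem hM hB hχ hχ' g))

theorem isInduced_unique (hM : Cfsg.IsPModular p M) {H : Subgroup G}
    {b : Set (Cfsg.IrrCharacter H)} {B B' : Set (Cfsg.IrrCharacter G)}
    (h : Cfsg.IsInducedBlock M H b B) (h' : Cfsg.IsInducedBlock M H b B') : B = B' := by
  obtain ⟨ξ, hξ⟩ := block_nonempty hM h.1
  obtain ⟨χ, hχ⟩ := block_nonempty hM h.2.1
  obtain ⟨χ', hχ'⟩ := block_nonempty hM h'.2.1
  refine block_eq_of_mem hM h.2.1 h'.2.1 hχ (mem_of_sameBlock hM h'.2.1 hχ' fun g => ?_)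
  exact cong_trans hM (cong_symm hM (h'.2.2 ξ hξ χ' hχ' g)) (h.2.2 ξ hξ χ hχ g)

/-- Transfer a central element of the subgroup along an induced block: the class of the defect
group of `b` lies in one of `B`. -/
theorem exists_defect_le_of_induced (hM : Cfsg.IsPModular p M) {H : Subgroup G}
    {b : Set (Cfsg.IrrCharacter H)} {B : Set (Cfsg.IrrCharacter G)}
    (hind : Cfsg.IsInducedBlock M H b B) {D : Subgroup H}
    (hD : Cfsg.IsDefectGroup p M b D) :
    ∃ E : Subgroup G, Cfsg.IsDefectGroup p M B E ∧ D.map H.subtype ≤ E := by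
  haveI := fact_prime_of_pm hM
  obtain ⟨E, hE⟩ := exists_defectGroup hM hind.2.1
  obtain ⟨g, hg, hs⟩ := isDefectGroup_iff.1 hE
  obtain ⟨ξ, hξ⟩ := block_nonempty hM hind.1
  obtain ⟨χ, hχ⟩ := block_nonempty hM hind.2.1
  have h1 : ¬ Cfsg.MemLocalIdeal M (omega (ξ : H → ℂ) (restrEl H (classSum g))) := by
    rw [ideal_iff_of_cong hM (omega_cong_of_isInduced hM hind hξ hχ (central_classSum g)
      (intEl_classSum hM g)), omega_classSum (irr_isClassFunction χ)]
    exact hg.2.2 χ hχ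
  obtain ⟨h, hh1, hh2⟩ := exists_coeff_omega_notIdeal hM ξ
    (central_restrEl H (central_classSum g)) (intEl_restrEl H (intEl_classSum hM g)) h1
  obtain ⟨c, hc, hcD⟩ := meets_defect_of_omega hM hind.1 hD hξ hh2
  have hconj : IsConj g (c : G) := by
    rw [coeff_restrEl, coeff_classSum] at hh1
    have : IsConj g (h : G) := by
      by_contra hne
      rw [if_neg hne] at hh1
      exact hh1 (ideal_zero hM)
    obtain ⟨k, hk⟩ := isConj_iff.1 hc
    exact this.trans (isConj_iff.2 ⟨(k : G), by rw [← hk]; simp⟩)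
  have hmeets : MeetsCent (D.map H.subtype) g := by
    refine ⟨c, hconj, Subgroup.mem_centralizer_iff.2 ?_⟩
    rintro _ ⟨d, hd, rfl⟩
    exact congrArg Subtype.val (hcD d hd)
  obtain ⟨x, hx⟩ := exists_conj_le_of_meets ((isPGroup_defect hD).map _) hs hmeets
  exact ⟨_, defectGroup_conj hM hE x, hx⟩

/-! ## The Brauer map into `H` -/

/-- The Brauer map followed by restriction to `H`. -/
noncomputable def brEl (P H : Subgroup G) (z : MonoidAlgebra ℂ G) : MonoidAlgebra ℂ H :=
  restrEl H (cutEl P z)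

theorem intEl_brEl (hM : Cfsg.IsPModular p M) (P H : Subgroup G) {z : MonoidAlgebra ℂ G}
    (hz : IntEl M z) : IntEl M (brEl P H z) := intEl_restrEl H (intEl_cutEl hM P hz)

theorem omega_brEl_classSum (P H : Subgroup G) (ξ : H → ℂ) (g : G) :
    omega ξ (brEl P H (classSum g)) = Cfsg.brauerCentralChar P H ξ g := by
  classical
  haveI := Fintype.ofFinite H
  rw [omega, evalChar_eq_sum, Cfsg.brauerCentralChar, finsum_mem_def, finsum_eq_sum_of_fintype,
    Finset.sum_div]
  refine Finset.sum_congr rfl fun h _ => ?_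
  rw [brEl, coeff_restrEl, Set.indicator_apply]
  by_cases hP : (h : G) ∈ Subgroup.centralizer (P : Set G)
  · rw [cutEl_coeff_mem _ hP, coeff_classSum]
    by_cases hh : IsConj g (h : G)
    · rw [if_pos hh, if_pos (show h ∈ {h : H | IsConj g (h : G) ∧
        (h : G) ∈ Subgroup.centralizer (P : Set G)} from ⟨hh, hP⟩), one_mul]
    · rw [if_neg hh, if_neg (fun e => hh (show h ∈ {h : H | IsConj g (h : G) ∧
        (h : G) ∈ Subgroup.centralizer (P : Set G)} from e).1), zero_mul, zero_div]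
  · rw [cutEl_coeff_notMem _ hP, zero_mul, zero_div, if_neg (fun e => hP (show h ∈ {h : H |
      IsConj g (h : G) ∧ (h : G) ∈ Subgroup.centralizer (P : Set G)} from e).2)]

theorem central_brEl {P H : Subgroup G} (hHN : H ≤ Subgroup.normalizer (P : Set G))
    {z : MonoidAlgebra ℂ G} (hz : IsCentralEl z) : IsCentralEl (brEl P H z) := fun g h => by
  simpa [brEl] using cutEl_invariant (hHN h.2) (fun x => hz x h) (g : G)

theorem brEl_one (P H : Subgroup G) : brEl P H (1 : MonoidAlgebra ℂ G) = 1 := by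
  classical
  rw [← restrEl_one H]
  refine congrArg (restrEl H) (el_ext fun g => ?_)
  by_cases hg : g ∈ Subgroup.centralizer (P : Set G)
  · rw [cutEl_coeff_mem _ hg]
  · rw [cutEl_coeff_notMem _ hg, MonoidAlgebra.one_def, MonoidAlgebra.coeff_single,
      Finsupp.single_eq_of_ne]
    rintro rfl
    exact hg (one_mem _)

theorem congEl_brEl_mul (hM : Cfsg.IsPModular p M) {P H : Subgroup G} (hP : IsPGroup p P)
    (hCH : Subgroup.centralizer (P : Set G) ≤ H) {x y : MonoidAlgebra ℂ G}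
    (hxc : IsCentralEl x) (hyc : IsCentralEl y) (hx : IntEl M x) (hy : IntEl M y) :
    CongEl M (brEl P H (x * y)) (brEl P H x * brEl P H y) := by
  unfold brEl
  rw [← restrEl_mul H (fun g hg => cutEl_coeff_notMem x fun e => hg (hCH e))]
  exact congEl_restrEl H (congEl_cutEl_mul hM hP hx hy (fun u _ g => hxc g u)
    (fun u _ g => hyc g u))

theorem brEl_idem (hM : Cfsg.IsPModular p M) {P H : Subgroup G} (hP : IsPGroup p P)
    (hCH : Subgroup.centralizer (P : Set G) ≤ H) {B : Set (Cfsg.IrrCharacter G)}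
    (hB : Cfsg.IsPBlock M B) :
    CongEl M (brEl P H (blockIdem B) * brEl P H (blockIdem B)) (brEl P H (blockIdem B)) := by
  have := congEl_brEl_mul hM hP hCH (central_blockIdem B) (central_blockIdem B)
    (intEl_blockIdem hM hB) (intEl_blockIdem hM hB)
  rw [blockIdem_mul_self] at this
  exact congEl_symm hM this

theorem normal_subgroupOf {P H : Subgroup G} (hHN : H ≤ Subgroup.normalizer (P : Set G)) :
    (P.subgroupOf H).Normal := by
  refine ⟨fun x hx h => ?_⟩
  rw [Subgroup.mem_subgroupOf] at hx ⊢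
  simpa using (Subgroup.mem_normalizer_iff.1 (hHN h.2) (x : G)).1 hx

theorem mem_centralizer_subgroupOf {P H : Subgroup G} (hPH : P ≤ H) {h : H} :
    h ∈ Subgroup.centralizer ((P.subgroupOf H : Subgroup H) : Set H) ↔
      (h : G) ∈ Subgroup.centralizer (P : Set G) := by
  simp only [Subgroup.mem_centralizer_iff, SetLike.mem_coe, Subgroup.mem_subgroupOf]
  refine ⟨fun hh x hx => congrArg Subtype.val (hh ⟨x, hPH hx⟩ hx),
    fun hh x hx => Subtype.ext (hh x hx)⟩

theorem isPGroup_subgroupOf {P H : Subgroup G} (hP : IsPGroup p P) (hPH : P ≤ H) :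
    IsPGroup p (P.subgroupOf H) :=
  hP.of_equiv (Subgroup.subgroupOfEquivOfLe hPH).symm

/-- On the blocks of `H`, restriction and the Brauer map agree. -/
theorem omega_restr_cong_brEl (hM : Cfsg.IsPModular p M) {P H : Subgroup G} (hP : IsPGroup p P)
    (hPH : P ≤ H) (hHN : H ≤ Subgroup.normalizer (P : Set G)) (ξ : Cfsg.IrrCharacter H)
    {z : MonoidAlgebra ℂ G} (hz : IsCentralEl z) (hi : IntEl M z) :
    Cong M (omega (ξ : H → ℂ) (restrEl H z)) (omega (ξ : H → ℂ) (brEl P H z)) := by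
  haveI := normal_subgroupOf hHN
  unfold Cong
  rw [← omega_sub]
  refine omega_ideal_of_avoid hM (isPGroup_subgroupOf hP hPH)
    (central_sub (central_restrEl H hz) (central_brEl hHN hz))
    (intEl_sub hM (intEl_restrEl H hi) (intEl_brEl hM P H hi)) (fun c hc => ?_) ξ
  rw [MonoidAlgebra.coeff_sub, Finsupp.sub_apply, brEl, coeff_restrEl, coeff_restrEl,
    cutEl_coeff_mem _ ((mem_centralizer_subgroupOf hPH).1 hc), sub_self]
  exact ideal_zero hM

theorem isInduced_iff_brauer (hM : Cfsg.IsPModular p M) {P H : Subgroup G} (hP : IsPGroup p P)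
    (hPH : P ≤ H) (hHN : H ≤ Subgroup.normalizer (P : Set G))
    {b : Set (Cfsg.IrrCharacter H)} (hb : Cfsg.IsPBlock M b) {B : Set (Cfsg.IrrCharacter G)}
    (hB : Cfsg.IsPBlock M B) :
    Cfsg.IsInducedBlock M H b B ↔ ∀ ξ ∈ b, ∀ χ ∈ B, ∀ g : G, Cfsg.MemLocalIdeal M
      (Cfsg.brauerCentralChar P H (ξ : H → ℂ) g - Cfsg.centralChar (χ : G → ℂ) g) := by
  have key : ∀ (ξ : Cfsg.IrrCharacter H) g, Cong M (Cfsg.inducedCentralChar H (ξ : H → ℂ) g)
      (Cfsg.brauerCentralChar P H (ξ : H → ℂ) g) := fun ξ g => by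
    rw [← omega_restrEl_classSum, ← omega_brEl_classSum]
    exact omega_restr_cong_brEl hM hP hPH hHN ξ (central_classSum g) (intEl_classSum hM g)
  exact ⟨fun h ξ hξ χ hχ g => cong_trans hM (cong_symm hM (key ξ g)) (h.2.2 ξ hξ χ hχ g),
    fun h => ⟨hb, hB, fun ξ hξ χ hχ g => cong_trans hM (key ξ g) (h ξ hξ χ hχ g)⟩⟩

/-- Brauer's induction: the induced block is defined when `P C(P) ≤ H ≤ N(P)`. -/
theorem inducedBlockDefined_of_brauer (hM : Cfsg.IsPModular p M) {P H : Subgroup G}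
    (hP : IsPGroup p P) (hPH : P ≤ H) (hCH : Subgroup.centralizer (P : Set G) ≤ H)
    (hHN : H ≤ Subgroup.normalizer (P : Set G))
    {b : Set (Cfsg.IrrCharacter H)} (hb : Cfsg.IsPBlock M b) :
    Cfsg.InducedBlockDefined M H b := by
  obtain ⟨ξ, hξ⟩ := block_nonempty hM hb
  let φ : MonoidAlgebra ℂ G →ₗ[ℂ] ℂ :=
    { toFun := fun z => omega (ξ : H → ℂ) (restrEl H z)
      map_add' := fun x y => by rw [restrEl_add, omega_add]
      map_smul' := fun c x => by rw [restrEl_smul, omega_smul]; rfl }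
  have hbr : ∀ z, IsCentralEl z → IntEl M z →
      Cong M (φ z) (omega (ξ : H → ℂ) (brEl P H z)) := fun z hz hi =>
    omega_restr_cong_brEl hM hP hPH hHN ξ hz hi
  obtain ⟨B, hB, hφ⟩ := exists_block_of_functional hM φ
    (fun z hz hi => omega_ring hM ξ (central_restrEl H hz) (intEl_restrEl H hi))
    (fun z hz hi => omega_ideal hM ξ (central_restrEl H hz) fun h => by simpa using hi (h : G))
    (by
      show Cong M (omega (ξ : H → ℂ) (restrEl H 1)) 1
      rw [restrEl_one, omega_one (irr_one_ne_zero ξ.2)]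
      exact cong_refl hM 1)
    (fun x y hx hxi hy hyi => by
      refine cong_trans hM (hbr _ (central_mul hx hy) (intEl_mul hM hxi hyi)) ?_
      refine cong_trans hM (omega_cong hM ξ (central_brEl hHN (central_mul hx hy))
        (central_mul (central_brEl hHN hx) (central_brEl hHN hy))
        (congEl_brEl_mul hM hP hCH hx hy hxi hyi)) ?_
      rw [omega_mul ξ (central_brEl hHN hx)]
      exact cong_symm hM (cong_mul hM (hbr x hx hxi) (hbr y hy hyi)
        (omega_ring hM ξ (central_brEl hHN hx) (intEl_brEl hM P H hxi))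
        (omega_ring hM ξ (central_brEl hHN hy) (intEl_brEl hM P H hyi))))
  obtain ⟨χ, hχ⟩ := block_nonempty hM hB
  exact ⟨B, isInduced_of_omega hM hb hB hξ hχ fun g => by
    rw [← omega_classSum (irr_isClassFunction χ)]
    exact hφ χ hχ _ (central_classSum g) (intEl_classSum hM g)⟩

theorem omega_brEl_of_induced (hM : Cfsg.IsPModular p M) {P H : Subgroup G} (hP : IsPGroup p P)
    (hPH : P ≤ H) (hHN : H ≤ Subgroup.normalizer (P : Set G))
    {b : Set (Cfsg.IrrCharacter H)} {B : Set (Cfsg.IrrCharacter G)}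
    (hind : Cfsg.IsInducedBlock M H b B) {ξ : Cfsg.IrrCharacter H} (hξ : ξ ∈ b)
    {χ : Cfsg.IrrCharacter G} (hχ : χ ∈ B) {z : MonoidAlgebra ℂ G} (hz : IsCentralEl z)
    (hi : IntEl M z) : Cong M (omega (ξ : H → ℂ) (brEl P H z)) (omega (χ : G → ℂ) z) :=
  cong_trans hM (cong_symm hM (omega_restr_cong_brEl hM hP hPH hHN ξ hz hi))
    (omega_cong_of_isInduced hM hind hξ hχ hz hi)

/-- A block of `H` induces `B` as soon as its central character does not kill the Brauer image
of the idempotent of `B`. -/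
theorem isInduced_iff_omega_brEl (hM : Cfsg.IsPModular p M) {P H : Subgroup G}
    (hP : IsPGroup p P) (hPH : P ≤ H) (hCH : Subgroup.centralizer (P : Set G) ≤ H)
    (hHN : H ≤ Subgroup.normalizer (P : Set G))
    {b : Set (Cfsg.IrrCharacter H)} (hb : Cfsg.IsPBlock M b) {ξ : Cfsg.IrrCharacter H}
    (hξ : ξ ∈ b) {B : Set (Cfsg.IrrCharacter G)} (hB : Cfsg.IsPBlock M B) :
    Cfsg.IsInducedBlock M H b B ↔
      ¬ Cfsg.MemLocalIdeal M (omega (ξ : H → ℂ) (brEl P H (blockIdem B))) := by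
  constructor
  · intro hind
    obtain ⟨χ, hχ⟩ := block_nonempty hM hB
    rw [ideal_iff_of_cong hM (omega_brEl_of_induced hM hP hPH hHN hind hξ hχ
      (central_blockIdem B) (intEl_blockIdem hM hB)), omega_blockIdem_mem hχ]
    exact not_ideal_one hM
  · intro hn
    obtain ⟨B', hind⟩ := inducedBlockDefined_of_brauer hM hP hPH hCH hHN hb
    obtain ⟨χ', hχ'⟩ := block_nonempty hM hind.2.1
    suffices B' = B by rwa [← this]
    by_contra hne
    refine hn ?_
    rw [ideal_iff_of_cong hM (omega_brEl_of_induced hM hP hPH hHN hind hξ hχ'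
      (central_blockIdem B) (intEl_blockIdem hM hB)),
      omega_blockIdem_notMem fun hmem => hne (block_eq_of_mem hM hind.2.1 hB hχ' hmem)]
    exact ideal_zero hM

theorem exists_unit_brEl (hM : Cfsg.IsPModular p M) {P H : Subgroup G} (hP : IsPGroup p P)
    (hCH : Subgroup.centralizer (P : Set G) ≤ H) (hHN : H ≤ Subgroup.normalizer (P : Set G))
    {B : Set (Cfsg.IrrCharacter G)} (hB : Cfsg.IsPBlock M B) {g : G}
    (hg : ¬ Cfsg.MemLocalIdeal M (Cfsg.blockCoeff B g))
    (hgP : g ∈ Subgroup.centralizer (P : Set G)) :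
    ∃ ξ : Cfsg.IrrCharacter H,
      ¬ Cfsg.MemLocalIdeal M (omega (ξ : H → ℂ) (brEl P H (blockIdem B))) := by
  by_contra hcon
  push Not at hcon
  obtain ⟨n, hn⟩ := exists_pow_idealEl hM (central_brEl hHN (central_blockIdem B)) hcon
  have h := idealEl_of_idem_nilp hM (intEl_brEl hM P H (intEl_blockIdem hM hB))
    (brEl_idem hM hP hCH hB) (hn n le_rfl) ⟨g, hCH hgP⟩
  rw [brEl, coeff_restrEl, cutEl_coeff_mem _ hgP, coeff_blockIdem] at h
  exact hg h

/-- A block is induced from `H` iff `P` is contained in one of its defect groups. -/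
theorem exists_induced_iff (hM : Cfsg.IsPModular p M) {P H : Subgroup G} (hP : IsPGroup p P)
    (hPH : P ≤ H) (hCH : Subgroup.centralizer (P : Set G) ≤ H)
    (hHN : H ≤ Subgroup.normalizer (P : Set G))
    {B : Set (Cfsg.IrrCharacter G)} (hB : Cfsg.IsPBlock M B) {D : Subgroup G}
    (hD : Cfsg.IsDefectGroup p M B D) :
    (∃ b : Set (Cfsg.IrrCharacter H), Cfsg.IsInducedBlock M H b B) ↔
      ∃ x : G, P ≤ D.map (MulAut.conj x).toMonoidHom := by
  constructor
  · rintro ⟨b, hind⟩
    obtain ⟨D₀, hD₀⟩ := exists_defectGroup hM hind.1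
    haveI := normal_subgroupOf hHN
    have hle := normal_le_defect hM (isPGroup_subgroupOf hP hPH) hind.1 hD₀
    obtain ⟨E, hE, hDE⟩ := exists_defect_le_of_induced hM hind hD₀
    obtain ⟨x, rfl⟩ := exists_defectGroup_conj_eq hM hB hD hE
    exact ⟨x, fun y hy => hDE ⟨⟨y, hPH hy⟩, hle hy, rfl⟩⟩
  · intro hx
    obtain ⟨g, hg, hgP⟩ := (meetsCent_defect_iff hM hB hD hP).2 hx
    obtain ⟨ξ, hξ⟩ := exists_unit_brEl hM hP hCH hHN hB hg hgP
    exact ⟨_, (isInduced_iff_omega_brEl hM hP hPH hCH hHN (isPBlock_blockOf M ξ)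
      (mem_blockOf_self hM ξ) hB).2 hξ⟩

end Cfsg.Agent.Blocks
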