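import Mathlib
import Cfsg.Prelude.Def_Blocks
import Cfsg.Agent.Lib.Blocks.Induced

/-!
# Brauer's first main theorem
-/

set_option linter.style.haveILetI false
set_option linter.unusedSectionVars false

namespace Cfsg.Agent.Blocks

open Cfsg.Agent.Characters

universe u

variable {G : Type u} [Group G] [Finite G] {p : ℕ} {M : Ideal Cfsg.AlgInt}

/-! ## Sylow subgroups of centralisers and normalisers -/

theorem centralizer_le_normalizer' (D : Subgroup G) :
    Subgroup.centralizer (D : Set G) ≤ Subgroup.normalizer (D : Set G) := fun x hx => by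
  have hx' := Subgroup.mem_centralizer_iff.1 hx
  rw [Subgroup.mem_normalizer_iff]
  intro y
  constructor
  · intro hy
    rw [← hx' y hy, mul_inv_cancel_right]
    exact hy
  · intro hy
    have h2 : x * y * x⁻¹ = y := by
      calc x * y * x⁻¹ = x⁻¹ * (x * (x * y * x⁻¹)) := by group
        _ = x⁻¹ * ((x * y * x⁻¹) * x) := by rw [hx' _ hy]
        _ = y := by group
    rwa [h2] at hy

/-- A `p`-subgroup maximal among those normalising it inside `K` is maximal in `K`. -/
theorem eq_of_max_normalizer [Fact p.Prime] {D K : Subgroup G}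
    (hmax : ∀ Q : Subgroup G, IsPGroup p Q → D ≤ Q → Q ≤ K →
      Q ≤ Subgroup.normalizer (D : Set G) → Q = D)
    {Q : Subgroup G} (hQ : IsPGroup p Q) (hDQ : D ≤ Q) (hQK : Q ≤ K) : Q = D := by
  by_contra hne
  haveI := hQ.isNilpotent
  have hlt : D.subgroupOf Q < ⊤ := by
    refine lt_top_iff_ne_top.2 fun h => hne (le_antisymm ?_ hDQ)
    exact Subgroup.subgroupOf_eq_top.1 h
  obtain ⟨x, hx, hx'⟩ := SetLike.exists_of_lt
    (Group.normalizerCondition_of_isNilpotent (D.subgroupOf Q) hlt)
  have hxN : (x : G) ∈ Subgroup.normalizer (D : Set G) := by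
    rw [Subgroup.mem_normalizer_iff] at hx ⊢
    intro y
    constructor
    · intro hy
      simpa [Subgroup.mem_subgroupOf] using (hx ⟨y, hDQ hy⟩).1 (Subgroup.mem_subgroupOf.2 hy)
    · intro hy
      have hyQ : y ∈ Q := by
        have := Q.mul_mem (Q.mul_mem (Q.inv_mem x.2) (hDQ hy)) x.2
        simpa [mul_assoc] using this
      simpa [Subgroup.mem_subgroupOf] using
        (hx ⟨y, hyQ⟩).2 (Subgroup.mem_subgroupOf.2 (by simpa using hy))
  refine hx' (Subgroup.mem_subgroupOf.2 ?_)
  have := hmax (Q ⊓ Subgroup.normalizer (D : Set G)) (hQ.to_le inf_le_left)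
    (le_inf hDQ Subgroup.le_normalizer) (inf_le_left.trans hQK) inf_le_right
  rw [← this]
  exact ⟨x.2, hxN⟩

theorem isSylCent_of_max [Fact p.Prime] {g : G} {D : Subgroup G} (hD : IsPGroup p D)
    (hle : D ≤ Subgroup.centralizer ({g} : Set G))
    (hmax : ∀ Q : Subgroup G, IsPGroup p Q → D ≤ Q →
      Q ≤ Subgroup.centralizer ({g} : Set G) → Q = D) :
    IsSylCent p g D := by
  set C := Subgroup.centralizer ({g} : Set G)
  obtain ⟨S, hS⟩ := (hD.comap_of_injective C.subtype C.subtype_injective).exists_le_sylow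
  refine ⟨S, (hmax _ (S.isPGroup'.map _) (fun x hx => ?_) (Subgroup.map_subtype_le _)).symm⟩
  exact ⟨⟨x, hle hx⟩, hS (Subgroup.mem_comap.2 hx), rfl⟩

theorem map_subgroupOf_eq {D H : Subgroup G} (hle : D ≤ H) :
    (D.subgroupOf H).map H.subtype = D := by
  rw [Subgroup.subgroupOf_map_subtype, inf_eq_left.2 hle]

theorem isSylCent_max [Fact p.Prime] {g : G} {D : Subgroup G} (h : IsSylCent p g D)
    {Q : Subgroup G} (hQ : IsPGroup p Q) (hDQ : D ≤ Q)
    (hQC : Q ≤ Subgroup.centralizer ({g} : Set G)) : Q = D := by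
  obtain ⟨n, hn⟩ := IsPGroup.iff_card.1 hQ
  refine (eq_of_le_of_card_le hDQ ?_).symm
  rw [card_sylCent_eq h, hn]
  refine Nat.pow_le_pow_right (Fact.out : p.Prime).pos ?_
  refine ((Fact.out : p.Prime).pow_dvd_iff_le_factorization Nat.card_pos.ne').1 ?_
  rw [← hn]
  exact Subgroup.card_dvd_of_le hQC

theorem exists_centralizer_conj [Fact p.Prime] {c : G} {P P' : Subgroup G}
    (hP : IsSylCent p c P) (hP' : IsSylCent p c P') :
    ∃ m ∈ Subgroup.centralizer ({c} : Set G), P'.map (MulAut.conj m).toMonoidHom = P := by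
  obtain ⟨S, rfl⟩ := hP
  obtain ⟨T, rfl⟩ := hP'
  obtain ⟨m, hm⟩ := MulAction.exists_smul_eq (Subgroup.centralizer ({c} : Set G)) T S
  refine ⟨m, m.2, ?_⟩
  have h : (S : Subgroup (Subgroup.centralizer ({c} : Set G))) =
      (T : Subgroup (Subgroup.centralizer ({c} : Set G))).map (MulAut.conj m).toMonoidHom := by
    rw [← hm]; rfl
  rw [h, Subgroup.map_map, Subgroup.map_map]
  rfl

/-- Burnside: two conjugates centralising a full Sylow subgroup of the centraliser are conjugate
under its normaliser. -/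
theorem exists_normalizer_conj [Fact p.Prime] {g : G} {P : Subgroup G} (hP : IsSylCent p g P)
    {c₁ c₂ : G} (h₁ : IsConj g c₁) (h₂ : IsConj g c₂)
    (hc₁ : c₁ ∈ Subgroup.centralizer (P : Set G)) (hc₂ : c₂ ∈ Subgroup.centralizer (P : Set G)) :
    ∃ n ∈ Subgroup.normalizer (P : Set G), n * c₁ * n⁻¹ = c₂ := by
  have hsyl : ∀ c, IsConj g c → c ∈ Subgroup.centralizer (P : Set G) → IsSylCent p c P := by
    intro c hgc hcP
    obtain ⟨a, rfl⟩ := isConj_iff.1 hgc
    rw [isSylCent_iff] at hP ⊢
    exact ⟨le_centralizer_iff_mem.2 hcP, by rw [hP.2, card_centralizer_conj]⟩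
  obtain ⟨k, hk⟩ := isConj_iff.1 (h₁.symm.trans h₂)
  subst hk
  obtain ⟨m, hm, hm'⟩ := exists_centralizer_conj (hsyl _ h₂ hc₂)
    (isSylCent_conj (hsyl c₁ h₁ hc₁) k)
  rw [map_conj_map_conj] at hm'
  refine ⟨m * k, ?_, ?_⟩
  · rw [Subgroup.mem_normalizer_iff]
    intro x
    constructor
    · intro hx
      rw [← hm', mem_map_conj_iff]
      simpa [mul_assoc] using hx
    · intro hx
      rw [← hm', mem_map_conj_iff] at hx
      simpa [mul_assoc] using hx
  · have hmc : m * (k * c₁ * k⁻¹) = k * c₁ * k⁻¹ * m :=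
      ((Subgroup.mem_centralizer_iff.1 hm) _ rfl).symm
    calc m * k * c₁ * (m * k)⁻¹ = m * (k * c₁ * k⁻¹) * m⁻¹ := by group
      _ = k * c₁ * k⁻¹ := by rw [hmc, mul_inv_cancel_right]

/-- The Sylow condition descends to and ascends from the normaliser. -/
theorem isSylCent_normalizer_iff [Fact p.Prime] {D : Subgroup G} (hD : IsPGroup p D)
    {c : Subgroup.normalizer (D : Set G)}
    (hc : (c : G) ∈ Subgroup.centralizer (D : Set G)) :
    IsSylCent p c (D.subgroupOf (Subgroup.normalizer (D : Set G))) ↔ IsSylCent p (c : G) D := by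
  have hle : D ≤ Subgroup.centralizer ({(c : G)} : Set G) := le_centralizer_iff_mem.2 hc
  have hle' : D.subgroupOf (Subgroup.normalizer (D : Set G)) ≤ Subgroup.centralizer ({c} : Set (Subgroup.normalizer (D : Set G))) :=
    le_centralizer_iff_mem.2 ((mem_centralizer_subgroupOf Subgroup.le_normalizer).2 hc)
  constructor
  · intro h
    refine isSylCent_of_max hD hle fun Q hQ hDQ hQC => eq_of_max_normalizer ?_ hQ hDQ hQC
    intro R hR hDR hRC hRN
    have := isSylCent_max h (Q := R.subgroupOf (Subgroup.normalizer (D : Set G))) (isPGroup_subgroupOf hR hRN)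
      (fun x hx => Subgroup.mem_subgroupOf.2 (hDR (Subgroup.mem_subgroupOf.1 hx)))
      (fun x hx => Subgroup.mem_centralizer_iff.2 (by
        rintro _ rfl
        exact Subtype.ext (Subgroup.mem_centralizer_iff.1
          (hRC (Subgroup.mem_subgroupOf.1 hx)) _ rfl)))
    rw [← map_subgroupOf_eq hRN, this, map_subgroupOf_eq Subgroup.le_normalizer]
  · intro h
    refine isSylCent_of_max (isPGroup_subgroupOf hD Subgroup.le_normalizer) hle'
      fun Q hQ hDQ hQC => ?_
    have := isSylCent_max h (Q := Q.map (Subgroup.normalizer (D : Set G)).subtype) (hQ.map _)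
      (fun x hx => ⟨⟨x, Subgroup.le_normalizer hx⟩, hDQ (Subgroup.mem_subgroupOf.2 hx), rfl⟩)
      (by
        rintro _ ⟨x, hx, rfl⟩
        refine Subgroup.mem_centralizer_iff.2 ?_
        rintro _ rfl
        exact congrArg Subtype.val (Subgroup.mem_centralizer_iff.1 (hQC hx) _ rfl))
    rw [← Subgroup.comap_map_eq_self_of_injective (Subgroup.normalizer (D : Set G)).subtype_injective Q, this]
    rfl

/-! ## Linearity of the Brauer map -/

theorem cutEl_smul (P : Subgroup G) (c : ℂ) (z : MonoidAlgebra ℂ G) :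
    cutEl P (c • z) = c • cutEl P z :=
  el_ext fun g => by
    by_cases hg : g ∈ Subgroup.centralizer (P : Set G)
    · simp [cutEl_coeff_mem _ hg]
    · simp [cutEl_coeff_notMem _ hg]

theorem cutEl_add (P : Subgroup G) (x y : MonoidAlgebra ℂ G) :
    cutEl P (x + y) = cutEl P x + cutEl P y :=
  el_ext fun g => by
    by_cases hg : g ∈ Subgroup.centralizer (P : Set G)
    · simp [cutEl_coeff_mem _ hg]
    · simp [cutEl_coeff_notMem _ hg]

theorem cutEl_sum (P : Subgroup G) {ι : Type*} (s : Finset ι) (f : ι → MonoidAlgebra ℂ G) :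
    cutEl P (∑ i ∈ s, f i) = ∑ i ∈ s, cutEl P (f i) := by
  classical
  induction s using Finset.induction with
  | empty =>
    refine el_ext fun g => ?_
    by_cases hg : g ∈ Subgroup.centralizer (P : Set G)
    · simp [cutEl_coeff_mem _ hg]
    · simp [cutEl_coeff_notMem _ hg]
  | insert a s ha ih => rw [Finset.sum_insert ha, Finset.sum_insert ha, cutEl_add, ih]

theorem brEl_sum (P H : Subgroup G) {ι : Type*} (s : Finset ι) (f : ι → MonoidAlgebra ℂ G) :
    brEl P H (∑ i ∈ s, f i) = ∑ i ∈ s, brEl P H (f i) := by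
  simp only [brEl, cutEl_sum, restrEl_sum]

theorem brEl_smul (P H : Subgroup G) (c : ℂ) (z : MonoidAlgebra ℂ G) :
    brEl P H (c • z) = c • brEl P H z := by
  simp only [brEl, cutEl_smul, restrEl_smul]

/-- The Brauer image of a class sum with Sylow subgroup `D` is a class sum of the normaliser. -/
theorem brEl_classSum [Fact p.Prime] {D : Subgroup G}
    {c : Subgroup.normalizer (D : Set G)} (hs : IsSylCent p (c : G) D) :
    brEl D (Subgroup.normalizer (D : Set G)) (classSum (c : G)) = classSum c := by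
  classical
  refine el_ext fun n => ?_
  rw [brEl, coeff_restrEl, coeff_classSum]
  by_cases hn : (n : G) ∈ Subgroup.centralizer (D : Set G)
  · rw [cutEl_coeff_mem _ hn, coeff_classSum]
    refine if_congr ⟨fun h => ?_, fun h => ?_⟩ rfl rfl
    · obtain ⟨k, hk, hk'⟩ := exists_normalizer_conj hs (IsConj.refl _) h (isSylCent_mem hs) hn
      exact isConj_iff.2 ⟨⟨k, hk⟩, Subtype.ext (by simpa using hk')⟩
    · obtain ⟨k, hk⟩ := isConj_iff.1 h
      exact isConj_iff.2 ⟨(k : G), by rw [← hk]; simp⟩
  · rw [cutEl_coeff_notMem _ hn, if_neg]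
    intro h
    obtain ⟨k, hk⟩ := isConj_iff.1 h
    refine hn (Subgroup.mem_centralizer_iff.2 fun d hd => ?_)
    have hd' := (Subgroup.mem_normalizer_iff.1 (Subgroup.inv_mem _ k.2) d).1 hd
    have := Subgroup.mem_centralizer_iff.1 (isSylCent_mem hs) _ hd'
    rw [← hk]
    simp only [Subgroup.coe_mul, Subgroup.coe_inv, inv_inv] at this ⊢
    calc d * ((k : G) * c * (k : G)⁻¹) = k * ((k : G)⁻¹ * d * k * c) * (k : G)⁻¹ := by group
      _ = k * ((c : G) * ((k : G)⁻¹ * d * k)) * (k : G)⁻¹ := by rw [this]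
      _ = (k : G) * c * (k : G)⁻¹ * d := by group

/-! ## Blocks of the normaliser -/

/-- A block of `N(D)` inducing a block with defect group `D` has defect group `D`. -/
theorem defectGroup_of_induced_normalizer (hM : Cfsg.IsPModular p M) {D : Subgroup G}
    {b : Set (Cfsg.IrrCharacter (Subgroup.normalizer (D : Set G)))}
    {B : Set (Cfsg.IrrCharacter G)}
    (hind : Cfsg.IsInducedBlock M (Subgroup.normalizer (D : Set G)) b B)
    (hD : Cfsg.IsDefectGroup p M B D)
    {D' : Subgroup (Subgroup.normalizer (D : Set G))} (hD' : Cfsg.IsDefectGroup p M b D') :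
    D' = D.subgroupOf (Subgroup.normalizer (D : Set G)) := by
  haveI := normal_subgroupOf (H := (Subgroup.normalizer (D : Set G))) (P := D) le_rfl
  have hle := normal_le_defect hM (isPGroup_subgroupOf (isPGroup_defect hD) Subgroup.le_normalizer)
    hind.1 hD'
  obtain ⟨E, hE, hDE⟩ := exists_defect_le_of_induced hM hind hD'
  obtain ⟨x, rfl⟩ := exists_defectGroup_conj_eq hM hind.2.1 hD hE
  refine (eq_of_le_of_card_le hle ?_).symm
  rw [Nat.card_congr (Subgroup.subgroupOfEquivOfLe (Subgroup.le_normalizer (H := D))).toEquiv,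
    ← Subgroup.card_map_of_injective (Subgroup.normalizer (D : Set G)).subtype_injective, ← card_map_conj D x]
  exact Subgroup.card_le_of_le hDE

/-- A block of `N(D)` with defect group `D` induces a block with defect group `D`. -/
theorem exists_induced_defect (hM : Cfsg.IsPModular p M) {D : Subgroup G} (hDp : IsPGroup p D)
    {b : Set (Cfsg.IrrCharacter (Subgroup.normalizer (D : Set G)))} (hb : Cfsg.IsPBlock M b)
    (hbD : Cfsg.IsDefectGroup p M b (D.subgroupOf (Subgroup.normalizer (D : Set G)))) :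
    ∃ B : Set (Cfsg.IrrCharacter G), Cfsg.IsDefectGroup p M B D ∧
      Cfsg.IsInducedBlock M (Subgroup.normalizer (D : Set G)) b B := by
  haveI := fact_prime_of_pm hM
  obtain ⟨B, hind⟩ := inducedBlockDefined_of_brauer hM hDp Subgroup.le_normalizer
    (centralizer_le_normalizer' D) le_rfl hb
  refine ⟨B, ?_, hind⟩
  obtain ⟨h, hh, hs⟩ := isDefectGroup_iff.1 hbD
  have hhC : (h : G) ∈ Subgroup.centralizer (D : Set G) :=
    (mem_centralizer_subgroupOf Subgroup.le_normalizer).1 (isSylCent_mem hs)
  have hsG : IsSylCent p (h : G) D := (isSylCent_normalizer_iff hDp hhC).1 hs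
  obtain ⟨ξ, hξ⟩ := block_nonempty hM hb
  obtain ⟨χ, hχ⟩ := block_nonempty hM hind.2.1
  have hn : ¬ Cfsg.MemLocalIdeal M (Cfsg.centralChar (χ : G → ℂ) (h : G)) := by
    rw [← omega_classSum (irr_isClassFunction χ),
      ← ideal_iff_of_cong hM (omega_brEl_of_induced hM hDp Subgroup.le_normalizer le_rfl hind hξ hχ
        (central_classSum _) (intEl_classSum hM _)), brEl_classSum hsG,
      omega_classSum (irr_isClassFunction ξ)]
    exact hh.2.2 ξ hξ
  obtain ⟨E, hE, hDE⟩ := exists_defect_le_of_induced hM hind hbD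
  rw [map_subgroupOf_eq Subgroup.le_normalizer] at hDE
  obtain ⟨x, hx⟩ := exists_conj_le_of_meets (isPGroup_defect hE) hsG
    (meets_defect_of_omega hM hind.2.1 hE hχ hn)
  have hc := Subgroup.card_le_of_le hx
  rw [card_map_conj] at hc
  rwa [eq_of_le_of_card_le hDE hc]

/-- The block of `N(D)` corresponding to a block with defect group `D` is unique. -/
theorem induced_normalizer_unique (hM : Cfsg.IsPModular p M) {D : Subgroup G}
    {B : Set (Cfsg.IrrCharacter G)} (hD : Cfsg.IsDefectGroup p M B D)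
    {b b' : Set (Cfsg.IrrCharacter (Subgroup.normalizer (D : Set G)))}
    (hind : Cfsg.IsInducedBlock M (Subgroup.normalizer (D : Set G)) b B)
    (hind' : Cfsg.IsInducedBlock M (Subgroup.normalizer (D : Set G)) b' B) : b = b' := by
  classical
  haveI := fact_prime_of_pm hM
  haveI hnorm := normal_subgroupOf (H := (Subgroup.normalizer (D : Set G))) (P := D) le_rfl
  have hDp := isPGroup_defect hD
  have hDp' := isPGroup_subgroupOf hDp (Subgroup.le_normalizer (H := D))
  obtain ⟨D₀, hD₀⟩ := exists_defectGroup hM hind.1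
  obtain rfl := defectGroup_of_induced_normalizer hM hind hD hD₀
  obtain ⟨ξ, hξ⟩ := block_nonempty hM hind.1
  obtain ⟨ξ', hξ'⟩ := block_nonempty hM hind'.1
  obtain ⟨χ, hχ⟩ := block_nonempty hM hind.2.1
  by_contra hne
  have hout : ξ' ∉ b := fun h => hne (block_eq_of_mem hM hind.1 hind'.1 h hξ')
  haveI := Fintype.ofFinite (ConjClasses (Subgroup.normalizer (D : Set G)))
  set e := blockIdem b
  set s := Finset.univ.filter fun C : ConjClasses (Subgroup.normalizer (D : Set G)) =>
    ¬ Cfsg.MemLocalIdeal M (e.coeff (Quotient.out C))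
  set z : MonoidAlgebra ℂ G :=
    ∑ C ∈ s, e.coeff (Quotient.out C) • classSum ((Quotient.out C : (Subgroup.normalizer (D : Set G))) : G)
  have he := central_blockIdem b
  have hei := intEl_blockIdem hM hind.1
  have hzc : IsCentralEl z := central_sum fun C _ => central_smul _ (central_classSum _)
  have hzi : IntEl M z := intEl_sum hM fun C _ => intEl_smul hM (hei _) (intEl_classSum hM _)
  have hbr : CongEl M (brEl D (Subgroup.normalizer (D : Set G)) z) e := by
    have hz : brEl D (Subgroup.normalizer (D : Set G)) z = ∑ C ∈ s, e.coeff (Quotient.out C) • classSum (Quotient.out C) := by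
      simp only [z, brEl_sum, brEl_smul]
      refine Finset.sum_congr rfl fun C hC => ?_
      have hC' : ¬ Cfsg.MemLocalIdeal M (Cfsg.blockCoeff b (Quotient.out C)) := by
        simpa [s, e, coeff_blockIdem] using hC
      have hcD := mem_centralizer_of_blockCoeff hM hDp' hind.1 hC'
      rw [brEl_classSum ((isSylCent_normalizer_iff hDp
        ((mem_centralizer_subgroupOf Subgroup.le_normalizer).1 hcD)).1 ?_)]
      refine isSylCent_of_max hDp' (le_centralizer_iff_mem.2 hcD) fun Q hQ hDQ hQC => ?_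
      obtain ⟨x, hx⟩ := le_defect_of_coeff hM hind.1 hD₀ hC' hQ (le_centralizer_iff_mem.1 hQC)
      refine (eq_of_le_of_card_le hDQ ?_).symm
      have := Subgroup.card_le_of_le hx
      rwa [card_map_conj] at this
    rw [hz, congEl_iff]
    intro g
    conv => arg 3; rw [central_eq_sum (show IsCentralEl e from he)]
    rw [← Finset.sum_add_sum_compl s (fun C => e.coeff (Quotient.out C) • classSum (Quotient.out C))]
    rw [MonoidAlgebra.coeff_add, Finsupp.add_apply]
    unfold Cong
    rw [sub_add_cancel_left]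
    refine ideal_neg hM ?_
    rw [MonoidAlgebra.coeff_sum, Finsupp.finset_sum_apply]
    refine ideal_sum hM fun C hC => ?_
    rw [MonoidAlgebra.coeff_smul, Finsupp.smul_apply, smul_eq_mul]
    exact ideal_mul_right hM (by simpa [s] using hC) (intEl_classSum hM _ g)
  have h1 := omega_brEl_of_induced hM hDp Subgroup.le_normalizer le_rfl hind hξ hχ hzc hzi
  have h2 := omega_brEl_of_induced hM hDp Subgroup.le_normalizer le_rfl hind' hξ' hχ hzc hzi
  have h3 := cong_trans hM (cong_trans hM
    (cong_symm hM (omega_cong hM ξ' (central_brEl le_rfl hzc) he hbr))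
    (cong_trans hM h2 (cong_symm hM h1)))
    (omega_cong hM ξ (central_brEl le_rfl hzc) he hbr)
  rw [omega_blockIdem_mem hξ, omega_blockIdem_notMem hout] at h3
  exact not_cong_zero_one hM h3

/-- Existence and uniqueness of the Brauer correspondent. -/
theorem existsUnique_correspondent (hM : Cfsg.IsPModular p M) {D : Subgroup G}
    {B : Set (Cfsg.IrrCharacter G)} (hB : Cfsg.IsPBlock M B)
    (hD : Cfsg.IsDefectGroup p M B D) :
    ∃! b : Set (Cfsg.IrrCharacter (Subgroup.normalizer (D : Set G))), Cfsg.IsPBlock M b ∧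
      Cfsg.IsDefectGroup p M b (D.subgroupOf (Subgroup.normalizer (D : Set G))) ∧
      Cfsg.IsInducedBlock M (Subgroup.normalizer (D : Set G)) b B := by
  have hDp := isPGroup_defect hD
  obtain ⟨b, hind⟩ := (exists_induced_iff hM hDp Subgroup.le_normalizer
    (centralizer_le_normalizer' D) le_rfl hB hD).2 ⟨1, by rw [map_conj_one]⟩
  obtain ⟨D', hD'⟩ := exists_defectGroup hM hind.1
  refine ⟨b, ⟨hind.1, defectGroup_of_induced_normalizer hM hind hD hD' ▸ hD', hind⟩, ?_⟩
  exact fun b' h => induced_normalizer_unique hM hD h.2.2 hind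

end Cfsg.Agent.Blocks
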