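import Mathlib
import Cfsg.Prelude.Def_Blocks
import Cfsg.Agent.Lib.Blocks.FirstMain
import Cfsg.Agent.BlockCharsA.NormalSupport
import Cfsg.Agent.Lib.CharTheory.Clifford

/-!
# Blocks of normal subgroups: covering
-/

set_option linter.style.haveILetI false
set_option linter.unusedSectionVars false

namespace Cfsg.Agent.Blocks

open Cfsg.Agent.Characters Cfsg.Agent.BlockCharsA.NormalSupport
open Cfsg.Agent.CharTheory

universe u v

variable {G : Type u} [Group G] [Finite G] {p : ℕ} {M : Ideal Cfsg.AlgInt}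

/-! ## Transport along isomorphisms -/

section Transport

variable {H : Type v} [Group H] [Finite H]

theorem index_centralizer_mulEquiv (e : H ≃* G) (h : H) :
    (Subgroup.centralizer ({e h} : Set G)).index = (Subgroup.centralizer ({h} : Set H)).index := by
  rw [← card_conjugates, ← card_conjugates]
  refine (Nat.card_congr (e.toEquiv.subtypeEquiv fun x => ?_)).symm
  show IsConj h x ↔ IsConj (e h) (e x)
  refine ⟨fun hc => e.toMonoidHom.map_isConj hc, fun hc => ?_⟩
  simpa using e.symm.toMonoidHom.map_isConj hc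

theorem centralChar_comp_mulEquiv (e : H ≃* G) (χ : G → ℂ) (h : H) :
    Cfsg.centralChar (χ ∘ e) h = Cfsg.centralChar χ (e h) := by
  simp [Cfsg.centralChar, index_centralizer_mulEquiv]

theorem sameBlock_comp_mulEquiv (e : H ≃* G) {χ ψ : G → ℂ} (h : Cfsg.SameBlock M χ ψ) :
    Cfsg.SameBlock M (χ ∘ e) (ψ ∘ e) := fun x => by
  rw [centralChar_comp_mulEquiv, centralChar_comp_mulEquiv]; exact h (e x)

end Transport

theorem res_eq_restrEl (H : Subgroup G) (z : MonoidAlgebra ℂ G) : res H z = restrEl H z :=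
  el_ext fun h => by rw [coeff_res, coeff_restrEl]

/-- A union of blocks has integral idempotent. -/
theorem intEl_blockIdem_of_closed (hM : Cfsg.IsPModular p M) {A : Set (Cfsg.IrrCharacter G)}
    (hA : ∀ θ ∈ A, ∀ θ' : Cfsg.IrrCharacter G, Cfsg.SameBlock M (θ : G → ℂ) (θ' : G → ℂ) → θ' ∈ A) :
    IntEl M (blockIdem A) := by
  classical
  haveI := Fintype.ofFinite (Cfsg.IrrCharacter G)
  haveI := Fintype.ofFinite {B : Set (Cfsg.IrrCharacter G) // Cfsg.IsPBlock M B}
  set z : MonoidAlgebra ℂ G := ∑ B : {B : Set (Cfsg.IrrCharacter G) // Cfsg.IsPBlock M B},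
    if B.1 ⊆ A then blockIdem B.1 else 0 with hz
  have hzc : IsCentralEl z := central_sum fun B _ => by
    split
    · exact central_blockIdem _
    · exact central_zero
  have hzi : IntEl M z := intEl_sum hM fun B _ => by
    split
    · exact intEl_blockIdem hM B.2
    · exact intEl_zero hM
  suffices blockIdem A = z by rwa [this]
  refine central_omega_ext (central_blockIdem A) hzc fun χ => ?_
  rw [omega_blockIdem, hz, omega_sum,
    Finset.sum_eq_single (⟨_, isPBlock_blockOf M χ⟩ :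
      {B : Set (Cfsg.IrrCharacter G) // Cfsg.IsPBlock M B})]
  · by_cases hχ : χ ∈ A
    · rw [if_pos hχ, if_pos (show Cfsg.blockOf M (χ : G → ℂ) ⊆ A from
        fun ψ hψ => hA χ hχ ψ hψ), omega_blockIdem_mem (mem_blockOf_self hM χ)]
    · rw [if_neg hχ, if_neg (fun h => hχ (h (mem_blockOf_self hM χ))), omega_zero]
  · intro B _ hne
    split
    · exact omega_blockIdem_notMem fun hχ => hne (Subtype.ext (block_eq_blockOf hM B.2 hχ))
    · exact omega_zero _
  · simp

/-! ## Conjugate characters of a normal subgroup -/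

variable {N : Subgroup G} [hN : N.Normal]

/-- The conjugate of an irreducible character of a normal subgroup. -/
noncomputable def conjIrr (g : G) (θ : Cfsg.IrrCharacter N) : Cfsg.IrrCharacter N :=
  ⟨Clifford.conjBy N g (θ : N → ℂ), Clifford.isIrrCharacter_conjBy N g θ.2⟩

theorem coe_conjIrr (g : G) (θ : Cfsg.IrrCharacter N) :
    (conjIrr g θ : N → ℂ) = Clifford.conjBy N g (θ : N → ℂ) := rfl

theorem conjIrr_conjIrr (g h : G) (θ : Cfsg.IrrCharacter N) :
    conjIrr g (conjIrr h θ) = conjIrr (h * g) θ :=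
  Subtype.ext (Clifford.conjBy_conjBy N g h _)

theorem conjIrr_one (θ : Cfsg.IrrCharacter N) : conjIrr 1 θ = θ :=
  Subtype.ext (Clifford.conjBy_one N _)

theorem sameBlock_conjIrr (g : G) {θ θ' : Cfsg.IrrCharacter N}
    (h : Cfsg.SameBlock M (θ : N → ℂ) (θ' : N → ℂ)) :
    Cfsg.SameBlock M (conjIrr g θ : N → ℂ) (conjIrr g θ' : N → ℂ) := by
  rw [coe_conjIrr, coe_conjIrr, Clifford.conjBy_eq_comp, Clifford.conjBy_eq_comp]
  exact sameBlock_comp_mulEquiv _ h

theorem isInvEl_blockIdem {A : Set (Cfsg.IrrCharacter N)}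
    (hA : ∀ (g : G) θ, θ ∈ A → conjIrr g θ ∈ A) : IsInvEl (blockIdem A) := by
  classical
  haveI := Fintype.ofFinite (Cfsg.IrrCharacter N)
  intro g n
  simp only [coeff_blockIdem, blockCoeff_eq_sum]
  congr 1
  have hinj : Function.Injective (conjIrr (N := N) g) := fun a b e =>
    Subtype.ext (Clifford.conjBy_injective N g (congrArg Subtype.val e))
  refine Fintype.sum_bijective _ (Finite.injective_iff_bijective.1 hinj) _ _ fun θ => ?_
  by_cases hθ : θ ∈ A
  · rw [if_pos hθ, if_pos (hA g θ hθ), coe_conjIrr, Clifford.conjBy_at_one, Clifford.conjBy_apply]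
  · rw [if_neg hθ, if_neg fun h => hθ (by
      have := hA g⁻¹ _ h
      rwa [conjIrr_conjIrr, mul_inv_cancel, conjIrr_one] at this)]

/-! ## Central characters and constituents -/

theorem push_res_classSum (n : N) : push N (res N (classSum (n : G))) = classSum (n : G) :=
  push_res fun g hg => by
    classical
    rw [coeff_classSum, if_neg]
    intro hc
    obtain ⟨c, hc⟩ := isConj_iff.1 hc
    exact hg (hc ▸ hN.conj_mem n n.2 c)

theorem centralChar_eq_of_constituent [Fintype N] (χ : Cfsg.IrrCharacter G)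
    (θ : Cfsg.IrrCharacter N)
    (h : Cfsg.classInner (fun n : N => (χ : G → ℂ) n) (θ : N → ℂ) ≠ 0) (n : N) :
    Cfsg.centralChar (χ : G → ℂ) (n : G) = Cfsg.inducedCentralChar N (θ : N → ℂ) (n : G) := by
  rw [← omega_classSum (irr_isClassFunction χ), ← push_res_classSum n,
    omega_push_eq χ θ h (isInvEl_res (central_classSum _)), res_eq_restrEl, omega_restrEl_classSum]

theorem omega_push_cong_of (hM : Cfsg.IsPModular p M) (χ : Cfsg.IrrCharacter G)
    (θ : Cfsg.IrrCharacter N)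
    (h : ∀ n : N, Cong M (Cfsg.centralChar (χ : G → ℂ) (n : G))
      (Cfsg.inducedCentralChar N (θ : N → ℂ) (n : G)))
    {z : MonoidAlgebra ℂ N} (hz : IsInvEl z) (hi : IntEl M z) :
    Cong M (omega (χ : G → ℂ) (push N z)) (omega (θ : N → ℂ) z) := by
  haveI := Fintype.ofFinite (ConjClasses G)
  conv => arg 3; rw [← res_push z, res_eq_restrEl, omega_restrEl_eq_sum N _ (central_push hz)]
  conv => arg 2; rw [central_eq_sum (central_push hz), omega_sum]
  refine cong_sum hM fun C _ => ?_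
  rw [omega_smul, omega_classSum (irr_isClassFunction χ)]
  by_cases hC : Quotient.out C ∈ N
  · exact cong_mul_left hM (intEl_push hM hi _) (h ⟨_, hC⟩)
  · rw [coeff_push_notMem _ hC, zero_mul, zero_mul]
    exact cong_refl hM 0

theorem omega_push_eq_of (χ : Cfsg.IrrCharacter G) (θ : Cfsg.IrrCharacter N)
    (h : ∀ n : N, Cfsg.centralChar (χ : G → ℂ) (n : G) =
      Cfsg.inducedCentralChar N (θ : N → ℂ) (n : G))
    {z : MonoidAlgebra ℂ N} (hz : IsInvEl z) :
    omega (χ : G → ℂ) (push N z) = omega (θ : N → ℂ) z := by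
  haveI := Fintype.ofFinite (ConjClasses G)
  conv_rhs => rw [← res_push z, res_eq_restrEl, omega_restrEl_eq_sum N _ (central_push hz)]
  conv_lhs => rw [central_eq_sum (central_push hz), omega_sum]
  refine Finset.sum_congr rfl fun C _ => ?_
  rw [omega_smul, omega_classSum (irr_isClassFunction χ)]
  by_cases hC : Quotient.out C ∈ N
  · rw [← h ⟨_, hC⟩]
  · rw [coeff_push_notMem _ hC, zero_mul, zero_mul]

theorem constituent_iff_centralChar [Fintype N] (χ : Cfsg.IrrCharacter G)
    (θ : Cfsg.IrrCharacter N) :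
    Cfsg.classInner (fun n : N => (χ : G → ℂ) n) (θ : N → ℂ) ≠ 0 ↔
      ∀ n : N, Cfsg.centralChar (χ : G → ℂ) (n : G) =
        Cfsg.inducedCentralChar N (θ : N → ℂ) (n : G) := by
  refine ⟨centralChar_eq_of_constituent χ θ, fun h => ?_⟩
  haveI := Fintype.ofFinite G
  obtain ⟨θ', hθ'⟩ := exists_under (N := N) χ
  set A : Set (Cfsg.IrrCharacter N) :=
    {ψ | Cfsg.classInner (fun n : N => (χ : G → ℂ) n) (ψ : N → ℂ) ≠ 0}
  have hA : IsInvEl (blockIdem A) := isInvEl_blockIdem fun g ψ hψ => by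
    show Cfsg.classInner _ (Clifford.conjBy N g (ψ : N → ℂ)) ≠ 0
    rw [Clifford.classInner_restrict_conjBy N (irr_isClassFunction χ)]
    exact hψ
  have h1 := omega_push_eq_of χ θ h hA
  rw [omega_push_eq χ θ' hθ' hA, omega_blockIdem_mem (show θ' ∈ A from hθ')] at h1
  by_contra hne
  rw [omega_blockIdem_notMem (show θ ∉ A from fun e => e (by simpa using hne))] at h1
  exact one_ne_zero h1

/-- Two characters of a normal subgroup with congruent central characters on invariant elements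
lie in conjugate blocks. -/
theorem exists_conj_sameBlock (hM : Cfsg.IsPModular p M) {θ θ' : Cfsg.IrrCharacter N}
    (h : ∀ z : MonoidAlgebra ℂ N, IsInvEl z → IntEl M z →
      Cong M (omega (θ : N → ℂ) z) (omega (θ' : N → ℂ) z)) :
    ∃ g : G, Cfsg.SameBlock M (conjIrr g θ : N → ℂ) (θ' : N → ℂ) := by
  set A : Set (Cfsg.IrrCharacter N) :=
    {ψ | ∃ g : G, Cfsg.SameBlock M (conjIrr g ψ : N → ℂ) (θ' : N → ℂ)}
  have hinv : IsInvEl (blockIdem A) := isInvEl_blockIdem fun a ψ ⟨g, hg⟩ =>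
    ⟨a⁻¹ * g, by rwa [conjIrr_conjIrr, mul_inv_cancel_left]⟩
  have hint : IntEl M (blockIdem A) := intEl_blockIdem_of_closed hM fun ψ ⟨g, hg⟩ ψ' hψ =>
    ⟨g, sameBlock_trans hM (sameBlock_conjIrr g (sameBlock_symm hM hψ)) hg⟩
  have h1 := h _ hinv hint
  rw [omega_blockIdem_mem (show θ' ∈ A from ⟨1, by rw [conjIrr_one]; exact sameBlock_refl hM _⟩)]
    at h1
  by_contra hne
  rw [omega_blockIdem_notMem (show θ ∉ A from hne)] at h1
  exact not_cong_zero_one hM h1

theorem constituent_conjIrr [Fintype N] (χ : Cfsg.IrrCharacter G) (g : G)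
    (θ : Cfsg.IrrCharacter N) :
    Cfsg.classInner (fun n : N => (χ : G → ℂ) n) (conjIrr g θ : N → ℂ) =
      Cfsg.classInner (fun n : N => (χ : G → ℂ) n) (θ : N → ℂ) := by
  haveI := Fintype.ofFinite G
  exact Clifford.classInner_restrict_conjBy N (irr_isClassFunction χ) g _

theorem constituents_conj_block [Fintype N] (hM : Cfsg.IsPModular p M)
    {χ χ' : Cfsg.IrrCharacter G} (hχ : Cfsg.SameBlock M (χ : G → ℂ) (χ' : G → ℂ))
    {θ θ' : Cfsg.IrrCharacter N}
    (h : Cfsg.classInner (fun n : N => (χ : G → ℂ) n) (θ : N → ℂ) ≠ 0)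
    (h' : Cfsg.classInner (fun n : N => (χ' : G → ℂ) n) (θ' : N → ℂ) ≠ 0) :
    ∃ g : G, Cfsg.SameBlock M (conjIrr g θ : N → ℂ) (θ' : N → ℂ) :=
  exists_conj_sameBlock hM fun z hz hi => by
    rw [← omega_push_eq χ θ h hz, ← omega_push_eq χ' θ' h' hz]
    exact (sameBlock_iff_omega hM χ χ').1 hχ _ (central_push hz) (intEl_push hM hi)

/-- The block `B` covers `b` iff their central characters agree on the normal subgroup. -/
theorem covers_iff [Fintype N] (hM : Cfsg.IsPModular p M) {B : Set (Cfsg.IrrCharacter G)}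
    (hB : Cfsg.IsPBlock M B) {b : Set (Cfsg.IrrCharacter N)} (hb : Cfsg.IsPBlock M b) :
    (∃ χ ∈ B, ∃ θ ∈ b, Cfsg.classInner (fun n : N => (χ : G → ℂ) n) (θ : N → ℂ) ≠ 0) ↔
      ∀ χ ∈ B, ∀ θ ∈ b, ∀ n : N, Cong M (Cfsg.centralChar (χ : G → ℂ) (n : G))
        (Cfsg.inducedCentralChar N (θ : N → ℂ) (n : G)) := by
  constructor
  · rintro ⟨χ₀, hχ₀, θ₀, hθ₀, h⟩ χ hχ θ hθ n
    refine cong_trans hM (sameBlock_of_mem hM hB hχ hχ₀ n) ?_
    rw [centralChar_eq_of_constituent χ₀ θ₀ h n, ← omega_restrEl_classSum, ← omega_restrEl_classSum]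
    exact inducedCentralChar_cong hM hb hθ₀ hθ (central_classSum _) (intEl_classSum hM _)
  · intro h
    obtain ⟨χ, hχ⟩ := block_nonempty hM hB
    obtain ⟨θ, hθ⟩ := block_nonempty hM hb
    obtain ⟨θ', hθ'⟩ := exists_under (N := N) χ
    obtain ⟨g, hg⟩ := exists_conj_sameBlock hM (θ := θ') (θ' := θ) fun z hz hi => by
      rw [← omega_push_eq χ θ' hθ' hz]
      exact omega_push_cong_of hM χ θ (h χ hχ θ hθ) hz hi
    exact ⟨χ, hχ, conjIrr g θ', mem_of_sameBlock hM hb hθ (sameBlock_symm hM hg),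
      by rwa [constituent_conjIrr]⟩

/-! ## Normal subgroups of order prime to `p` -/

theorem sameBlock_eq_of_coprime {K : Type v} [Group K] [Finite K] (hM : Cfsg.IsPModular p M)
    (hK : ¬ p ∣ Nat.card K) {θ θ' : Cfsg.IrrCharacter K}
    (h : Cfsg.SameBlock M (θ : K → ℂ) (θ' : K → ℂ)) : θ = θ' := by
  classical
  haveI := Fintype.ofFinite (Cfsg.IrrCharacter K)
  have hint : IntEl M (blockIdem ({θ} : Set (Cfsg.IrrCharacter K))) := fun x => by
    rw [coeff_blockIdem, blockCoeff_eq_sum]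
    refine ring_mul hM (ring_inv_natCast hM hK) (ring_sum hM fun ψ _ => ?_)
    split
    · exact ring_mul hM (irr_value_ring hM ψ 1) (irr_conj_ring hM ψ x)
    · exact ring_zero hM
  exact (blockOf_subset_of_intEl hM hint rfl (show θ' ∈ Cfsg.blockOf M (θ : K → ℂ) from h)).symm

theorem constituent_transfer [Fintype N] (hM : Cfsg.IsPModular p M) (hNp : ¬ p ∣ Nat.card N)
    {χ χ' : Cfsg.IrrCharacter G} (hχ : Cfsg.SameBlock M (χ : G → ℂ) (χ' : G → ℂ))
    {θ : Cfsg.IrrCharacter N}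
    (h : Cfsg.classInner (fun n : N => (χ : G → ℂ) n) (θ : N → ℂ) ≠ 0) :
    Cfsg.classInner (fun n : N => (χ' : G → ℂ) n) (θ : N → ℂ) ≠ 0 := by
  obtain ⟨θ', hθ'⟩ := exists_under (N := N) χ'
  obtain ⟨g, hg⟩ := constituents_conj_block hM hχ h hθ'
  rw [← constituent_conjIrr χ' g θ]
  rwa [sameBlock_eq_of_coprime hM hNp hg]

theorem constituent_trivIrr_iff [Fintype N] (χ : Cfsg.IrrCharacter G) :
    Cfsg.classInner (fun n : N => (χ : G → ℂ) n) (trivIrr N : N → ℂ) ≠ 0 ↔
      ∀ n ∈ N, (χ : G → ℂ) n = (χ : G → ℂ) 1 := by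
  haveI := Fintype.ofFinite G
  constructor
  · intro h n hn
    have hr := Clifford.restrict_eq_smul_of_invariant N χ.2 (trivIrr N).2 h fun g => rfl
    have h1 := congrFun hr ⟨n, hn⟩
    have h2 := congrFun hr (1 : N)
    simp only [trivIrr, Pi.smul_apply, smul_eq_mul, mul_one, OneMemClass.coe_one] at h1 h2
    rw [h1, h2]
  · intro h
    have : (fun n : N => (χ : G → ℂ) n) = (χ : G → ℂ) 1 • (trivIrr N : N → ℂ) := funext fun n => by
      simp [trivIrr, h n n.2]
    rw [this, classInner_smul_left, classInner_irr, if_pos rfl, mul_one]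
    exact irr_one_ne_zero χ.2

theorem trivial_on_transfer (hM : Cfsg.IsPModular p M) (hNp : ¬ p ∣ Nat.card N)
    {χ χ' : Cfsg.IrrCharacter G} (hχ : Cfsg.SameBlock M (χ : G → ℂ) (χ' : G → ℂ))
    (h : ∀ n ∈ N, (χ : G → ℂ) n = (χ : G → ℂ) 1) :
    ∀ n ∈ N, (χ' : G → ℂ) n = (χ' : G → ℂ) 1 := by
  haveI := Fintype.ofFinite N
  exact (constituent_trivIrr_iff χ').1
    (constituent_transfer hM hNp hχ ((constituent_trivIrr_iff χ).2 h))

/-! ## Normal subgroups of `p`-power index -/

theorem mem_of_regular (hp : p.Prime) (hidx : ∃ k : ℕ, N.index = p ^ k) {g : G}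
    (hg : ¬ p ∣ orderOf g) : g ∈ N := by
  obtain ⟨k, hk⟩ := hidx
  obtain ⟨m, hm⟩ := exists_pow_eq_self_of_coprime (show (p ^ k).Coprime (orderOf g) from
    Nat.Coprime.pow_left k (hp.coprime_iff_not_dvd.2 hg))
  rw [← hm, ← hk]
  exact N.pow_mem (N.pow_index_mem g) m

theorem sameBlock_of_covers_same (hM : Cfsg.IsPModular p M) [Fintype N]
    (hidx : ∃ k : ℕ, N.index = p ^ k) {χ χ' : Cfsg.IrrCharacter G}
    {θ θ' : Cfsg.IrrCharacter N}
    (h : Cfsg.classInner (fun n : N => (χ : G → ℂ) n) (θ : N → ℂ) ≠ 0)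
    (h' : Cfsg.classInner (fun n : N => (χ' : G → ℂ) n) (θ' : N → ℂ) ≠ 0)
    (hθ : Cfsg.SameBlock M (θ : N → ℂ) (θ' : N → ℂ)) :
    Cfsg.SameBlock M (χ : G → ℂ) (χ' : G → ℂ) := by
  have hB := isPBlock_blockOf M χ
  set e := blockIdem (Cfsg.blockOf M (χ : G → ℂ)) with he
  have hsupp : push N (res N e) = e := push_res fun g hg => by
    rw [he, coeff_blockIdem]
    refine blockCoeff_eq_zero_of_singular hM (intEl_blockIdem hM hB) ?_
    by_contra hr
    exact hg (mem_of_regular hM.1 hidx hr)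
  have hinv : IsInvEl (res N e) := isInvEl_res (central_blockIdem _)
  have h1 : Cong M (omega (χ : G → ℂ) e) (omega (χ' : G → ℂ) e) := by
    rw [← hsupp, omega_push_eq χ θ h hinv, omega_push_eq χ' θ' h' hinv]
    exact (sameBlock_iff_omega hM θ θ').1 hθ _ (central_of_isInvEl hinv)
      (intEl_res (intEl_blockIdem hM hB))
  by_contra hne
  rw [he, omega_blockIdem_mem (mem_blockOf_self hM χ),
    omega_blockIdem_notMem (show χ' ∉ Cfsg.blockOf M (χ : G → ℂ) from hne)] at h1
  exact not_cong_zero_one hM (cong_symm hM h1)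

/-! ## Normal `p`-subgroups -/

/-- A block covering `b` is induced by it when the subgroup contains the centraliser of a normal
`p`-subgroup. -/
theorem isInduced_of_covers (hM : Cfsg.IsPModular p M) [Fintype N] {Q : Subgroup G} [Q.Normal]
    (hQ : IsPGroup p Q) (hQN : Subgroup.centralizer (Q : Set G) ≤ N)
    {b : Set (Cfsg.IrrCharacter N)} (hb : Cfsg.IsPBlock M b) {B : Set (Cfsg.IrrCharacter G)}
    (hB : Cfsg.IsPBlock M B) {χ : Cfsg.IrrCharacter G} (hχ : χ ∈ B) {θ : Cfsg.IrrCharacter N}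
    (hθ : θ ∈ b) (h : Cfsg.classInner (fun n : N => (χ : G → ℂ) n) (θ : N → ℂ) ≠ 0) :
    Cfsg.IsInducedBlock M N b B :=
  isInduced_of_omega hM hb hB hθ hχ fun g => by
    rw [← omega_classSum (irr_isClassFunction χ), ← res_eq_restrEl,
      ← omega_push_eq χ θ h (isInvEl_res (central_classSum g))]
    exact cong_symm hM (omega_cong_res hM hQ hQN χ (central_classSum g) (intEl_classSum hM g))

end Cfsg.Agent.Blocks
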