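import Mathlib
import Cfsg.Agent.Lib.Blocks.Covering
import Cfsg.Agent.Lib.Blocks.Defect

/-!
# Covering blocks of maximal defect
-/

set_option linter.style.haveILetI false
set_option linter.unusedSectionVars false

namespace Cfsg.Agent.Blocks

open Cfsg.Agent.Characters Cfsg.Agent.CharTheory Cfsg.Agent.BlockCharsA.NormalSupport

universe u

variable {G : Type u} [Group G] [Finite G] {p : ℕ} {M : Ideal Cfsg.AlgInt}

/-- A coefficient of a union of blocks that is a unit is a unit in one of them. -/
theorem exists_block_coeff_unit (hM : Cfsg.IsPModular p M) {A : Set (Cfsg.IrrCharacter G)}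
    (hA : ∀ θ ∈ A, ∀ θ' : Cfsg.IrrCharacter G, Cfsg.SameBlock M (θ : G → ℂ) (θ' : G → ℂ) → θ' ∈ A)
    {g : G} (hg : ¬ Cfsg.MemLocalIdeal M (Cfsg.blockCoeff A g)) :
    ∃ B : Set (Cfsg.IrrCharacter G), Cfsg.IsPBlock M B ∧ B ⊆ A ∧
      ¬ Cfsg.MemLocalIdeal M (Cfsg.blockCoeff B g) := by
  classical
  haveI := Fintype.ofFinite (Cfsg.IrrCharacter G)
  haveI := Fintype.ofFinite {B : Set (Cfsg.IrrCharacter G) // Cfsg.IsPBlock M B}
  by_contra hcon
  push Not at hcon
  apply hg
  have hsum : Cfsg.blockCoeff A g = ∑ B : {B : Set (Cfsg.IrrCharacter G) // Cfsg.IsPBlock M B},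
      if B.1 ⊆ A then Cfsg.blockCoeff B.1 g else 0 := by
    simp only [blockCoeff_eq_sum]
    rw [Finset.sum_congr rfl (g := fun B : {B : Set (Cfsg.IrrCharacter G) // Cfsg.IsPBlock M B} =>
      (Nat.card G : ℂ)⁻¹ * ∑ χ : Cfsg.IrrCharacter G, if B.1 ⊆ A ∧ χ ∈ B.1 then
        (χ : G → ℂ) 1 * (starRingEnd ℂ) ((χ : G → ℂ) g) else 0)
      (fun B _ => by by_cases h : B.1 ⊆ A <;> simp [h]), ← Finset.mul_sum, Finset.sum_comm]
    congr 1
    refine Finset.sum_congr rfl fun χ _ => ?_
    rw [Finset.sum_eq_single (⟨_, isPBlock_blockOf M χ⟩ :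
      {B : Set (Cfsg.IrrCharacter G) // Cfsg.IsPBlock M B})]
    · refine if_congr ⟨fun h => ⟨fun ψ hψ => hA χ h ψ hψ, mem_blockOf_self hM χ⟩,
        fun h => h.1 h.2⟩ rfl rfl
    · exact fun B _ hne => if_neg fun h => hne (Subtype.ext (block_eq_blockOf hM B.2 h.2))
    · simp
  rw [hsum]
  refine ideal_sum hM fun B _ => ?_
  split
  · exact hcon B.1 B.2 ‹_›
  · exact ideal_zero hM

/-- For an invariant block of a normal subgroup, a covering block of maximal defect. -/
theorem maximal_covering (hM : Cfsg.IsPModular p M) {N : Subgroup G} [N.Normal] [Fintype N]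
    {b : Set (Cfsg.IrrCharacter N)} (hb : Cfsg.IsPBlock M b)
    (hinv : ∀ (g : G), ∀ θ ∈ b, conjIrr g θ ∈ b) {B : Set (Cfsg.IrrCharacter G)}
    (hB : Cfsg.IsPBlock M B)
    (hcov : ∃ χ ∈ B, ∃ θ ∈ b, Cfsg.classInner (fun n : N => (χ : G → ℂ) n) (θ : N → ℂ) ≠ 0)
    (hmax : ∀ B' : Set (Cfsg.IrrCharacter G), Cfsg.IsPBlock M B' →
      (∃ χ ∈ B', ∃ θ ∈ b, Cfsg.classInner (fun n : N => (χ : G → ℂ) n) (θ : N → ℂ) ≠ 0) →
      Cfsg.blockDefect p B' ≤ Cfsg.blockDefect p B)
    {P : Subgroup G} (hP : Cfsg.IsDefectGroup p M B P) :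
    ¬ p ∣ (P ⊔ N).index ∧ Cfsg.IsDefectGroup p M b ((P ⊓ N).subgroupOf N) ∧
      Cfsg.blockDefect p B = Cfsg.blockDefect p b + N.index.factorization p := by
  classical
  haveI := fact_prime_of_pm hM
  haveI := Fintype.ofFinite G
  obtain ⟨χ, hχ, θ, hθ, hne⟩ := hcov
  set A : Set (Cfsg.IrrCharacter G) := {ψ | ∃ η ∈ b,
    Cfsg.classInner (fun n : N => (ψ : G → ℂ) n) (η : N → ℂ) ≠ 0}
  have hAc : ∀ ψ ∈ A, ∀ ψ' : Cfsg.IrrCharacter G,
      Cfsg.SameBlock M (ψ : G → ℂ) (ψ' : G → ℂ) → ψ' ∈ A := by
    rintro ψ ⟨η, hη, hψ⟩ ψ' hs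
    obtain ⟨η', hη'⟩ := exists_under (N := N) ψ'
    obtain ⟨g, hg⟩ := constituents_conj_block hM hs hψ hη'
    have h := hinv g η hη
    refine ⟨η', ?_, hη'⟩
    rw [block_eq_blockOf hM hb h]
    exact hg
  have hie : IsInvEl (blockIdem b) := isInvEl_blockIdem hinv
  have hE : push N (blockIdem b) = blockIdem A :=
    central_omega_ext (central_push hie) (central_blockIdem A) fun ψ => by
      obtain ⟨η, hη⟩ := exists_under (N := N) ψ
      rw [omega_push_eq ψ η hη hie]
      by_cases h : η ∈ b
      · rw [omega_blockIdem_mem h, omega_blockIdem_mem (show ψ ∈ A from ⟨η, h, hη⟩)]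
      · rw [omega_blockIdem_notMem h, omega_blockIdem_notMem]
        rintro ⟨η', hη'b, hη'⟩
        obtain ⟨g, hg⟩ := Clifford.exists_conjBy_eq N ψ.2 η'.2 η.2 hη' hη
        exact h ((Subtype.ext hg : conjIrr g η' = η) ▸ hinv g η' hη'b)
  obtain ⟨x, hx1, hx2⟩ := exists_coeff_omega_notIdeal hM χ (central_push hie)
    (intEl_push hM (intEl_blockIdem hM hb))
    (by rw [omega_push_eq χ θ hne hie, omega_blockIdem_mem hθ]; exact not_ideal_one hM)
  -- move the element into the centraliser of `P`
  obtain ⟨c, hxc, hcP⟩ := meets_defect_of_omega hM hB hP hχ hx2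
  have hc1 : ¬ Cfsg.MemLocalIdeal M ((push N (blockIdem b)).coeff c) := by
    rwa [central_isConj (central_push hie) hxc.symm]
  have hc2 : ∀ ψ : Cfsg.IrrCharacter G,
      Cfsg.centralChar (ψ : G → ℂ) c = Cfsg.centralChar (ψ : G → ℂ) x := fun ψ => by
    rw [← omega_classSum (irr_isClassFunction ψ), ← omega_classSum (irr_isClassFunction ψ)]
    refine congrArg _ (el_ext fun g => ?_)
    simp only [coeff_classSum]
    congr 1
    exact propext ⟨fun h => hxc.trans h, fun h => hxc.symm.trans h⟩
  have hcN : c ∈ N := by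
    by_contra h
    exact hc1 (coeff_push_notMem _ h ▸ ideal_zero hM)
  set c' : N := ⟨c, hcN⟩
  have hbc : ¬ Cfsg.MemLocalIdeal M (Cfsg.blockCoeff b c') := by
    rwa [← coeff_blockIdem, ← coeff_push_coe]
  -- the central characters on the classes of `N` inside the class of `c`
  have hconj : ∀ n : N, IsConj c (n : G) →
      Cong M (Cfsg.centralChar (θ : N → ℂ) n) (Cfsg.centralChar (θ : N → ℂ) c') ∧
        (Subgroup.centralizer ({n} : Set N)).index =
          (Subgroup.centralizer ({c'} : Set N)).index := by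
    intro n hn
    obtain ⟨g, hg⟩ := isConj_iff.1 hn
    have hn' : n = (MulAut.conjNormal g : N ≃* N) c' := Subtype.ext (by simp [c', hg])
    refine ⟨?_, by rw [hn', index_centralizer_mulEquiv]⟩
    rw [hn', ← centralChar_comp_mulEquiv]
    have h := hinv g θ hθ
    rw [block_eq_blockOf hM hb hθ] at h
    have h2 := h c'
    rw [coe_conjIrr, Clifford.conjBy_eq_comp] at h2
    exact cong_symm hM h2
  haveI := Fintype.ofFinite (ConjClasses N)
  set K := Finset.univ.filter fun C : ConjClasses N => IsConj c ((Quotient.out C : N) : G)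
  have hz : res N (classSum c) = ∑ C ∈ K, classSum (Quotient.out C) := by
    rw [central_eq_sum (show IsCentralEl (res N (classSum c)) from
      central_of_isInvEl (isInvEl_res (central_classSum c))), Finset.sum_filter]
    refine Finset.sum_congr rfl fun C _ => ?_
    rw [coeff_res, coeff_classSum]
    split <;> simp
  have hGidx : (K.card * (Subgroup.centralizer ({c'} : Set N)).index : ℕ) =
      (Subgroup.centralizer ({c} : Set G)).index := by
    have h1 : omega (trivIrr N : N → ℂ) (res N (classSum c)) =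
        ((Subgroup.centralizer ({c} : Set G)).index : ℂ) := by
      obtain ⟨η, hη⟩ := exists_over (G := G) (trivIrr N)
      rw [← omega_push_eq η (trivIrr N) hη (isInvEl_res (central_classSum c)),
        show c = ((c' : N) : G) from rfl, push_res_classSum, omega_classSum (irr_isClassFunction η),
        Cfsg.centralChar, ((constituent_trivIrr_iff η).1 hη) _ c'.2, mul_div_assoc,
        div_self (irr_one_ne_zero η.2), mul_one]
    rw [hz, omega_sum, Finset.sum_congr rfl (g := fun _ =>
      ((Subgroup.centralizer ({c'} : Set N)).index : ℂ)) (fun C hC => by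
        rw [omega_classSum (irr_isClassFunction _), Cfsg.centralChar,
          (hconj _ (Finset.mem_filter.1 hC).2).2]
        simp), Finset.sum_const, nsmul_eq_mul] at h1
    exact_mod_cast h1
  have hθc : Cong M (Cfsg.centralChar (χ : G → ℂ) c)
      ((K.card : ℂ) * Cfsg.centralChar (θ : N → ℂ) c') := by
    have h := omega_push_eq χ θ hne (isInvEl_res (central_classSum c))
    rw [show c = ((c' : N) : G) from rfl, push_res_classSum, omega_classSum (irr_isClassFunction χ),
      show ((c' : N) : G) = c from rfl, hz, omega_sum] at h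
    rw [h, ← nsmul_eq_mul, ← Finset.sum_const]
    refine cong_sum hM fun C hC => ?_
    rw [omega_classSum (irr_isClassFunction θ)]
    exact (hconj _ (Finset.mem_filter.1 hC).2).1
  have hunit : ¬ Cfsg.MemLocalIdeal M
      ((K.card : ℂ) * Cfsg.centralChar (θ : N → ℂ) c') := by
    rwa [← ideal_iff_of_cong hM hθc, hc2]
  rw [ideal_mul_iff hM (ring_natCast hM _) (centralChar_ring hM θ c'), not_or,
    ideal_natCast_iff hM] at hunit
  have hdb : Cfsg.IsDefectClass M b c' := by
    refine ⟨?_, hbc, fun η hη => ?_⟩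
    · rw [← coeff_blockIdem]; exact intEl_blockIdem hM hb c'
    · have hs : Cfsg.SameBlock M (θ : N → ℂ) (η : N → ℂ) := by
        rw [block_eq_blockOf hM hb hθ] at hη; exact hη
      intro h
      exact hunit.2 ((ideal_iff_of_cong hM (hs c')).2 h)
  -- the covering block at which the coefficient is a unit has the largest possible defect
  obtain ⟨B', hB', hB'A, hB'c⟩ := exists_block_coeff_unit hM hAc
    (by rw [← coeff_blockIdem, ← hE]; exact hc1)
  have hB'd : Cfsg.IsDefectClass M B' c := by
    refine ⟨?_, hB'c, fun ψ hψ => ?_⟩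
    · rw [← coeff_blockIdem]; exact intEl_blockIdem hM hB' c
    · obtain ⟨η, hη, hψη⟩ := hB'A hψ
      have h := omega_push_eq ψ η hψη (isInvEl_res (central_classSum c))
      have h' := omega_push_eq χ θ hne (isInvEl_res (central_classSum c))
      have hs : Cfsg.SameBlock M (θ : N → ℂ) (η : N → ℂ) := by
        rw [block_eq_blockOf hM hb hθ] at hη; exact hη
      have hcg := (sameBlock_iff_omega hM θ η).1 hs _
        (central_of_isInvEl (isInvEl_res (central_classSum c)))
        (intEl_res (intEl_classSum hM c))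
      rw [← h, ← h', show c = ((c' : N) : G) from rfl, push_res_classSum,
        omega_classSum (irr_isClassFunction χ), omega_classSum (irr_isClassFunction ψ),
        show ((c' : N) : G) = c from rfl] at hcg
      intro hi
      exact hx2 ((hc2 χ) ▸ (ideal_iff_of_cong hM hcg).2 hi)
  obtain ⟨χ', hχ'⟩ := block_nonempty hM hB'
  have hle := hmax B' hB' ⟨χ', hχ', hB'A hχ'⟩
  rw [blockDefect_eq hM hB' hB'd] at hle
  obtain ⟨a, ha⟩ := (isPGroup_defect hP).exists_card_eq
  have hPdef : Cfsg.blockDefect p B = a := by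
    have h := card_defectGroup hM hB hP
    rw [ha] at h
    exact (Nat.pow_right_injective hM.1.two_le h).symm
  have hPC : P ≤ Subgroup.centralizer ({c} : Set G) := le_centralizer_iff_mem.2 hcP
  have ha1 : a ≤ (Nat.card (Subgroup.centralizer ({c} : Set G))).factorization p := by
    have h := Subgroup.card_dvd_of_le hPC
    rw [ha] at h
    exact (hM.1.pow_dvd_iff_le_factorization Nat.card_pos.ne').1 h
  set P' := (P ⊓ N).subgroupOf N
  obtain ⟨b', hb'⟩ := ((isPGroup_defect hP).to_le (inf_le_left : P ⊓ N ≤ P)).exists_card_eq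
  have hP'card : Nat.card P' = p ^ b' :=
    (Nat.card_congr (Subgroup.subgroupOfEquivOfLe inf_le_right).toEquiv).trans hb'
  have hP'C : P' ≤ Subgroup.centralizer ({c'} : Set N) := fun y hy => by
    rw [Subgroup.mem_centralizer_singleton_iff]
    exact Subtype.ext (Subgroup.mem_centralizer_singleton_iff.1 (hPC (Subgroup.mem_subgroupOf.1 hy).1))
  have hb1 : b' ≤ (Nat.card (Subgroup.centralizer ({c'} : Set N))).factorization p := by
    have h := Subgroup.card_dvd_of_le hP'C
    rw [hP'card] at h
    exact (hM.1.pow_dvd_iff_le_factorization Nat.card_pos.ne').1 h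
  have hrel : N.index = (P ⊔ N).index * N.relIndex (P ⊔ N) := by
    rw [mul_comm]; exact (Subgroup.relIndex_mul_index le_sup_right).symm
  have hrelc : N.relIndex (P ⊔ N) * p ^ b' = p ^ a := by
    rw [Subgroup.relIndex_sup_right, ← ha, ← hb',
      ← Nat.card_congr (Subgroup.subgroupOfEquivOfLe (inf_le_left : P ⊓ N ≤ P)).toEquiv,
      Subgroup.inf_subgroupOf_left, mul_comm]
    exact (N.subgroupOf P).card_mul_index
  have hrelp : (N.relIndex (P ⊔ N)).factorization p + b' = a := by
    have h := congrArg (fun k => Nat.factorization k p) hrelc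
    rw [Nat.factorization_mul (fun h0 => by
        rw [h0, zero_mul] at hrelc
        exact pow_ne_zero a hM.1.ne_zero hrelc.symm) (pow_ne_zero _ hM.1.ne_zero),
      Finsupp.add_apply, hM.1.factorization_pow, hM.1.factorization_pow, Finsupp.single_eq_same,
      Finsupp.single_eq_same] at h
    exact h
  have hNv : N.index.factorization p =
      (P ⊔ N).index.factorization p + (N.relIndex (P ⊔ N)).factorization p := by
    rw [hrel, Nat.factorization_mul (P ⊔ N).index_ne_zero_of_finite (fun h0 => by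
        rw [h0, zero_mul] at hrelc
        exact pow_ne_zero a hM.1.ne_zero hrelc.symm)]
    rfl
  have hidx := congrArg (fun k => Nat.factorization k p) hGidx
  rw [Nat.factorization_mul (fun h0 => hunit.1 (by rw [h0]; exact dvd_zero p))
    (Subgroup.centralizer ({c'} : Set N)).index_ne_zero_of_finite, Finsupp.add_apply,
    Nat.factorization_eq_zero_of_not_dvd hunit.1, zero_add] at hidx
  have h1 := factorization_index_add (Subgroup.centralizer ({c} : Set G)) p
  have h2 := factorization_index_add (Subgroup.centralizer ({c'} : Set N)) p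
  have h3 := factorization_index_add N p
  have hbd := blockDefect_eq hM hb hdb
  refine ⟨fun h => ?_, ?_, by omega⟩
  · have h0 := hM.1.factorization_pos_of_dvd (P ⊔ N).index_ne_zero_of_finite h
    omega
  · refine isDefectGroup_iff.2 ⟨c', hdb, isSylCent_iff.2 ⟨hP'C, ?_⟩⟩
    rw [hP'card]
    exact congrArg (p ^ ·) (by omega)

end Cfsg.Agent.Blocks
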