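import Mathlib
import Cfsg.Prelude.Def_Blocks
import Cfsg.Agent.Lib.Blocks.MaximalCovering
import Cfsg.Agent.Lib.PLocal.PSolvable
import Cfsg.Agent.Lib.Cores.Basic
import Cfsg.Agent.S4438

/-!
# Fong: the block over an invariant character of `O_{p'}(G)` in a `p`-solvable group
-/

set_option linter.style.haveILetI false
set_option linter.unusedSectionVars false

namespace Cfsg.Agent.Blocks.InvariantCore

open Cfsg.Agent.Characters Cfsg.Agent.BlockCharsA.NormalSupport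
open Cfsg.Agent.CharTheory Cfsg.Agent.Blocks

universe u

variable {G : Type u} [Group G] [Finite G] {p : ℕ} {M : Ideal Cfsg.AlgInt}

/-- Over an invariant character of a normal `p'`-subgroup of `p`-power index there is one block,
of full defect. -/
theorem one_block_of_pPower_index (hM : Cfsg.IsPModular p M) {N : Subgroup G} [N.Normal]
    [Fintype N] (hN : ¬ p ∣ Nat.card N) (hidx : ∃ k : ℕ, N.index = p ^ k)
    (θ : Cfsg.IrrCharacter N) (hinv : ∀ g : G, conjIrr g θ = θ) :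
    ∃ b : Set (Cfsg.IrrCharacter G), Cfsg.IsPBlock M b ∧
      (∀ η, η ∈ b ↔ Cfsg.classInner (fun n : N => (η : G → ℂ) n) (θ : N → ℂ) ≠ 0) ∧
      Cfsg.blockDefect p b = (Nat.card G).factorization p := by
  haveI := Fintype.ofFinite G
  obtain ⟨η₀, h₀⟩ := exists_over (G := G) θ
  have hb := isPBlock_blockOf M η₀
  have hiff : ∀ η, η ∈ Cfsg.blockOf M (η₀ : G → ℂ) ↔
      Cfsg.classInner (fun n : N => (η : G → ℂ) n) (θ : N → ℂ) ≠ 0 := fun η =>
    ⟨fun h => constituent_transfer hM hN (mem_blockOf.1 h) h₀,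
      fun h => sameBlock_of_covers_same hM hidx h₀ h (sameBlock_refl hM _)⟩
  refine ⟨_, hb, hiff, ?_⟩
  have hθ : Cfsg.IsPBlock M ({θ} : Set (Cfsg.IrrCharacter N)) :=
    ⟨θ, Set.ext fun η => ⟨fun h => (Set.mem_singleton_iff.1 h).symm ▸ mem_blockOf_self hM θ,
      fun h => Set.mem_singleton_iff.2 (sameBlock_eq_of_coprime hM hN (mem_blockOf.1 h)).symm⟩⟩
  have hmax : ∀ B' : Set (Cfsg.IrrCharacter G), Cfsg.IsPBlock M B' →
      (∃ χ ∈ B', ∃ η ∈ ({θ} : Set (Cfsg.IrrCharacter N)),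
        Cfsg.classInner (fun n : N => (χ : G → ℂ) n) (η : N → ℂ) ≠ 0) →
      Cfsg.blockDefect p B' ≤ Cfsg.blockDefect p (Cfsg.blockOf M (η₀ : G → ℂ)) := by
    rintro B' hB' ⟨χ, hχ, η, rfl, h⟩
    rw [block_eq_of_mem hM hB' hb hχ ((hiff χ).2 h)]
  obtain ⟨P, hP⟩ := exists_defectGroup hM hb
  have h := (maximal_covering hM hθ (fun g η h => by rw [Set.mem_singleton_iff.1 h, hinv g]; rfl)
    hb ⟨η₀, mem_blockOf_self hM η₀, θ, rfl, h₀⟩ hmax hP).2.2
  have h0 : (Nat.card N).factorization p = 0 := Nat.factorization_eq_zero_of_not_dvd hN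
  have h1 := blockDefect_le p ({θ} : Set (Cfsg.IrrCharacter N))
  have h2 := factorization_index_add N p
  omega

set_option maxHeartbeats 1600000 in
/-- Over an invariant character of a normal `p'`-subgroup `N` with `G ⧸ N` of characteristic `p`
there is one block, of full defect. -/
theorem constrained_block [Fintype G] (hM : Cfsg.IsPModular p M) [Fact p.Prime]
    {N : Subgroup G} [N.Normal] [Fintype N] (hNp : ¬ p ∣ Nat.card N)
    (hcent : Subgroup.centralizer (Cfsg.pCore p (G ⧸ N) : Set (G ⧸ N)) ≤ Cfsg.pCore p (G ⧸ N))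
    (θ : Cfsg.IrrCharacter N) (hinv : ∀ g : G, conjIrr g θ = θ) :
    ∃ B : Set (Cfsg.IrrCharacter G), Cfsg.IsPBlock M B ∧
      (∀ χ : Cfsg.IrrCharacter G, χ ∈ B ↔
        Cfsg.classInner (fun n : N => (χ : G → ℂ) n) (θ : N → ℂ) ≠ 0) ∧
      (∀ P : Sylow p G, Cfsg.IsDefectGroup p M B (P : Subgroup G)) ∧
      ∀ D : Subgroup G, Cfsg.IsDefectGroup p M B D → ∃ P : Sylow p G, D = (P : Subgroup G) := by
  classical
  have hp : p.Prime := Fact.out
  obtain ⟨K, hKdef⟩ : ∃ K, K = (Cfsg.pCore p (G ⧸ N)).comap (QuotientGroup.mk' N) := ⟨_, rfl⟩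
  haveI : (Cfsg.pCore p (G ⧸ N)).Normal := Cores.pCore_normal p
  haveI : K.Normal := hKdef ▸ inferInstance
  haveI := Fintype.ofFinite K
  have hNK : N ≤ K := fun n hn => by
    rw [hKdef, Subgroup.mem_comap, show QuotientGroup.mk' N n = 1 from
      (QuotientGroup.eq_one_iff n).2 hn]
    exact one_mem _
  haveI := Fintype.ofFinite (N.subgroupOf K)
  set e := Subgroup.subgroupOfEquivOfLe hNK
  have hN' : ¬ p ∣ Nat.card (N.subgroupOf K) := by rwa [Nat.card_congr e.toEquiv]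
  have hKimg : K.map (QuotientGroup.mk' N) = Cfsg.pCore p (G ⧸ N) := by
    rw [hKdef]; exact Subgroup.map_comap_eq_self_of_surjective (QuotientGroup.mk'_surjective N) _
  have hidx : ∃ k : ℕ, (N.subgroupOf K).index = p ^ k := by
    obtain ⟨k, hk⟩ := (Cores.pCore_isPGroup (G := G ⧸ N) p).exists_card_eq
    refine ⟨k, ?_⟩
    rw [← hk, ← hKimg, Subgroup.index_eq_card]
    set f : K →* (K.map (QuotientGroup.mk' N) : Subgroup (G ⧸ N)) :=
      (QuotientGroup.mk' N).subgroupMap K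
    have hker : f.ker = N.subgroupOf K := by
      ext x
      rw [MonoidHom.mem_ker, Subgroup.mem_subgroupOf, Subtype.ext_iff]
      exact QuotientGroup.eq_one_iff (x : G)
    rw [← hker]
    exact Nat.card_congr
      (QuotientGroup.quotientKerEquivOfSurjective f ((QuotientGroup.mk' N).subgroupMap_surjective K)).toEquiv
  set θ' : Cfsg.IrrCharacter (N.subgroupOf K) := ⟨_, (isIrrCharacter_comp_mulEquiv e).2 θ.2⟩
  have hinv' : ∀ k : K, conjIrr k θ' = θ' := fun k => Subtype.ext (funext fun x => by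
    rw [coe_conjIrr, Clifford.conjBy_apply]
    have h := congrFun (congrArg Subtype.val (hinv (k : G))) (e x)
    rw [coe_conjIrr, Clifford.conjBy_apply] at h
    exact h)
  obtain ⟨bK, hbK, hmemK, hdK⟩ := one_block_of_pPower_index hM hN' hidx θ' hinv'
  -- constituents in two steps
  have hre : ∀ (χ : G → ℂ) (η : N → ℂ),
      Cfsg.classInner (fun n : N.subgroupOf K => χ ((n : K) : G)) (η ∘ e) =
        Cfsg.classInner (fun n : N => χ n) η := by
    intro χ η
    rw [classInner_def, classInner_def, Nat.card_congr e.toEquiv]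
    congr 1
    exact Fintype.sum_equiv e.toEquiv _ _ fun x => rfl
  have hup : ∀ (χ : Cfsg.IrrCharacter G) (η : Cfsg.IrrCharacter K),
      Cfsg.classInner (fun k : K => (χ : G → ℂ) k) (η : K → ℂ) ≠ 0 → η ∈ bK →
      Cfsg.classInner (fun n : N => (χ : G → ℂ) n) (θ : N → ℂ) ≠ 0 := by
    intro χ η h1 h2
    rw [← hre]
    exact Clifford.classInner_restrict_ne_zero (N.subgroupOf K)
      (isCharacter_restrict K (irr_isCharacter χ)) η.2 (irr_isCharacter θ') h1 ((hmemK η).1 h2)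
  have hdown : ∀ (χ : Cfsg.IrrCharacter G) (η : Cfsg.IrrCharacter K),
      Cfsg.classInner (fun n : N => (χ : G → ℂ) n) (θ : N → ℂ) ≠ 0 →
      Cfsg.classInner (fun k : K => (χ : G → ℂ) k) (η : K → ℂ) ≠ 0 → η ∈ bK := by
    intro χ η h1 h2
    rw [hmemK]
    obtain ⟨η₁, hη₁⟩ := exists_under (N := N.subgroupOf K) η
    have h3 : Cfsg.classInner (fun n : N.subgroupOf K => (χ : G → ℂ) ((n : K) : G))
        (η₁ : N.subgroupOf K → ℂ) ≠ 0 :=
      Clifford.classInner_restrict_ne_zero (N.subgroupOf K)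
      (isCharacter_restrict K (irr_isCharacter χ)) η.2 (irr_isCharacter η₁) h2 hη₁
    set η₂ : Cfsg.IrrCharacter N := ⟨_, (isIrrCharacter_comp_mulEquiv e.symm).2 η₁.2⟩
    have he2 : (η₁ : N.subgroupOf K → ℂ) = (η₂ : N → ℂ) ∘ e := funext fun x => by simp [η₂]
    rw [he2, hre] at h3
    obtain ⟨g, hg⟩ := Clifford.exists_conjBy_eq N χ.2 θ.2 η₂.2 h1 h3
    rw [show Clifford.conjBy N g (θ : N → ℂ) = θ from congrArg Subtype.val (hinv g)] at hg
    rwa [show (θ' : N.subgroupOf K → ℂ) = (η₁ : N.subgroupOf K → ℂ) by rw [he2, ← hg]]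
  have hinvK : ∀ (g : G), ∀ η ∈ bK, conjIrr g η ∈ bK := by
    intro g η hη
    obtain ⟨χ, hχ⟩ := exists_over (G := G) η
    exact hdown χ _ (hup χ η hχ hη) (by rwa [constituent_conjIrr])
  -- a defect group of the block of `K`
  obtain ⟨Q₀, hQ₀⟩ := exists_defectGroup hM hbK
  set Q := Q₀.map K.subtype
  have hQK : Q ≤ K := Subgroup.map_subtype_le _
  have hQsub : Q.subgroupOf K = Q₀ := Subgroup.comap_map_eq_self_of_injective K.subtype_injective _
  have hQ₀top : Q₀ ⊔ N.subgroupOf K = ⊤ := by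
    rw [← Subgroup.index_eq_one]
    obtain ⟨k, hk⟩ := hidx
    obtain ⟨j, -, hj⟩ := (Nat.dvd_prime_pow hp).1
      (hk ▸ Subgroup.index_dvd_of_le (le_sup_right : N.subgroupOf K ≤ Q₀ ⊔ N.subgroupOf K))
    rcases Nat.eq_zero_or_pos j with rfl | hj0
    · simpa using hj
    exfalso
    have h1 : p ∣ Q₀.index := (hj ▸ dvd_pow_self p hj0.ne').trans
      (Subgroup.index_dvd_of_le (le_sup_left : Q₀ ≤ Q₀ ⊔ N.subgroupOf K))
    have h2 := factorization_index_add Q₀ p
    rw [card_defectGroup hM hbK hQ₀, hdK, hp.factorization_pow, Finsupp.single_eq_same] at h2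
    have h3 := hp.factorization_pos_of_dvd Q₀.index_ne_zero_of_finite h1
    omega
  have hCQ : Subgroup.centralizer (Q : Set G) ≤ K := by
    intro x hx
    have hc := hcent
    rw [hKdef, Subgroup.mem_comap]
    refine hc (Subgroup.mem_centralizer_iff.2 fun y hy => ?_)
    rw [SetLike.mem_coe, ← hKimg] at hy
    obtain ⟨k, hk, rfl⟩ := hy
    have hk' : (⟨k, hk⟩ : K) ∈ ((Q₀ ⊔ N.subgroupOf K : Subgroup K) : Set K) := by
      rw [hQ₀top]; trivial
    rw [Subgroup.mul_normal] at hk'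
    obtain ⟨q, hq, n, hn, hqn⟩ := Set.mem_mul.1 hk'
    have hk2 : k = (q : G) * n := congrArg Subtype.val hqn.symm
    rw [hk2, map_mul, show QuotientGroup.mk' N (n : G) = 1 from
      (QuotientGroup.eq_one_iff _).2 (Subgroup.mem_subgroupOf.1 hn), mul_one, ← map_mul, ← map_mul,
      Subgroup.mem_centralizer_iff.1 hx (q : G) ⟨q, hq, rfl⟩]
  -- the central characters agree
  have hzero : ∀ (χ : Cfsg.IrrCharacter G),
      Cfsg.classInner (fun n : N => (χ : G → ℂ) n) (θ : N → ℂ) ≠ 0 → ∀ g, g ∉ K →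
        Cfsg.MemLocalIdeal M (Cfsg.centralChar (χ : G → ℂ) g) := by
    intro χ hχ g hg
    by_contra hne
    obtain ⟨η, hη⟩ := exists_under (N := K) χ
    have hB := isPBlock_blockOf M χ
    obtain ⟨P, hP, hPQ⟩ := S4438.result p M hM K bK hbK Q hQK (hQsub.symm ▸ hQ₀) _ hB
      ⟨χ, mem_blockOf_self hM χ, η, hdown χ η hχ hη, hη⟩
    obtain ⟨c, hc, hcP⟩ := meets_defect_of_omega hM hB hP (mem_blockOf_self hM χ) hne
    obtain ⟨a, rfl⟩ := isConj_iff.1 hc
    have hcQ : a * g * a⁻¹ ∈ Subgroup.centralizer (Q : Set G) :=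
      Subgroup.centralizer_le (SetLike.coe_subset_coe.2 (hPQ ▸ inf_le_left)) hcP
    have h := (inferInstance : K.Normal).conj_mem _ (hCQ hcQ) a⁻¹
    exact hg (by simpa [mul_assoc] using h)
  have hsame : ∀ χ χ' : Cfsg.IrrCharacter G,
      Cfsg.classInner (fun n : N => (χ : G → ℂ) n) (θ : N → ℂ) ≠ 0 →
      Cfsg.classInner (fun n : N => (χ' : G → ℂ) n) (θ : N → ℂ) ≠ 0 →
      Cfsg.SameBlock M (χ : G → ℂ) (χ' : G → ℂ) := by
    intro χ χ' h h' g
    by_cases hg : g ∈ K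
    · obtain ⟨η, hη⟩ := exists_under (N := K) χ
      obtain ⟨η', hη'⟩ := exists_under (N := K) χ'
      show Cong M _ _
      rw [show g = ((⟨g, hg⟩ : K) : G) from rfl, centralChar_eq_of_constituent χ η hη,
        centralChar_eq_of_constituent χ' η' hη', ← omega_restrEl_classSum, ← omega_restrEl_classSum]
      exact inducedCentralChar_cong hM hbK (hdown χ η h hη) (hdown χ' η' h' hη')
        (central_classSum _) (intEl_classSum hM _)
    · exact ideal_sub hM (hzero χ h g hg) (hzero χ' h' g hg)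
  obtain ⟨χ₀, hχ₀⟩ := exists_over (G := G) θ
  have hB := isPBlock_blockOf M χ₀
  have hiff : ∀ χ : Cfsg.IrrCharacter G, χ ∈ Cfsg.blockOf M (χ₀ : G → ℂ) ↔
      Cfsg.classInner (fun n : N => (χ : G → ℂ) n) (θ : N → ℂ) ≠ 0 := fun χ =>
    ⟨fun h => constituent_transfer hM hNp (mem_blockOf.1 h) hχ₀, fun h => hsame χ₀ χ hχ₀ h⟩
  -- full defect
  obtain ⟨η₀, hη₀⟩ := exists_under (N := K) χ₀
  obtain ⟨P₀, hP₀⟩ := exists_defectGroup hM hB
  have hmax : ∀ B' : Set (Cfsg.IrrCharacter G), Cfsg.IsPBlock M B' →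
      (∃ χ ∈ B', ∃ η ∈ bK, Cfsg.classInner (fun n : K => (χ : G → ℂ) n) (η : K → ℂ) ≠ 0) →
      Cfsg.blockDefect p B' ≤ Cfsg.blockDefect p (Cfsg.blockOf M (χ₀ : G → ℂ)) := by
    rintro B' hB' ⟨χ, hχ, η, hη, h⟩
    rw [block_eq_of_mem hM hB' hB hχ ((hiff χ).2 (hup χ η h hη))]
  have hd := (maximal_covering hM hbK hinvK hB
    ⟨χ₀, mem_blockOf_self hM χ₀, η₀, hdown χ₀ η₀ hχ₀ hη₀, hη₀⟩ hmax hP₀).2.2
  rw [hdK, add_comm, factorization_index_add K p] at hd
  have hsyl : ∀ D, Cfsg.IsDefectGroup p M (Cfsg.blockOf M (χ₀ : G → ℂ)) D →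
      ∃ P : Sylow p G, D = (P : Subgroup G) := fun D hD =>
    ⟨Sylow.ofCard D (by rw [card_defectGroup hM hB hD, hd]), rfl⟩
  refine ⟨_, hB, hiff, fun P => ?_, hsyl⟩
  obtain ⟨P₁, rfl⟩ := hsyl P₀ hP₀
  obtain ⟨g, hg⟩ := MulAction.exists_smul_eq G P₁ P
  rw [← hg, Sylow.coe_subgroup_smul]
  exact defectGroup_conj hM hP₀ g

theorem invariant_block [Fintype G] (hM : Cfsg.IsPModular p M) [Fact p.Prime]
    (hsolv : Cfsg.IsPSolvable p G) {N : Subgroup G} [N.Normal] [Fintype N]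
    (hNdef : N = Cfsg.pPrimeCore p G) (θ : Cfsg.IrrCharacter N)
    (hinv : ∀ g : G, conjIrr g θ = θ) :
    ∃ B : Set (Cfsg.IrrCharacter G), Cfsg.IsPBlock M B ∧
      (∀ χ : Cfsg.IrrCharacter G, χ ∈ B ↔
        Cfsg.classInner (fun n : N => (χ : G → ℂ) n) (θ : N → ℂ) ≠ 0) ∧
      (∀ P : Sylow p G, Cfsg.IsDefectGroup p M B (P : Subgroup G)) ∧
      ∀ D : Subgroup G, Cfsg.IsDefectGroup p M B D → ∃ P : Sylow p G, D = (P : Subgroup G) := by
  have hG : Cfsg.pPrimeCore p (G ⧸ N) = ⊥ := by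
    subst hNdef; exact Cores.pPrimeCore_quotient_self p
  exact constrained_block hM
    (hNdef ▸ PLocal.Cores.not_dvd_card_pPrimeCore (Fact.out : p.Prime).ne_one)
    (PLocal.PSolvable.centralizer_pCore_le hG
      (PLocal.PSolvable.subgroup (PLocal.PSolvable.quotient hsolv N) _)) θ hinv

end Cfsg.Agent.Blocks.InvariantCore
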