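import Mathlib
import Cfsg.Prelude.Def_Blocks
import Cfsg.Agent.Lib.Blocks.Defect

/-!
# Sums over the `p`-regular elements
-/

set_option linter.style.haveILetI false

namespace Cfsg.Agent.Blocks

open scoped ComplexConjugate
open Cfsg.Agent.Characters

universe u

variable {G : Type u} [Group G] [Finite G] {p : ℕ} {M : Ideal Cfsg.AlgInt}

/-- The sum of `φ x * conj (ψ x)` over the `p`-regular elements. -/
noncomputable def regSum (p : ℕ) (φ ψ : G → ℂ) : ℂ :=
  ∑ᶠ x ∈ {x : G | ¬ p ∣ orderOf x}, φ x * conj (ψ x)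

open scoped Classical in
theorem regSum_eq_sum [Fintype G] (p : ℕ) (φ ψ : G → ℂ) :
    regSum p φ ψ = ∑ x : G, if ¬ p ∣ orderOf x then φ x * conj (ψ x) else 0 := by
  rw [regSum, finsum_mem_def, finsum_eq_sum_of_fintype]
  refine Finset.sum_congr rfl fun x _ => ?_
  by_cases h : p ∣ orderOf x
  · rw [Set.indicator_of_notMem (by simp [h]), if_neg (not_not.2 h)]
  · rw [Set.indicator_of_mem (show x ∈ {x : G | ¬ p ∣ orderOf x} from h), if_pos h]

/-- Irreducible characters in different blocks are orthogonal on the `p`-regular elements. -/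
theorem regSum_eq_zero (hM : Cfsg.IsPModular p M) {A : Set (Cfsg.IrrCharacter G)}
    (hA : IntEl M (blockIdem A)) {χ ψ : Cfsg.IrrCharacter G} (hχ : χ ∈ A) (hψ : ψ ∉ A) :
    regSum p (ψ : G → ℂ) (χ : G → ℂ) = 0 := by
  classical
  haveI := Fintype.ofFinite G
  haveI := Fintype.ofFinite (Cfsg.IrrCharacter G)
  set t : Cfsg.IrrCharacter G → ℂ := fun θ =>
    if θ ∈ A then regSum p (ψ : G → ℂ) (θ : G → ℂ) else 0 with ht
  have h0 : ∑ θ : Cfsg.IrrCharacter G, t θ • (θ : G → ℂ) = 0 := by
    funext x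
    simp only [Finset.sum_apply, Pi.smul_apply, smul_eq_mul, Pi.zero_apply]
    have hexp : ∑ θ : Cfsg.IrrCharacter G, t θ * (θ : G → ℂ) x =
        ∑ y ∈ Finset.univ.filter (fun y : G => ¬ p ∣ orderOf y),
          (∑ θ ∈ Finset.univ.filter (fun θ : Cfsg.IrrCharacter G => θ ∈ A),
            (θ : G → ℂ) x * conj ((θ : G → ℂ) y)) * (ψ : G → ℂ) y := by
      rw [Finset.sum_congr rfl (g := fun θ : Cfsg.IrrCharacter G =>
        if θ ∈ A then regSum p (ψ : G → ℂ) (θ : G → ℂ) * (θ : G → ℂ) x else 0) fun θ _ => by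
          simp only [t, ite_mul, zero_mul], ← Finset.sum_filter]
      simp only [regSum_eq_sum, ← Finset.sum_filter, Finset.sum_mul]
      rw [Finset.sum_comm]
      exact Finset.sum_congr rfl fun y _ => Finset.sum_congr rfl fun θ _ => by ring
    rw [hexp]
    by_cases hx : p ∣ orderOf x
    · refine Finset.sum_eq_zero fun y hy => ?_
      have hy' := (Finset.mem_filter.1 hy).2
      have h := sum_block_reg_sing hM hA hy' hx
      rw [finsum_mem_def, finsum_eq_sum_of_fintype] at h
      have h2 := congrArg (fun z : ℂ => conj z) h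
      simp only [map_sum, map_zero] at h2
      refine mul_eq_zero_of_left ?_ _
      rw [← h2, Finset.sum_filter]
      refine Finset.sum_congr rfl fun θ _ => ?_
      by_cases hθ : θ ∈ A
      · rw [Set.indicator_of_mem hθ, if_pos hθ, map_mul, Complex.conj_conj, mul_comm]
      · rw [Set.indicator_of_notMem hθ, if_neg hθ, map_zero]
    · rw [sum_regular_eq hM hA (ψ : G → ℂ) hx]
      refine mul_eq_zero_of_right _ (Finset.sum_eq_zero fun θ hθ => ?_)
      have hne : ψ ≠ θ := fun e => hψ (by rw [e]; exact (Finset.mem_filter.1 hθ).2)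
      rw [classInner_irr, if_neg hne, zero_mul]
  have := Fintype.linearIndependent_iff.1 linearIndependent_irr t h0 χ
  simpa [t, hχ] using this

theorem regSum_eq_zero_of_not_sameBlock (hM : Cfsg.IsPModular p M) {χ ψ : Cfsg.IrrCharacter G}
    (h : ¬ Cfsg.SameBlock M (χ : G → ℂ) (ψ : G → ℂ)) :
    regSum p (χ : G → ℂ) (ψ : G → ℂ) = 0 :=
  regSum_eq_zero hM (intEl_blockIdem hM (isPBlock_blockOf M ψ)) (mem_blockOf_self hM ψ)
    (fun e => h (sameBlock_symm hM e))

end Cfsg.Agent.Blocks
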