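import Mathlib
import Cfsg.Prelude.Def_Blocks
import Cfsg.Agent.Lib.Blocks.Induced
import Cfsg.Agent.BlockCharsA.RegularPart
import Cfsg.Agent.Lib.CharTheory.IndBasic

/-!
# Characters and induced blocks; Brauer's third main theorem
-/

set_option linter.style.haveILetI false
set_option linter.unusedSectionVars false

namespace Cfsg.Agent.Blocks

open Cfsg.Agent.Characters Cfsg.Agent.BlockCharsA.RegularPart
open scoped ComplexConjugate

universe u

variable {G : Type u} [Group G] [Finite G] {p : ℕ} {M : Ideal Cfsg.AlgInt}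

theorem centralChar_indFun [Fintype G] (H : Subgroup G) (ξ : H → ℂ) (g : G) :
    Cfsg.centralChar (Cfsg.indFun H ξ) g = Cfsg.inducedCentralChar H ξ g := by
  classical
  haveI := Fintype.ofFinite H
  have hS : ∑ x : G, Cfsg.extendByZero H ξ (x⁻¹ * g * x) =
      (Nat.card (Subgroup.centralizer ({g} : Set G)) : ℂ) *
        ∑ h : H, if IsConj g (h : G) then ξ h else 0 := by
    rw [← Finset.sum_filter, Finset.mul_sum]
    rw [← Fintype.sum_equiv (Equiv.inv G) (fun x => Cfsg.extendByZero H ξ (x * g * x⁻¹))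
      (fun x => Cfsg.extendByZero H ξ (x⁻¹ * g * x)) (fun x => by simp),
      ← Finset.sum_fiberwise_of_maps_to (t := Finset.univ.filter fun y : G => IsConj g y)
        (g := fun x => x * g * x⁻¹)
        (fun x _ => Finset.mem_filter.2 ⟨Finset.mem_univ _, isConj_iff.2 ⟨x, rfl⟩⟩)]
    rw [Finset.sum_congr rfl fun y hy => Finset.sum_congr rfl fun x hx => by
      rw [(Finset.mem_filter.1 hx).2]]
    simp only [Finset.sum_const, nsmul_eq_mul]
    have hcard : ∀ y, IsConj g y → ((Finset.univ.filter fun x : G => x * g * x⁻¹ = y).card : ℂ) =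
        (Nat.card (Subgroup.centralizer ({g} : Set G)) : ℂ) := by
      intro y hy
      obtain ⟨x₀, rfl⟩ := isConj_iff.1 hy
      rw [Nat.card_eq_fintype_card, ← Finset.card_univ]
      norm_cast
      refine Finset.card_bij (fun x hx => (⟨x₀⁻¹ * x, ?_⟩ :
        Subgroup.centralizer ({g} : Set G))) (fun _ _ => Finset.mem_univ _) ?_ ?_
      · refine Subgroup.mem_centralizer_singleton_iff.2 ?_
        have h2 := (Finset.mem_filter.1 hx).2
        calc x₀⁻¹ * x * g = x₀⁻¹ * (x * g * x⁻¹) * x := by group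
          _ = x₀⁻¹ * (x₀ * g * x₀⁻¹) * x := by rw [h2]
          _ = g * (x₀⁻¹ * x) := by group
      · intro a _ b _ h
        exact mul_left_cancel (congrArg Subtype.val h :)
      · intro c _
        refine ⟨x₀ * c, Finset.mem_filter.2 ⟨Finset.mem_univ _, ?_⟩, Subtype.ext (by simp)⟩
        have hc := Subgroup.mem_centralizer_singleton_iff.1 c.2
        calc x₀ * (c : G) * g * (x₀ * c)⁻¹ = x₀ * ((c : G) * g) * (c : G)⁻¹ * x₀⁻¹ := by group
          _ = x₀ * (g * c) * (c : G)⁻¹ * x₀⁻¹ := by rw [hc]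
          _ = x₀ * g * x₀⁻¹ := by group
    rw [Finset.sum_congr rfl fun y hy => by rw [hcard y (Finset.mem_filter.1 hy).2]]
    symm
    refine Finset.sum_bij_ne_zero (fun h _ _ => (h : G)) ?_ ?_ ?_ ?_
    · exact fun h hh _ => Finset.mem_filter.2 ⟨Finset.mem_univ _, (Finset.mem_filter.1 hh).2⟩
    · exact fun a _ _ b _ _ h => Subtype.ext h
    · intro y hy hne
      have hyH : y ∈ H := by
        by_contra hn
        rw [Cfsg.Agent.CharTheory.IndBasic.extendByZero_of_notMem H ξ hn, mul_zero] at hne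
        exact hne rfl
      exact ⟨⟨y, hyH⟩, Finset.mem_filter.2 ⟨Finset.mem_univ _, (Finset.mem_filter.1 hy).2⟩,
        by rwa [← Cfsg.Agent.CharTheory.IndBasic.extendByZero_coe H ξ ⟨y, hyH⟩], rfl⟩
    · exact fun h _ _ => by rw [Cfsg.Agent.CharTheory.IndBasic.extendByZero_coe]
  have h1 : Cfsg.indFun H ξ 1 = (Nat.card H : ℂ)⁻¹ * ((Nat.card G : ℂ) * ξ 1) := by
    rw [Cfsg.indFun]
    simp only [mul_one, inv_mul_cancel, show Cfsg.extendByZero H ξ 1 = ξ 1 from
      Cfsg.Agent.CharTheory.IndBasic.extendByZero_coe H ξ 1, Finset.sum_const, Finset.card_univ, nsmul_eq_mul,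
      Nat.card_eq_fintype_card]
  rw [Cfsg.centralChar, h1, Cfsg.indFun]
  rw [hS, Cfsg.inducedCentralChar, finsum_mem_def, finsum_eq_sum_of_fintype]
  simp only [Set.indicator_apply, Set.mem_ofPred_eq]
  rw [show (∑ h : H, if IsConj g (h : G) then ξ h / ξ 1 else 0) =
    (∑ h : H, if IsConj g (h : G) then ξ h else 0) / ξ 1 by
      rw [Finset.sum_div]; exact Finset.sum_congr rfl fun h _ => by split <;> simp]
  have hc : ((Subgroup.centralizer ({g} : Set G)).index : ℂ) *
      (Nat.card (Subgroup.centralizer ({g} : Set G)) : ℂ) = (Nat.card G : ℂ) := by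
    exact_mod_cast Subgroup.index_mul_card _
  rcases eq_or_ne (ξ 1) 0 with h0 | h0
  · simp [h0]
  rw [← hc]
  have hH : (Nat.card H : ℂ) ≠ 0 := Nat.cast_ne_zero.2 Nat.card_pos.ne'
  have hi : ((Subgroup.centralizer ({g} : Set G)).index : ℂ) ≠ 0 :=
    Nat.cast_ne_zero.2 (Subgroup.centralizer ({g} : Set G)).index_ne_zero_of_finite
  have hC : (Nat.card (Subgroup.centralizer ({g} : Set G)) : ℂ) ≠ 0 :=
    Nat.cast_ne_zero.2 Nat.card_pos.ne'
  field_simp

/-- An irreducible induced character lies in the induced block. -/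
theorem isInduced_indFun [Fintype G] (hM : Cfsg.IsPModular p M) (H : Subgroup G)
    (ξ : Cfsg.IrrCharacter H) (h : Cfsg.IsIrrCharacter G (Cfsg.indFun H (ξ : H → ℂ))) :
    Cfsg.IsInducedBlock M H (Cfsg.blockOf M (ξ : H → ℂ))
      (Cfsg.blockOf M (Cfsg.indFun H (ξ : H → ℂ))) :=
  isInduced_of_omega hM (isPBlock_blockOf M ξ) (isPBlock_blockOf M ⟨_, h⟩)
    (mem_blockOf_self hM ξ) (mem_blockOf_self hM ⟨_, h⟩) fun g => by
      rw [omega_restrEl_classSum]
      exact cong_of_eq hM (centralChar_indFun H _ g).symm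

theorem exists_constituent_induced [Fintype G] (hM : Cfsg.IsPModular p M) {H : Subgroup G}
    [Fintype H] {b : Set (Cfsg.IrrCharacter H)} {B : Set (Cfsg.IrrCharacter G)}
    (hind : Cfsg.IsInducedBlock M H b B) {ξ : Cfsg.IrrCharacter H} (hξ : ξ ∈ b) :
    ∃ χ ∈ B, Cfsg.classInner (fun h : H => (χ : G → ℂ) h) (ξ : H → ℂ) ≠ 0 := by
  classical
  haveI := Fintype.ofFinite (Cfsg.IrrCharacter G)
  obtain ⟨χ₀, hχ₀⟩ := block_nonempty hM hind.2.1
  by_contra hcon
  push Not at hcon
  have h := omega_cong_of_isInduced hM hind hξ hχ₀ (central_blockIdem B)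
    (intEl_blockIdem hM hind.2.1)
  rw [omega_blockIdem_mem hχ₀] at h
  have h0 : evalChar (ξ : H → ℂ) (restrEl H (blockIdem B)) = 0 := by
    rw [evalChar_eq_sum]
    simp only [coeff_restrEl, coeff_blockIdem, blockCoeff_eq_sum, Finset.mul_sum, Finset.sum_mul]
    rw [Finset.sum_comm]
    refine Finset.sum_eq_zero fun χ _ => ?_
    by_cases hχ : χ ∈ B
    · simp only [if_pos hχ]
      have h2 : Cfsg.classInner (ξ : H → ℂ) (fun k : H => (χ : G → ℂ) k) = 0 := by
        rw [classInner_conj_symm (fun k : H => (χ : G → ℂ) k) (ξ : H → ℂ), hcon χ hχ, map_zero]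
      rw [classInner_def] at h2
      have h3 := (mul_eq_zero.1 h2).resolve_left (inv_ne_zero natCard_ne_zero)
      calc _ = (Nat.card G : ℂ)⁻¹ * (χ : G → ℂ) 1 *
            ∑ k : H, (ξ : H → ℂ) k * conj ((χ : G → ℂ) k) := by
            rw [Finset.mul_sum]; exact Finset.sum_congr rfl fun k _ => by ring
        _ = 0 := by rw [h3, mul_zero]
    · simp [if_neg hχ]
  rw [omega, h0, zero_div] at h
  exact not_cong_zero_one hM h

theorem restrEl_regEl (H : Subgroup G) (χ : G → ℂ) :
    restrEl H (regEl p χ) = regEl p (fun h : H => χ h) :=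
  el_ext fun h => by simp [coeff_restrEl, coeff_regEl, Subgroup.orderOf_coe]

theorem omega_regEl_unit [Fintype G] (hM : Cfsg.IsPModular p M) {B : Set (Cfsg.IrrCharacter G)}
    (hB : Cfsg.IsPBlock M B) {χ ψ : Cfsg.IrrCharacter G} (hχ : χ ∈ B) (hψ : ψ ∈ B)
    (h0 : Cfsg.blockHeight p B (χ : G → ℂ) = 0) :
    ¬ Cfsg.MemLocalIdeal M (omega (ψ : G → ℂ) (regEl p (χ : G → ℂ))) := fun h =>
  (ratio_unit_iff hM hB hχ hψ).2 h0 (ideal_mul_left hM (card_unit hM) h)

theorem omega_regEl_eq_zero [Fintype G] (hM : Cfsg.IsPModular p M) {χ ψ : Cfsg.IrrCharacter G}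
    (h : ¬ Cfsg.SameBlock M (χ : G → ℂ) (ψ : G → ℂ)) :
    omega (ψ : G → ℂ) (regEl p (χ : G → ℂ)) = 0 := by
  have h0 := ratio_eq_zero hM h
  rw [classInner_hat] at h0
  refine ((mul_eq_zero.1 ((mul_eq_zero.1 h0).resolve_left ?_)).resolve_left (irr_one_ne_zero ψ.2))
  exact div_ne_zero (natCast_p_pow_ne_zero hM _) (Nat.cast_ne_zero.2 Nat.card_pos.ne')

/-- A height-zero character has, on restriction, a height-zero constituent of multiplicity prime
to `p` in each block inducing its block. -/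
theorem exists_height_zero_constituent [Fintype G] (hM : Cfsg.IsPModular p M) {H : Subgroup G}
    [Fintype H] {b : Set (Cfsg.IrrCharacter H)} {B : Set (Cfsg.IrrCharacter G)}
    (hind : Cfsg.IsInducedBlock M H b B) {χ : Cfsg.IrrCharacter G} (hχ : χ ∈ B)
    (h0 : Cfsg.blockHeight p B (χ : G → ℂ) = 0) :
    ∃ ξ ∈ b, Cfsg.blockHeight p b (ξ : H → ℂ) = 0 ∧ ∃ n : ℕ,
      Cfsg.classInner (fun h : H => (χ : G → ℂ) h) (ξ : H → ℂ) = (n : ℂ) ∧ ¬ p ∣ n := by
  classical
  haveI := Fintype.ofFinite (Cfsg.IrrCharacter H)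
  obtain ⟨ξ₀, hξ₀⟩ := block_nonempty hM hind.1
  have hu : ¬ Cfsg.MemLocalIdeal M (omega (ξ₀ : H → ℂ) (regEl p fun h : H => (χ : G → ℂ) h)) := by
    rw [← restrEl_regEl, ideal_iff_of_cong hM (omega_cong_of_isInduced hM hind hξ₀ hχ
      (central_regEl (irr_isClassFunction χ)) (intEl_regEl hM (irr_isCharacter χ)))]
    exact omega_regEl_unit hM hind.2.1 hχ hχ h0
  have hres : Cfsg.IsCharacter H (fun h : H => (χ : G → ℂ) h) :=
    isCharacter_restrict H (irr_isCharacter χ)
  have hn : ∀ η : Cfsg.IrrCharacter H, ∃ n : ℕ,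
      Cfsg.classInner (fun h : H => (χ : G → ℂ) h) (η : H → ℂ) = (n : ℂ) :=
    fun η => classInner_char_nat hres (irr_isCharacter η)
  choose n hn using hn
  have hsum : regEl p (fun h : H => (χ : G → ℂ) h) =
      ∑ η : Cfsg.IrrCharacter H, (n η : ℂ) • regEl p (η : H → ℂ) := by
    refine el_ext fun h => ?_
    rw [coeff_regEl]
    have hexp := congrFun (classFun_eq_sum (char_isClassFunction hres)) h⁻¹
    rw [hexp]
    simp only [MonoidAlgebra.coeff_sum, Finsupp.finsetSum_apply, MonoidAlgebra.coeff_smul,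
      Finsupp.smul_apply, coeff_regEl, hn]
    split
    · simp
    · simp [Finset.sum_apply]
  rw [hsum, omega_sum] at hu
  obtain ⟨η, -, hη⟩ : ∃ η ∈ Finset.univ, ¬ Cfsg.MemLocalIdeal M
      (omega (ξ₀ : H → ℂ) ((n η : ℂ) • regEl p (η : H → ℂ))) := by
    by_contra hcon
    push Not at hcon
    exact hu (ideal_sum hM hcon)
  rw [omega_smul] at hη
  have hsame : η ∈ b := by
    by_contra hne
    refine hη ?_
    rw [omega_regEl_eq_zero hM fun e => hne
      (mem_of_sameBlock hM hind.1 hξ₀ (sameBlock_symm hM e)), mul_zero]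
    exact ideal_zero hM
  have hr := omega_ring hM ξ₀ (central_regEl (p := p) (irr_isClassFunction η))
    (intEl_regEl hM (irr_isCharacter η))
  refine ⟨η, hsame, ?_, n η, hn η,
    fun h => hη (ideal_mul_right hM ((ideal_natCast_iff hM _).2 h) hr)⟩
  by_contra hh
  refine hη (ideal_mul_left hM (ring_natCast hM _) ?_)
  have h2 : Cfsg.MemLocalIdeal M (ratio p (η : H → ℂ) (ξ₀ : H → ℂ)) := by
    by_contra hne
    exact hh ((ratio_unit_iff hM hind.1 hsame hξ₀).1 hne)
  rw [ratio, ideal_mul_iff hM (card_unit hM) hr] at h2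
  refine h2.resolve_left (not_ideal_natCast_div hM (pow_ne_zero _ hM.1.ne_zero)
    Nat.card_pos.ne' ?_)
  rw [hM.1.factorization_pow, Finsupp.single_eq_same]

/-- Brauer's third main theorem, in the form for a character restricting irreducibly. -/
theorem isInduced_iff_eq_blockOf [Fintype G] (hM : Cfsg.IsPModular p M) {H : Subgroup G}
    (χ : Cfsg.IrrCharacter G) (hres : Cfsg.IsIrrCharacter H (fun h : H => (χ : G → ℂ) h))
    (hχ0 : Cfsg.blockHeight p (Cfsg.blockOf M (χ : G → ℂ)) (χ : G → ℂ) = 0)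
    (hψ0 : Cfsg.blockHeight p (Cfsg.blockOf M (fun h : H => (χ : G → ℂ) h))
      (fun h : H => (χ : G → ℂ) h) = 0)
    {e : Set (Cfsg.IrrCharacter H)} (he : Cfsg.InducedBlockDefined M H e) :
    Cfsg.IsInducedBlock M H e (Cfsg.blockOf M (χ : G → ℂ)) ↔
      e = Cfsg.blockOf M (fun h : H => (χ : G → ℂ) h) := by
  classical
  haveI := Fintype.ofFinite H
  set θ : Cfsg.IrrCharacter H := ⟨_, hres⟩
  obtain ⟨B, hind⟩ := he
  constructor
  · intro h
    obtain ⟨ξ, hξ, -, n, hn, hpn⟩ :=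
      exists_height_zero_constituent hM h (mem_blockOf_self hM χ) hχ0
    suffices ξ = θ by
      subst this
      exact block_eq_blockOf hM h.1 hξ
    by_contra hne
    rw [show (fun h : H => (χ : G → ℂ) h) = (θ : H → ℂ) from rfl, classInner_irr,
      if_neg (Ne.symm hne)] at hn
    exact hpn ((Nat.cast_eq_zero.1 hn.symm).symm ▸ dvd_zero p)
  · intro he'
    have hθe : θ ∈ e := he' ▸ mem_blockOf_self hM θ
    obtain ⟨ψ, hψ⟩ := block_nonempty hM hind.2.1
    suffices χ ∈ B by rwa [← block_eq_blockOf hM hind.2.1 this]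
    by_contra hne
    have hu := omega_regEl_unit hM (isPBlock_blockOf M θ) (mem_blockOf_self hM θ)
      (mem_blockOf_self hM θ) hψ0
    rw [show regEl p (θ : H → ℂ) = restrEl H (regEl p (χ : G → ℂ)) from (restrEl_regEl H _).symm,
      ideal_iff_of_cong hM (omega_cong_of_isInduced hM hind hθe hψ
        (central_regEl (irr_isClassFunction χ)) (intEl_regEl hM (irr_isCharacter χ))),
      omega_regEl_eq_zero hM fun e => hne (mem_of_sameBlock hM hind.2.1 hψ (sameBlock_symm hM e))]
      at hu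
    exact hu (ideal_zero hM)

theorem blockHeight_one (B : Set (Cfsg.IrrCharacter G)) :
    Cfsg.blockHeight p B (fun _ : G => (1 : ℂ)) = 0 := by
  simp [Cfsg.blockHeight, Cfsg.charDegree]

/-- Brauer's third main theorem. -/
theorem third_main [Fintype G] (hM : Cfsg.IsPModular p M) {H : Subgroup G}
    {b : Set (Cfsg.IrrCharacter H)} (hdef : Cfsg.InducedBlockDefined M H b) :
    Cfsg.IsInducedBlock M H b (Cfsg.principalBlock M G) ↔ b = Cfsg.principalBlock M H :=
  isInduced_iff_eq_blockOf hM (trivIrr G) isIrrCharacter_one (blockHeight_one _)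
    (blockHeight_one _) hdef

end Cfsg.Agent.Blocks
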