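import Mathlib
import Cfsg.Prelude.Def_Blocks
import Cfsg.Agent.Lib.Blocks.Covering
import Cfsg.Agent.Lib.Blocks.InducedChars
import Cfsg.Agent.Lib.GL2.Borel

/-!
# The stabiliser of a block of a normal subgroup: the Fong–Reynolds correspondence

The idempotent `e` of a block `b` of `N ⊴ G` is orthogonal to its conjugates outside the
stabiliser `T` of `b`.  So a character `ψ` of `T` with `ψ(e x) = ψ(x)` is recovered from its
induced character as `x ↦ (Ind ψ)(e x)`.
-/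

set_option linter.style.haveILetI false
set_option linter.unusedSectionVars false

namespace Cfsg.Agent.Blocks.FongReynolds

open Cfsg.Agent.Characters Cfsg.Agent.BlockCharsA.NormalSupport
open Cfsg.Agent.CharTheory Cfsg.Agent.Blocks
open scoped ComplexConjugate

universe u

variable {G : Type u} [Group G] [Finite G] {p : ℕ} {M : Ideal Cfsg.AlgInt}

/-! ## Block coefficients -/

theorem conj_blockCoeff (A : Set (Cfsg.IrrCharacter G)) (g : G) :
    conj (Cfsg.blockCoeff A g) = Cfsg.blockCoeff A g⁻¹ := by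
  classical
  haveI := Fintype.ofFinite (Cfsg.IrrCharacter G)
  rw [blockCoeff_eq_sum, blockCoeff_eq_sum, map_mul, map_inv₀, Complex.conj_natCast, map_sum]
  congr 1
  refine Finset.sum_congr rfl fun χ _ => ?_
  split
  · obtain ⟨n, hn⟩ := char_one_nat (irr_isCharacter χ)
    rw [map_mul, hn, Complex.conj_natCast, char_inv (irr_isCharacter χ)]
  · exact map_zero _

theorem blockCoeff_empty (g : G) : Cfsg.blockCoeff (∅ : Set (Cfsg.IrrCharacter G)) g = 0 := by
  classical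
  haveI := Fintype.ofFinite (Cfsg.IrrCharacter G)
  simp [blockCoeff_eq_sum]

theorem sum_blockCoeff_mul [Fintype G] [Fintype (Cfsg.IrrCharacter G)]
    (A : Set (Cfsg.IrrCharacter G)) [DecidablePred (· ∈ A)] (φ : G → ℂ) :
    ∑ g, Cfsg.blockCoeff A g * φ g =
      ∑ θ : Cfsg.IrrCharacter G, if θ ∈ A then
        (θ : G → ℂ) 1 * Cfsg.classInner φ (θ : G → ℂ) else 0 := by
  classical
  simp only [blockCoeff_eq_sum, classInner_def, Finset.mul_sum, Finset.sum_mul]
  rw [Finset.sum_comm]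
  refine Finset.sum_congr rfl fun θ _ => ?_
  by_cases h : θ ∈ A
  · simp only [if_pos h]
    exact Finset.sum_congr rfl fun g _ => by ring
  · simp [if_neg h]

variable {N : Subgroup G} [hN : N.Normal]

theorem blockCoeff_conjNormal (g : G) (A : Set (Cfsg.IrrCharacter N)) (n : N) :
    Cfsg.blockCoeff A (MulAut.conjNormal g n) = Cfsg.blockCoeff (conjIrr g '' A) n := by
  rw [Cfsg.blockCoeff, Cfsg.blockCoeff, finsum_mem_image]
  · congr 1
    refine finsum_mem_congr rfl fun θ _ => ?_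
    rw [coe_conjIrr, Clifford.conjBy_at_one, Clifford.conjBy_eq_comp]
    rfl
  · exact fun a _ c _ e => Subtype.ext (Clifford.conjBy_injective N g (congrArg Subtype.val e))

/-! ## The stabiliser -/

variable {b : Set (Cfsg.IrrCharacter N)} {T : Subgroup G}

theorem conjIrr_image_eq (hs : ∀ g, g ∈ T ↔ ∀ θ ∈ b, conjIrr g θ ∈ b) {g : G} (hg : g ∈ T) :
    conjIrr g '' b = b := by
  refine Set.eq_of_subset_of_ncard_le (Set.image_subset_iff.2 ((hs g).1 hg)) ?_ (Set.toFinite _)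
  rw [Set.ncard_image_of_injective b fun a c e =>
    Subtype.ext (Clifford.conjBy_injective N g (congrArg Subtype.val e))]

theorem inter_conjIrr_image (hM : Cfsg.IsPModular p M) (hb : Cfsg.IsPBlock M b)
    (hs : ∀ g, g ∈ T ↔ ∀ θ ∈ b, conjIrr g θ ∈ b) {g : G} (hg : g ∉ T) :
    b ∩ conjIrr g '' b = ∅ := by
  refine Set.eq_empty_iff_forall_notMem.2 fun η ⟨hη, θ, hθ, e⟩ => hg ((hs g).2 fun θ' hθ' => ?_)
  exact mem_of_sameBlock hM hb (e ▸ hη) (sameBlock_conjIrr g (sameBlock_of_mem hM hb hθ hθ'))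

/-- `ψ(e x) = ψ(x)`: the function lives on the characters over `b`. -/
def CoversOnly [Fintype N] (hNT : N ≤ T) (b : Set (Cfsg.IrrCharacter N)) (ψ : T → ℂ) : Prop :=
  ∀ x : T, ∑ n : N, Cfsg.blockCoeff b n * ψ (Subgroup.inclusion hNT n * x) = ψ x

/-- The idempotent of `b` inside the group algebra of the stabiliser. -/
noncomputable def stabIdem (T : Subgroup G) (b : Set (Cfsg.IrrCharacter N)) : MonoidAlgebra ℂ T :=
  res T (push N (blockIdem b))

theorem central_stabIdem (hs : ∀ g, g ∈ T ↔ ∀ θ ∈ b, conjIrr g θ ∈ b) :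
    IsCentralEl (stabIdem T b) := by
  intro x t
  simp only [stabIdem, coeff_res, Subgroup.coe_mul, Subgroup.coe_inv]
  by_cases hx : (x : G) ∈ N
  · rw [coeff_push_mem _ hx, coeff_push_mem _ (hN.conj_mem _ hx t), coeff_blockIdem,
      coeff_blockIdem]
    conv_rhs => rw [← conjIrr_image_eq hs t.2]
    rw [← blockCoeff_conjNormal]
    exact congrArg _ (Subtype.ext (by simp))
  · rw [coeff_push_notMem _ hx, coeff_push_notMem]
    intro h
    refine hx ?_
    have := hN.conj_mem _ h (t : G)⁻¹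
    simpa [mul_assoc] using this

theorem stabIdem_mul_self (hNT : N ≤ T) : stabIdem T b * stabIdem T b = stabIdem T b := by
  apply push_injective
  have h : push T (stabIdem T b) = push N (blockIdem b) :=
    push_res fun g hg => coeff_push_notMem _ fun h => hg (hNT h)
  rw [push_mul, h, ← push_mul, blockIdem_mul_self]

theorem intEl_stabIdem (hM : Cfsg.IsPModular p M) (hb : Cfsg.IsPBlock M b) :
    IntEl M (stabIdem T b) :=
  intEl_res (intEl_push hM (intEl_blockIdem hM hb))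

theorem evalChar_stabIdem_mul [Fintype N] (hNT : N ≤ T) (ψ : T → ℂ) (x : T) :
    evalChar ψ (stabIdem T b * MonoidAlgebra.single x 1) =
      ∑ n : N, Cfsg.blockCoeff b n * ψ (Subgroup.inclusion hNT n * x) := by
  classical
  haveI := Fintype.ofFinite T
  conv_lhs => rw [eq_sum_single (stabIdem T b), Finset.sum_mul, evalChar_sum]
  simp only [MonoidAlgebra.single_mul_single, mul_one, evalChar_single]
  symm
  refine Fintype.sum_of_injective _ (Subgroup.inclusion_injective hNT) _ _ ?_ ?_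
  · intro t ht
    rw [stabIdem, coeff_res, coeff_push_notMem _ (fun h => ht ⟨⟨t, h⟩, Subtype.ext rfl⟩), zero_mul]
  · intro n
    rw [stabIdem, coeff_res, show ((Subgroup.inclusion hNT n : T) : G) = (n : G) from rfl,
      coeff_push_coe, coeff_blockIdem]

theorem omega_stabIdem (hs : ∀ g, g ∈ T ↔ ∀ θ ∈ b, conjIrr g θ ∈ b) (hNT : N ≤ T)
    (ψ : Cfsg.IrrCharacter T) :
    omega (ψ : T → ℂ) (stabIdem T b) = 0 ∨ omega (ψ : T → ℂ) (stabIdem T b) = 1 := by
  have h := omega_mul ψ (central_stabIdem hs) (stabIdem T b)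
  rw [stabIdem_mul_self hNT] at h
  exact (eq_or_ne _ 0).imp id fun h0 => (mul_eq_left₀ h0).1 h.symm

theorem coversOnly_iff_omega [Fintype N] (hs : ∀ g, g ∈ T ↔ ∀ θ ∈ b, conjIrr g θ ∈ b)
    (hNT : N ≤ T) (ψ : Cfsg.IrrCharacter T) :
    CoversOnly hNT b (ψ : T → ℂ) ↔ omega (ψ : T → ℂ) (stabIdem T b) = 1 := by
  constructor
  · intro h
    rw [omega, div_eq_one_iff_eq (irr_one_ne_zero ψ.2)]
    have h2 := evalChar_stabIdem_mul (b := b) hNT (ψ : T → ℂ) 1
    rw [h 1, ← MonoidAlgebra.one_def, mul_one] at h2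
    exact h2
  · intro h x
    rw [← evalChar_stabIdem_mul hNT, evalChar_central_mul ψ (central_stabIdem hs), h, one_mul,
      evalChar_single, one_mul]

/-- Containing one constituent in `b` is the same as living on `b`. -/
theorem coversOnly_iff_constituent [Fintype N] (hs : ∀ g, g ∈ T ↔ ∀ θ ∈ b, conjIrr g θ ∈ b)
    (hNT : N ≤ T) (ψ : Cfsg.IrrCharacter T) :
    CoversOnly hNT b (ψ : T → ℂ) ↔ ∃ θ ∈ b,
      Cfsg.classInner (fun n : N => (ψ : T → ℂ) ⟨(n : G), hNT n.2⟩) (θ : N → ℂ) ≠ 0 := by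
  classical
  haveI := Fintype.ofFinite (Cfsg.IrrCharacter N)
  have hev : evalChar (ψ : T → ℂ) (stabIdem T b) = ∑ θ : Cfsg.IrrCharacter N, if θ ∈ b then
      (θ : N → ℂ) 1 *
        Cfsg.classInner (fun n : N => (ψ : T → ℂ) ⟨(n : G), hNT n.2⟩) (θ : N → ℂ) else 0 := by
    have h2 := evalChar_stabIdem_mul (b := b) hNT (ψ : T → ℂ) 1
    rw [← MonoidAlgebra.one_def, mul_one] at h2
    rw [h2, ← sum_blockCoeff_mul b]
    simp only [mul_one]
    rfl
  constructor
  · intro h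
    by_contra hne
    push Not at hne
    have h1 := (coversOnly_iff_omega hs hNT ψ).1 h
    rw [omega, hev, Finset.sum_eq_zero fun θ _ => ?_, zero_div] at h1
    · exact zero_ne_one h1
    · split
      · rw [hne θ ‹_›, mul_zero]
      · rfl
  · rintro ⟨θ₀, hθ₀, hne⟩
    refine (coversOnly_iff_omega hs hNT ψ).2 ((omega_stabIdem hs hNT ψ).resolve_left ?_)
    have hres : Cfsg.IsCharacter N (fun n : N => (ψ : T → ℂ) ⟨(n : G), hNT n.2⟩) :=
      isCharacter_comp (Subgroup.inclusion hNT) (irr_isCharacter ψ)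
    choose m hm using fun θ : Cfsg.IrrCharacter N =>
      classInner_char_nat hres (irr_isCharacter θ)
    choose d hd using fun θ : Cfsg.IrrCharacter N => irr_one_pos θ.2
    intro h0
    rw [omega, div_eq_zero_iff] at h0
    have h1 := h0.resolve_right (irr_one_ne_zero ψ.2)
    rw [hev, Finset.sum_congr rfl (g := fun θ => ((if θ ∈ b then d θ * m θ else 0 : ℕ) : ℂ))
      (fun θ _ => by split <;> simp [hm, (hd θ).2]), ← Nat.cast_sum, Nat.cast_eq_zero,
      Finset.sum_eq_zero_iff] at h1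
    have h2 := h1 θ₀ (Finset.mem_univ _)
    rw [if_pos hθ₀, mul_eq_zero] at h2
    rcases h2 with h | h
    · exact (hd θ₀).1.ne' h
    · exact hne (by rw [hm θ₀, h, Nat.cast_zero])

theorem coversOnly_of_sameBlock [Fintype N] (hM : Cfsg.IsPModular p M) (hb : Cfsg.IsPBlock M b)
    (hs : ∀ g, g ∈ T ↔ ∀ θ ∈ b, conjIrr g θ ∈ b) (hNT : N ≤ T) {ψ ψ' : Cfsg.IrrCharacter T}
    (h : Cfsg.SameBlock M (ψ : T → ℂ) (ψ' : T → ℂ)) (hψ : CoversOnly hNT b (ψ : T → ℂ)) :
    CoversOnly hNT b (ψ' : T → ℂ) := by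
  refine (coversOnly_iff_omega hs hNT ψ').2 ((omega_stabIdem hs hNT ψ').resolve_left fun h0 => ?_)
  have h1 := (sameBlock_iff_omega hM ψ ψ').1 h _ (central_stabIdem hs) (intEl_stabIdem hM hb)
  rw [(coversOnly_iff_omega hs hNT ψ).1 hψ, h0] at h1
  exact not_cong_zero_one hM (cong_symm hM h1)

/-- Against an idempotent orthogonal to that of `b` the function vanishes. -/
theorem sum_mul_eq_zero_of_disjoint [Fintype N] (hNT : N ≤ T) {ψ : T → ℂ}
    (hψ : CoversOnly hNT b ψ) {A : Set (Cfsg.IrrCharacter N)} (hA : b ∩ A = ∅) (x : T) :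
    ∑ n : N, Cfsg.blockCoeff A n * ψ (Subgroup.inclusion hNT n * x) = 0 := by
  calc ∑ n : N, Cfsg.blockCoeff A n * ψ (Subgroup.inclusion hNT n * x)
      = ∑ n : N, ∑ m : N, Cfsg.blockCoeff A n *
          (Cfsg.blockCoeff b m * ψ (Subgroup.inclusion hNT (m * n) * x)) := by
        refine Finset.sum_congr rfl fun n _ => ?_
        rw [← hψ (Subgroup.inclusion hNT n * x), Finset.mul_sum]
        exact Finset.sum_congr rfl fun m _ => by rw [map_mul, mul_assoc (Subgroup.inclusion hNT m)]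
    _ = ∑ m : N, ∑ k : N, Cfsg.blockCoeff b m * Cfsg.blockCoeff A (m⁻¹ * k) *
          ψ (Subgroup.inclusion hNT k * x) := by
        rw [Finset.sum_comm]
        refine Finset.sum_congr rfl fun m _ => Fintype.sum_equiv (Equiv.mulLeft m) _ _ fun n => ?_
        simp only [Equiv.coe_mulLeft, inv_mul_cancel_left]
        ring
    _ = ∑ k : N, (blockIdem b * blockIdem A).coeff k * ψ (Subgroup.inclusion hNT k * x) := by
        rw [Finset.sum_comm]
        refine Finset.sum_congr rfl fun k _ => ?_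
        rw [coeff_mul', Finset.sum_mul]
        simp only [coeff_blockIdem]
    _ = 0 := by
        simp [blockIdem_mul, hA, blockCoeff_empty]

/-- The key identity: `(Ind ψ)(e x) = ψ(x)` on the stabiliser. -/
theorem sum_blockCoeff_indFun [Fintype G] [Fintype N] (hM : Cfsg.IsPModular p M)
    (hb : Cfsg.IsPBlock M b) (hs : ∀ g, g ∈ T ↔ ∀ θ ∈ b, conjIrr g θ ∈ b) (hNT : N ≤ T)
    {ψ : T → ℂ} (hcl : Cfsg.IsClassFunction T ψ) (hψ : CoversOnly hNT b ψ) (x : T) :
    ∑ n : N, Cfsg.blockCoeff b n * Cfsg.indFun T ψ ((n : G) * x) = ψ x := by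
  classical
  have hin : ∀ y : G, ∑ n : N,
      Cfsg.blockCoeff b n * Cfsg.extendByZero T ψ (y⁻¹ * ((n : G) * x) * y) =
      if y ∈ T then ψ x else 0 := by
    intro y
    have hre : ∑ n : N, Cfsg.blockCoeff b n * Cfsg.extendByZero T ψ (y⁻¹ * ((n : G) * x) * y) =
        ∑ m : N, Cfsg.blockCoeff (conjIrr y '' b) m *
          Cfsg.extendByZero T ψ ((m : G) * (y⁻¹ * x * y)) := by
      refine (Fintype.sum_equiv (MulAut.conjNormal y : N ≃* N).toEquiv _ _ fun m => ?_).symm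
      rw [MulEquiv.toEquiv_eq_coe, MulEquiv.coe_toEquiv, blockCoeff_conjNormal,
        MulAut.conjNormal_apply]
      congr 2
      group
    rw [hre]
    by_cases hxy : y⁻¹ * (x : G) * y ∈ T
    · have hval : ∀ m : N, Cfsg.extendByZero T ψ ((m : G) * (y⁻¹ * x * y)) =
          ψ (Subgroup.inclusion hNT m * ⟨_, hxy⟩) := fun m => by
        rw [← IndBasic.extendByZero_coe T ψ]
        rfl
      simp only [hval]
      by_cases hy : y ∈ T
      · rw [if_pos hy, conjIrr_image_eq hs hy, hψ ⟨_, hxy⟩]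
        have := hcl x (⟨y, hy⟩ : T)⁻¹
        rw [← this]
        exact congrArg ψ (Subtype.ext (by simp))
      · rw [if_neg hy]
        exact sum_mul_eq_zero_of_disjoint hNT hψ (inter_conjIrr_image hM hb hs hy) _
    · rw [if_neg fun hy => hxy (T.mul_mem (T.mul_mem (T.inv_mem hy) x.2) hy)]
      refine Finset.sum_eq_zero fun m _ => ?_
      rw [IndBasic.extendByZero_of_notMem, mul_zero]
      intro h
      refine hxy ?_
      simpa using T.mul_mem (T.inv_mem (hNT m.2)) h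
  apply mul_left_cancel₀ (Nat.cast_ne_zero.2 Nat.card_pos.ne' : (Nat.card T : ℂ) ≠ 0)
  rw [Finset.mul_sum]
  simp only [mul_left_comm (Nat.card T : ℂ), IndBasic.card_mul_indFun, Finset.mul_sum]
  rw [Finset.sum_comm]
  simp only [hin]
  rw [← Finset.sum_filter, Finset.sum_const, nsmul_eq_mul, ← Fintype.card_subtype,
    ← Nat.card_eq_fintype_card]

theorem indFun_classInner [Fintype G] [Fintype T] [Fintype N] (hM : Cfsg.IsPModular p M)
    (hb : Cfsg.IsPBlock M b) (hs : ∀ g, g ∈ T ↔ ∀ θ ∈ b, conjIrr g θ ∈ b) (hNT : N ≤ T)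
    {ψ ψ' : T → ℂ} (hcl : Cfsg.IsClassFunction T ψ) (hψ : CoversOnly hNT b ψ)
    (hψ' : CoversOnly hNT b ψ') :
    Cfsg.classInner (Cfsg.indFun T ψ) (Cfsg.indFun T ψ') = Cfsg.classInner ψ ψ' := by
  rw [frobenius_reciprocity' T ψ' (indFun_isClassFunction T ψ), classInner_def, classInner_def]
  congr 1
  calc ∑ x : T, Cfsg.indFun T ψ (x : G) * conj (ψ' x)
      = ∑ x : T, ∑ n : N, Cfsg.indFun T ψ (x : G) *
          (Cfsg.blockCoeff b n⁻¹ * conj (ψ' (Subgroup.inclusion hNT n * x))) := by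
        refine Finset.sum_congr rfl fun x _ => ?_
        rw [← hψ' x, map_sum, Finset.mul_sum]
        exact Finset.sum_congr rfl fun n _ => by rw [map_mul, conj_blockCoeff]
    _ = ∑ n : N, ∑ x : T, Cfsg.blockCoeff b n⁻¹ *
          Cfsg.indFun T ψ (((n⁻¹ : N) : G) * x) * conj (ψ' x) := by
        rw [Finset.sum_comm]
        refine Finset.sum_congr rfl fun n _ =>
          Fintype.sum_equiv (Equiv.mulLeft (Subgroup.inclusion hNT n)) _ _ fun x => ?_
        simp only [Equiv.coe_mulLeft, Subgroup.coe_mul, Subgroup.coe_inv, Subgroup.coe_inclusion,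
          inv_mul_cancel_left]
        ring
    _ = ∑ x : T, (∑ n : N, Cfsg.blockCoeff b n * Cfsg.indFun T ψ ((n : G) * x)) * conj (ψ' x) := by
        rw [Finset.sum_comm]
        refine Finset.sum_congr rfl fun x _ => ?_
        rw [Finset.sum_mul]
        exact Fintype.sum_equiv (Equiv.inv N) _ _ fun n => by simp
    _ = ∑ x : T, ψ x * conj (ψ' x) := by
        refine Finset.sum_congr rfl fun x _ => ?_
        rw [sum_blockCoeff_indFun hM hb hs hNT hcl hψ x]

theorem isIrr_indFun [Fintype G] [Fintype N] (hM : Cfsg.IsPModular p M) (hb : Cfsg.IsPBlock M b)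
    (hs : ∀ g, g ∈ T ↔ ∀ θ ∈ b, conjIrr g θ ∈ b) (hNT : N ≤ T) (ψ : Cfsg.IrrCharacter T)
    (hψ : CoversOnly hNT b (ψ : T → ℂ)) :
    Cfsg.IsIrrCharacter G (Cfsg.indFun T (ψ : T → ℂ)) := by
  haveI := Fintype.ofFinite T
  refine isIrr_of_isCharacter_of_norm_one (isCharacter_indFun T (irr_isCharacter ψ)) ?_
  rw [indFun_classInner hM hb hs hNT (irr_isClassFunction ψ) hψ hψ]
  exact classInner_isIrr_self ψ.2

theorem indFun_eq_imp [Fintype G] [Fintype N] (hM : Cfsg.IsPModular p M) (hb : Cfsg.IsPBlock M b)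
    (hs : ∀ g, g ∈ T ↔ ∀ θ ∈ b, conjIrr g θ ∈ b) (hNT : N ≤ T) (ψ ψ' : Cfsg.IrrCharacter T)
    (hψ : CoversOnly hNT b (ψ : T → ℂ)) (hψ' : CoversOnly hNT b (ψ' : T → ℂ))
    (h : Cfsg.indFun T (ψ : T → ℂ) = Cfsg.indFun T (ψ' : T → ℂ)) : ψ = ψ' := by
  haveI := Fintype.ofFinite T
  by_contra hne
  have h1 := indFun_classInner hM hb hs hNT (irr_isClassFunction ψ) hψ hψ'
  rw [classInner_isIrr_ne ψ.2 ψ'.2 fun e => hne (Subtype.ext e), ← h,
    classInner_isIrr_self (isIrr_indFun hM hb hs hNT ψ hψ)] at h1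
  exact one_ne_zero h1

theorem exists_constituent_indFun [Fintype G] [Fintype N] (hM : Cfsg.IsPModular p M)
    (hb : Cfsg.IsPBlock M b) (hs : ∀ g, g ∈ T ↔ ∀ θ ∈ b, conjIrr g θ ∈ b) (hNT : N ≤ T)
    (ψ : Cfsg.IrrCharacter T) (hψ : CoversOnly hNT b (ψ : T → ℂ)) :
    ∃ θ ∈ b, Cfsg.classInner (fun n : N => Cfsg.indFun T (ψ : T → ℂ) n) (θ : N → ℂ) ≠ 0 := by
  classical
  haveI := Fintype.ofFinite (Cfsg.IrrCharacter N)
  by_contra hne
  push Not at hne
  have h := sum_blockCoeff_indFun hM hb hs hNT (irr_isClassFunction ψ) hψ 1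
  simp only [OneMemClass.coe_one, mul_one] at h
  rw [sum_blockCoeff_mul b (fun n : N => Cfsg.indFun T (ψ : T → ℂ) n),
    Finset.sum_eq_zero fun θ _ => ?_] at h
  · exact irr_one_ne_zero ψ.2 h.symm
  · split
    · rw [hne θ ‹_›, mul_zero]
    · rfl

/-- Every character of `G` over `b` is induced from the stabiliser. -/
theorem exists_indFun_eq [Fintype G] [Fintype N] (hM : Cfsg.IsPModular p M)
    (hb : Cfsg.IsPBlock M b) (hs : ∀ g, g ∈ T ↔ ∀ θ ∈ b, conjIrr g θ ∈ b) (hNT : N ≤ T)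
    (χ : Cfsg.IrrCharacter G) {θ : Cfsg.IrrCharacter N} (hθ : θ ∈ b)
    (hne : Cfsg.classInner (fun n : N => (χ : G → ℂ) n) (θ : N → ℂ) ≠ 0) :
    ∃ ψ : Cfsg.IrrCharacter T, CoversOnly hNT b (ψ : T → ℂ) ∧
      (χ : G → ℂ) = Cfsg.indFun T (ψ : T → ℂ) := by
  classical
  haveI := Fintype.ofFinite T
  haveI := Fintype.ofFinite (Cfsg.IrrCharacter T)
  have hres : Cfsg.IsCharacter T (fun t : T => (χ : G → ℂ) t) :=
    isCharacter_restrict T (irr_isCharacter χ)
  obtain ⟨ψ, h1, h2⟩ : ∃ ψ : Cfsg.IrrCharacter T,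
      Cfsg.classInner (fun t : T => (χ : G → ℂ) t) (ψ : T → ℂ) ≠ 0 ∧
      Cfsg.classInner (fun n : N => (ψ : T → ℂ) ⟨(n : G), hNT n.2⟩) (θ : N → ℂ) ≠ 0 := by
    by_contra hcon
    push Not at hcon
    apply hne
    have hexp : (fun n : N => (χ : G → ℂ) n) = ∑ ψ : Cfsg.IrrCharacter T,
        Cfsg.classInner (fun t : T => (χ : G → ℂ) t) (ψ : T → ℂ) •
          (fun n : N => (ψ : T → ℂ) ⟨(n : G), hNT n.2⟩) := by
      funext n
      have := congrFun (classFun_eq_sum (char_isClassFunction hres)) ⟨(n : G), hNT n.2⟩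
      simpa [Finset.sum_apply] using this
    rw [hexp, classInner_sum_left]
    refine Finset.sum_eq_zero fun ψ _ => ?_
    rw [classInner_smul_left]
    by_cases h : Cfsg.classInner (fun t : T => (χ : G → ℂ) t) (ψ : T → ℂ) = 0
    · rw [h, zero_mul]
    · rw [hcon ψ h, mul_zero]
  have hψ := (coversOnly_iff_constituent hs hNT ψ).2 ⟨θ, hθ, h2⟩
  refine ⟨ψ, hψ, ?_⟩
  by_contra hne'
  have h3 := classInner_isIrr_ne χ.2 (isIrr_indFun hM hb hs hNT ψ hψ) hne'
  rw [frobenius_reciprocity' T (ψ : T → ℂ) (irr_isClassFunction χ)] at h3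
  exact h1 h3

/-- Induced characters in one block come from one block of the stabiliser. -/
theorem sameBlock_of_indFun [Fintype G] [Fintype N] (hM : Cfsg.IsPModular p M)
    (hb : Cfsg.IsPBlock M b) (hs : ∀ g, g ∈ T ↔ ∀ θ ∈ b, conjIrr g θ ∈ b) (hNT : N ≤ T)
    (ψ ψ' : Cfsg.IrrCharacter T) (hψ : CoversOnly hNT b (ψ : T → ℂ))
    (hψ' : CoversOnly hNT b (ψ' : T → ℂ))
    (h : Cfsg.SameBlock M (Cfsg.indFun T (ψ : T → ℂ)) (Cfsg.indFun T (ψ' : T → ℂ))) :
    Cfsg.SameBlock M (ψ : T → ℂ) (ψ' : T → ℂ) := by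
  classical
  haveI := Fintype.ofFinite T
  intro a
  set w := classSum a * stabIdem T b
  have hwc : IsCentralEl w := central_mul (central_classSum a) (central_stabIdem hs)
  have hwi : IntEl M w := intEl_mul hM (intEl_classSum hM a) (intEl_stabIdem hM hb)
  set f : T → ℂ := fun t => w.coeff t
  have hf : Cfsg.IsClassFunction T f := fun g k => hwc g k
  set Z : MonoidAlgebra ℂ G := ofFun (Cfsg.indFun T f)
  have hZc : IsCentralEl Z := central_ofFun (indFun_isClassFunction T f)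
  have hZi : IntEl M Z := fun g => by
    haveI := Fintype.ofFinite (G ⧸ T)
    rw [coeff_ofFun, Cfsg.Agent.GL2.Borel.indFun_eq_sum_reps T f (fun q : G ⧸ T => q.out)
      (by simpa using Function.bijective_id) hf]
    refine ring_sum hM fun q _ => ?_
    by_cases hq : q.out⁻¹ * g * q.out ∈ T
    · rw [IndBasic.extendByZero_of_mem T f hq]; exact hwi _
    · rw [IndBasic.extendByZero_of_notMem T f hq]; exact ring_zero hM
  have key : ∀ φ : Cfsg.IrrCharacter T, CoversOnly hNT b (φ : T → ℂ) →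
      omega (Cfsg.indFun T (φ : T → ℂ)) Z = Cfsg.centralChar (φ : T → ℂ) a := by
    intro φ hφ
    set Φ := Cfsg.indFun T (φ : T → ℂ) with hΦ
    have hcl : Cfsg.IsClassFunction G Φ := indFun_isClassFunction T _
    have h1 : evalChar Φ Z = (T.index : ℂ) * ∑ t : T, f t * Φ t := by
      apply mul_left_cancel₀ (Nat.cast_ne_zero.2 Nat.card_pos.ne' : (Nat.card T : ℂ) ≠ 0)
      rw [evalChar_eq_sum, ← mul_assoc, ← Nat.cast_mul, T.card_mul_index, Finset.mul_sum]
      simp only [Z, coeff_ofFun, ← mul_assoc, IndBasic.card_mul_indFun, Finset.sum_mul]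
      rw [Finset.sum_comm, Nat.card_eq_fintype_card, ← Finset.card_univ, ← nsmul_eq_mul,
        ← Finset.sum_const]
      refine Finset.sum_congr rfl fun y _ => ?_
      rw [← sum_extendByZero_mul T f Φ]
      refine Fintype.sum_equiv (MulAut.conj y⁻¹).toEquiv _ _ fun g => ?_
      rw [MulEquiv.toEquiv_eq_coe, MulEquiv.coe_toEquiv, MulAut.conj_apply, inv_inv]
      congr 1
      have := hcl g y⁻¹
      rw [inv_inv] at this
      exact this.symm
    have h2 : ∑ t : T, f t * Φ t = evalChar (φ : T → ℂ) (classSum a) := by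
      rw [evalChar_eq_sum]
      calc ∑ t : T, f t * Φ t
          = ∑ t : T, ∑ x : T, (classSum a).coeff x * (stabIdem T b).coeff (x⁻¹ * t) * Φ t := by
            refine Finset.sum_congr rfl fun t _ => ?_
            simp only [f, w, coeff_mul', Finset.sum_mul]
        _ = ∑ x : T, (classSum a).coeff x * ∑ k : T, (stabIdem T b).coeff k * Φ (x * k : T) := by
            rw [Finset.sum_comm]
            refine Finset.sum_congr rfl fun x _ => ?_
            rw [Finset.mul_sum]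
            exact Fintype.sum_equiv (Equiv.mulLeft x⁻¹) _ _ fun t => by simp [mul_assoc]
        _ = ∑ x : T, (classSum a).coeff x * (φ : T → ℂ) x := by
            refine Finset.sum_congr rfl fun x _ => congrArg _ ?_
            rw [← sum_blockCoeff_indFun hM hb hs hNT (irr_isClassFunction φ) hφ x]
            symm
            refine Fintype.sum_of_injective _ (Subgroup.inclusion_injective hNT) _ _ ?_ ?_
            · intro t ht
              rw [stabIdem, coeff_res,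
                coeff_push_notMem _ (fun h => ht ⟨⟨t, h⟩, Subtype.ext rfl⟩), zero_mul]
            · intro n
              rw [stabIdem, coeff_res,
                show ((Subgroup.inclusion hNT n : T) : G) = (n : G) from rfl, coeff_push_coe,
                coeff_blockIdem, Subgroup.coe_mul, Subgroup.coe_inclusion, ← hΦ]
              congr 1
              have := hcl ((n : G) * x) (x : G)
              simpa [mul_assoc] using this.symm
    rw [← omega_classSum (irr_isClassFunction φ), omega, omega, h1, h2,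
      show Φ 1 = (T.index : ℂ) * (φ : T → ℂ) 1 from indFun_one T _, mul_div_mul_left _ _ (Nat.cast_ne_zero.2 T.index_ne_zero_of_finite)]
  rw [← key ψ hψ, ← key ψ' hψ']
  exact (sameBlock_iff_omega hM ⟨_, isIrr_indFun hM hb hs hNT ψ hψ⟩
    ⟨_, isIrr_indFun hM hb hs hNT ψ' hψ'⟩).1 h Z hZc hZi

/-! ## The correspondence -/

/-- A member of the induced block for each member of the block of the stabiliser. -/
theorem isInduced_blockOf [Fintype G] [Fintype N] (hM : Cfsg.IsPModular p M)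
    (hb : Cfsg.IsPBlock M b) (hs : ∀ g, g ∈ T ↔ ∀ θ ∈ b, conjIrr g θ ∈ b) (hNT : N ≤ T)
    {B' : Set (Cfsg.IrrCharacter T)} (hB' : Cfsg.IsPBlock M B') {ψ : Cfsg.IrrCharacter T}
    (hψB : ψ ∈ B') (hψ : CoversOnly hNT b (ψ : T → ℂ)) :
    Cfsg.IsInducedBlock M T B' (Cfsg.blockOf M (Cfsg.indFun T (ψ : T → ℂ))) := by
  rw [block_eq_blockOf hM hB' hψB]
  exact isInduced_indFun hM T ψ (isIrr_indFun hM hb hs hNT ψ hψ)

theorem mem_induced [Fintype G] [Fintype N] (hM : Cfsg.IsPModular p M) (hb : Cfsg.IsPBlock M b)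
    (hs : ∀ g, g ∈ T ↔ ∀ θ ∈ b, conjIrr g θ ∈ b) (hNT : N ≤ T)
    {B' : Set (Cfsg.IrrCharacter T)} {B : Set (Cfsg.IrrCharacter G)}
    (hind : Cfsg.IsInducedBlock M T B' B) {ψ : Cfsg.IrrCharacter T} (hψB : ψ ∈ B')
    (hψ : CoversOnly hNT b (ψ : T → ℂ)) :
    ∃ χ ∈ B, (χ : G → ℂ) = Cfsg.indFun T (ψ : T → ℂ) := by
  refine ⟨⟨_, isIrr_indFun hM hb hs hNT ψ hψ⟩, ?_, rfl⟩
  rw [isInduced_unique hM hind (isInduced_blockOf hM hb hs hNT hind.1 hψB hψ)]
  exact mem_blockOf_self hM ⟨_, isIrr_indFun hM hb hs hNT ψ hψ⟩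

theorem mem_iff_indFun [Fintype G] [Fintype N] (hM : Cfsg.IsPModular p M)
    (hb : Cfsg.IsPBlock M b) (hs : ∀ g, g ∈ T ↔ ∀ θ ∈ b, conjIrr g θ ∈ b) (hNT : N ≤ T)
    {B' : Set (Cfsg.IrrCharacter T)} {B : Set (Cfsg.IrrCharacter G)}
    (hind : Cfsg.IsInducedBlock M T B' B) (hcov : ∀ ψ ∈ B', CoversOnly hNT b (ψ : T → ℂ))
    (χ : Cfsg.IrrCharacter G) :
    χ ∈ B ↔ ∃ ψ ∈ B', (χ : G → ℂ) = Cfsg.indFun T (ψ : T → ℂ) := by
  constructor
  · intro hχ
    obtain ⟨ψ₀, hψ₀⟩ := block_nonempty hM hind.1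
    obtain ⟨χ₀, hχ₀, e₀⟩ := mem_induced hM hb hs hNT hind hψ₀ (hcov _ hψ₀)
    obtain ⟨θ₀, hθ₀, hne₀⟩ := exists_constituent_indFun hM hb hs hNT ψ₀ (hcov _ hψ₀)
    obtain ⟨θ₁, hθ₁⟩ := exists_under (N := N) χ
    obtain ⟨g, hg⟩ := constituents_conj_block hM (sameBlock_of_mem hM hind.2.1 hχ₀ hχ)
      (by rw [e₀]; exact hne₀) hθ₁
    have hθ' : conjIrr g⁻¹ θ₁ ∈ b := by
      refine mem_of_sameBlock hM hb hθ₀ ?_
      have h2 := sameBlock_conjIrr g⁻¹ hg
      rwa [conjIrr_conjIrr, mul_inv_cancel, conjIrr_one] at h2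
    obtain ⟨ψ, hψ, e⟩ := exists_indFun_eq hM hb hs hNT χ hθ' (by rwa [constituent_conjIrr])
    refine ⟨ψ, mem_of_sameBlock hM hind.1 hψ₀ ?_, e⟩
    refine sameBlock_of_indFun hM hb hs hNT ψ₀ ψ (hcov _ hψ₀) hψ ?_
    rw [← e, ← e₀]
    exact sameBlock_of_mem hM hind.2.1 hχ₀ hχ
  · rintro ⟨ψ, hψ, e⟩
    obtain ⟨χ', hχ', e'⟩ := mem_induced hM hb hs hNT hind hψ (hcov _ hψ)
    rwa [show χ = χ' from Subtype.ext (e.trans e'.symm)]

theorem charDegree_indFun [Fintype G] (χ : Cfsg.IrrCharacter G) (ψ : Cfsg.IrrCharacter T)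
    (h : (χ : G → ℂ) = Cfsg.indFun T (ψ : T → ℂ)) :
    Cfsg.charDegree (χ : G → ℂ) = T.index * Cfsg.charDegree (ψ : T → ℂ) := by
  have h1 := congrFun h 1
  rw [indFun_one, ← charDegree_cast, ← charDegree_cast] at h1
  exact_mod_cast h1

/-- Degrees in the induced block are shifted by the index. -/
theorem sInf_degree_shift [Fintype G] [Fintype N] (hM : Cfsg.IsPModular p M)
    (hb : Cfsg.IsPBlock M b) (hs : ∀ g, g ∈ T ↔ ∀ θ ∈ b, conjIrr g θ ∈ b) (hNT : N ≤ T)
    {B' : Set (Cfsg.IrrCharacter T)} {B : Set (Cfsg.IrrCharacter G)}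
    (hind : Cfsg.IsInducedBlock M T B' B) (hcov : ∀ ψ ∈ B', CoversOnly hNT b (ψ : T → ℂ)) :
    sInf ((fun χ : Cfsg.IrrCharacter G => (Cfsg.charDegree (χ : G → ℂ)).factorization p) '' B) =
      T.index.factorization p +
        sInf ((fun ψ : Cfsg.IrrCharacter T => (Cfsg.charDegree (ψ : T → ℂ)).factorization p) ''
          B') := by
  obtain ⟨ψ₀, hψ₀⟩ := block_nonempty hM hind.1
  have hfac : ∀ (χ : Cfsg.IrrCharacter G) (ψ : Cfsg.IrrCharacter T),
      (χ : G → ℂ) = Cfsg.indFun T (ψ : T → ℂ) → (Cfsg.charDegree (χ : G → ℂ)).factorization p =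
        T.index.factorization p + (Cfsg.charDegree (ψ : T → ℂ)).factorization p := by
    intro χ ψ e
    rw [charDegree_indFun χ ψ e, Nat.factorization_mul T.index_ne_zero_of_finite
      (charDegree_pos ψ).ne']
    rfl
  apply le_antisymm
  · obtain ⟨ψ, hψ, e⟩ := Nat.sInf_mem (Set.Nonempty.image
      (fun ψ : Cfsg.IrrCharacter T => (Cfsg.charDegree (ψ : T → ℂ)).factorization p) ⟨ψ₀, hψ₀⟩)
    obtain ⟨χ, hχ, hχe⟩ := mem_induced hM hb hs hNT hind hψ (hcov ψ hψ)
    rw [← e, ← hfac χ ψ hχe]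
    exact Nat.sInf_le ⟨χ, hχ, rfl⟩
  · obtain ⟨χ₀, hχ₀, -⟩ := mem_induced hM hb hs hNT hind hψ₀ (hcov ψ₀ hψ₀)
    refine le_csInf ⟨_, χ₀, hχ₀, rfl⟩ ?_
    rintro _ ⟨χ, hχ, rfl⟩
    obtain ⟨ψ, hψ, e⟩ := (mem_iff_indFun hM hb hs hNT hind hcov χ).1 hχ
    show _ ≤ (Cfsg.charDegree (χ : G → ℂ)).factorization p
    rw [hfac χ ψ e]
    refine Nat.add_le_add_left (Nat.sInf_le ?_) _
    exact ⟨ψ, hψ, rfl⟩

theorem blockHeight_indFun [Fintype G] [Fintype N] (hM : Cfsg.IsPModular p M)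
    (hb : Cfsg.IsPBlock M b) (hs : ∀ g, g ∈ T ↔ ∀ θ ∈ b, conjIrr g θ ∈ b) (hNT : N ≤ T)
    {B' : Set (Cfsg.IrrCharacter T)} {B : Set (Cfsg.IrrCharacter G)}
    (hind : Cfsg.IsInducedBlock M T B' B) (hcov : ∀ ψ ∈ B', CoversOnly hNT b (ψ : T → ℂ))
    (χ : Cfsg.IrrCharacter G) (ψ : Cfsg.IrrCharacter T)
    (h : (χ : G → ℂ) = Cfsg.indFun T (ψ : T → ℂ)) :
    Cfsg.blockHeight p B (χ : G → ℂ) = Cfsg.blockHeight p B' (ψ : T → ℂ) := by
  rw [Cfsg.blockHeight, Cfsg.blockHeight, sInf_degree_shift hM hb hs hNT hind hcov,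
    charDegree_indFun χ ψ h, Nat.factorization_mul T.index_ne_zero_of_finite
      (charDegree_pos ψ).ne']
  exact Nat.add_sub_add_left _ _ _

theorem blockDefect_induced [Fintype G] [Fintype N] (hM : Cfsg.IsPModular p M)
    (hb : Cfsg.IsPBlock M b) (hs : ∀ g, g ∈ T ↔ ∀ θ ∈ b, conjIrr g θ ∈ b) (hNT : N ≤ T)
    {B' : Set (Cfsg.IrrCharacter T)} {B : Set (Cfsg.IrrCharacter G)}
    (hind : Cfsg.IsInducedBlock M T B' B) (hcov : ∀ ψ ∈ B', CoversOnly hNT b (ψ : T → ℂ)) :
    Cfsg.blockDefect p B = Cfsg.blockDefect p B' := by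
  rw [Cfsg.blockDefect, Cfsg.blockDefect, sInf_degree_shift hM hb hs hNT hind hcov,
    ← factorization_index_add T p]
  exact Nat.add_sub_add_left _ _ _

theorem isDefectGroup_map [Fintype G] [Fintype N] (hM : Cfsg.IsPModular p M)
    (hb : Cfsg.IsPBlock M b) (hs : ∀ g, g ∈ T ↔ ∀ θ ∈ b, conjIrr g θ ∈ b) (hNT : N ≤ T)
    {B' : Set (Cfsg.IrrCharacter T)} {B : Set (Cfsg.IrrCharacter G)}
    (hind : Cfsg.IsInducedBlock M T B' B) (hcov : ∀ ψ ∈ B', CoversOnly hNT b (ψ : T → ℂ))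
    {D : Subgroup T} (hD : Cfsg.IsDefectGroup p M B' D) :
    Cfsg.IsDefectGroup p M B (D.map T.subtype) := by
  obtain ⟨E, hE, hle⟩ := exists_defect_le_of_induced hM hind hD
  suffices D.map T.subtype = E by rwa [this]
  refine Subgroup.eq_of_le_of_card_ge hle (le_of_eq ?_)
  rw [Subgroup.card_map_of_injective T.subtype_injective, card_defectGroup hM hind.2.1 hE,
    card_defectGroup hM hind.1 hD, blockDefect_induced hM hb hs hNT hind hcov]

end Cfsg.Agent.Blocks.FongReynolds
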