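import Mathlib
import Cfsg.Prelude.Def_Blocks
import Cfsg.Agent.Lib.Blocks.InvariantCore
import Cfsg.Agent.Lib.CharTheory.ExtendChar
import Cfsg.Agent.Lib.PLocal.PSolvable
import Cfsg.Agent.S0887
import Cfsg.Agent.S4435
import Cfsg.Agent.S4436

/-!
# Heights of characters in blocks of `p`-solvable groups
-/

set_option linter.style.haveILetI false
set_option linter.unusedSectionVars false

namespace Cfsg.Agent.Blocks.HeightBound

open Cfsg.Agent.Characters Cfsg.Agent.BlockCharsA.NormalSupport
open Cfsg.Agent.CharTheory Cfsg.Agent.Blocks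

universe u

variable {G : Type u} [Group G] [Finite G] {p : ℕ} {M : Ideal Cfsg.AlgInt}

/-- Over an invariant character of a normal Hall subgroup with abelian quotient, all characters
have the same degree. -/
theorem degree_eq_of_abelian_coprime [Fintype G] {N : Subgroup G} [N.Normal] [Fintype N]
    (hcop : Nat.Coprime N.index (Nat.card N))
    (hab : ∀ a b : G ⧸ N, a * b = b * a) (θ : Cfsg.IrrCharacter N)
    (hinv : ∀ g : G, conjIrr g θ = θ) (η : Cfsg.IrrCharacter G)
    (h : Cfsg.classInner (fun n : N => (η : G → ℂ) n) (θ : N → ℂ) ≠ 0) :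
    (η : G → ℂ) 1 = (θ : N → ℂ) 1 := by
  have hc : ∀ g : G, Clifford.conjBy N g (θ : N → ℂ) = θ := fun g => congrArg Subtype.val (hinv g)
  have hlin := ExtendChar.detChar_isLinear (irr_isCharacter θ)
  have hdinv : ∀ (g : G) (n : N), Cfsg.detChar (θ : N → ℂ)
      ⟨g * n * g⁻¹, (inferInstance : N.Normal).conj_mem (n : G) n.2 g⟩ =
      Cfsg.detChar (θ : N → ℂ) n := by
    intro g n
    have h1 := congrFun (ExtendChar.detChar_comp (MulAut.conjNormal g : N ≃* N).toMonoidHom
      (irr_isCharacter θ)) n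
    rw [show (θ : N → ℂ) ∘ (MulAut.conjNormal g : N ≃* N).toMonoidHom = θ from by
      rw [← Clifford.conjBy_eq_comp]; exact hc g] at h1
    rw [h1]
    exact congrArg (Cfsg.detChar (θ : N → ℂ)) (Subtype.ext (by simp))
  have hord : orderOf (Cfsg.detChar (θ : N → ℂ)) ∣ Nat.card N := by
    refine orderOf_dvd_of_pow_eq_one (funext fun n => ?_)
    obtain ⟨f, hf⟩ := ExtendChar.exists_hom hlin.1 hlin.2
    rw [Pi.pow_apply, Pi.one_apply, ← hf, ← Units.val_pow_eq_pow_val, ← map_pow, pow_card_eq_one',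
      map_one, Units.val_one]
  obtain ⟨μ, hμ, -⟩ := ExtendChar.exists_linear_extension_coprime N hlin hdinv
    (Nat.Coprime.coprime_dvd_right hord hcop)
  obtain ⟨χ, hχ, hχN⟩ := ExtendChar.exists_extension_det N θ.2 hc (charDegree_cast θ).symm
    (Nat.Coprime.coprime_dvd_right (char_degree_dvd_card θ) hcop) μ hμ
  have hres : (fun n : N => χ n) = (θ : N → ℂ) := funext hχN
  obtain ⟨hq, he⟩ := Average.gallagher N hχ (hres ▸ θ.2) η.2 (by rw [hres]; exact h)
  obtain ⟨ν, -, hν, hνi⟩ := exists_deflate_quotient N (isCharacter_of_isIrr hq) fun x hx => by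
    have := Average.quotChar_mul_left N χ (η : G → ℂ) ⟨x, hx⟩ 1
    rwa [mul_one] at this
  have h1 : Average.quotChar N χ (η : G → ℂ) 1 = 1 := by
    rw [← hν 1]
    exact irr_degree_one_of_comm hab (hνi hq)
  have h2 := congrFun he 1
  rw [Pi.mul_apply, h1, one_mul] at h2
  rw [← h2]
  exact hχN 1

/-- The invariant case. -/
theorem degree_factorization_le [Fintype G] [Fact p.Prime] (hsolv : Cfsg.IsPSolvable p G)
    {N : Subgroup G} [N.Normal] [Fintype N] (hNdef : N = Cfsg.pPrimeCore p G)
    (θ : Cfsg.IrrCharacter N) (hinv : ∀ g : G, conjIrr g θ = θ) (χ : Cfsg.IrrCharacter G)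
    (hχ : Cfsg.classInner (fun n : N => (χ : G → ℂ) n) (θ : N → ℂ) ≠ 0) (P : Sylow p G) :
    (Cfsg.charDegree (χ : G → ℂ)).factorization p ≤
      (Subgroup.center ↥(P : Subgroup G)).index.factorization p := by
  classical
  have hp : p.Prime := Fact.out
  have hNp : ¬ p ∣ Nat.card N := hNdef ▸ PLocal.Cores.not_dvd_card_pPrimeCore hp.ne_one
  obtain ⟨R, hR⟩ : ∃ R, R = Cfsg.pCore p (G ⧸ N) := ⟨_, rfl⟩
  haveI : R.Normal := hR ▸ Cores.pCore_normal p
  set A : Subgroup (G ⧸ N) := R ⊓ Subgroup.centralizer (R : Set (G ⧸ N)) with hA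
  haveI : A.Normal := by rw [hA]; infer_instance
  set K := A.comap (QuotientGroup.mk' N) with hK
  haveI : K.Normal := by rw [hK]; infer_instance
  haveI := Fintype.ofFinite K
  have hNK : N ≤ K := fun n hn => by
    rw [hK, Subgroup.mem_comap, show QuotientGroup.mk' N n = 1 from (QuotientGroup.eq_one_iff n).2 hn]
    exact one_mem _
  haveI := Fintype.ofFinite (N.subgroupOf K)
  have hAp : IsPGroup p A := (hR ▸ Cores.pCore_isPGroup p).to_le inf_le_left
  -- the characters of `K` over `θ`
  set e := Subgroup.subgroupOfEquivOfLe hNK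
  have hcard : (N.subgroupOf K).index = Nat.card A := by
    have hm : K.map (QuotientGroup.mk' N) = A :=
      Subgroup.map_comap_eq_self_of_surjective (QuotientGroup.mk'_surjective N) _
    rw [← hm, Subgroup.index_eq_card]
    have hker : ((QuotientGroup.mk' N).subgroupMap K).ker = N.subgroupOf K := by
      ext x
      rw [MonoidHom.mem_ker, Subgroup.mem_subgroupOf, Subtype.ext_iff]
      exact QuotientGroup.eq_one_iff (x : G)
    rw [← hker]
    exact Nat.card_congr (QuotientGroup.quotientKerEquivOfSurjective _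
      ((QuotientGroup.mk' N).subgroupMap_surjective K)).toEquiv
  have hab : ∀ a b : K ⧸ N.subgroupOf K, a * b = b * a := by
    intro a b
    induction a using QuotientGroup.induction_on with | H a => ?_
    induction b using QuotientGroup.induction_on with | H b => ?_
    rw [← QuotientGroup.mk_mul, ← QuotientGroup.mk_mul, QuotientGroup.eq, Subgroup.mem_subgroupOf]
    apply (QuotientGroup.eq_one_iff _).1
    have h := Subgroup.mem_centralizer_iff.1 (Subgroup.mem_inf.1 (Subgroup.mem_comap.1 b.2)).2 _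
      (Subgroup.mem_inf.1 (Subgroup.mem_comap.1 a.2)).1
    simp only [QuotientGroup.mk'_apply] at h
    simp only [Subgroup.coe_mul, Subgroup.coe_inv, QuotientGroup.mk_mul, QuotientGroup.mk_inv]
    rw [h, inv_mul_cancel]
  set θ' : Cfsg.IrrCharacter (N.subgroupOf K) := ⟨_, (isIrrCharacter_comp_mulEquiv e).2 θ.2⟩
  have hinv' : ∀ k : K, conjIrr k θ' = θ' := fun k => Subtype.ext (funext fun x => by
    rw [coe_conjIrr, Clifford.conjBy_apply]
    have h := congrFun (congrArg Subtype.val (hinv (k : G))) (e x)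
    rw [coe_conjIrr, Clifford.conjBy_apply] at h
    exact h)
  obtain ⟨η, hη⟩ := exists_under (N := K) χ
  have hηθ : Cfsg.classInner (fun n : N.subgroupOf K => (η : K → ℂ) n)
      (θ' : N.subgroupOf K → ℂ) ≠ 0 := by
    obtain ⟨η₁, hη₁⟩ := exists_under (N := N.subgroupOf K) η
    have h3 : Cfsg.classInner (fun n : N.subgroupOf K => (χ : G → ℂ) ((n : K) : G))
        (η₁ : N.subgroupOf K → ℂ) ≠ 0 :=
      Clifford.classInner_restrict_ne_zero (N.subgroupOf K)
        (isCharacter_restrict K (irr_isCharacter χ)) η.2 (irr_isCharacter η₁) hη hη₁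
    set η₂ : Cfsg.IrrCharacter N := ⟨_, (isIrrCharacter_comp_mulEquiv e.symm).2 η₁.2⟩
    have he2 : (η₁ : N.subgroupOf K → ℂ) = (η₂ : N → ℂ) ∘ e := funext fun x => by simp [η₂]
    rw [he2] at h3
    have h4 : Cfsg.classInner (fun n : N => (χ : G → ℂ) n) (η₂ : N → ℂ) ≠ 0 := by
      rw [← Basics.classInner_comp_equiv e]
      exact h3
    obtain ⟨g, hg⟩ := Clifford.exists_conjBy_eq N χ.2 θ.2 η₂.2 hχ h4
    rw [show Clifford.conjBy N g (θ : N → ℂ) = θ from congrArg Subtype.val (hinv g)] at hg
    rwa [show (θ' : N.subgroupOf K → ℂ) = (η₁ : N.subgroupOf K → ℂ) by rw [he2, ← hg]]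
  have hcop : Nat.Coprime (N.subgroupOf K).index (Nat.card (N.subgroupOf K)) := by
    rw [hcard, Nat.card_congr e.toEquiv]
    obtain ⟨k, hk⟩ := hAp.exists_card_eq
    rw [hk]
    exact Nat.Coprime.pow_left k (hp.coprime_iff_not_dvd.2 hNp)
  have hdeg := degree_eq_of_abelian_coprime hcop hab θ' hinv' η hηθ
  have hθ'1 : (θ' : N.subgroupOf K → ℂ) 1 = (θ : N → ℂ) 1 := by
    show (θ : N → ℂ) (e 1) = _
    rw [map_one]
  rw [hθ'1, ← charDegree_cast θ] at hdeg
  obtain ⟨hd1, hd2⟩ := Cfsg.Agent.S0887.result K (χ : G → ℂ) χ.2 (η : K → ℂ) η.2 hη _ _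
    (charDegree_cast χ).symm hdeg
  have hθp : (Cfsg.charDegree (θ : N → ℂ)).factorization p = 0 :=
    Nat.factorization_eq_zero_of_not_dvd fun h => hNp (h.trans (char_degree_dvd_card θ))
  have h5 : (Cfsg.charDegree (χ : G → ℂ)).factorization p ≤ A.index.factorization p := by
    rw [show A.index = K.index from (Subgroup.index_comap_of_surjective _
      (QuotientGroup.mk'_surjective N)).symm]
    have h6 := (Nat.factorization_le_iff_dvd (Nat.div_pos (Nat.le_of_dvd (charDegree_pos χ) hd1)
      (charDegree_pos θ)).ne' K.index_ne_zero_of_finite).2 hd2 p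
    rw [Nat.factorization_div hd1, Finsupp.tsub_apply, hθp, Nat.sub_zero] at h6
    exact h6
  refine h5.trans ?_
  -- the centre of a Sylow subgroup embeds in `A`
  have hG : Cfsg.pPrimeCore p (G ⧸ N) = ⊥ := by
    subst hNdef; exact Cores.pPrimeCore_quotient_self p
  have hcent := PLocal.PSolvable.centralizer_pCore_le hG
    (PLocal.PSolvable.subgroup (PLocal.PSolvable.quotient hsolv N) _)
  rw [← hR] at hcent
  set P' : Sylow p (G ⧸ N) := P.mapSurjective (QuotientGroup.mk'_surjective N)
  have hP' : (P' : Subgroup (G ⧸ N)) = (P : Subgroup G).map (QuotientGroup.mk' N) := rfl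
  have hRP : R ≤ P' := hR ▸ Cores.pCore_le_sylow P'
  have hmem : ∀ z : Subgroup.center ↥(P : Subgroup G),
      QuotientGroup.mk' N ((z : ↥(P : Subgroup G)) : G) ∈ A := by
    intro z
    have hz : QuotientGroup.mk' N ((z : ↥(P : Subgroup G)) : G) ∈
        Subgroup.centralizer (R : Set (G ⧸ N)) := by
      refine Subgroup.mem_centralizer_iff.2 fun r hr => ?_
      obtain ⟨y, hy, rfl⟩ := hP' ▸ hRP hr
      rw [← map_mul, ← map_mul]
      exact congrArg _ (congrArg Subtype.val (Subgroup.mem_center_iff.1 z.2 ⟨y, hy⟩))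
    exact ⟨hcent hz, hz⟩
  let f : Subgroup.center ↥(P : Subgroup G) →* A :=
    { toFun := fun z => ⟨_, hmem z⟩
      map_one' := Subtype.ext (map_one _)
      map_mul' := fun a b => Subtype.ext (map_mul _ _ _) }
  have hf : Function.Injective f := by
    intro a b hab'
    have h1 : ((a : ↥(P : Subgroup G)) : G)⁻¹ * ((b : ↥(P : Subgroup G)) : G) ∈ N :=
      QuotientGroup.eq.1 (congrArg Subtype.val hab')
    obtain ⟨k, hk⟩ := P.isPGroup'.exists_card_eq
    have h2 : ((a : ↥(P : Subgroup G)) : G)⁻¹ * ((b : ↥(P : Subgroup G)) : G) = 1 := by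
      rw [← Subgroup.mem_bot, ← (Subgroup.disjoint_of_coprime_natCard (H := (P : Subgroup G))
        (K := N) (hk ▸ Nat.Coprime.pow_left k (hp.coprime_iff_not_dvd.2 hNp))).eq_bot]
      exact Subgroup.mem_inf.2 ⟨Subgroup.mul_mem _ (Subgroup.inv_mem _ (a : ↥(P : Subgroup G)).2) (b : ↥(P : Subgroup G)).2, h1⟩
    exact Subtype.ext (Subtype.ext (inv_mul_eq_one.1 h2))
  have h7 := (Nat.factorization_le_iff_dvd Nat.card_pos.ne' Nat.card_pos.ne').2
    (Subgroup.card_dvd_of_injective f hf) p
  have h8 := factorization_index_add A p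
  have h9 := factorization_index_add (Subgroup.center ↥(P : Subgroup G)) p
  have h10 : (Nat.card (G ⧸ N)).factorization p = (Nat.card ↥(P : Subgroup G)).factorization p := by
    rw [P.card_eq_multiplicity, hp.factorization_pow, Finsupp.single_eq_same]
    have h11 := factorization_index_add N p
    rw [Subgroup.index_eq_card, Nat.factorization_eq_zero_of_not_dvd hNp, add_zero] at h11
    exact h11
  omega

theorem height_le_aux (hM : Cfsg.IsPModular p M) [Fact p.Prime] : ∀ n : ℕ,
    ∀ (G : Type u) [Group G] [Finite G], Nat.card G ≤ n → Cfsg.IsPSolvable p G →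
      ∀ (B : Set (Cfsg.IrrCharacter G)), Cfsg.IsPBlock M B → ∀ P : Subgroup G,
        Cfsg.IsDefectGroup p M B P → ∀ χ ∈ B,
          Cfsg.blockHeight p B (χ : G → ℂ) ≤ (Subgroup.center ↥P).index.factorization p := by
  intro n
  induction n with
  | zero => intro G _ _ h; exact absurd h (Nat.not_le.2 Nat.card_pos)
  | succ n ih =>
    intro G _ _ hn hsolv B hB P hP χ hχ
    classical
    haveI := Fintype.ofFinite G
    obtain ⟨N, hN⟩ : ∃ N, N = Cfsg.pPrimeCore p G := ⟨_, rfl⟩
    haveI : N.Normal := hN ▸ Cores.pPrimeCore_normal p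
    haveI := Fintype.ofFinite N
    have hp : p.Prime := Fact.out
    have hNp : ¬ p ∣ Nat.card N := hN ▸ PLocal.Cores.not_dvd_card_pPrimeCore hp.ne_one
    obtain ⟨θ, hθ⟩ := exists_under (N := N) χ
    have hb : Cfsg.IsPBlock M ({θ} : Set (Cfsg.IrrCharacter N)) :=
      ⟨θ, Set.ext fun η => ⟨fun h => (Set.mem_singleton_iff.1 h).symm ▸ mem_blockOf_self hM θ,
        fun h => Set.mem_singleton_iff.2 (sameBlock_eq_of_coprime hM hNp (mem_blockOf.1 h)).symm⟩⟩
    let T : Subgroup G :=
      { carrier := {g | conjIrr g θ = θ}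
        one_mem' := conjIrr_one θ
        mul_mem' := fun {a b} ha hb => by
          show conjIrr (a * b) θ = θ
          rw [← conjIrr_conjIrr, show conjIrr a θ = θ from ha, show conjIrr b θ = θ from hb]
        inv_mem' := fun {a} ha => by
          show conjIrr a⁻¹ θ = θ
          conv_lhs => rw [← show conjIrr a θ = θ from ha, conjIrr_conjIrr, mul_inv_cancel]
          rw [conjIrr_one] }
    by_cases hT : ∀ g : G, conjIrr g θ = θ
    · obtain ⟨B₀, hB₀, hmem, -, hsyl⟩ := InvariantCore.invariant_block hM hsolv hN θ hT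
      obtain rfl : B = B₀ := block_eq_of_mem hM hB hB₀ hχ ((hmem χ).2 hθ)
      obtain ⟨S, rfl⟩ := hsyl P hP
      have h1 := degree_factorization_le hsolv hN θ hT χ hθ S
      have h2 := degree_factorization_eq hM hB hχ
      have h3 := card_defectGroup hM hB hP
      rw [S.card_eq_multiplicity] at h3
      have h4 := Nat.pow_right_injective hp.two_le h3
      omega
    · push Not at hT
      obtain ⟨g₀, hg₀⟩ := hT
      have hTlt : Nat.card T < Nat.card G := by
        refine lt_of_le_of_ne (Nat.card_le_card_of_injective _ T.subtype_injective) fun h => hg₀ ?_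
        have : g₀ ∈ T := by rw [(Subgroup.card_eq_iff_eq_top T).1 h]; trivial
        exact this
      have hNT : N ≤ T := fun m hm => Subtype.ext (funext fun x => by
        rw [coe_conjIrr, Clifford.conjBy_apply]
        exact irr_isClassFunction θ x ⟨m, hm⟩)
      have hs : ∀ g : G, g ∈ T ↔ ∀ η ∈ ({θ} : Set (Cfsg.IrrCharacter N)),
          ∀ η' : Cfsg.IrrCharacter N, (∀ x : N, (η' : N → ℂ) x = (η : N → ℂ)
            ⟨g * x * g⁻¹, (inferInstance : N.Normal).conj_mem x x.2 g⟩) →
            η' ∈ ({θ} : Set (Cfsg.IrrCharacter N)) := by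
        intro g
        constructor
        · rintro hg η rfl η' h
          exact Set.mem_singleton_iff.2 ((Subtype.ext (funext h)).trans (show conjIrr g η = η from hg))
        · intro h
          exact Set.mem_singleton_iff.1 (h θ rfl (conjIrr g θ) fun x => rfl)
      haveI := Fintype.ofFinite T
      obtain ⟨h1, -, h3⟩ := Cfsg.Agent.S4435.result p M hM N {θ} hb T hs hNT
      obtain ⟨B', hB', hcov, hind⟩ := h3 B hB ⟨χ, hχ, θ, rfl, hθ⟩
      obtain ⟨B₁, hi₁, -, -, hmem⟩ := h1 B' hB' hcov
      obtain rfl : B₁ = B := isInduced_unique hM hi₁ hind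
      obtain ⟨ψ, hψ, hψe⟩ := (hmem χ).1 hχ
      obtain ⟨hdef, hht⟩ := Cfsg.Agent.S4436.result p M hM N {θ} hb T hs hNT B' hB' hcov B₁ hind
      obtain ⟨χ', -, he', hh'⟩ := hht ψ hψ
      rw [show χ' = χ from Subtype.ext (he'.trans hψe.symm)] at hh'
      obtain ⟨D, hD⟩ := exists_defectGroup hM hB'
      obtain ⟨x, hx⟩ := exists_defectGroup_conj_eq hM hB (hdef D hD) hP
      have h4 := ih T (by omega) (PLocal.PSolvable.subgroup hsolv T) B' hB' D hD ψ hψ
      rw [hh']
      refine h4.trans_eq ?_
      let e : D ≃* P := ((Subgroup.equivMapOfInjective D T.subtype T.subtype_injective).trans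
        (Subgroup.equivMapOfInjective (D.map T.subtype) (MulAut.conj x).toMonoidHom
          (MulAut.conj x).injective)).trans (MulEquiv.subgroupCongr hx.symm)
      rw [Subgroup.index_eq_card, Subgroup.index_eq_card]
      have hc : (Subgroup.center D).map e.toMonoidHom = Subgroup.center P := by
        ext y
        rw [Subgroup.mem_map_equiv, Subgroup.mem_center_iff, Subgroup.mem_center_iff]
        constructor
        · intro h z
          apply e.symm.injective
          rw [map_mul, map_mul]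
          exact h _
        · intro h z
          apply e.injective
          rw [map_mul, map_mul, MulEquiv.apply_symm_apply]
          exact h _
      rw [← Subgroup.index_eq_card, ← Subgroup.index_eq_card, ← hc,
        Subgroup.index_map_of_bijective (f := e.toMonoidHom) e.bijective]

theorem height_le (hM : Cfsg.IsPModular p M) [Fact p.Prime] (hsolv : Cfsg.IsPSolvable p G)
    {B : Set (Cfsg.IrrCharacter G)} (hB : Cfsg.IsPBlock M B) {P : Subgroup G}
    (hP : Cfsg.IsDefectGroup p M B P) {χ : Cfsg.IrrCharacter G} (hχ : χ ∈ B) :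
    Cfsg.blockHeight p B (χ : G → ℂ) ≤ (Subgroup.center ↥P).index.factorization p :=
  height_le_aux hM _ G le_rfl hsolv B hB P hP χ hχ

end Cfsg.Agent.Blocks.HeightBound
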