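import Mathlib
import Cfsg.Prelude.Def_Blocks
import Cfsg.Agent.Lib.Blocks.Covering

/-!
# Inflation, deflation and kernels of blocks
-/

set_option linter.style.haveILetI false
set_option linter.unusedSectionVars false

namespace Cfsg.Agent.Blocks

open Cfsg.Agent.Characters Cfsg.Agent.BlockCharsA.NormalSupport
open Cfsg.Agent.CharTheory
open scoped ComplexConjugate

universe u v

variable {G : Type u} [Group G] [Finite G] {p : ℕ} {M : Ideal Cfsg.AlgInt}

section Map

variable {K : Type v} [Group K] [Finite K]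

/-- The image of an element of the group algebra under a homomorphism. -/
noncomputable def mapEl (f : G →* K) (z : MonoidAlgebra ℂ G) : MonoidAlgebra ℂ K :=
  ofFun fun k => ∑ᶠ g : {g : G // f g = k}, z.coeff g

theorem coeff_mapEl [DecidableEq K] [Fintype G] (f : G →* K) (z : MonoidAlgebra ℂ G) (k : K) :
    (mapEl f z).coeff k = ∑ g : G, if f g = k then z.coeff g else 0 := by
  rw [mapEl, coeff_ofFun, finsum_eq_sum_of_fintype, ← Finset.sum_filter]
  exact (Finset.sum_subtype (Finset.univ.filter fun g => f g = k) (by simp)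
    fun g => z.coeff g).symm

theorem intEl_mapEl (hM : Cfsg.IsPModular p M) (f : G →* K) {z : MonoidAlgebra ℂ G}
    (hz : IntEl M z) : IntEl M (mapEl f z) := fun k => by
  classical
  haveI := Fintype.ofFinite G
  rw [coeff_mapEl]
  refine ring_sum hM fun g _ => ?_
  split
  · exact hz g
  · exact ring_zero hM

theorem central_mapEl (f : G →* K) (hf : Function.Surjective f) {z : MonoidAlgebra ℂ G}
    (hz : IsCentralEl z) : IsCentralEl (mapEl f z) := fun k a => by
  classical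
  haveI := Fintype.ofFinite G
  obtain ⟨c, rfl⟩ := hf a
  rw [coeff_mapEl, coeff_mapEl]
  refine (Fintype.sum_equiv (MulAut.conj c).toEquiv _ _ fun g => ?_).symm
  simp only [MulEquiv.toEquiv_eq_coe, EquivLike.coe_coe, MulAut.conj_apply, map_mul, map_inv]
  rw [hz g c]
  simp

theorem omega_mapEl (f : G →* K) (χ : K → ℂ) (z : MonoidAlgebra ℂ G) :
    omega (χ ∘ f) z = omega χ (mapEl f z) := by
  classical
  haveI := Fintype.ofFinite G
  haveI := Fintype.ofFinite K
  simp only [omega, evalChar_eq_sum, Function.comp_apply, map_one, coeff_mapEl, Finset.sum_mul]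
  rw [Finset.sum_comm]
  refine congrArg (· / _) (Finset.sum_congr rfl fun g _ => ?_)
  simp [ite_mul]

theorem omega_mapEl' (f : G →* K) {χ : K → ℂ} {ψ : G → ℂ} (h : ψ = χ ∘ f)
    (z : MonoidAlgebra ℂ G) : omega ψ z = omega χ (mapEl f z) := by
  rw [h, omega_mapEl]

theorem sameBlock_inflate (hM : Cfsg.IsPModular p M) (f : G →* K) (hf : Function.Surjective f)
    {χ ψ : Cfsg.IrrCharacter K} (h : Cfsg.SameBlock M (χ : K → ℂ) (ψ : K → ℂ)) :
    Cfsg.SameBlock M ((χ : K → ℂ) ∘ f) ((ψ : K → ℂ) ∘ f) := fun g => by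
  rw [← omega_classSum (irr_isClassFunction ⟨_, isIrrCharacter_comp_surjective f hf χ.2⟩),
    ← omega_classSum (irr_isClassFunction ⟨_, isIrrCharacter_comp_surjective f hf ψ.2⟩),
    omega_mapEl, omega_mapEl]
  exact (sameBlock_iff_omega hM χ ψ).1 h _ (central_mapEl f hf (central_classSum g))
    (intEl_mapEl hM f (intEl_classSum hM g))

end Map

/-! ## Quotients by normal subgroups of order prime to `p` -/

theorem sameBlock_deflate (hM : Cfsg.IsPModular p M) {N : Subgroup G} [N.Normal]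
    (hN : ¬ p ∣ Nat.card N) {χ ψ : Cfsg.IrrCharacter (G ⧸ N)} {χ' ψ' : Cfsg.IrrCharacter G}
    (hχ : (χ' : G → ℂ) = (χ : G ⧸ N → ℂ) ∘ QuotientGroup.mk)
    (hψ : (ψ' : G → ℂ) = (ψ : G ⧸ N → ℂ) ∘ QuotientGroup.mk)
    (h : Cfsg.SameBlock M (χ' : G → ℂ) (ψ' : G → ℂ)) :
    Cfsg.SameBlock M (χ : G ⧸ N → ℂ) (ψ : G ⧸ N → ℂ) := fun k => by
  classical
  haveI := Fintype.ofFinite G
  haveI := Fintype.ofFinite N
  set z : MonoidAlgebra ℂ G :=
    (Nat.card N : ℂ)⁻¹ • ofFun (fun g : G => if IsConj k (g : G ⧸ N) then 1 else 0) with hz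
  have hzc : IsCentralEl z := central_smul _ (central_ofFun fun g c => by
    show (if IsConj k ((c * g * c⁻¹ : G) : G ⧸ N) then (1 : ℂ) else 0) = _
    exact if_congr (by rw [QuotientGroup.mk_mul, QuotientGroup.mk_mul, QuotientGroup.mk_inv,
      isConj_conj_right_iff]) rfl rfl)
  have hzi : IntEl M z := intEl_smul hM (ring_inv_natCast hM hN) fun g => by
    rw [coeff_ofFun]; split
    · exact ring_one hM
    · exact ring_zero hM
  have hmap : mapEl (QuotientGroup.mk' N) z = classSum k := by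
    refine el_ext fun a => ?_
    obtain ⟨g₀, rfl⟩ := QuotientGroup.mk_surjective a
    rw [coeff_mapEl, coeff_classSum]
    refine ((Finset.sum_filter (fun g : G => QuotientGroup.mk' N g = (g₀ : G ⧸ N)) (fun g : G => z.coeff g)).symm).trans ?_
    simp only [hz, MonoidAlgebra.coeff_smul, Finsupp.smul_apply, coeff_ofFun, smul_eq_mul]
    rw [Finset.sum_congr rfl (g := fun _ => (Nat.card N : ℂ)⁻¹ *
      if IsConj k (g₀ : G ⧸ N) then 1 else 0) fun g hg => by
        rw [show (g : G ⧸ N) = (g₀ : G ⧸ N) from (Finset.mem_filter.1 hg).2],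
      Finset.sum_const, nsmul_eq_mul, ← mul_assoc]
    have hcard : (Finset.univ.filter fun g : G => QuotientGroup.mk' N g = (g₀ : G ⧸ N)).card =
        Nat.card N := by
      rw [Nat.card_eq_fintype_card, ← Finset.card_univ]
      refine Finset.card_bij (fun g hg => (⟨g₀⁻¹ * g, ?_⟩ : N)) (fun _ _ => Finset.mem_univ _)
        ?_ ?_
      · exact QuotientGroup.eq.1 (Finset.mem_filter.1 hg).2.symm
      · exact fun a _ b _ h => mul_left_cancel (congrArg Subtype.val h :)
      · intro n _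
        refine ⟨g₀ * n, Finset.mem_filter.2 ⟨Finset.mem_univ _, ?_⟩, Subtype.ext (by simp)⟩
        show ((g₀ * n : G) : G ⧸ N) = (g₀ : G ⧸ N)
        exact QuotientGroup.mk_mul_of_mem g₀ n.2
    rw [hcard, mul_inv_cancel₀ natCard_ne_zero, one_mul]
    convert rfl
  have h1 := (sameBlock_iff_omega hM χ' ψ').1 h z hzc hzi
  rw [omega_mapEl' (QuotientGroup.mk' N) hχ, omega_mapEl' (QuotientGroup.mk' N) hψ, hmap,
    omega_classSum (irr_isClassFunction χ), omega_classSum (irr_isClassFunction ψ)] at h1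
  exact h1

theorem exists_deflate_sameBlock (hM : Cfsg.IsPModular p M) {N : Subgroup G} [N.Normal]
    (hN : ¬ p ∣ Nat.card N) (χ : Cfsg.IrrCharacter (G ⧸ N)) {ψ : Cfsg.IrrCharacter G}
    (hψ : ψ ∈ Cfsg.blockOf M ((χ : G ⧸ N → ℂ) ∘ QuotientGroup.mk)) :
    ∃ ψ' : Cfsg.IrrCharacter (G ⧸ N), (ψ : G → ℂ) = (ψ' : G ⧸ N → ℂ) ∘ QuotientGroup.mk ∧
      Cfsg.SameBlock M (χ : G ⧸ N → ℂ) (ψ' : G ⧸ N → ℂ) := by
  set χ' : Cfsg.IrrCharacter G :=
    ⟨(χ : G ⧸ N → ℂ) ∘ QuotientGroup.mk, isIrrCharacter_comp_surjective (QuotientGroup.mk' N)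
      (QuotientGroup.mk'_surjective N) χ.2⟩
  have htriv := trivial_on_transfer hM hN (χ := χ') hψ (fun n hn => by
    show (χ : G ⧸ N → ℂ) (n : G ⧸ N) = (χ : G ⧸ N → ℂ) ((1 : G) : G ⧸ N)
    rw [(QuotientGroup.eq_one_iff n).2 hn, QuotientGroup.mk_one])
  obtain ⟨φ, -, hφ, hirr⟩ := exists_deflate_quotient N (irr_isCharacter ψ) htriv
  exact ⟨⟨φ, hirr ψ.2⟩, funext fun g => (hφ g).symm,
    sameBlock_deflate hM hN (χ' := χ') (ψ' := ψ) rfl (funext fun g => (hφ g).symm) hψ⟩

/-! ## The kernel of a block -/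

theorem exists_blockKer (hM : Cfsg.IsPModular p M) {B : Set (Cfsg.IrrCharacter G)}
    (hB : Cfsg.IsPBlock M B) {χ : Cfsg.IrrCharacter G} (hχ : χ ∈ B) :
    ∃ K : Subgroup G, K.Normal ∧ (K : Set G) = Cfsg.blockKer B ∧ ¬ p ∣ Nat.card K ∧
      (∀ g ∈ K, (χ : G → ℂ) g = (χ : G → ℂ) 1) ∧
      ∀ N : Subgroup G, N.Normal → ¬ p ∣ Nat.card N →
        (∀ g ∈ N, (χ : G → ℂ) g = (χ : G → ℂ) 1) → N ≤ K := by
  classical
  haveI := fact_prime_of_pm hM
  haveI := Fintype.ofFinite G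
  set K : Subgroup G :=
    ⨅ ψ : {ψ : Cfsg.IrrCharacter G // ψ ∈ B}, charKernel (ψ.1 : G → ℂ) (irr_isCharacter ψ.1)
  have hK : ∀ g, g ∈ K ↔ ∀ ψ ∈ B, (ψ : G → ℂ) g = (ψ : G → ℂ) 1 := fun g => by
    simp only [K, Subgroup.mem_iInf, mem_charKernel, Subtype.forall]
  refine ⟨K, ⟨fun a ha x => (hK _).2 fun ψ hψ => ?_⟩, Set.ext fun g => hK g, ?_,
    fun g hg => (hK g).1 hg χ hχ, fun N hN hNp hker g hg => (hK g).2 fun ψ hψ => ?_⟩
  · rw [irr_isClassFunction ψ]; exact (hK a).1 ha ψ hψ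
  · intro hd
    obtain ⟨x, hx⟩ := exists_prime_orderOf_dvd_card' p hd
    have h0 := blockCoeff_eq_zero_of_singular hM (intEl_blockIdem hM hB) (g := (x : G))
      (by rw [Subgroup.orderOf_coe, hx])
    haveI := Fintype.ofFinite (Cfsg.IrrCharacter G)
    rw [blockCoeff_eq_sum, mul_eq_zero, or_iff_right (inv_ne_zero natCard_ne_zero)] at h0
    have h1 : ∑ ψ : Cfsg.IrrCharacter G,
        (if ψ ∈ B then ((Cfsg.charDegree (ψ : G → ℂ)) ^ 2 : ℕ) else 0) = 0 := by
      have : ((∑ ψ : Cfsg.IrrCharacter G,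
          (if ψ ∈ B then ((Cfsg.charDegree (ψ : G → ℂ)) ^ 2 : ℕ) else 0) : ℕ) : ℂ) = 0 := by
        rw [← h0, Nat.cast_sum]
        refine Finset.sum_congr rfl fun ψ _ => ?_
        split
        · next h =>
          rw [(hK _).1 x.2 ψ h, ← charDegree_cast, Complex.conj_natCast, Nat.cast_pow, sq]
        · exact Nat.cast_zero
      exact_mod_cast this
    have h2 := (Finset.sum_eq_zero_iff.1 h1) χ (Finset.mem_univ χ)
    rw [if_pos hχ] at h2
    exact (charDegree_pos χ).ne' (pow_eq_zero_iff (n := 2) (by norm_num) |>.1 h2)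
  · haveI := hN
    exact trivial_on_transfer hM hNp (sameBlock_of_mem hM hB hχ hψ) hker g hg

/-- For a `p`-nilpotent group the principal block is the set of characters trivial on the
`p`-complement. -/
theorem sameBlock_one_iff (hM : Cfsg.IsPModular p M) {N : Subgroup G} [N.Normal]
    (hN : ¬ p ∣ Nat.card N) (hidx : ∃ k : ℕ, N.index = p ^ k) (χ : Cfsg.IrrCharacter G) :
    Cfsg.SameBlock M (trivIrr G : G → ℂ) (χ : G → ℂ) ↔
      ∀ n ∈ N, (χ : G → ℂ) n = (χ : G → ℂ) 1 := by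
  haveI := Fintype.ofFinite N
  refine ⟨fun h => trivial_on_transfer hM hN h fun n _ => rfl, fun h => ?_⟩
  exact sameBlock_of_covers_same hM hidx ((constituent_trivIrr_iff (trivIrr G)).2 fun n _ => rfl)
    ((constituent_trivIrr_iff χ).2 h) (sameBlock_refl hM _)

end Cfsg.Agent.Blocks
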