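import Mathlib
import Cfsg.Prelude.Def_Blocks
import Cfsg.Agent.Lib.Blocks.Induced

/-!
# Vanishing off the defect group, and Brauer's second main theorem
-/

set_option linter.style.haveILetI false
set_option linter.unusedSectionVars false

namespace Cfsg.Agent.Blocks

open Cfsg.Agent.Characters

universe u

variable {G : Type u} [Group G] [Finite G] {p : ℕ} {M : Ideal Cfsg.AlgInt}

theorem zpowers_isPGroup {x : G} (hx : ∃ k : ℕ, orderOf x = p ^ k) :
    IsPGroup p (Subgroup.zpowers x) := by
  obtain ⟨k, hk⟩ := hx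
  exact IsPGroup.of_card (n := k) (by rw [Nat.card_zpowers, hk])

theorem mem_centralizer_zpowers {x c : G} :
    c ∈ Subgroup.centralizer ((Subgroup.zpowers x : Subgroup G) : Set G) ↔
      c ∈ Subgroup.centralizer ({x} : Set G) := by
  rw [← le_centralizer_iff_mem, Subgroup.zpowers_le, Subgroup.mem_centralizer_singleton_iff,
    Subgroup.mem_centralizer_singleton_iff, eq_comm]

/-- Characters vanish on the elements whose `p`-part lies in no defect group. -/
theorem char_eq_zero_of_notMem_defect (hM : Cfsg.IsPModular p M) {B : Set (Cfsg.IrrCharacter G)}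
    (hB : Cfsg.IsPBlock M B) {χ : Cfsg.IrrCharacter G} (hχ : χ ∈ B) {g x : G}
    (hx : Cfsg.IsPPart p g x)
    (hD : ∀ D : Subgroup G, Cfsg.IsDefectGroup p M B D → x ∉ D) : (χ : G → ℂ) g = 0 := by
  have he := central_blockIdem B
  have h := evalChar_single_mul_eq_zero hM (intEl_blockIdem hM hB) (blockIdem_mul_self B) hx
    (fun u _ g => he g u) (fun c hc => by
      by_contra hne
      rw [coeff_blockIdem] at hne
      obtain ⟨D, hD'⟩ := exists_defectGroup hM hB
      obtain ⟨y, -, -, hxo, -⟩ := id hx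
      obtain ⟨z, hz⟩ := le_defect_of_coeff hM hB hD' hne (zpowers_isPGroup hxo)
        (mem_centralizer_zpowers.2 hc)
      exact hD _ (defectGroup_conj hM hD' z) (hz (Subgroup.mem_zpowers x))) χ
  rw [← (central_commute he (MonoidAlgebra.single g (1 : ℂ))).eq,
    evalChar_central_mul χ he, omega_blockIdem_mem hχ, evalChar_single] at h
  simpa using h

/-- A height-zero character is a unit at the defect class. -/
theorem value_defectClass_unit (hM : Cfsg.IsPModular p M) {B : Set (Cfsg.IrrCharacter G)}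
    (hB : Cfsg.IsPBlock M B) {g : G} (hg : Cfsg.IsDefectClass M B g)
    {χ : Cfsg.IrrCharacter G} (hχ : χ ∈ B) (h0 : Cfsg.blockHeight p B (χ : G → ℂ) = 0) :
    ¬ Cfsg.MemLocalIdeal M ((χ : G → ℂ) g) := by
  intro hid
  apply hg.2.2 χ hχ
  rw [Cfsg.centralChar, mul_div_right_comm, ← charDegree_cast χ]
  refine ideal_mul_left hM (ring_natCast_div hM (charDegree_pos χ).ne' ?_) hid
  have h1 := degree_factorization_eq hM hB hχ
  have h2 := factorization_index_add (Subgroup.centralizer ({g} : Set G)) p
  rw [blockDefect_eq hM hB hg, h0] at h1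
  omega

/-- Elements of the defect group are detected by height-zero characters. -/
theorem exists_value_ne_zero (hM : Cfsg.IsPModular p M) {B : Set (Cfsg.IrrCharacter G)}
    (hB : Cfsg.IsPBlock M B) {D : Subgroup G} (hD : Cfsg.IsDefectGroup p M B D)
    {χ : Cfsg.IrrCharacter G} (hχ : χ ∈ B) (h0 : Cfsg.blockHeight p B (χ : G → ℂ) = 0)
    {x : G} (hx : x ∈ D) : ∃ u : G, Cfsg.IsPPart p u x ∧ (χ : G → ℂ) u ≠ 0 := by
  obtain ⟨g, hg, hs⟩ := isDefectGroup_iff.1 hD
  have hreg := defectClass_regular hM hB hg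
  have hxg : Commute x g := Subgroup.mem_centralizer_iff.1 (isSylCent_mem hs) x hx
  obtain ⟨k, hk⟩ := (isPGroup_defect hD) ⟨x, hx⟩
  have hk' : x ^ p ^ k = 1 := congrArg Subtype.val hk
  obtain ⟨j, -, hj⟩ := (Nat.dvd_prime_pow hM.1).1 (orderOf_dvd_of_pow_eq_one hk')
  refine ⟨x * g, ⟨g, rfl, hxg, ⟨j, hj⟩, hreg⟩, fun h => ?_⟩
  have hu := value_defectClass_unit hM hB hg hχ h0
  rw [← ideal_iff_of_cong hM (char_cong_of_commute hM χ hxg hk' hreg), h] at hu
  exact hu (ideal_zero hM)

/-! ## The second main theorem -/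

theorem coeff_conj_eq_of_single_commute {E : MonoidAlgebra ℂ G} {u : G}
    (h : Commute (MonoidAlgebra.single u (1 : ℂ)) E) (g : G) :
    E.coeff (u * g * u⁻¹) = E.coeff g := by
  have h2 := congrArg (fun w : MonoidAlgebra ℂ G => w.coeff (u * g)) h.eq
  simp only [coeff_single_mul', coeff_mul_single', inv_mul_cancel_left, one_mul, mul_one] at h2
  exact h2.symm

theorem evalChar_inclEl_mul_single (H : Subgroup G) (φ : G → ℂ) (z : MonoidAlgebra ℂ H) (g : G) :
    evalChar φ (inclEl H z * MonoidAlgebra.single g 1) =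
      ∑ᶠ k : H, z.coeff k * φ ((k : G) * g) := by
  haveI := Fintype.ofFinite H
  rw [finsum_eq_sum_of_fintype]
  conv_lhs => rw [eq_sum_single z]
  rw [map_sum, Finset.sum_mul, evalChar_sum]
  refine Finset.sum_congr rfl fun k _ => ?_
  rw [inclEl_single, MonoidAlgebra.single_mul_single, mul_one, evalChar_single]

theorem restr_cutEl {P H : Subgroup G} (hPH : P ≤ H) (z : MonoidAlgebra ℂ G) :
    restrEl H (cutEl P z) = cutEl (P.subgroupOf H) (restrEl H z) :=
  el_ext fun h => by
    rw [coeff_restrEl]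
    by_cases hh : (h : G) ∈ Subgroup.centralizer (P : Set G)
    · rw [cutEl_coeff_mem _ hh, cutEl_coeff_mem _ ((mem_centralizer_subgroupOf hPH).2 hh),
        coeff_restrEl]
    · rw [cutEl_coeff_notMem _ hh,
        cutEl_coeff_notMem _ fun e => hh ((mem_centralizer_subgroupOf hPH).1 e)]

/-- Nagao's vanishing: the `b`-part at the section of `z` kills characters outside `b^G`. -/
theorem evalChar_induced_vanish (hM : Cfsg.IsPModular p M) {H : Subgroup G}
    {b : Set (Cfsg.IrrCharacter H)} {B : Set (Cfsg.IrrCharacter G)}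
    (hind : Cfsg.IsInducedBlock M H b B) (h : H) {z : G} (hz : Cfsg.IsPPart p (h : G) z)
    (hC : Subgroup.centralizer ({z} : Set G) ≤ H) {χ : Cfsg.IrrCharacter G} (hχ : χ ∉ B) :
    evalChar (χ : G → ℂ) (inclEl H (blockIdem b) * MonoidAlgebra.single (h : G) 1) = 0 := by
  set B' := Cfsg.blockOf M (χ : G → ℂ)
  have hB' : Cfsg.IsPBlock M B' := isPBlock_blockOf M χ
  have hχ' : χ ∈ B' := mem_blockOf_self hM χ
  have he := central_blockIdem B'
  have hei := intEl_blockIdem hM hB'
  have hb := central_blockIdem b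
  have hbi := intEl_blockIdem hM hind.1
  set E := inclEl H (blockIdem b) * blockIdem B' with hE
  have hcomm : Commute (inclEl H (blockIdem b)) (blockIdem B') := (central_commute he _).symm
  have hid : E * E = E := by
    rw [hE, hcomm.symm.mul_mul_mul_comm, ← map_mul, blockIdem_mul_self, blockIdem_mul_self]
  have hi : IntEl M E := intEl_mul hM (intEl_inclEl hM H hbi) hei
  obtain ⟨y, hzy, hzc, hzo, hyo⟩ := id hz
  have hzH : z ∈ H := hC (Subgroup.mem_centralizer_singleton_iff.2 rfl)
  have hEinv : ∀ u, Commute u (h : G) → ∀ g, E.coeff (u * g * u⁻¹) = E.coeff g := by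
    intro u hu g
    have huz : Cfsg.IsPPart p (h : G) (u * z * u⁻¹) := by
      refine ⟨u * y * u⁻¹, ?_, ?_, ?_, ?_⟩
      · calc u * z * u⁻¹ * (u * y * u⁻¹) = u * (z * y) * u⁻¹ := by group
          _ = u * (h : G) * u⁻¹ := by rw [hzy]
          _ = h := by rw [hu.eq, mul_inv_cancel_right]
      · exact hzc.map (MulAut.conj u).toMonoidHom
      · obtain ⟨k, hk⟩ := hzo
        exact ⟨k, by rw [← hk]; exact MulEquiv.orderOf_eq (MulAut.conj u) z⟩
      · rw [show orderOf (u * y * u⁻¹) = orderOf y from MulEquiv.orderOf_eq (MulAut.conj u) y]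
        exact hyo
    have huH : u ∈ H := hC (Subgroup.mem_centralizer_singleton_iff.2
      (mul_inv_eq_iff_eq_mul.1 (ppart_unique hM.1 huz hz)))
    refine coeff_conj_eq_of_single_commute (Commute.mul_right ?_ (central_commute he _).symm) g
    have := (central_commute hb (MonoidAlgebra.single (⟨u, huH⟩ : H) (1 : ℂ))).symm.map (inclEl H)
    rwa [inclEl_single] at this
  have hfix : ∀ c ∈ Subgroup.centralizer ({z} : Set G), Cfsg.MemLocalIdeal M (E.coeff c) := by
    intro c hc
    set Z := Subgroup.zpowers z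
    have hZH : Z ≤ H := Subgroup.zpowers_le.2 hzH
    have hZ : IsPGroup p Z := zpowers_isPGroup hzo
    have hZ' := isPGroup_subgroupOf hZ hZH
    have hCZ : Subgroup.centralizer (Z : Set G) ≤ H := fun u hu =>
      hC (mem_centralizer_zpowers.1 hu)
    set Q := Z.subgroupOf H
    set r := restrEl H (blockIdem B')
    have hr : IsCentralEl r := central_restrEl H he
    have hri : IntEl M r := intEl_restrEl H hei
    set f := blockIdem b * r
    have hf : IsCentralEl f := central_mul hb hr
    have hfi : IntEl M f := intEl_mul hM hbi hri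
    obtain ⟨ξ₀, hξ₀⟩ := block_nonempty hM hind.1
    obtain ⟨ψ, hψ⟩ := block_nonempty hM hind.2.1
    obtain ⟨n, hn⟩ := exists_pow_idealEl hM hf fun ξ => by
      rw [omega_mul ξ hb]
      by_cases hξ : ξ ∈ b
      · rw [omega_blockIdem_mem hξ, one_mul,
          ideal_iff_of_cong hM (omega_cong_of_isInduced hM hind hξ hψ he hei),
          omega_blockIdem_notMem fun e => hχ (by
            rw [block_eq_of_mem hM hind.2.1 hB' hψ e]; exact hχ')]
        exact ideal_zero hM
      · rw [omega_blockIdem_notMem hξ, zero_mul]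
        exact ideal_zero hM
    have hs : CongEl M (cutEl Q r * cutEl Q r) (cutEl Q r) := by
      simp only [Q, r, ← restr_cutEl hZH]
      rw [← restrEl_mul H fun g hg => cutEl_coeff_notMem _ fun e => hg (hCZ e)]
      exact congEl_restrEl H (congEl_cutEl_idem hM hZ hB')
    have hcut : ∀ {a a' : MonoidAlgebra ℂ H}, IsCentralEl a → IsCentralEl a' → IntEl M a →
        IntEl M a' → CongEl M (cutEl Q (a * a')) (cutEl Q a * cutEl Q a') :=
      fun ha ha' hai hai' => congEl_cutEl_mul hM hZ' hai hai' (fun u _ g => ha g u)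
        (fun u _ g => ha' g u)
    have hidem : CongEl M (cutEl Q f * cutEl Q f) (cutEl Q f) := by
      refine congEl_trans hM (congEl_symm hM (hcut hf hf hfi hfi)) ?_
      have hff : f * f = blockIdem b * (r * r) := by
        simp only [f]
        rw [(central_commute hb r).symm.mul_mul_mul_comm, blockIdem_mul_self]
      rw [hff]
      refine congEl_trans hM (hcut hb (central_mul hr hr) hbi (intEl_mul hM hri hri)) ?_
      refine congEl_trans hM ?_ (congEl_symm hM (hcut hb hr hbi hri))
      refine congEl_mul hM (congEl_refl hM _) (congEl_trans hM (hcut hr hr hri hri) hs)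
        (intEl_cutEl hM Q hbi) (intEl_cutEl hM Q hri)
    have hnil : ∀ m, CongEl M (cutEl Q f ^ (m + 1)) (cutEl Q (f ^ (m + 1))) := by
      intro m
      induction m with
      | zero => rw [pow_one, pow_one]; exact congEl_refl hM _
      | succ m ih =>
        rw [pow_succ, pow_succ f (m + 1)]
        exact congEl_trans hM (congEl_mul hM ih (congEl_refl hM _)
          (intEl_cutEl hM Q (intEl_pow hM hfi _)) (intEl_cutEl hM Q hfi))
          (congEl_symm hM (hcut (central_pow hf _) hf (intEl_pow hM hfi _) hfi))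
    have hzero : IdealEl M (cutEl Q f ^ (n + 1)) := fun g => by
      refine (ideal_iff_of_cong hM (congEl_iff.1 (hnil n) g)).2 ?_
      by_cases hg : g ∈ Subgroup.centralizer (Q : Set H)
      · rw [cutEl_coeff_mem _ hg]; exact hn (n + 1) (Nat.le_succ n) g
      · rw [cutEl_coeff_notMem _ hg]; exact ideal_zero hM
    have hcH : c ∈ H := hC hc
    have hcQ : (⟨c, hcH⟩ : H) ∈ Subgroup.centralizer (Q : Set H) :=
      (mem_centralizer_subgroupOf hZH).2 (mem_centralizer_zpowers.2 hc)
    have hfc := idealEl_of_idem_nilp hM (intEl_cutEl hM Q hfi) hidem hzero ⟨c, hcH⟩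
    rw [cutEl_coeff_mem _ hcQ] at hfc
    have hEf : restrEl H E = f := by
      rw [hE, restrEl_mul H fun g hg => coeff_inclEl_notMem H _ hg, restrEl_inclEl]
    have := congrArg (fun w : MonoidAlgebra ℂ H => w.coeff ⟨c, hcH⟩) hEf
    simp only [coeff_restrEl] at this
    rwa [this]
  have h0 := evalChar_single_mul_eq_zero hM hi hid hz hEinv hfix χ
  have hsw : MonoidAlgebra.single (h : G) (1 : ℂ) * inclEl H (blockIdem b) =
      inclEl H (blockIdem b) * MonoidAlgebra.single (h : G) 1 := by
    rw [← inclEl_single, ← map_mul, ← map_mul, (central_commute hb _).eq]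
  rw [hE, ← mul_assoc, hsw, ← (central_commute he _).eq, evalChar_central_mul χ he,
    omega_blockIdem_mem hχ', one_mul] at h0
  exact h0

/-- The `b`-part of a class function, through the idempotent of `b`. -/
theorem blockPart_eq_sum (b : Set (Cfsg.IrrCharacter G)) {θ : G → ℂ}
    (hθ : Cfsg.IsClassFunction G θ) (y : G) :
    Cfsg.blockPart b θ y = ∑ᶠ k : G, Cfsg.blockCoeff b k * θ (k * y) := by
  classical
  letI := Fintype.ofFinite G
  haveI := Fintype.ofFinite (Cfsg.IrrCharacter G)
  rw [Cfsg.blockPart, finsum_mem_def, finsum_eq_sum_of_fintype, finsum_eq_sum_of_fintype]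
  conv_rhs =>
    rw [classFun_eq_sum hθ]
    simp only [Finset.sum_apply, Pi.smul_apply, smul_eq_mul, Finset.mul_sum]
  rw [Finset.sum_comm]
  refine Finset.sum_congr rfl fun χ _ => ?_
  have h : evalChar (χ : G → ℂ) (blockIdem b * MonoidAlgebra.single y 1) =
      ∑ k : G, Cfsg.blockCoeff b k * (χ : G → ℂ) (k * y) := by
    conv_lhs => rw [eq_sum_single (blockIdem b)]
    rw [Finset.sum_mul, evalChar_sum]
    refine Finset.sum_congr rfl fun k _ => ?_
    rw [MonoidAlgebra.single_mul_single, mul_one, evalChar_single, coeff_blockIdem]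
  rw [evalChar_central_mul χ (central_blockIdem b), evalChar_single, one_mul] at h
  rw [Set.indicator_apply]
  by_cases hχ : χ ∈ b
  · rw [if_pos hχ, omega_blockIdem_mem hχ, one_mul] at *
    rw [h, Finset.mul_sum]
    exact Finset.sum_congr rfl fun k _ => by ring
  · rw [if_neg hχ]
    rw [omega_blockIdem_notMem hχ, zero_mul] at h
    symm
    calc _ = Cfsg.classInner θ (χ : G → ℂ) *
          ∑ k : G, Cfsg.blockCoeff b k * (χ : G → ℂ) (k * y) := by
          rw [Finset.mul_sum]; exact Finset.sum_congr rfl fun k _ => by ring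
      _ = 0 := by rw [← h, mul_zero]

/-- Brauer's second main theorem. -/
theorem blockPart_eq_zero_of_not_induced (hM : Cfsg.IsPModular p M) {x : G}
    (hx : ∃ k : ℕ, orderOf x = p ^ k) {B : Set (Cfsg.IrrCharacter G)} (hB : Cfsg.IsPBlock M B)
    {χ : Cfsg.IrrCharacter G} (hχ : χ ∈ B)
    {b : Set (Cfsg.IrrCharacter (Subgroup.centralizer ({x} : Set G)))} (hb : Cfsg.IsPBlock M b)
    (hnot : ¬ Cfsg.IsInducedBlock M (Subgroup.centralizer ({x} : Set G)) b B)
    {y : Subgroup.centralizer ({x} : Set G)} (hy : ¬ p ∣ orderOf y) :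
    Cfsg.blockPart b (fun c : Subgroup.centralizer ({x} : Set G) => (χ : G → ℂ) (x * (c : G))) y =
      0 := by
  have hxC : x ∈ (Subgroup.centralizer ({x} : Set G)) := Subgroup.mem_centralizer_singleton_iff.2 rfl
  have hxc : ∀ c : (Subgroup.centralizer ({x} : Set G)), x * (c : G) = c * x := fun c =>
    Subgroup.mem_centralizer_iff.1 c.2 x rfl
  have hθ : Cfsg.IsClassFunction (Subgroup.centralizer ({x} : Set G)) fun c : (Subgroup.centralizer ({x} : Set G)) => (χ : G → ℂ) (x * (c : G)) := by
    intro g k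
    simp only [Subgroup.coe_mul, Subgroup.coe_inv]
    rw [show x * ((k : G) * g * (k : G)⁻¹) = (k : G) * (x * g) * (k : G)⁻¹ by
      rw [← mul_assoc, ← mul_assoc, hxc k]; group]
    exact irr_isClassFunction χ _ _
  rw [blockPart_eq_sum b hθ]
  have hCZ : Subgroup.centralizer ((Subgroup.zpowers x : Subgroup G) : Set G) ≤ (Subgroup.centralizer ({x} : Set G)) := fun u hu =>
    mem_centralizer_zpowers.1 hu
  have hCN : (Subgroup.centralizer ({x} : Set G)) ≤ Subgroup.normalizer ((Subgroup.zpowers x : Subgroup G) : Set G) := fun u hu =>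
    Subgroup.centralizer_le_normalizer _ (mem_centralizer_zpowers.2 hu)
  obtain ⟨B', hind⟩ := inducedBlockDefined_of_brauer hM (zpowers_isPGroup hx)
    (Subgroup.zpowers_le.2 hxC) hCZ hCN hb
  have hout : χ ∉ B' := fun h => hnot (by rwa [block_eq_of_mem hM hB hind.2.1 hχ h])
  have hz : Cfsg.IsPPart p ((⟨x, hxC⟩ * y : (Subgroup.centralizer ({x} : Set G))) : G) x :=
    ⟨y, rfl, hxc y, hx, by rw [Subgroup.orderOf_coe]; exact hy⟩
  rw [← evalChar_induced_vanish hM hind (⟨x, hxC⟩ * y) hz le_rfl hout, evalChar_inclEl_mul_single]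
  refine finsum_congr fun k => ?_
  rw [coeff_blockIdem]
  simp only [Subgroup.coe_mul]
  rw [← mul_assoc, ← mul_assoc, hxc k]

end Cfsg.Agent.Blocks
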