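import Mathlib
import Cfsg.Prelude.Def_Blocks
import Cfsg.Agent.Lib.Blocks.SecondMain
import Cfsg.Agent.Lib.Blocks.InducedChars
import Cfsg.Agent.Lib.Blocks.Inflation

/-!
# Consequences of the second and third main theorems for the principal block
-/

set_option linter.style.haveILetI false
set_option linter.unusedSectionVars false

namespace Cfsg.Agent.Blocks

open Cfsg.Agent.Characters

universe u

variable {G : Type u} [Group G] [Finite G] {p : ℕ} {M : Ideal Cfsg.AlgInt}

theorem isClassFunction_shift {x : G} (φ : G → ℂ) (hφ : Cfsg.IsClassFunction G φ) :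
    Cfsg.IsClassFunction (Subgroup.centralizer ({x} : Set G))
      (fun c : Subgroup.centralizer ({x} : Set G) => φ (x * (c : G))) := fun g k => by
  simp only [Subgroup.coe_mul, Subgroup.coe_inv]
  have hk : x * (k : G) = k * x := Subgroup.mem_centralizer_iff.1 k.2 x rfl
  rw [show x * ((k : G) * g * (k : G)⁻¹) = (k : G) * (x * g) * (k : G)⁻¹ by
    rw [← mul_assoc, ← mul_assoc, hk]; group]
  exact hφ _ _

/-- On a `p`-section, a member of the principal block only sees the principal block of the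
centraliser. -/
theorem value_eq_principal_part (hM : Cfsg.IsPModular p M) {x : G}
    (hx : ∃ k : ℕ, orderOf x = p ^ k) {χ : Cfsg.IrrCharacter G}
    (hχ : χ ∈ Cfsg.principalBlock M G) {y : Subgroup.centralizer ({x} : Set G)}
    (hy : ¬ p ∣ orderOf y) :
    (χ : G → ℂ) (x * (y : G)) = Cfsg.blockPart
      (Cfsg.principalBlock M (Subgroup.centralizer ({x} : Set G)))
      (fun c : Subgroup.centralizer ({x} : Set G) => (χ : G → ℂ) (x * (c : G))) y := by
  classical
  letI := Fintype.ofFinite G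
  letI := Fintype.ofFinite (Subgroup.centralizer ({x} : Set G))
  haveI := Fintype.ofFinite (Cfsg.IrrCharacter (Subgroup.centralizer ({x} : Set G)))
  set θ := fun c : Subgroup.centralizer ({x} : Set G) => (χ : G → ℂ) (x * (c : G)) with hθ
  set b₀ := Cfsg.principalBlock M (Subgroup.centralizer ({x} : Set G)) with hb₀
  have hcl : Cfsg.IsClassFunction (Subgroup.centralizer ({x} : Set G)) θ :=
    isClassFunction_shift (χ : G → ℂ) (irr_isClassFunction χ)
  set f : Cfsg.IrrCharacter (Subgroup.centralizer ({x} : Set G)) → ℂ := fun ξ =>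
    Cfsg.classInner θ (ξ : Subgroup.centralizer ({x} : Set G) → ℂ) *
      (ξ : Subgroup.centralizer ({x} : Set G) → ℂ) y with hf
  have hpart : ∀ b : Set (Cfsg.IrrCharacter (Subgroup.centralizer ({x} : Set G))),
      Cfsg.blockPart b θ y = ∑ ξ ∈ Finset.univ.filter (fun ξ => ξ ∈ b), f ξ := by
    intro b
    rw [Cfsg.blockPart, finsum_mem_def, finsum_eq_sum_of_fintype, Finset.sum_filter]
    refine Finset.sum_congr rfl fun ξ _ => ?_
    rw [Set.indicator_apply]
  have htot : (χ : G → ℂ) (x * (y : G)) = ∑ ξ, f ξ := by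
    have h := congrFun (classFun_eq_sum hcl) y
    simp only [Finset.sum_apply, Pi.smul_apply, smul_eq_mul] at h
    exact h
  rw [htot, hpart, Finset.sum_filter]
  refine (Finset.sum_filter_add_sum_filter_not Finset.univ (fun ξ => ξ ∈ b₀) f).symm.trans ?_
  rw [← Finset.sum_filter, add_eq_left]
  rw [← Finset.sum_fiberwise_of_maps_to (t := (Finset.univ.filter fun ξ : Cfsg.IrrCharacter (Subgroup.centralizer ({x} : Set G)) =>
      ξ ∉ b₀).image fun ξ : Cfsg.IrrCharacter (Subgroup.centralizer ({x} : Set G)) =>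
      Cfsg.blockOf M (ξ : Subgroup.centralizer ({x} : Set G) → ℂ))
    (fun ξ hξ => Finset.mem_image_of_mem _ hξ)]
  refine Finset.sum_eq_zero fun b hb => ?_
  obtain ⟨ξ₀, hξ₀, rfl⟩ := Finset.mem_image.1 hb
  have hξ₀' : ξ₀ ∉ b₀ := (Finset.mem_filter.1 hξ₀).2
  have hbB := isPBlock_blockOf M ξ₀
  have hset : (Finset.univ.filter fun ξ : Cfsg.IrrCharacter (Subgroup.centralizer ({x} : Set G)) =>
      ξ ∉ b₀).filter (fun ξ : Cfsg.IrrCharacter (Subgroup.centralizer ({x} : Set G)) =>
      Cfsg.blockOf M (ξ : Subgroup.centralizer ({x} : Set G) → ℂ) =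
        Cfsg.blockOf M (ξ₀ : Subgroup.centralizer ({x} : Set G) → ℂ)) =
      Finset.univ.filter fun ξ : Cfsg.IrrCharacter (Subgroup.centralizer ({x} : Set G)) =>
        ξ ∈ Cfsg.blockOf M (ξ₀ : Subgroup.centralizer ({x} : Set G) → ℂ) := by
    ext ξ
    simp only [Finset.mem_filter, Finset.mem_univ, true_and]
    refine ⟨fun h => h.2 ▸ mem_blockOf_self hM ξ, fun h => ⟨fun h0 => hξ₀' ?_, ?_⟩⟩
    · rw [hb₀, block_eq_of_mem hM (isPBlock_principal M _) hbB h0 h]; exact mem_blockOf_self hM ξ₀
    · exact (blockOf_eq hM h).symm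
  rw [hset, ← hpart]
  refine blockPart_eq_zero_of_not_induced hM hx (isPBlock_principal M G) hχ hbB (fun hi => hξ₀' ?_)
    hy
  have hd : Cfsg.InducedBlockDefined M (Subgroup.centralizer ({x} : Set G))
      (Cfsg.blockOf M (ξ₀ : Subgroup.centralizer ({x} : Set G) → ℂ)) := ⟨_, hi⟩
  have := (third_main hM hd).1 hi
  rw [hb₀, ← this]
  exact mem_blockOf_self hM ξ₀

/-- Members of the principal block are constant along `O_{p'}(C(u))`. -/
theorem value_mul_core (hM : Cfsg.IsPModular p M) {u : G} (hu : ∃ k : ℕ, orderOf u = p ^ k)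
    {χ : Cfsg.IrrCharacter G} (hχ : χ ∈ Cfsg.principalBlock M G)
    {K : Subgroup (Subgroup.centralizer ({u} : Set G))} [K.Normal] (hK : ¬ p ∣ Nat.card K)
    {v : Subgroup.centralizer ({u} : Set G)} (hv : v ∈ K) :
    (χ : G → ℂ) (u * (v : G)) = (χ : G → ℂ) u := by
  have hreg : ∀ w ∈ K, ¬ p ∣ orderOf w := fun w hw h => hK (h.trans (by
    rw [← Subgroup.orderOf_mk w hw]; exact orderOf_dvd_natCard _))
  rw [value_eq_principal_part hM hu hχ (hreg v hv)]
  have h1 := value_eq_principal_part hM hu hχ (hreg 1 K.one_mem)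
  rw [Subgroup.coe_one, mul_one] at h1
  rw [h1, Cfsg.blockPart, Cfsg.blockPart]
  refine finsum_congr fun ξ => finsum_congr fun hξ => ?_
  rw [trivial_on_transfer hM hK
    (χ := trivIrr (Subgroup.centralizer ({u} : Set G))) hξ (fun n _ => rfl) v hv]

end Cfsg.Agent.Blocks
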