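import Mathlib
import Cfsg.Prelude.Def_Blocks
import Cfsg.Agent.Lib.Blocks.ThirdMainCor

/-!
# The norm of the principal block on a `p`-section
-/

set_option linter.style.haveILetI false
set_option linter.unusedSectionVars false

namespace Cfsg.Agent.Blocks

open Cfsg.Agent.Characters
open scoped ComplexConjugate

universe u

variable {G : Type u} [Group G] [Finite G] {p : ℕ} {M : Ideal Cfsg.AlgInt}

open scoped Classical in
/-- The kernel of the projection to the block `b`, evaluated at `y`. -/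
noncomputable def blockKernelAt (b : Set (Cfsg.IrrCharacter G)) (y c : G) : ℂ :=
  (Nat.card G : ℂ)⁻¹ * ∑ᶠ ξ ∈ b, (ξ : G → ℂ) y * conj ((ξ : G → ℂ) c)

open scoped Classical in
theorem blockKernelAt_eq_sum [Fintype (Cfsg.IrrCharacter G)] (b : Set (Cfsg.IrrCharacter G))
    (y c : G) : blockKernelAt b y c = (Nat.card G : ℂ)⁻¹ *
      ∑ ξ : Cfsg.IrrCharacter G, if ξ ∈ b then (ξ : G → ℂ) y * conj ((ξ : G → ℂ) c) else 0 := by
  rw [blockKernelAt, finsum_mem_def, finsum_eq_sum_of_fintype]
  simp only [Set.indicator_apply]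

open scoped Classical in
theorem blockPart_eq_kernel [Fintype G] (b : Set (Cfsg.IrrCharacter G)) (θ : G → ℂ) (y : G) :
    Cfsg.blockPart b θ y = ∑ c : G, blockKernelAt b y c * θ c := by
  haveI := Fintype.ofFinite (Cfsg.IrrCharacter G)
  rw [Cfsg.blockPart, finsum_mem_def, finsum_eq_sum_of_fintype]
  simp only [blockKernelAt_eq_sum, Set.indicator_apply,
    Finset.mul_sum, Finset.sum_mul]
  rw [Finset.sum_comm]
  refine Finset.sum_congr rfl fun ξ _ => ?_
  by_cases hξ : ξ ∈ b
  · simp only [if_pos hξ, classInner_def, Finset.mul_sum, Finset.sum_mul]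
    refine Finset.sum_congr (Finset.ext fun _ => by simp) fun c _ => ?_
    ring
  · simp [if_neg hξ]

theorem blockKernelAt_singular (hM : Cfsg.IsPModular p M) {b : Set (Cfsg.IrrCharacter G)}
    (hb : Cfsg.IsPBlock M b) {y c : G} (hy : ¬ p ∣ orderOf y) (hc : p ∣ orderOf c) :
    blockKernelAt b y c = 0 := by
  rw [blockKernelAt, sum_block_reg_sing hM (intEl_blockIdem hM hb) hy hc, mul_zero]

open scoped Classical in
theorem blockPart_irr [Fintype G] (b : Set (Cfsg.IrrCharacter G)) (η : Cfsg.IrrCharacter G)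
    (y : G) : Cfsg.blockPart b (η : G → ℂ) y = if η ∈ b then (η : G → ℂ) y else 0 := by
  haveI := Fintype.ofFinite (Cfsg.IrrCharacter G)
  rw [Cfsg.blockPart, finsum_mem_def, finsum_eq_sum_of_fintype,
    Finset.sum_eq_single η (fun ξ _ hne => ?_) (by simp)]
  · rw [Set.indicator_apply]
    refine if_congr Iff.rfl ?_ rfl
    have h : Cfsg.classInner (η : G → ℂ) (η : G → ℂ) = 1 := by rw [classInner_irr, if_pos rfl]
    convert (one_mul ((η : G → ℂ) y)) using 2
    convert h using 2
  · have h : Cfsg.classInner (η : G → ℂ) (ξ : G → ℂ) = 0 := by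
      rw [classInner_irr, if_neg (Ne.symm hne)]
    rw [Set.indicator_apply]
    split
    · convert zero_mul ((ξ : G → ℂ) y) using 2
      convert h using 2
    · rfl

/-! ## Sections -/

theorem commute_of_isConj_section (hp : p.Prime) {z : G} (hz : ∃ k : ℕ, orderOf z = p ^ k)
    {c d a : G} (hc : Commute z c) (hcr : ¬ p ∣ orderOf c) (hd : Commute z d)
    (hdr : ¬ p ∣ orderOf d) (ha : a * (z * c) * a⁻¹ = z * d) : a * z = z * a := by
  have h2 : Cfsg.IsPPart p (z * d) (a * z * a⁻¹) := by
    refine ⟨a * c * a⁻¹, by rw [← ha]; group, hc.map (MulAut.conj a).toMonoidHom, ?_, ?_⟩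
    · obtain ⟨k, hk⟩ := hz
      exact ⟨k, by rw [← hk]; exact MulEquiv.orderOf_eq (MulAut.conj a) z⟩
    · rw [show orderOf (a * c * a⁻¹) = orderOf c from MulEquiv.orderOf_eq (MulAut.conj a) c]
      exact hcr
  exact mul_inv_eq_iff_eq_mul.1 (ppart_unique hp h2 ⟨d, rfl, hd, hz, hdr⟩)

open scoped Classical in
theorem orthogonality_section (hp : p.Prime) {z : G} (hz : ∃ k : ℕ, orderOf z = p ^ k)
    [Fintype (Cfsg.IrrCharacter G)]
    [Fintype (Cfsg.IrrCharacter (Subgroup.centralizer ({z} : Set G)))]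
    (c d : Subgroup.centralizer ({z} : Set G)) (hc : ¬ p ∣ orderOf c) (hd : ¬ p ∣ orderOf d) :
    ∑ ζ : Cfsg.IrrCharacter G, (ζ : G → ℂ) (z * c) * conj ((ζ : G → ℂ) (z * d)) =
      ∑ η : Cfsg.IrrCharacter (Subgroup.centralizer ({z} : Set G)),
        (η : Subgroup.centralizer ({z} : Set G) → ℂ) c *
          conj ((η : Subgroup.centralizer ({z} : Set G) → ℂ) d) := by
  have hzc : ∀ e : Subgroup.centralizer ({z} : Set G), Commute z (e : G) := fun e =>
    Subgroup.mem_centralizer_iff.1 e.2 z rfl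
  have hreg : ∀ e : Subgroup.centralizer ({z} : Set G), ¬ p ∣ orderOf e → ¬ p ∣ orderOf (e : G) :=
    fun e he => by rwa [Subgroup.orderOf_coe]
  rw [second_orthogonality, second_orthogonality]
  have hiff : IsConj (z * (c : G)) (z * d) ↔ IsConj c d := by
    constructor
    · intro h
      obtain ⟨a, ha⟩ := isConj_iff.1 h
      have hz' := commute_of_isConj_section hp hz (hzc c) (hreg c hc) (hzc d) (hreg d hd) ha
      refine isConj_iff.2 ⟨⟨a, Subgroup.mem_centralizer_singleton_iff.2 hz'⟩, Subtype.ext ?_⟩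
      show a * (c : G) * a⁻¹ = d
      apply mul_left_cancel (a := z)
      calc z * (a * c * a⁻¹) = a * (z * c) * a⁻¹ := by rw [← mul_assoc z, ← mul_assoc z, ← hz']; group
        _ = z * d := ha
    · intro h
      obtain ⟨a, ha⟩ := isConj_iff.1 h
      refine isConj_iff.2 ⟨(a : G), ?_⟩
      rw [← ha]
      simp only [Subgroup.coe_mul, Subgroup.coe_inv]
      rw [← mul_assoc (a : G), ← (hzc a).eq]; group
  by_cases h : IsConj c d
  · rw [if_pos h, if_pos (hiff.2 h), Nat.cast_inj,
      ← Subgroup.card_map_of_injective (Subgroup.centralizer ({z} : Set G)).subtype_injective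
        (K := Subgroup.centralizer ({d} : Set (Subgroup.centralizer ({z} : Set G))))]
    congr 2
    ext a
    constructor
    · intro ha
      have h' := Subgroup.mem_centralizer_singleton_iff.1 ha
      have hz' := commute_of_isConj_section hp hz (hzc d) (hreg d hd) (hzc d) (hreg d hd)
        (mul_inv_eq_iff_eq_mul.2 h' : a * (z * d) * a⁻¹ = z * d)
      refine ⟨⟨a, Subgroup.mem_centralizer_singleton_iff.2 hz'⟩,
        Subgroup.mem_centralizer_singleton_iff.2 (Subtype.ext ?_), rfl⟩
      show a * (d : G) = d * a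
      apply mul_left_cancel (a := z)
      calc z * (a * d) = a * (z * d) := by rw [← mul_assoc, ← hz', mul_assoc]
        _ = z * d * a := h'
        _ = z * (d * a) := mul_assoc _ _ _
    · rintro ⟨b, hb, rfl⟩
      refine Subgroup.mem_centralizer_singleton_iff.2 ?_
      have hb' := congrArg Subtype.val (Subgroup.mem_centralizer_singleton_iff.1 hb)
      simp only [Subgroup.coe_mul] at hb'
      show (b : G) * (z * d) = z * d * b
      rw [← mul_assoc, ← (hzc b).eq, mul_assoc, hb', mul_assoc]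
  · rw [if_neg h, if_neg fun e => h (hiff.1 e)]

open scoped Classical in
/-- The squared norm of the principal block on the section of `z`. -/
theorem norm_section_eq (hM : Cfsg.IsPModular p M) {z : G} (hz : ∃ k : ℕ, orderOf z = p ^ k)
    {y : Subgroup.centralizer ({z} : Set G)} (hy : ¬ p ∣ orderOf y) :
    ∑ᶠ ζ ∈ Cfsg.principalBlock M G, ‖(ζ : G → ℂ) (z * (y : G))‖ ^ 2 =
      ∑ᶠ χ ∈ Cfsg.principalBlock M (Subgroup.centralizer ({z} : Set G)),
        ‖(χ : Subgroup.centralizer ({z} : Set G) → ℂ) y‖ ^ 2 := by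
  letI := Fintype.ofFinite G
  letI := Fintype.ofFinite (Subgroup.centralizer ({z} : Set G))
  haveI := Fintype.ofFinite (Cfsg.IrrCharacter G)
  haveI := Fintype.ofFinite (Cfsg.IrrCharacter (Subgroup.centralizer ({z} : Set G)))
  set b₀ := Cfsg.principalBlock M (Subgroup.centralizer ({z} : Set G)) with hb₀
  set K := blockKernelAt b₀ y with hK
  have hb₀B : Cfsg.IsPBlock M b₀ := isPBlock_principal M _
  have hzero : ∀ ζ : Cfsg.IrrCharacter G, ζ ∉ Cfsg.principalBlock M G →
      Cfsg.blockPart b₀ (fun c : Subgroup.centralizer ({z} : Set G) => (ζ : G → ℂ) (z * (c : G))) y =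
        0 := by
    intro ζ hζ
    refine blockPart_eq_zero_of_not_induced hM hz (isPBlock_blockOf M ζ) (mem_blockOf_self hM ζ)
      hb₀B (fun hi => hζ ?_) hy
    have hC : Subgroup.centralizer ((Subgroup.zpowers z : Subgroup G) : Set G) ≤
        Subgroup.centralizer ({z} : Set G) := fun u hu => mem_centralizer_zpowers.1 hu
    have hN : Subgroup.centralizer ({z} : Set G) ≤
        Subgroup.normalizer ((Subgroup.zpowers z : Subgroup G) : Set G) := fun u hu =>
      Subgroup.centralizer_le_normalizer _ (mem_centralizer_zpowers.2 hu)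
    have hd := inducedBlockDefined_of_brauer hM (zpowers_isPGroup hz)
      (Subgroup.zpowers_le.2 (Subgroup.mem_centralizer_singleton_iff.2 rfl)) hC hN hb₀B
    rw [← isInduced_unique hM hi ((third_main hM hd).2 rfl)]
    exact mem_blockOf_self hM ζ
  have key : ∑ ζ : Cfsg.IrrCharacter G,
      (∑ c : Subgroup.centralizer ({z} : Set G), K c * (ζ : G → ℂ) (z * (c : G))) *
        conj (∑ d : Subgroup.centralizer ({z} : Set G), K d * (ζ : G → ℂ) (z * (d : G))) =
      ∑ η : Cfsg.IrrCharacter (Subgroup.centralizer ({z} : Set G)),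
      (∑ c : Subgroup.centralizer ({z} : Set G),
          K c * (η : Subgroup.centralizer ({z} : Set G) → ℂ) c) *
        conj (∑ d : Subgroup.centralizer ({z} : Set G),
          K d * (η : Subgroup.centralizer ({z} : Set G) → ℂ) d) := by
    simp only [map_sum, map_mul, Finset.sum_mul, Finset.mul_sum]
    rw [Finset.sum_comm]
    conv_rhs => rw [Finset.sum_comm]
    refine Finset.sum_congr rfl fun c _ => ?_
    rw [Finset.sum_comm]
    conv_rhs => rw [Finset.sum_comm]
    refine Finset.sum_congr rfl fun d _ => ?_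
    simp only [fun a b : ℂ => mul_mul_mul_comm (K d) a (conj (K c)) b, ← Finset.mul_sum]
    by_cases hcd : p ∣ orderOf c ∨ p ∣ orderOf d
    · rcases hcd with h | h <;> simp [K, blockKernelAt_singular hM hb₀B hy h]
    · push Not at hcd
      rw [orthogonality_section hM.1 hz d c hcd.2 hcd.1]
  have hL : ∀ ζ : Cfsg.IrrCharacter G,
      ∑ c : Subgroup.centralizer ({z} : Set G), K c * (ζ : G → ℂ) (z * (c : G)) =
        if ζ ∈ Cfsg.principalBlock M G then (ζ : G → ℂ) (z * (y : G)) else 0 := by
    intro ζ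
    rw [← blockPart_eq_kernel]
    split
    · next h => exact (value_eq_principal_part hM hz h hy).symm
    · next h => exact hzero ζ h
  simp only [hL, ← blockPart_eq_kernel, K, blockPart_irr] at key
  simp only [Complex.mul_conj', apply_ite (fun w : ℂ => ‖w‖), norm_zero] at key
  have key' : ∑ ζ : Cfsg.IrrCharacter G,
      (if ζ ∈ Cfsg.principalBlock M G then ‖(ζ : G → ℂ) (z * (y : G))‖ else 0) ^ 2 =
      ∑ η : Cfsg.IrrCharacter (Subgroup.centralizer ({z} : Set G)),
      (if η ∈ b₀ then ‖(η : Subgroup.centralizer ({z} : Set G) → ℂ) y‖ else 0) ^ 2 := by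
    exact_mod_cast key
  rw [finsum_mem_def, finsum_mem_def, finsum_eq_sum_of_fintype, finsum_eq_sum_of_fintype]
  refine Eq.trans ?_ (key'.trans ?_) <;> refine Finset.sum_congr rfl fun ζ _ => ?_ <;>
    simp only [Set.indicator_apply] <;> split <;> simp

open scoped Classical in
theorem norm_principal_pnilpotent (hM : Cfsg.IsPModular p M) {N : Subgroup G} [N.Normal]
    (hN : ¬ p ∣ Nat.card N) (hidx : ∃ k : ℕ, N.index = p ^ k) {y : G} (hy : ¬ p ∣ orderOf y) :
    ∑ᶠ χ ∈ Cfsg.principalBlock M G, ‖(χ : G → ℂ) y‖ ^ 2 =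
      ((p ^ (Nat.card G).factorization p : ℕ) : ℝ) := by
  haveI := fact_prime_of_pm hM
  letI := Fintype.ofFinite G
  haveI := Fintype.ofFinite N
  haveI := Fintype.ofFinite (Cfsg.IrrCharacter G)
  have hyN := mem_of_regular (N := N) hM.1 hidx hy
  have hmem : ∀ χ : Cfsg.IrrCharacter G, χ ∈ Cfsg.principalBlock M G ↔
      ∀ n ∈ N, (χ : G → ℂ) n = (χ : G → ℂ) 1 := sameBlock_one_iff hM hN hidx
  have hE : blockIdem (Cfsg.principalBlock M G) =
      (Nat.card N : ℂ)⁻¹ • ofFun (fun g : G => if g ∈ N then 1 else 0) := by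
    refine central_omega_ext (central_blockIdem _)
      (central_smul _ (central_ofFun fun g c => ?_)) fun χ => ?_
    · exact if_congr ⟨fun h => by simpa [mul_assoc] using Subgroup.Normal.conj_mem ‹_› _ h c⁻¹,
        fun h => Subgroup.Normal.conj_mem ‹_› _ h c⟩ rfl rfl
    rw [omega_blockIdem, omega_smul, omega, evalChar_eq_sum]
    have hs : ∑ g : G, (ofFun fun g : G => if g ∈ N then (1 : ℂ) else 0).coeff g * (χ : G → ℂ) g =
        (Nat.card N : ℂ) *
          Cfsg.classInner (fun n : N => (χ : G → ℂ) n) (trivIrr N : N → ℂ) := by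
      rw [classInner_def, ← mul_assoc, mul_inv_cancel₀ natCard_ne_zero, one_mul]
      simp only [coeff_ofFun, ite_mul, one_mul, zero_mul, trivIrr, map_one, mul_one]
      rw [← Finset.sum_filter]
      exact Finset.sum_subtype (Finset.univ.filter fun g => g ∈ N) (by simp) fun g => (χ : G → ℂ) g
    rw [hs, ← mul_div_assoc, ← mul_assoc, inv_mul_cancel₀ natCard_ne_zero, one_mul]
    by_cases hχ : χ ∈ Cfsg.principalBlock M G
    · have h1 : (fun n : N => (χ : G → ℂ) n) = (χ : G → ℂ) 1 • (trivIrr N : N → ℂ) :=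
        funext fun n => by simp [trivIrr, (hmem χ).1 hχ n n.2]
      rw [if_pos hχ, h1, classInner_smul_left, classInner_irr, if_pos rfl, mul_one,
        div_self (irr_one_ne_zero χ.2)]
    · have h0 : Cfsg.classInner (fun n : N => (χ : G → ℂ) n) (trivIrr N : N → ℂ) = 0 := by
        by_contra hne
        exact hχ ((hmem χ).2 ((constituent_trivIrr_iff χ).1 hne))
      rw [if_neg hχ, h0, zero_div]
  have h1 := congrArg (fun w : MonoidAlgebra ℂ G => w.coeff 1) hE
  simp only [coeff_blockIdem, MonoidAlgebra.coeff_smul, Finsupp.smul_apply, coeff_ofFun,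
    smul_eq_mul, if_pos N.one_mem, mul_one, blockCoeff_eq_sum] at h1
  have hsum : ((∑ᶠ χ ∈ Cfsg.principalBlock M G, ‖(χ : G → ℂ) y‖ ^ 2 : ℝ) : ℂ) =
      ∑ χ : Cfsg.IrrCharacter G,
        if χ ∈ Cfsg.principalBlock M G then (χ : G → ℂ) 1 * conj ((χ : G → ℂ) 1) else 0 := by
    rw [finsum_mem_def, finsum_eq_sum_of_fintype, Complex.ofReal_sum]
    refine Finset.sum_congr rfl fun χ _ => ?_
    rw [Set.indicator_apply]
    split
    · next h => rw [(hmem χ).1 h y hyN, Complex.mul_conj', Complex.ofReal_pow]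
    · exact Complex.ofReal_zero
  have hcard : Nat.card G = N.index * Nat.card N := N.index_mul_card.symm
  obtain ⟨k, hk⟩ := hidx
  have hν : (Nat.card G).factorization p = k := by
    rw [hcard, Nat.factorization_mul N.index_ne_zero_of_finite Nat.card_pos.ne', hk,
      Finsupp.add_apply, hM.1.factorization_pow, Finsupp.single_eq_same,
      Nat.factorization_eq_zero_of_not_dvd hN, add_zero]
  have hG0 : (Nat.card G : ℂ) ≠ 0 := natCard_ne_zero
  have hN0 : (Nat.card N : ℂ) ≠ 0 := natCard_ne_zero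
  rw [hν, ← hk]
  apply Complex.ofReal_injective
  rw [Complex.ofReal_natCast, hsum]
  rw [inv_mul_eq_iff_eq_mul₀ hG0] at h1
  rw [h1, hcard, Nat.cast_mul, mul_inv_cancel_right₀ hN0]

end Cfsg.Agent.Blocks
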