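import Mathlib
import Cfsg.Agent.Lib.Blocks.SecondMain
import Cfsg.Agent.Lib.Characters.Kernel

/-!
# Characters of full degree modulo a central `p`-subgroup
-/

set_option linter.style.haveILetI false
set_option linter.unusedSectionVars false

namespace Cfsg.Agent.Blocks

open Cfsg.Agent.Characters
open scoped ComplexConjugate

universe u

variable {G : Type u} [Group G] [Finite G] {p : ℕ} {M : Ideal Cfsg.AlgInt}

/-- A central element multiplies the values by a scalar of modulus one. -/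
theorem exists_central_scalar (χ : Cfsg.IrrCharacter G) {t : G} (ht : t ∈ Subgroup.center G) :
    ∃ c : ℂ, c * conj c = 1 ∧ ∀ g, (χ : G → ℂ) (g * t) = c * (χ : G → ℂ) g := by
  obtain ⟨χ, n, ρ, hρ, rfl⟩ := χ
  obtain ⟨c, hc⟩ := schur_scalar ρ (ρ t) fun g v => by
    rw [← Module.End.mul_apply, ← Module.End.mul_apply, ← map_mul, ← map_mul,
      Subgroup.mem_center_iff.1 ht g]
  have hm : ∀ g, ρ.character (g * t) = c * ρ.character g := fun g => by
    simp [Representation.character, hc, Module.End.mul_eq_comp, LinearMap.comp_smul]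
  refine ⟨c, ?_, hm⟩
  have h1 : ρ.character 1 ≠ 0 := irr_one_ne_zero ⟨n, ρ, hρ, rfl⟩
  have hpow : ∀ k : ℕ, ρ.character (t ^ k) = c ^ k * ρ.character 1 := by
    intro k
    induction k with
    | zero => simp
    | succ k ih => rw [pow_succ, hm, ih, pow_succ]; ring
  have hroot := hpow (orderOf t)
  rw [pow_orderOf_eq_one] at hroot
  have hc1 : c ^ orderOf t = 1 := (mul_left_eq_self₀.1 hroot.symm).resolve_right h1
  rw [Complex.mul_conj, Complex.normSq_eq_norm_sq,
    Complex.norm_eq_one_of_pow_eq_one hc1 (orderOf_pos t).ne']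
  simp

/-- A central `p`-subgroup modulo which `χ` has full degree is the defect group of its block, as
soon as its cosets meeting the support of `χ` have a transversal invariant under conjugation. -/
theorem isDefectGroup_of_transversal (hM : Cfsg.IsPModular p M) {D : Subgroup G}
    (hD : IsPGroup p D) (hDZ : D ≤ Subgroup.center G) (χ : Cfsg.IrrCharacter G)
    (hdeg : (Cfsg.charDegree (χ : G → ℂ)).factorization p = D.index.factorization p)
    (T : Set G) (hT : ∀ g a : G, a * g * a⁻¹ ∈ T ↔ g ∈ T)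
    (hu : ∀ g, (χ : G → ℂ) g ≠ 0 → ∃! t : D, g * t ∈ T) :
    Cfsg.IsDefectGroup p M (Cfsg.blockOf M (χ : G → ℂ)) D := by
  classical
  haveI := fact_prime_of_pm hM
  haveI := Fintype.ofFinite G
  haveI := Fintype.ofFinite D
  haveI : D.Normal := ⟨fun x hx g => by
    rwa [Subgroup.mem_center_iff.1 (hDZ hx) g, mul_inv_cancel_right]⟩
  have hcl := irr_isClassFunction χ
  set f : G → ℂ := fun g => (χ : G → ℂ) g * conj ((χ : G → ℂ) g)
  have hf : ∀ g (t : D), f (g * t) = f g := fun g t => by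
    obtain ⟨c, hc, hm⟩ := exists_central_scalar χ (hDZ t.2)
    simp only [f, hm, map_mul]
    linear_combination ((χ : G → ℂ) g * conj ((χ : G → ℂ) g)) * hc
  have hsum : (Nat.card D : ℂ) * ∑ g : G, (if g ∈ T then f g else 0) = Nat.card G := by
    have hone : ∑ g : G, f g = Nat.card G := by
      have h := classInner_isIrr_self χ.2
      rw [classInner_def, inv_mul_eq_iff_eq_mul₀ natCard_ne_zero, mul_one] at h
      exact h
    rw [← hone, Nat.card_eq_fintype_card, ← nsmul_eq_mul, ← Finset.card_univ, ← Finset.sum_const]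
    calc ∑ _t : D, ∑ g : G, (if g ∈ T then f g else 0)
        = ∑ t : D, ∑ g : G, (if g * t ∈ T then f g else 0) := by
          refine Finset.sum_congr rfl fun t _ => ?_
          rw [← Equiv.sum_comp (Equiv.mulRight (t : G)) (fun g : G => if g ∈ T then f g else 0)]
          exact Finset.sum_congr rfl fun g _ => by simp [hf]
      _ = ∑ g : G, ∑ t : D, (if g * t ∈ T then f g else 0) := Finset.sum_comm
      _ = ∑ g : G, f g := Finset.sum_congr rfl fun g _ => by
          by_cases h0 : (χ : G → ℂ) g = 0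
          · simp [f, h0]
          · obtain ⟨t, ht, huniq⟩ := hu g h0
            rw [Finset.sum_eq_single t (fun s _ hs => if_neg fun h => hs (huniq s h)) (by simp),
              if_pos ht]
  set k : ℂ := (Cfsg.charDegree (χ : G → ℂ) : ℂ) / (D.index : ℂ) with hk
  set z : MonoidAlgebra ℂ G :=
    ofFun fun g => if g ∈ T then k * conj ((χ : G → ℂ) g) else 0 with hz
  have hkr : Cfsg.MemLocalRing M k :=
    ring_natCast_div hM D.index_ne_zero_of_finite hdeg.ge
  have hzc : IsCentralEl z := central_ofFun fun g a => by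
    simp only [hT g a, hcl g a]
  have hzi : IntEl M z := fun g => by
    rw [hz, coeff_ofFun]
    split
    · exact ring_mul hM hkr (irr_conj_ring hM χ g)
    · exact ring_zero hM
  have hI : (D.index : ℂ) ≠ 0 := Nat.cast_ne_zero.2 D.index_ne_zero_of_finite
  have h1 : (χ : G → ℂ) 1 ≠ 0 := irr_one_ne_zero χ.2
  have homega : omega (χ : G → ℂ) z = 1 := by
    rw [omega, evalChar_eq_sum, Finset.sum_congr rfl (g := fun g => k * if g ∈ T then f g else 0)
      (fun g _ => by simp only [hz, coeff_ofFun, f]; split <;> ring), ← Finset.mul_sum, hk,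
      charDegree_cast χ]
    rw [← D.index_mul_card, Nat.cast_mul, mul_comm (D.index : ℂ)] at hsum
    rw [mul_left_cancel₀ natCard_ne_zero hsum]
    field_simp
  obtain ⟨g, hg1, hg2⟩ := exists_coeff_omega_notIdeal hM χ hzc hzi
    (by rw [homega]; exact not_ideal_one hM)
  have hχg : ¬ Cfsg.MemLocalIdeal M ((χ : G → ℂ) g⁻¹) := fun h => by
    apply hg1
    rw [hz, coeff_ofFun]
    split
    · rw [← char_inv (irr_isCharacter χ)]
      exact ideal_mul_left hM hkr h
    · exact ideal_zero hM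
  obtain ⟨P, hP⟩ := exists_defectGroup hM (isPBlock_blockOf M χ)
  obtain ⟨y, hy, hyc⟩ :=
    meets_defect_of_omega hM (isPBlock_blockOf M χ) hP (mem_blockOf_self hM χ) hg2
  have hle : D ≤ P := normal_le_defect hM hD (isPBlock_blockOf M χ) hP
  suffices hc : Nat.card P ≤ Nat.card D by rwa [eq_of_le_of_card_le hle hc]
  obtain ⟨a, rfl⟩ := isConj_iff.1 hy
  obtain ⟨j, hj⟩ := (isPGroup_defect hP).exists_card_eq
  obtain ⟨i, hi⟩ := hD.exists_card_eq
  have hsub : j ≤ (Nat.card (Subgroup.centralizer ({a * g * a⁻¹} : Set G))).factorization p := by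
    have h := Subgroup.card_dvd_of_le (le_centralizer_iff_mem.2 hyc)
    rw [hj] at h
    exact (hM.1.pow_dvd_iff_le_factorization Nat.card_pos.ne').1 h
  have hidx := factorization_index_add (Subgroup.centralizer ({a * g * a⁻¹} : Set G)) p
  have hidxD := factorization_index_add D p
  rw [hi, hM.1.factorization_pow, Finsupp.single_eq_same] at hidxD
  have hlt : ¬ (Subgroup.centralizer ({a * g * a⁻¹} : Set G)).index.factorization p <
      (Cfsg.charDegree (χ : G → ℂ)).factorization p := fun h => by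
    rw [show Subgroup.centralizer ({a * g * a⁻¹} : Set G) =
        Subgroup.centralizer ({a * g⁻¹ * a⁻¹} : Set G) by
      ext w
      rw [Subgroup.mem_centralizer_singleton_iff, Subgroup.mem_centralizer_singleton_iff,
        show a * g⁻¹ * a⁻¹ = (a * g * a⁻¹)⁻¹ by group]
      exact (Commute.inv_right_iff (a := w) (b := a * g * a⁻¹)).symm] at h
    have := ideal_value_of_index_lt hM χ _ h
    rw [hcl] at this
    exact hχg this
  rw [hi, hj]
  exact Nat.pow_le_pow_right hM.1.pos (by omega)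

/-- A character of full degree modulo a central `p`-subgroup vanishes at the elements whose
`p`-part lies outside it. -/
theorem eq_zero_of_full_degree (hM : Cfsg.IsPModular p M) {D : Subgroup G} (hD : IsPGroup p D)
    (hDZ : D ≤ Subgroup.center G) (χ : Cfsg.IrrCharacter G)
    (hdeg : (Cfsg.charDegree (χ : G → ℂ)).factorization p = D.index.factorization p) {g x : G}
    (hx : Cfsg.IsPPart p g x) (hxD : x ∉ D) : (χ : G → ℂ) g = 0 := by
  classical
  let K : Subgroup G :=
    { carrier := {t | t ∈ D ∧ ∀ a, (χ : G → ℂ) (a * t) = (χ : G → ℂ) a}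
      one_mem' := ⟨one_mem _, fun a => by rw [mul_one]⟩
      mul_mem' := fun {s t} hs ht => ⟨mul_mem hs.1 ht.1, fun a => by
        rw [← mul_assoc, ht.2, hs.2]⟩
      inv_mem' := fun {s} hs => ⟨inv_mem hs.1, fun a => by
        have := hs.2 (a * s⁻¹)
        rwa [inv_mul_cancel_right, eq_comm] at this⟩ }
  have hKD : K ≤ D := fun t ht => ht.1
  haveI : K.Normal := ⟨fun t ht a => by
    rwa [Subgroup.mem_center_iff.1 (hDZ ht.1) a, mul_inv_cancel_right]⟩
  obtain ⟨φ, -, hφ, hirr⟩ := exists_deflate_quotient K (irr_isCharacter χ)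
    fun t ht => by simpa using ht.2 1
  let ψ : Cfsg.IrrCharacter (G ⧸ K) := ⟨φ, hirr χ.2⟩
  set D' := D.map (QuotientGroup.mk' K)
  have hD'Z : D' ≤ Subgroup.center (G ⧸ K) := by
    rintro _ ⟨t, ht, rfl⟩
    rw [Subgroup.mem_center_iff]
    intro q
    obtain ⟨a, rfl⟩ := QuotientGroup.mk'_surjective K q
    rw [← map_mul, ← map_mul, Subgroup.mem_center_iff.1 (hDZ ht) a]
  have hdeg' : (Cfsg.charDegree (ψ : G ⧸ K → ℂ)).factorization p = D'.index.factorization p := by
    rw [show D'.index = D.index from Subgroup.index_map_eq D (QuotientGroup.mk'_surjective K)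
        (by rwa [QuotientGroup.ker_mk']), ← hdeg]
    congr 1
    simp only [Cfsg.charDegree, ψ]
    rw [← hφ 1, QuotientGroup.mk_one]
  have hfaith : ∀ q ∈ D', (ψ : G ⧸ K → ℂ) q = (ψ : G ⧸ K → ℂ) 1 → q = 1 := by
    rintro _ ⟨t, ht, rfl⟩ h
    obtain ⟨c, -, hc⟩ := exists_central_scalar χ (hDZ ht)
    have h2 : (χ : G → ℂ) t = (χ : G → ℂ) 1 := by
      rw [← hφ t, ← hφ 1, QuotientGroup.mk_one]; exact h
    have h1 := hc 1
    rw [one_mul, h2] at h1
    have hc1 : c = 1 := (mul_left_eq_self₀.1 h1.symm).resolve_right (irr_one_ne_zero χ.2)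
    exact (QuotientGroup.eq_one_iff t).2 ⟨ht, fun a => by rw [hc, hc1, one_mul]⟩
  haveI hn' : D'.Normal := ⟨fun t ht a => by
    rwa [Subgroup.mem_center_iff.1 (hD'Z ht) a, mul_inv_cancel_right]⟩
  -- one class above each class modulo `D'`
  let s : ConjClasses ((G ⧸ K) ⧸ D') → G ⧸ K := fun C => Quotient.out (Quotient.out C)
  let T : Set (G ⧸ K) := {q | IsConj q (s (ConjClasses.mk (q : (G ⧸ K) ⧸ D')))}
  have hdef : Cfsg.IsDefectGroup p M (Cfsg.blockOf M (ψ : G ⧸ K → ℂ)) D' := by
    refine isDefectGroup_of_transversal hM (hD.map _) hD'Z ψ hdeg' T (fun q a => ?_)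
      (fun q hq => ?_)
    · simp only [T, Set.mem_ofPred_eq]
      have hcc : ConjClasses.mk ((a * q * a⁻¹ : G ⧸ K) : (G ⧸ K) ⧸ D') =
          ConjClasses.mk (q : (G ⧸ K) ⧸ D') := by
        rw [ConjClasses.mk_eq_mk_iff_isConj]
        exact (isConj_iff.2 ⟨(a : (G ⧸ K) ⧸ D'), by simp⟩).symm
      rw [hcc]
      exact ⟨fun h => (isConj_iff.2 ⟨a, rfl⟩ : IsConj q (a * q * a⁻¹)).trans h,
        fun h => (isConj_iff.2 ⟨a, rfl⟩ : IsConj q (a * q * a⁻¹)).symm.trans h⟩
    · set C := ConjClasses.mk (q : (G ⧸ K) ⧸ D') with hC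
      have hs : IsConj (s C : (G ⧸ K) ⧸ D') (q : (G ⧸ K) ⧸ D') := by
        rw [← ConjClasses.mk_eq_mk_iff_isConj]
        simp only [s]
        rw [QuotientGroup.out_eq']
        exact Quotient.out_eq C
      obtain ⟨b, hb⟩ := isConj_iff.1 hs
      obtain ⟨b, rfl⟩ := QuotientGroup.mk_surjective b
      rw [← QuotientGroup.mk_inv, ← QuotientGroup.mk_mul, ← QuotientGroup.mk_mul, eq_comm,
        QuotientGroup.eq] at hb
      have hCt : ∀ t : D', ConjClasses.mk ((q * t : G ⧸ K) : (G ⧸ K) ⧸ D') = C := fun t => by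
        rw [QuotientGroup.mk_mul_of_mem q t.2]
      refine ⟨⟨_, hb⟩, ?_, fun t ht => ?_⟩
      · show IsConj (q * (q⁻¹ * (b * s C * b⁻¹))) (s (ConjClasses.mk
          ((q * (q⁻¹ * (b * s C * b⁻¹)) : G ⧸ K) : (G ⧸ K) ⧸ D')))
        rw [hCt ⟨_, hb⟩, mul_inv_cancel_left]
        exact (isConj_iff.2 ⟨b, rfl⟩ : IsConj (s C) _).symm
      · simp only [T, Set.mem_ofPred_eq, hCt] at ht
        have hconj : IsConj (q * t : G ⧸ K) (q * (q⁻¹ * (b * s C * b⁻¹))) := by
          rw [mul_inv_cancel_left]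
          exact ht.trans (isConj_iff.2 ⟨b, rfl⟩)
        set t' : D' := ⟨_, hb⟩
        obtain ⟨a, ha⟩ := isConj_iff.1 hconj
        obtain ⟨c, -, hc⟩ := exists_central_scalar ψ (hD'Z (D'.mul_mem (D'.inv_mem t.2) t'.2))
        have h2 : (ψ : G ⧸ K → ℂ) (q * t') = (ψ : G ⧸ K → ℂ) (q * t) := by
          rw [show (q * t' : G ⧸ K) = a * (q * t) * a⁻¹ from ha.symm, irr_isClassFunction ψ]
        have h3 := hc (q * t)
        rw [show q * (t : G ⧸ K) * ((t : G ⧸ K)⁻¹ * t') = q * t' by group, h2] at h3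
        have hqt : (ψ : G ⧸ K → ℂ) (q * t) ≠ 0 := by
          obtain ⟨e, he, hm⟩ := exists_central_scalar ψ (hD'Z t.2)
          rw [hm]
          exact mul_ne_zero (fun h => by simp [h] at he) hq
        have hc1 : c = 1 := (mul_left_eq_self₀.1 h3.symm).resolve_right hqt
        have h4 := hfaith _ (D'.mul_mem (D'.inv_mem t.2) t'.2) (by
          have := hc 1
          rwa [one_mul, hc1, one_mul] at this)
        exact Subtype.ext (inv_mul_eq_one.1 h4)
  have hxK : Cfsg.IsPPart p (g : G ⧸ K) (x : G ⧸ K) := by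
    obtain ⟨y, hy1, hy2, ⟨k, hk⟩, hy4⟩ := hx
    refine ⟨y, by rw [← QuotientGroup.mk_mul, hy1], hy2.map (QuotientGroup.mk' K), ?_, ?_⟩
    · obtain ⟨j, -, hj⟩ := (Nat.dvd_prime_pow hM.1).1 (hk ▸ orderOf_map_dvd (QuotientGroup.mk' K) x)
      exact ⟨j, hj⟩
    · exact fun h => hy4 (h.trans (orderOf_map_dvd (QuotientGroup.mk' K) y))
  rw [← hφ g]
  refine char_eq_zero_of_notMem_defect hM (isPBlock_blockOf M ψ) (mem_blockOf_self hM ψ) hxK
    fun E hE => ?_
  obtain ⟨a, ha⟩ := exists_defectGroup_conj_eq hM (isPBlock_blockOf M ψ) hdef hE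
  have hEeq : E = D' := by
    rw [ha]
    ext y
    rw [mem_map_conj_iff]
    exact ⟨fun h => by simpa [mul_assoc] using hn'.conj_mem _ h a,
      fun h => by simpa using hn'.conj_mem _ h a⁻¹⟩
  rw [hEeq]
  rintro ⟨t, ht, htx⟩
  have := hKD (QuotientGroup.eq.1 htx)
  exact hxD (by simpa using mul_mem ht this)

/-- The defect group is the central subgroup itself. -/
theorem isDefectGroup_of_full_degree (hM : Cfsg.IsPModular p M) {D : Subgroup G}
    (hD : IsPGroup p D) (hDZ : D ≤ Subgroup.center G) (χ : Cfsg.IrrCharacter G)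
    (hdeg : (Cfsg.charDegree (χ : G → ℂ)).factorization p = D.index.factorization p) :
    Cfsg.IsDefectGroup p M (Cfsg.blockOf M (χ : G → ℂ)) D := by
  haveI := fact_prime_of_pm hM
  refine isDefectGroup_of_transversal hM hD hDZ χ hdeg {g | ¬ p ∣ orderOf g} (fun g a => ?_)
    fun g hg => ?_
  · show ¬ p ∣ orderOf (MulAut.conj a g) ↔ ¬ p ∣ orderOf g
    rw [MulEquiv.orderOf_eq]
  · obtain ⟨x, hx⟩ := exists_ppart hM.1 g
    have hxD : x ∈ D := by
      by_contra h
      exact hg (eq_zero_of_full_degree hM hD hDZ χ hdeg hx h)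
    obtain ⟨y, hxy, hc, hxo, hy⟩ := id hx
    refine ⟨⟨x⁻¹, inv_mem hxD⟩, ?_, fun t ht => ?_⟩
    · show ¬ p ∣ orderOf (g * x⁻¹)
      rwa [← hxy, hc.eq, mul_inv_cancel_right]
    · have hpt : Cfsg.IsPPart p g (t : G)⁻¹ := by
        refine ⟨g * t, ?_, ?_, ?_, ht⟩
        · rw [← Subgroup.mem_center_iff.1 (inv_mem (hDZ t.2)) (g * t), mul_inv_cancel_right]
        · exact (Subgroup.mem_center_iff.1 (inv_mem (hDZ t.2)) (g * t)).symm
        · obtain ⟨k, hk⟩ := IsPGroup.iff_orderOf.1 hD t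
          exact ⟨k, by rw [orderOf_inv, Subgroup.orderOf_coe, hk]⟩
      exact Subtype.ext (by simpa using (congrArg (·⁻¹) (ppart_unique hM.1 hx hpt)).symm)

end Cfsg.Agent.Blocks
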