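import Mathlib
import Cfsg.Prelude.Def_Blocks
import Cfsg.Agent.Lib.Blocks.FirstMain
import Cfsg.Agent.Lib.Blocks.Covering
import Cfsg.Agent.Lib.CharTheory.Basics
import Cfsg.Agent.BlockCharsA.Transport
import Cfsg.Agent.BlockCharsA.PairLocal
import Cfsg.Agent.S4438

/-!
# The Harris–Knörr correspondence
-/

set_option linter.style.haveILetI false
set_option linter.unusedSectionVars false

namespace Cfsg.Agent.Blocks.HarrisKnorr

open Cfsg.Agent.Characters Cfsg.Agent.BlockCharsA.NormalSupport Cfsg.Agent.BlockCharsA.Transport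
open Cfsg.Agent.CharTheory
open Cfsg.Agent.Blocks

universe u

variable {G : Type u} [Group G] [Finite G] {p : ℕ} {M : Ideal Cfsg.AlgInt}

theorem card_centralizer_iso {K : Type*} [Group K] {L : Type*} [Group L] (σ : K ≃* L) (g : K) :
    Subgroup.centralizer ({σ g} : Set L) =
      (Subgroup.centralizer ({g} : Set K)).map σ.toMonoidHom := by
  ext x
  simp only [Subgroup.mem_map_equiv, Subgroup.mem_centralizer_iff, Set.mem_singleton_iff,
    forall_eq]
  constructor
  · intro h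
    apply σ.injective
    simpa using h
  · intro h
    simpa using congrArg σ h

/-- Defect groups are carried along isomorphisms. -/
theorem isDefectGroup_iso {K : Type*} [Group K] [Finite K] {L : Type*} [Group L] [Finite L]
    [Fact p.Prime] (σ : K ≃* L) {B : Set (Cfsg.IrrCharacter K)} {D : Subgroup K}
    (hD : Cfsg.IsDefectGroup p M B D) :
    Cfsg.IsDefectGroup p M (pullSet σ B) (D.map σ.toMonoidHom) := by
  obtain ⟨g, ⟨h1, h2, h3⟩, hs⟩ := isDefectGroup_iff.1 hD
  refine isDefectGroup_iff.2 ⟨σ g, ⟨?_, ?_, fun χ hχ => ?_⟩, ?_⟩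
  · rwa [blockCoeff_pullSet]
  · rwa [blockCoeff_pullSet]
  · rw [← centralChar_iso σ]
    exact h3 (irrIso σ χ) hχ
  · rw [isSylCent_iff] at hs ⊢
    rw [card_centralizer_iso]
    refine ⟨Subgroup.map_mono hs.1, ?_⟩
    rw [Subgroup.card_map_of_injective σ.injective, Subgroup.card_map_of_injective σ.injective]
    exact hs.2

theorem induced_unique_of_eq (hM : Cfsg.IsPModular p M) {D K : Subgroup G}
    (hK : Subgroup.normalizer (D : Set G) = K) {B : Set (Cfsg.IrrCharacter G)}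
    (hD : Cfsg.IsDefectGroup p M B D) {b b' : Set (Cfsg.IrrCharacter K)}
    (h : Cfsg.IsInducedBlock M K b B) (h' : Cfsg.IsInducedBlock M K b' B) : b = b' := by
  subst hK
  exact induced_normalizer_unique hM hD h h'

theorem exists_correspondent_of_eq (hM : Cfsg.IsPModular p M) {D K : Subgroup G}
    (hK : Subgroup.normalizer (D : Set G) = K) {B : Set (Cfsg.IrrCharacter G)}
    (hB : Cfsg.IsPBlock M B) (hD : Cfsg.IsDefectGroup p M B D) :
    ∃ b : Set (Cfsg.IrrCharacter K), Cfsg.IsPBlock M b ∧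
      Cfsg.IsDefectGroup p M b (D.subgroupOf K) ∧ Cfsg.IsInducedBlock M K b B := by
  subst hK
  obtain ⟨b, hb, -⟩ := existsUnique_correspondent hM hB hD
  exact ⟨b, hb⟩

theorem mem_normalizer_of_conj_mem {Q : Subgroup G} {x : G} (h : ∀ q ∈ Q, x * q * x⁻¹ ∈ Q) :
    x ∈ Subgroup.normalizer (Q : Set G) := by
  have heq : Q.map (MulAut.conj x).toMonoidHom = Q := by
    refine Subgroup.eq_of_le_of_card_ge ?_ (le_of_eq ?_)
    · rintro _ ⟨q, hq, rfl⟩
      exact h q hq
    · rw [Subgroup.card_map_of_injective (MulAut.conj x).injective]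
  rw [Subgroup.mem_normalizer_iff]
  refine fun q => ⟨h q, fun hq => ?_⟩
  rw [← heq] at hq
  obtain ⟨y, hy, hxy⟩ := hq
  have : y = q := (MulAut.conj x).injective hxy
  exact this ▸ hy

variable {N L : Subgroup G}

/-- `L ∩ N`, seen in `N` and seen in `L`. -/
def swap (N L : Subgroup G) : L.subgroupOf N ≃* N.subgroupOf L where
  toFun x := ⟨⟨((x : N) : G), x.2⟩, (x : N).2⟩
  invFun y := ⟨⟨((y : L) : G), y.2⟩, (y : L).2⟩
  left_inv x := rfl
  right_inv y := rfl
  map_mul' a b := rfl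

/-- `L ∩ N`, seen in `L` and seen in `G`. -/
def infEquiv (N L : Subgroup G) : N.subgroupOf L ≃* ↥(L ⊓ N) where
  toFun y := ⟨((y : L) : G), (y : L).2, y.2⟩
  invFun z := ⟨⟨(z : G), z.2.1⟩, z.2.2⟩
  left_inv y := rfl
  right_inv z := rfl
  map_mul' a b := rfl

variable [N.Normal]

theorem push_res_restr (n : N) :
    push (N.subgroupOf L) (res (N.subgroupOf L) (restrEl L (classSum (n : G)))) =
      restrEl L (classSum (n : G)) :=
  push_res fun l hl => by
    classical
    rw [coeff_restrEl, coeff_classSum, if_neg]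
    intro hc
    obtain ⟨c, hc⟩ := isConj_iff.1 hc
    exact hl (Subgroup.mem_subgroupOf.2 (hc ▸ (inferInstance : N.Normal).conj_mem n n.2 c))

/-- An induced block of a covering block covers the induced block. -/
theorem covers_of_induced (hM : Cfsg.IsPModular p M) [Fintype N] [Fintype (N.subgroupOf L)]
    {c : Set (Cfsg.IrrCharacter L)} {ψ : Cfsg.IrrCharacter L} (hψ : ψ ∈ c)
    {ξ : Cfsg.IrrCharacter (N.subgroupOf L)}
    (hψξ : Cfsg.classInner (fun k : N.subgroupOf L => (ψ : L → ℂ) k)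
      (ξ : N.subgroupOf L → ℂ) ≠ 0)
    {B : Set (Cfsg.IrrCharacter G)} (hB : Cfsg.IsInducedBlock M L c B)
    {d : Set (Cfsg.IrrCharacter N)} (hd : Cfsg.IsPBlock M d)
    (hind : Cfsg.IsInducedBlock M (L.subgroupOf N)
      (Cfsg.blockOf M (irrIso (swap N L) ξ : L.subgroupOf N → ℂ)) d) :
    ∃ χ ∈ B, ∃ θ ∈ d,
      Cfsg.classInner (fun n : N => (χ : G → ℂ) n) (θ : N → ℂ) ≠ 0 := by
  refine (covers_iff hM hB.2.1 hd).2 fun χ hχ θ hθ n => ?_
  refine cong_trans hM (cong_symm hM (hB.2.2 ψ hψ χ hχ (n : G))) ?_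
  rw [← omega_restrEl_classSum, ← push_res_restr (L := L) n,
    omega_push_eq ψ ξ hψξ (isInvEl_res (central_restrEl L (central_classSum _))),
    ← omega_restrEl_classSum N]
  rw [omega_iso (swap N L) (z := restrEl (L.subgroupOf N) (restrEl N (classSum (n : G))))
    (fun k => by rw [coeff_res, coeff_restrEl, coeff_restrEl, coeff_restrEl]; rfl)]
  exact omega_cong_of_isInduced hM hind (mem_blockOf_self hM (irrIso (swap N L) ξ)) hθ
    (central_restrEl N (central_classSum _)) (intEl_restrEl N (intEl_classSum hM _))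

variable {Q : Subgroup G}

theorem normalizer_subgroupOf_eq (hQN : Q ≤ N) :
    Subgroup.normalizer ((Q.subgroupOf N : Subgroup N) : Set N) =
      (Subgroup.normalizer (Q : Set G)).subgroupOf N := by
  ext x
  constructor
  · intro hx
    refine Subgroup.mem_subgroupOf.2 (mem_normalizer_of_conj_mem fun q hq => ?_)
    exact Subgroup.mem_subgroupOf.1
      ((Subgroup.mem_normalizer_iff.1 hx ⟨q, hQN hq⟩).1 (Subgroup.mem_subgroupOf.2 hq))
  · intro hx
    rw [Subgroup.mem_normalizer_iff]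
    exact fun q => (Subgroup.mem_normalizer_iff.1 (Subgroup.mem_subgroupOf.1 hx) (q : G))

theorem conjIrr_of_mem [Fintype N] {m : G} (hm : m ∈ N) (θ : Cfsg.IrrCharacter N) :
    conjIrr m θ = θ :=
  Subtype.ext (funext fun n => by
    rw [coe_conjIrr, Clifford.conjBy_apply]
    exact irr_isClassFunction θ n ⟨m, hm⟩)

theorem coe_conjIrr_comp (g : G) (θ : Cfsg.IrrCharacter N) :
    (conjIrr g θ : N → ℂ) = (θ : N → ℂ) ∘ (MulAut.conjNormal g : N ≃* N) := by
  rw [coe_conjIrr, Clifford.conjBy_eq_comp]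
  rfl

theorem exists_correspondent (hM : Cfsg.IsPModular p M) [Fact p.Prime] [Fintype G] [Fintype N]
    [Fintype (N.subgroupOf L)] (hL : L = Subgroup.normalizer (Q : Set G)) (hQ : IsPGroup p Q)
    (hQN : Q ≤ N)
    {d : Set (Cfsg.IrrCharacter N)} (hd : Cfsg.IsPBlock M d)
    (hdQ : Cfsg.IsDefectGroup p M d (Q.subgroupOf N))
    (ξ₀ : Cfsg.IrrCharacter (N.subgroupOf L))
    (hind : Cfsg.IsInducedBlock M (L.subgroupOf N)
      (Cfsg.blockOf M (irrIso (swap N _) ξ₀ :
        L.subgroupOf N → ℂ)) d)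
    {B : Set (Cfsg.IrrCharacter G)} (hB : Cfsg.IsPBlock M B)
    (hcov : ∃ χ ∈ B, ∃ θ ∈ d,
      Cfsg.classInner (fun n : N => (χ : G → ℂ) n) (θ : N → ℂ) ≠ 0) :
    ∃ c, Cfsg.IsInducedBlock M L c B ∧
      ∃ ψ ∈ c, ∃ ξ ∈ Cfsg.blockOf M (ξ₀ : N.subgroupOf L → ℂ),
        Cfsg.classInner (fun k : N.subgroupOf L =>
          (ψ : L → ℂ) k)
          (ξ : N.subgroupOf L → ℂ) ≠ 0 := by
  obtain ⟨P, hP, hPN⟩ := Cfsg.Agent.S4438.result p M hM N d hd Q hQN hdQ B hB hcov
  have hQL : Q ≤ L := hL ▸ Subgroup.le_normalizer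
  have hCL : Subgroup.centralizer (Q : Set G) ≤ L := hL ▸ centralizer_le_normalizer' Q
  have hN' : Subgroup.normalizer ((Q.subgroupOf N : Subgroup N) : Set N) = L.subgroupOf N :=
    hL ▸ normalizer_subgroupOf_eq hQN
  have hQP : Q ≤ P := hPN ▸ inf_le_left
  obtain ⟨c, hc⟩ := (exists_induced_iff hM hQ hQL
    hCL hL.le hB hP).2 ⟨1, fun x hx => ⟨x, hQP hx, by simp⟩⟩
  obtain ⟨ψ, hψ⟩ := block_nonempty hM hc.1
  obtain ⟨ξ, hξ⟩ := exists_under (N := N.subgroupOf L) ψ
  set K := L.subgroupOf N with hKdef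
  set e₁ := Cfsg.blockOf M (irrIso (swap N L) ξ : K → ℂ) with he₁
  have he₁b : Cfsg.IsPBlock M e₁ := isPBlock_blockOf M _
  obtain ⟨d₁, hd₁⟩ := inducedBlockDefined_of_brauer hM (P := Q.subgroupOf N)
    (isPGroup_subgroupOf hQ hQN) (hN' ▸ Subgroup.le_normalizer)
    (hN' ▸ centralizer_le_normalizer' _) hN'.ge he₁b
  obtain ⟨χ₁, hχ₁, θ₁, hθ₁, h₁⟩ := covers_of_induced hM hψ hξ hc hd₁.2.1 hd₁
  obtain ⟨χ₀, hχ₀, θ₀, hθ₀, h₀⟩ := hcov
  obtain ⟨g, hg⟩ := constituents_conj_block hM (sameBlock_of_mem hM hB hχ₁ hχ₀) h₁ h₀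
  set τ : N ≃* N := MulAut.conjNormal g with hτ
  -- `d` is the conjugate of `d₁`
  have hdd : d = pullSet τ.symm d₁ := by
    refine block_eq_of_mem hM hd (isPBlock_pullSet hM _ hd₁.2.1) hθ₀ ?_
    refine mem_of_sameBlock (ψ := irrIso τ.symm θ₀) hM hd₁.2.1 hθ₁ ?_
    have h := sameBlock_iso τ.symm hg
    rw [coe_conjIrr_comp] at h
    have he : ((θ₁ : N → ℂ) ∘ τ) ∘ τ.symm = (θ₁ : N → ℂ) := funext fun n => by simp
    rwa [he] at h
  -- `Q` is a defect group of `d₁`
  have hQ' : IsPGroup p (Q.subgroupOf N) := isPGroup_subgroupOf hQ hQN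
  have hQK : Q.subgroupOf N ≤ K := fun x hx =>
    Subgroup.mem_subgroupOf.2 (hQL hx)
  have hd₁Q : Cfsg.IsDefectGroup p M d₁ (Q.subgroupOf N) := by
    obtain ⟨D, hD⟩ := exists_defectGroup hM he₁b
    haveI := normal_subgroupOf (H := K) (P := Q.subgroupOf N)
      hN'.ge
    have hle := normal_le_defect hM (isPGroup_subgroupOf hQ' hQK) he₁b hD
    obtain ⟨E, hE, hDE⟩ := exists_defect_le_of_induced hM hd₁ hD
    have hQE : Q.subgroupOf N ≤ E := fun x hx =>
      hDE ⟨⟨x, hQK hx⟩, hle (Subgroup.mem_subgroupOf.2 hx), rfl⟩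
    have hcard : Nat.card (Q.subgroupOf N) = Nat.card E := by
      rw [card_defectGroup hM hd hdQ, card_defectGroup hM hd₁.2.1 hE, hdd,
        Cfsg.Agent.BlockCharsA.PairLocal.blockDefect_pullSet]
    rwa [Subgroup.eq_of_le_of_card_ge hQE hcard.ge]
  -- a conjugating element inside `L`
  have hdQ' := isDefectGroup_iso τ.symm hd₁Q
  rw [← hdd] at hdQ'
  obtain ⟨m, hm⟩ := exists_defectGroup_conj_eq hM hd hdQ hdQ'
  have hl : g * (m : G) ∈ L := by
    rw [hL]
    refine mem_normalizer_of_conj_mem fun q hq => ?_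
    have h : m * ⟨q, hQN hq⟩ * m⁻¹ ∈ (Q.subgroupOf N).map τ.symm.toMonoidHom := by
      rw [hm]
      exact ⟨⟨q, hQN hq⟩, hq, rfl⟩
    rw [Subgroup.mem_map_equiv, MulEquiv.symm_symm, Subgroup.mem_subgroupOf, hτ,
      MulAut.conjNormal_apply] at h
    simpa [mul_assoc] using h
  set l : L := ⟨g * (m : G), hl⟩ with hldef
  have hlθ : Cfsg.SameBlock M (conjIrr (l : G) θ₁ : N → ℂ) (θ₀ : N → ℂ) := by
    show Cfsg.SameBlock M (conjIrr (g * (m : G)) θ₁ : N → ℂ) _
    rwa [← conjIrr_conjIrr, conjIrr_of_mem m.2]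
  set ξ' := conjIrr l ξ with hξ'
  set σ : K ≃* K :=
    (swap N L).trans ((MulAut.conjNormal l : N.subgroupOf L ≃* N.subgroupOf L).trans (swap N L).symm)
    with hσ
  have hind' : Cfsg.IsInducedBlock M K (Cfsg.blockOf M (irrIso (swap N L) ξ' : K → ℂ)) d := by
    refine isInduced_of_omega hM (isPBlock_blockOf M _) hd (mem_blockOf_self hM _)
      (mem_of_sameBlock hM hd hθ₀ (sameBlock_symm hM hlθ)) fun h => ?_
    have hfun : (irrIso (swap N L) ξ' : K → ℂ) = (irrIso (swap N L) ξ : K → ℂ) ∘ σ :=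
      funext fun k => by
        simp only [irrIso_apply, Function.comp_apply, hξ', coe_conjIrr, Clifford.conjBy_apply, hσ,
          MulEquiv.trans_apply, MulEquiv.apply_symm_apply]
        exact congrArg _ (Subtype.ext (Subtype.ext (by simp [MulAut.conjNormal_apply])))
    have hconj : (conjIrr (l : G) θ₁ : N → ℂ) =
        (θ₁ : N → ℂ) ∘ (MulAut.conjNormal (l : G) : N ≃* N) := coe_conjIrr_comp _ _
    rw [hfun, hconj, centralChar_iso, ← omega_iso σ (w := restrEl K
      (classSum ((MulAut.conjNormal (l : G) : N ≃* N) h))) (fun k => ?_) _,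
      omega_restrEl_classSum]
    · exact hd₁.2.2 _ (mem_blockOf_self hM _) θ₁ hθ₁ _
    · classical
      rw [coeff_restrEl, coeff_restrEl, coeff_classSum, coeff_classSum]
      have hk : ((σ k : K) : N) = (MulAut.conjNormal (l : G) : N ≃* N) (k : N) := by
        refine Subtype.ext ?_
        simp [hσ, swap, MulAut.conjNormal_apply]
      rw [hk]
      have hiff : IsConj ((MulAut.conjNormal (l : G) : N ≃* N) h)
          ((MulAut.conjNormal (l : G) : N ≃* N) (k : N)) ↔ IsConj h (k : N) :=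
        ⟨fun hc => by
          simpa using (MulAut.conjNormal (l : G) : N ≃* N).symm.toMonoidHom.map_isConj hc,
        fun hc => (MulAut.conjNormal (l : G) : N ≃* N).toMonoidHom.map_isConj hc⟩
      by_cases hc : IsConj h (k : N)
      · rw [if_pos (hiff.2 hc), if_pos hc]
      · rw [if_neg (mt hiff.1 hc), if_neg hc]
  have heq := induced_unique_of_eq hM hN' hdQ hind hind'
  refine ⟨c, hc, ψ, hψ, ξ', ?_, by rw [hξ', constituent_conjIrr]; exact hξ⟩
  have hs := mem_blockOf_self hM (irrIso (swap N L) ξ')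
  rw [← heq] at hs
  exact sameBlock_of_iso (swap N L) hs

theorem exists_defect_inf (hM : Cfsg.IsPModular p M) [Fact p.Prime] [Fintype L]
    [Fintype (N.subgroupOf L)] (hQL : Q ≤ L) (hQN : Q ≤ N)
    {e : Set (Cfsg.IrrCharacter (N.subgroupOf L))} (he : Cfsg.IsPBlock M e)
    (heQ : Cfsg.IsDefectGroup p M e ((Q.subgroupOf L).subgroupOf (N.subgroupOf L)))
    {c : Set (Cfsg.IrrCharacter L)} (hc : Cfsg.IsPBlock M c)
    (hcov : ∃ ψ ∈ c, ∃ ξ ∈ e,
      Cfsg.classInner (fun k : N.subgroupOf L => (ψ : L → ℂ) k)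
        (ξ : N.subgroupOf L → ℂ) ≠ 0) :
    ∃ D : Subgroup L, Cfsg.IsDefectGroup p M c D ∧ D.map L.subtype ⊓ N = Q := by
  obtain ⟨D, hD, hDQ⟩ := Cfsg.Agent.S4438.result p M hM (N.subgroupOf L) e he (Q.subgroupOf L)
    (fun x hx => Subgroup.mem_subgroupOf.2 (hQN hx)) heQ c hc hcov
  refine ⟨D, hD, ?_⟩
  ext x
  constructor
  · rintro ⟨⟨y, hy, rfl⟩, hxN⟩
    have : y ∈ D ⊓ N.subgroupOf L := ⟨hy, hxN⟩
    rw [hDQ] at this
    exact this
  · intro hx
    have : (⟨x, hQL hx⟩ : L) ∈ D ⊓ N.subgroupOf L := by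
      rw [hDQ]; exact Subgroup.mem_subgroupOf.2 hx
    exact ⟨⟨_, this.1, rfl⟩, hQN hx⟩

omit [N.Normal] in
theorem lift_correspondent (hM : Cfsg.IsPModular p M) [Fact p.Prime]
    {c : Set (Cfsg.IrrCharacter L)} {B : Set (Cfsg.IrrCharacter G)}
    (hc : Cfsg.IsInducedBlock M L c B) {D : Subgroup L} (hD : Cfsg.IsDefectGroup p M c D)
    (hNL : Subgroup.normalizer ((D.map L.subtype : Subgroup G) : Set G) ≤ L) :
    ∃ b : Set (Cfsg.IrrCharacter
        ((Subgroup.normalizer ((D.map L.subtype : Subgroup G) : Set G)).subgroupOf L)),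
      Cfsg.IsInducedBlock M _ b c ∧
      Cfsg.IsInducedBlock M _ (pullSet (Subgroup.subgroupOfEquivOfLe hNL) b) B ∧
      Cfsg.IsDefectGroup p M B (D.map L.subtype) := by
  set DG := D.map L.subtype with hDG
  have hK : Subgroup.normalizer (D : Set L) =
      (Subgroup.normalizer (DG : Set G)).subgroupOf L := by
    ext x
    constructor
    · intro hx
      refine Subgroup.mem_subgroupOf.2 (mem_normalizer_of_conj_mem ?_)
      rintro _ ⟨y, hy, rfl⟩
      exact ⟨x * y * x⁻¹, (Subgroup.mem_normalizer_iff.1 hx y).1 hy, rfl⟩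
    · intro hx
      rw [Subgroup.mem_normalizer_iff]
      intro y
      have h := Subgroup.mem_normalizer_iff.1 (Subgroup.mem_subgroupOf.1 hx) (y : G)
      rw [hDG,
        show (x : G) * y * (x : G)⁻¹ = L.subtype (x * y * x⁻¹) from rfl,
        show (y : G) = L.subtype y from rfl,
        Subgroup.mem_map_iff_mem (Subgroup.subtype_injective L),
        Subgroup.mem_map_iff_mem (Subgroup.subtype_injective L)] at h
      exact h
  obtain ⟨b, hb, hbD, hbc⟩ := exists_correspondent_of_eq hM hK hc.1 hD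
  set σ := Subgroup.subgroupOfEquivOfLe hNL with hσ
  have hB : Cfsg.IsInducedBlock M _ (pullSet σ b) B := by
    obtain ⟨η, hη⟩ := block_nonempty hM (isPBlock_pullSet hM σ hb)
    obtain ⟨ψ, hψ⟩ := block_nonempty hM hc.1
    obtain ⟨χ, hχ⟩ := block_nonempty hM hc.2.1
    refine isInduced_of_omega hM (isPBlock_pullSet hM σ hb) hc.2.1 hη hχ fun g => ?_
    rw [omega_iso σ (z := restrEl ((Subgroup.normalizer (DG : Set G)).subgroupOf L)
      (restrEl L (classSum g))) (fun k => by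
        rw [coeff_restrEl, coeff_restrEl, coeff_restrEl]; rfl)]
    refine cong_trans hM (omega_cong_of_isInduced hM hbc (ξ := irrIso σ η) hη hψ
      (central_restrEl L (central_classSum g)) (intEl_restrEl L (intEl_classSum hM g))) ?_
    rw [omega_restrEl_classSum]
    exact hc.2.2 ψ hψ χ hχ g
  refine ⟨b, hbc, hB, ?_⟩
  have hdef := isDefectGroup_iso σ hbD
  have he : (D.subgroupOf ((Subgroup.normalizer (DG : Set G)).subgroupOf L)).map σ.toMonoidHom =
      DG.subgroupOf (Subgroup.normalizer (DG : Set G)) := by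
    ext x
    rw [Subgroup.mem_map_equiv, Subgroup.mem_subgroupOf, Subgroup.mem_subgroupOf]
    exact (Subgroup.mem_map_iff_mem (Subgroup.subtype_injective L)).symm
  rw [he] at hdef
  obtain ⟨B', hB', hB'i⟩ := exists_induced_defect hM ((isPGroup_defect hD).map _)
    (isPBlock_pullSet hM σ hb) hdef
  rwa [isInduced_unique hM hB hB'i]

theorem correspondent_unique (hM : Cfsg.IsPModular p M) [Fact p.Prime]
    (hL : L = Subgroup.normalizer (Q : Set G))
    {c c' : Set (Cfsg.IrrCharacter L)} {B : Set (Cfsg.IrrCharacter G)}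
    (hc : Cfsg.IsInducedBlock M L c B) (hc' : Cfsg.IsInducedBlock M L c' B)
    {D D' : Subgroup L} (hD : Cfsg.IsDefectGroup p M c D) (hDQ : D.map L.subtype ⊓ N = Q)
    (hD' : Cfsg.IsDefectGroup p M c' D') (hDQ' : D'.map L.subtype ⊓ N = Q) : c = c' := by
  -- a normaliser of `D` normalises `Q`
  have hnorm : ∀ E : Subgroup L, E.map L.subtype ⊓ N = Q → ∀ x : G, ∀ E' : Subgroup L,
      E'.map L.subtype ⊓ N = Q →
      (E.map L.subtype).map (MulAut.conj x).toMonoidHom = E'.map L.subtype → x ∈ L := by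
    intro E hE x E' hE' h
    rw [hL]
    refine mem_normalizer_of_conj_mem fun q hq => ?_
    rw [← hE] at hq
    rw [← hE']
    refine ⟨?_, (inferInstance : N.Normal).conj_mem q hq.2 x⟩
    rw [SetLike.mem_coe, ← h]
    exact ⟨q, hq.1, rfl⟩
  have hNLD : ∀ E : Subgroup L, E.map L.subtype ⊓ N = Q →
      Subgroup.normalizer ((E.map L.subtype : Subgroup G) : Set G) ≤ L := by
    intro E hE x hx
    refine hnorm E hE x E hE (le_antisymm ?_ fun y hy => ?_)
    · rintro _ ⟨y, hy, rfl⟩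
      exact (Subgroup.mem_normalizer_iff.1 hx y).1 hy
    · exact ⟨x⁻¹ * y * x, (Subgroup.mem_normalizer_iff.1 hx _).2 (by simpa [mul_assoc] using hy),
        by simp [mul_assoc]⟩
  obtain ⟨-, -, -, hBD⟩ := lift_correspondent hM hc hD (hNLD D hDQ)
  obtain ⟨-, -, -, hBD'⟩ := lift_correspondent hM hc' hD' (hNLD D' hDQ')
  obtain ⟨x, hx⟩ := exists_defectGroup_conj_eq hM hc.2.1 hBD hBD'
  have hxL : x ∈ L := hnorm D hDQ x D' hDQ' hx.symm
  have hDD : D' = D.map (MulAut.conj (⟨x, hxL⟩ : L)).toMonoidHom := by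
    refine Subgroup.map_injective (Subgroup.subtype_injective L) ?_
    rw [hx, Subgroup.map_map, Subgroup.map_map]
    rfl
  have hD'' : Cfsg.IsDefectGroup p M c D' := hDD ▸ defectGroup_conj hM hD _
  obtain ⟨b, hb, hbB, -⟩ := lift_correspondent hM hc hD'' (hNLD D' hDQ')
  obtain ⟨b', hb', hbB', -⟩ := lift_correspondent hM hc' hD' (hNLD D' hDQ')
  have hbb : b = b' := Set.preimage_injective.2
    (irrIso (Subgroup.subgroupOfEquivOfLe (hNLD D' hDQ'))).surjective
    (induced_normalizer_unique hM hBD' hbB hbB')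
  exact isInduced_unique hM hb (hbb ▸ hb')

end Cfsg.Agent.Blocks.HarrisKnorr
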