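import Mathlib
import Cfsg.Prelude.Def_BlockLocal
import Cfsg.Agent.BlockCharsA.PairCorr

/-!
# Induced blocks as Brauer pairs, for abelian defect groups
-/

set_option linter.style.haveILetI false
set_option linter.unusedSectionVars false

namespace Cfsg.Agent.Blocks.InducedPairs

open Cfsg.Agent.Blocks Cfsg.Agent.Characters Cfsg.Agent.BlockCharsA
open Cfsg.Agent.BlockCharsA.BrauerPairs Cfsg.Agent.BlockCharsA.PairStab
open Cfsg.Agent.BlockCharsA.PairMax Cfsg.Agent.BlockCharsA.PairConj
open Cfsg.Agent.BlockCharsA.PairLocal Cfsg.Agent.BlockCharsA.PairFusion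
open Cfsg.Agent.BlockCharsA.PairCorr

universe u

variable {G : Type u} [Group G] [Finite G] {p : ℕ} {M : Ideal Cfsg.AlgInt}
  {B : Set (Cfsg.IrrCharacter G)} {P Q : Subgroup G}
  {c : Set (Cfsg.IrrCharacter (Subgroup.centralizer (P : Set G)))}

theorem le_centralizer_self (hab : ∀ x ∈ P, ∀ y ∈ P, x * y = y * x) :
    P ≤ Subgroup.centralizer (P : Set G) := fun x hx y hy => hab y hy x hx

/-- A block of the centralizer of an abelian defect group inducing `B` is a maximal pair. -/
theorem isMaximal_of_induced (hM : Cfsg.IsPModular p M) (hD : Cfsg.IsDefectGroup p M B P)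
    (hab : ∀ x ∈ P, ∀ y ∈ P, x * y = y * x)
    (hc : Cfsg.IsInducedBlock M (Subgroup.centralizer (P : Set G)) c B) :
    Cfsg.IsMaximalBrauerPair p M B P c := by
  haveI := fact_prime_of_pm hM
  have hP := isPGroup_defect hD
  have hpair : Cfsg.IsBrauerPairOf p M B P c := by
    refine ⟨⟨hP, hc.1⟩, hc.2.1, fun ξ hξ => ?_⟩
    rw [brauerOmega_block]
    obtain ⟨χ, hχ⟩ := block_nonempty hM hc.2.1
    have h := omega_brEl_of_induced hM hP (le_centralizer_self hab)
      (Subgroup.centralizer_le_normalizer _) hc hξ hχ (central_blockIdem B)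
      (intEl_blockIdem hM hc.2.1)
    rw [show brEl P (Subgroup.centralizer (P : Set G)) (blockIdem B) = br P (blockIdem B) from
      el_ext fun x => by rw [brEl, br, coeff_restrEl, coeff_restrEl, cutEl_coeff_mem _ x.2],
      omega_blockIdem_mem hχ] at h
    exact h
  refine ⟨hpair, fun R r hR hle => ?_⟩
  obtain ⟨R', r', hR', hle'⟩ := exists_maximal_above hM hR
  refine (eq_of_le_of_card_le (subpairLE_facts hM hle).1 ?_).symm
  refine (Subgroup.card_le_of_le (subpairLE_facts hM hle').1).trans (le_of_eq ?_)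
  rw [card_defectGroup hM hc.2.1 hD,
    card_defectGroup hM hc.2.1 (isDefectGroup_of_maximal hM hR')]

open scoped Classical in
/-- The induced central character inside `H` is evaluation on a class sum. -/
theorem omega_restr_classSum (H K : Subgroup G) (ξ : K → ℂ) (h : H) :
    omega ξ (restrEl K (inclEl H (classSum h))) = Cfsg.inducedCentralCharIn H K ξ (h : G) := by
  haveI := Fintype.ofFinite K
  haveI := Fintype.ofFinite H
  rw [omega, evalChar_eq_sum, Cfsg.inducedCentralCharIn, finsum_mem_def, finsum_eq_sum_of_fintype,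
    Finset.sum_div]
  refine Finset.sum_congr rfl fun k _ => ?_
  rw [coeff_restrEl, Set.indicator_apply]
  simp only [Set.mem_ofPred_eq]
  by_cases hk : (k : G) ∈ H
  · rw [coeff_inclEl_of_mem _ _ hk, coeff_classSum]
    by_cases hcj : IsConj h ⟨(k : G), hk⟩
    · rw [if_pos hcj, if_pos, one_mul]
      obtain ⟨x, hx⟩ := isConj_iff.1 hcj.symm
      exact ⟨x, congrArg Subtype.val hx⟩
    · rw [if_neg hcj, if_neg, zero_mul, zero_div]
      rintro ⟨x, hx⟩
      exact hcj (IsConj.symm (isConj_iff.2 ⟨x, Subtype.ext hx⟩))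
  · rw [coeff_inclEl_notMem _ _ hk, if_neg, zero_mul, zero_div]
    rintro ⟨x, hx⟩
    refine hk ?_
    rw [show (k : G) = (x : G)⁻¹ * (h : G) * (x : G) by rw [← hx]; group]
    exact H.mul_mem (H.mul_mem (H.inv_mem x.2) h.2) x.2

/-- Induction inside the centralizer of a subgroup is inclusion of pairs. -/
theorem subpairLE_of_inducedIn (hM : Cfsg.IsPModular p M) (hP : IsPGroup p P)
    (hab : ∀ x ∈ P, ∀ y ∈ P, x * y = y * x) (hQP : Q ≤ P)
    {f : Set (Cfsg.IrrCharacter (Subgroup.centralizer (Q : Set G)))}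
    (hf : Cfsg.IsInducedBlockIn M (Subgroup.centralizer (Q : Set G))
      (Subgroup.centralizer (P : Set G)) c f) :
    Cfsg.SubpairLE p M Q f P c := by
  classical
  haveI := Fintype.ofFinite G
  haveI := fact_prime_of_pm hM
  have hPC : P ≤ Subgroup.centralizer (Q : Set G) := fun x hx y hy => hab y (hQP hy) x hx
  refine Relation.ReflTransGen.single ?_
  refine ⟨⟨hP.to_le hQP, hf.2.1⟩, ⟨hP, hf.1⟩, hQP,
    hPC.trans (Subgroup.centralizer_le_normalizer _),
    fun x hx => stabilizes_self f (hPC hx), fun ξ hξ => ?_⟩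
  rw [brauerOmega_elF]
  haveI := Fintype.ofFinite (ConjClasses (Subgroup.centralizer (Q : Set G)))
  obtain ⟨χ, hχ⟩ := block_nonempty hM hf.2.1
  show Cong M (omega (ξ : Subgroup.centralizer (P : Set G) → ℂ)
    (br P (elF (Subgroup.centralizer (Q : Set G)) f))) 1
  refine cong_trans hM ?_ (cong_of_eq hM (omega_blockIdem_mem hχ))
  have hlin : ∀ (a : ℂ) (z : MonoidAlgebra ℂ (Subgroup.centralizer (Q : Set G))),
      restrEl (Subgroup.centralizer (P : Set G)) (inclEl (Subgroup.centralizer (Q : Set G)) (a • z)) =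
        a • restrEl (Subgroup.centralizer (P : Set G))
          (inclEl (Subgroup.centralizer (Q : Set G)) z) := fun a z => el_ext fun k => by
    rw [MonoidAlgebra.coeff_smul, Finsupp.smul_apply, coeff_restrEl, coeff_restrEl]
    by_cases hk : (k : G) ∈ Subgroup.centralizer (Q : Set G)
    · rw [coeff_inclEl_of_mem _ _ hk, coeff_inclEl_of_mem _ _ hk, MonoidAlgebra.coeff_smul,
        Finsupp.smul_apply]
    · rw [coeff_inclEl_notMem _ _ hk, coeff_inclEl_notMem _ _ hk, smul_zero]
  conv => arg 2; rw [br, elF, central_eq_sum (central_blockIdem f), map_sum, restrEl_sum, omega_sum]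
  conv => arg 3; rw [central_eq_sum (central_blockIdem f), omega_sum]
  refine cong_sum hM fun C _ => ?_
  rw [hlin, omega_smul, omega_smul, omega_classSum (irr_isClassFunction χ), omega_restr_classSum]
  exact cong_mul_left hM ((intEl_blockIdem hM hf.2.1) _) (hf.2.2 ξ hξ χ hχ _)

/-- Local blocks below an abelian defect group all have defect group `P`. -/
theorem defect_local_of_abelian (hM : Cfsg.IsPModular p M)
    (hmax : Cfsg.IsMaximalBrauerPair p M B P c) (hab : ∀ x ∈ P, ∀ y ∈ P, x * y = y * x)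
    {f : Set (Cfsg.IrrCharacter (Subgroup.centralizer (Q : Set G)))}
    (hle : Cfsg.SubpairLE p M Q f P c) :
    Cfsg.IsDefectGroup p M f (P.subgroupOf (Subgroup.centralizer (Q : Set G))) := by
  have hQP := (subpairLE_facts hM hle).1
  have hPC : ∀ R : Subgroup G, R ≤ P → P ≤ Subgroup.centralizer (R : Set G) :=
    fun R hR x hx y hy => hab y (hR hy) x hx
  have h : Cfsg.IsDefectGroup p M f ((P ⊓ Subgroup.centralizer (Q : Set G)).subgroupOf
      (Subgroup.centralizer (Q : Set G))) := by
    rw [defect_iff_largest hM le_rfl centralizer_le_stab ((subpairLE_facts hM hle).2 hmax.1.1).2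
      coeff_self hmax hle]
    intro x hx
    rw [cj_centralizer, inf_eq_left.2 (hPC Q hQP)]
    exact Subgroup.card_le_of_le inf_le_left
  rwa [inf_eq_left.2 (hPC Q hQP)] at h

end Cfsg.Agent.Blocks.InducedPairs
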