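import Mathlib
import Cfsg.Prelude.Def_Blocks
import Cfsg.Agent.Lib.Blocks.FirstMain
import Cfsg.Agent.Lib.Blocks.SecondMain

/-!
# The centre of a defect group
-/

set_option linter.style.haveILetI false
set_option linter.unusedSectionVars false

namespace Cfsg.Agent.Blocks

open Cfsg.Agent.Characters

universe u

variable {G : Type u} [Group G] [Finite G] {p : ℕ} {M : Ideal Cfsg.AlgInt}

theorem isPPart_conj {g x : G} (h : Cfsg.IsPPart p g x) (a : G) :
    Cfsg.IsPPart p (a * g * a⁻¹) (a * x * a⁻¹) := by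
  obtain ⟨y, rfl, hc, ⟨k, hk⟩, hy⟩ := h
  refine ⟨a * y * a⁻¹, by group, hc.map (MulAut.conj a).toMonoidHom, ⟨k, ?_⟩, ?_⟩
  · rw [← hk]; exact MulEquiv.orderOf_eq (MulAut.conj a) x
  · rw [show orderOf (a * y * a⁻¹) = orderOf y from MulEquiv.orderOf_eq (MulAut.conj a) y]
    exact hy

theorem isPPart_subgroup {H : Subgroup G} {g x : H} (h : Cfsg.IsPPart p g x) :
    Cfsg.IsPPart p (g : G) (x : G) := by
  obtain ⟨y, rfl, hc, ⟨k, hk⟩, hy⟩ := h
  exact ⟨y, rfl, hc.map H.subtype, ⟨k, by rw [Subgroup.orderOf_coe, hk]⟩,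
    by rwa [Subgroup.orderOf_coe]⟩

theorem ne_zero_of_centralChar (hM : Cfsg.IsPModular p M) {χ : G → ℂ} {g : G}
    (h : ¬ Cfsg.MemLocalIdeal M (Cfsg.centralChar χ g)) : χ g ≠ 0 := fun e => h (by
  rw [Cfsg.centralChar, e, mul_zero, zero_div]; exact ideal_zero hM)

/-- Where the central character is a unit, some conjugate centralises the defect group and has
its `p`-part in the centre of the defect group. -/
theorem exists_conj_center_ppart (hM : Cfsg.IsPModular p M) {B : Set (Cfsg.IrrCharacter G)}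
    (hB : Cfsg.IsPBlock M B) {P : Subgroup G} (hP : Cfsg.IsDefectGroup p M B P) {g : G}
    {χ : Cfsg.IrrCharacter G} (hχ : χ ∈ B)
    (hg : ¬ Cfsg.MemLocalIdeal M (Cfsg.centralChar (χ : G → ℂ) g)) :
    ∃ x : G, IsConj g x ∧ x ∈ Subgroup.centralizer (P : Set G) ∧
      ∀ z : G, Cfsg.IsPPart p x z → z ∈ P ∧ ∀ w ∈ P, z * w = w * z := by
  haveI := fact_prime_of_pm hM
  have hPp := isPGroup_defect hP
  obtain ⟨b, ⟨hb, hbD, hind⟩, -⟩ := existsUnique_correspondent hM hB hP
  haveI := normal_subgroupOf (H := Subgroup.normalizer (P : Set G)) (P := P) le_rfl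
  obtain ⟨ξ, hξ⟩ := block_nonempty hM hb
  have h1 := hg
  rw [← omega_classSum (irr_isClassFunction χ),
    ← ideal_iff_of_cong hM (omega_brEl_of_induced hM hPp Subgroup.le_normalizer le_rfl hind hξ hχ
      (central_classSum g) (intEl_classSum hM g))] at h1
  obtain ⟨n, hn1, hn2⟩ := exists_coeff_omega_notIdeal hM ξ
    (central_brEl le_rfl (central_classSum g))
    (intEl_brEl hM P _ (intEl_classSum hM g)) h1
  rw [brEl, coeff_restrEl] at hn1
  have hnC : (n : G) ∈ Subgroup.centralizer (P : Set G) := by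
    by_contra hne
    rw [cutEl_coeff_notMem _ hne] at hn1
    exact hn1 (ideal_zero hM)
  rw [cutEl_coeff_mem _ hnC, coeff_classSum] at hn1
  have hconj : IsConj g (n : G) := by
    by_contra hne
    rw [if_neg hne] at hn1
    exact hn1 (ideal_zero hM)
  refine ⟨n, hconj, hnC, fun z hz => ?_⟩
  obtain ⟨z', hz'⟩ := exists_ppart hM.1 n
  have hzz : (z' : G) = z := ppart_unique hM.1 (isPPart_subgroup hz') hz
  have hzP : z ∈ P := by
    by_contra hne
    refine ne_zero_of_centralChar hM hn2
      (char_eq_zero_of_notMem_defect hM hb hξ hz' fun D' hD' hzD => hne ?_)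
    obtain ⟨a, rfl⟩ := exists_defectGroup_conj_eq hM hb hbD hD'
    rw [mem_map_conj_iff, Subgroup.mem_subgroupOf] at hzD
    have := (Subgroup.mem_normalizer_iff.1 a.2 _).1 hzD
    rw [← hzz]
    simpa [mul_assoc] using this
  refine ⟨hzP, fun w hw => ?_⟩
  obtain ⟨y, hzy, hzc, -, -⟩ := hz
  have h2 : Commute z (n : G) := by rw [← hzy]; exact (Commute.refl z).mul_right hzc
  -- `z` is a power of `n`
  have h3 : z ∈ Subgroup.zpowers (n : G) := by
    obtain ⟨y', hy', hyc, ⟨k, hk⟩, hyo⟩ := hz'
    rw [← hzz]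
    refine Subgroup.mem_zpowers_iff.2 ?_
    have hco : (orderOf y').Coprime (orderOf z') :=
      hk ▸ (Nat.Coprime.pow_left k (hM.1.coprime_iff_not_dvd.2 hyo)).symm
    obtain ⟨m, hm⟩ := exists_pow_eq_self_of_coprime hco
    refine ⟨(orderOf y' * m : ℕ), ?_⟩
    rw [zpow_natCast, ← SubmonoidClass.coe_pow]
    congr 1
    rw [pow_mul, ← hy', hyc.mul_pow, pow_orderOf_eq_one, mul_one, hm]
  exact (Subgroup.mem_centralizer_iff.1
    ((Subgroup.zpowers_le.2 hnC : _ ≤ Subgroup.centralizer (P : Set G)) h3) w hw).symm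

/-- Conjugates of the centre of the defect group of `b^G` lie in the centre of that of `b`. -/
theorem exists_center_defect_le (hM : Cfsg.IsPModular p M) {H : Subgroup G}
    {b : Set (Cfsg.IrrCharacter H)} {B : Set (Cfsg.IrrCharacter G)}
    (hind : Cfsg.IsInducedBlock M H b B) {D : Subgroup H} (hD : Cfsg.IsDefectGroup p M b D)
    {P : Subgroup G} (hP : Cfsg.IsDefectGroup p M B P) {x : G} (hx : x ∈ P)
    (hxc : ∀ w ∈ P, x * w = w * x) :
    ∃ g : G, g * x * g⁻¹ ∈ D.map H.subtype ∧
      ∀ w ∈ D.map H.subtype, (g * x * g⁻¹) * w = w * (g * x * g⁻¹) := by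
  haveI := fact_prime_of_pm hM
  obtain ⟨y, hy, hs⟩ := isDefectGroup_iff.1 hP
  have hreg := defectClass_regular hM hind.2.1 hy
  have hxy : Commute x y := Subgroup.mem_centralizer_iff.1 (isSylCent_mem hs) x hx
  obtain ⟨k, hk⟩ := (isPGroup_defect hP) ⟨x, hx⟩
  have hk' : x ^ p ^ k = 1 := congrArg Subtype.val hk
  obtain ⟨j, -, hj⟩ := (Nat.dvd_prime_pow hM.1).1 (orderOf_dvd_of_pow_eq_one hk')
  have hw : Cfsg.IsPPart p (x * y) x := ⟨y, rfl, hxy, ⟨j, hj⟩, hreg⟩
  -- the central character is a unit at `x y`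
  obtain ⟨χ, hχ, h0⟩ := exists_height_zero hM hind.2.1
  have hu := value_defectClass_unit hM hind.2.1 hy hχ h0
  rw [← ideal_iff_of_cong hM (char_cong_of_commute hM χ hxy hk' hreg)] at hu
  have hPC : P ≤ Subgroup.centralizer ({x * y} : Set G) := fun w hw' =>
    Subgroup.mem_centralizer_iff.2 (by
      rintro _ rfl
      exact Commute.mul_left (hxc w hw')
        (Subgroup.mem_centralizer_iff.1 (isSylCent_mem hs) w hw').symm)
  have hunit : ¬ Cfsg.MemLocalIdeal M (Cfsg.centralChar (χ : G → ℂ) (x * y)) := by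
    rw [Cfsg.centralChar, mul_div_right_comm, ← charDegree_cast χ]
    have hle : (Subgroup.centralizer ({x * y} : Set G)).index.factorization p ≤
        (Cfsg.charDegree (χ : G → ℂ)).factorization p := by
      have h1 := factorization_index_add (Subgroup.centralizer ({x * y} : Set G)) p
      have h2 := (Nat.factorization_le_iff_dvd Nat.card_pos.ne' Nat.card_pos.ne').2
        (Subgroup.card_dvd_of_le hPC) p
      rw [card_sylCent_eq hs, hM.1.factorization_pow, Finsupp.single_eq_same] at h2
      have h3 := degree_factorization_eq hM hind.2.1 hχ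
      rw [blockDefect_eq hM hind.2.1 hy, h0] at h3
      omega
    have hge : (Cfsg.charDegree (χ : G → ℂ)).factorization p ≤
        (Subgroup.centralizer ({x * y} : Set G)).index.factorization p := by
      by_contra hlt
      exact hu (ideal_value_of_index_lt hM χ _ (not_le.1 hlt))
    rw [ideal_mul_iff hM (ring_natCast_div hM (charDegree_pos χ).ne' hge)
      (irr_value_ring hM χ _)]
    rintro (h | h)
    · exact not_ideal_natCast_div hM
        (Subgroup.centralizer ({x * y} : Set G)).index_ne_zero_of_finite (charDegree_pos χ).ne'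
        (le_antisymm hge hle) h
    · exact hu h
  obtain ⟨ξ, hξ⟩ := block_nonempty hM hind.1
  rw [← omega_classSum (irr_isClassFunction χ),
    ← ideal_iff_of_cong hM (omega_cong_of_isInduced hM hind hξ hχ (central_classSum _)
      (intEl_classSum hM _))] at hunit
  obtain ⟨n, hn1, hn2⟩ := exists_coeff_omega_notIdeal hM ξ
    (central_restrEl H (central_classSum _)) (intEl_restrEl H (intEl_classSum hM _)) hunit
  rw [coeff_restrEl, coeff_classSum] at hn1
  have hconj : IsConj (x * y) (n : G) := by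
    by_contra hne
    rw [if_neg hne] at hn1
    exact hn1 (ideal_zero hM)
  obtain ⟨n', hn', -, hz⟩ := exists_conj_center_ppart hM hind.1 hD hξ hn2
  obtain ⟨a, ha⟩ := isConj_iff.1 hconj
  obtain ⟨c, hc⟩ := isConj_iff.1 hn'
  obtain ⟨z, hz'⟩ := exists_ppart hM.1 n'
  obtain ⟨hzD, hzc⟩ := hz z hz'
  have hz1 : (z : G) = ((c : G) * a) * x * ((c : G) * a)⁻¹ := by
    refine ppart_unique hM.1 (isPPart_subgroup hz') ?_
    have h := isPPart_conj hw ((c : G) * a)
    rwa [show (c : G) * a * (x * y) * ((c : G) * a)⁻¹ = (n' : G) by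
      rw [← hc]; simp [← ha, mul_assoc]] at h
  refine ⟨(c : G) * a, hz1 ▸ Subgroup.mem_map_of_mem H.subtype hzD, ?_⟩
  rintro _ ⟨w, hw, rfl⟩
  rw [← hz1]
  exact congrArg Subtype.val (hzc w hw)

theorem blockDefect_eq_zero_iff (hM : Cfsg.IsPModular p M) {H : Subgroup G}
    {b : Set (Cfsg.IrrCharacter H)} {B : Set (Cfsg.IrrCharacter G)}
    (hind : Cfsg.IsInducedBlock M H b B) :
    Cfsg.blockDefect p b = 0 ↔ Cfsg.blockDefect p B = 0 := by
  haveI := fact_prime_of_pm hM
  obtain ⟨D, hD⟩ := exists_defectGroup hM hind.1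
  constructor
  · intro h0
    obtain ⟨P, hP⟩ := exists_defectGroup hM hind.2.1
    have hD1 : D = ⊥ := Subgroup.eq_bot_of_card_eq D (by
      rw [card_defectGroup hM hind.1 hD, h0, pow_zero])
    have hbot : P = ⊥ := by
      by_contra hne
      haveI : Nontrivial P := (Subgroup.nontrivial_iff_ne_bot P).2 hne
      haveI := (isPGroup_defect hP).center_nontrivial
      obtain ⟨⟨⟨x, hx⟩, hxc⟩, hx1⟩ := exists_ne (1 : Subgroup.center P)
      obtain ⟨g, hg, -⟩ := exists_center_defect_le hM hind hD hP hx fun w hw =>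
        (congrArg Subtype.val (Subgroup.mem_center_iff.1 hxc ⟨w, hw⟩)).symm
      rw [hD1, Subgroup.map_bot, Subgroup.mem_bot] at hg
      exact hx1 (Subtype.ext (Subtype.ext (conj_eq_one_iff.1 hg)))
    have := card_defectGroup hM hind.2.1 hP
    rw [hbot, Subgroup.card_bot] at this
    exact (Nat.pow_eq_one.1 this.symm).resolve_left hM.1.ne_one
  · intro h0
    obtain ⟨E, hE, hDE⟩ := exists_defect_le_of_induced hM hind hD
    have h := Subgroup.card_le_of_le hDE
    rw [Subgroup.card_map_of_injective H.subtype_injective, card_defectGroup hM hind.1 hD,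
      card_defectGroup hM hind.2.1 hE, h0] at h
    exact Nat.le_zero.1 ((Nat.pow_le_pow_iff_right hM.1.one_lt).1 h)

theorem prime_dvd_card_powKer {Z : Type*} [CommGroup Z] [Finite Z] [Nontrivial Z] [Fact p.Prime]
    (hZ : IsPGroup p Z) : p ∣ Nat.card (powMonoidHom (α := Z) p).ker := by
  obtain ⟨z, hz⟩ := exists_ne (1 : Z)
  obtain ⟨k, hk⟩ := IsPGroup.iff_orderOf.1 hZ z
  have hk0 : k ≠ 0 := fun h => hz (orderOf_eq_one_iff.1 (by rw [hk, h, pow_zero]))
  have hmem : z ^ p ^ (k - 1) ∈ (powMonoidHom (α := Z) p).ker := by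
    rw [MonoidHom.mem_ker, powMonoidHom_apply, ← pow_mul, ← pow_succ,
      Nat.sub_add_cancel (Nat.one_le_iff_ne_zero.2 hk0), ← hk, pow_orderOf_eq_one]
  have ho : orderOf (z ^ p ^ (k - 1)) = p :=
    orderOf_eq_prime (by simpa using hmem) fun h => by
      have := orderOf_dvd_of_pow_eq_one h
      rw [hk, Nat.pow_dvd_pow_iff_le_right (Fact.out : p.Prime).one_lt] at this
      omega
  calc p = orderOf (⟨_, hmem⟩ : (powMonoidHom (α := Z) p).ker) := by
        rw [← Subgroup.orderOf_coe]; exact ho.symm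
    _ ∣ _ := orderOf_dvd_natCard _

/-- A block with a character vanishing at all elements of order `p` has defect zero. -/
theorem blockDefect_zero_of_vanish (hM : Cfsg.IsPModular p M) (χ : Cfsg.IrrCharacter G)
    (hvan : ∀ g : G, orderOf g = p → (χ : G → ℂ) g = 0) :
    Cfsg.blockDefect p (Cfsg.blockOf M (χ : G → ℂ)) = 0 := by
  classical
  haveI := fact_prime_of_pm hM
  haveI := Fintype.ofFinite G
  have hB := isPBlock_blockOf M χ
  have hχ := mem_blockOf_self hM χ
  obtain ⟨D, hD⟩ := exists_defectGroup hM hB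
  have hDp := isPGroup_defect hD
  rcases eq_or_ne D ⊥ with rfl | hne
  · have := card_defectGroup hM hB hD
    rw [Subgroup.card_bot] at this
    exact (Nat.pow_eq_one.1 this.symm).resolve_left hM.1.ne_one
  exfalso
  obtain ⟨b, ⟨hb, hbD, hind⟩, -⟩ := existsUnique_correspondent hM hB hD
  haveI := Fintype.ofFinite (Subgroup.normalizer (D : Set G))
  haveI := normal_subgroupOf (H := Subgroup.normalizer (D : Set G)) (P := D) le_rfl
  obtain ⟨y, hy, hys⟩ := isDefectGroup_iff.1 hbD
  obtain ⟨ξ, hξ, h0⟩ := exists_height_zero hM hb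
  let W : MonoidAlgebra ℂ G := ofFun fun g => if orderOf g = p then 1 else 0
  have hWc : IsCentralEl W := central_ofFun fun g h => by
    show (if orderOf (h * g * h⁻¹) = p then (1 : ℂ) else 0) = if orderOf g = p then 1 else 0
    rw [show orderOf (h * g * h⁻¹) = orderOf g from MulEquiv.orderOf_eq (MulAut.conj h) g]
  have hWi : IntEl M W := fun g => by
    simp only [W, coeff_ofFun]
    split
    · exact ring_one hM
    · exact ring_zero hM
  have hW0 : omega (χ : G → ℂ) W = 0 := by
    rw [omega, evalChar_eq_sum, Finset.sum_eq_zero, zero_div]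
    intro g _
    simp only [W, coeff_ofFun]
    split
    · next h => rw [hvan g h, mul_zero]
    · rw [zero_mul]
  have h1 := omega_brEl_of_induced hM hDp Subgroup.le_normalizer le_rfl hind hξ hχ hWc hWi
  rw [hW0, cong_zero_iff] at h1
  set s := Finset.univ.filter fun n : Subgroup.normalizer (D : Set G) =>
    (n : G) ∈ D ∧ (n : G) ∈ Subgroup.centralizer (D : Set G) ∧ orderOf (n : G) = p
  set z : MonoidAlgebra ℂ (Subgroup.normalizer (D : Set G)) :=
    ∑ n ∈ s, MonoidAlgebra.single n 1
  have hsinv : ∀ a n, a * n * a⁻¹ ∈ s ↔ n ∈ s := by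
    intro a n
    simp only [s, Finset.mem_filter, Finset.mem_univ, true_and, Subgroup.coe_mul, Subgroup.coe_inv,
      ← Subgroup.mem_subgroupOf]
    refine and_congr ⟨fun h => ?_, fun h => ?_⟩ (and_congr ⟨fun h => ?_, fun h => ?_⟩ ?_)
    · exact (Subgroup.mem_normalizer_iff.1 a.2 _).2 h
    · exact (Subgroup.mem_normalizer_iff.1 a.2 _).1 h
    · refine Subgroup.mem_centralizer_iff.2 fun d hd => ?_
      have := Subgroup.mem_centralizer_iff.1 h _ ((Subgroup.mem_normalizer_iff.1 a.2 d).1 hd)
      simp only [Subgroup.coe_subtype, Subgroup.coe_mul, Subgroup.coe_inv] at this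
      calc d * (n : G) = (a : G)⁻¹ * (((a : G) * d * (a : G)⁻¹) * ((a : G) * n * (a : G)⁻¹)) * a := by
            group
        _ = (a : G)⁻¹ * (((a : G) * n * (a : G)⁻¹) * ((a : G) * d * (a : G)⁻¹)) * a := by rw [this]
        _ = n * d := by group
    · refine Subgroup.mem_centralizer_iff.2 fun d hd => ?_
      have := Subgroup.mem_centralizer_iff.1 h _
        ((Subgroup.mem_normalizer_iff.1 (Subgroup.inv_mem _ a.2) d).1 hd)
      simp only [inv_inv, Subgroup.coe_subtype] at this
      calc d * ((a : G) * n * (a : G)⁻¹) = (a : G) * ((a : G)⁻¹ * d * a * n) * (a : G)⁻¹ := by group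
        _ = (a : G) * ((n : G) * ((a : G)⁻¹ * d * a)) * (a : G)⁻¹ := by rw [this]
        _ = (a : G) * n * (a : G)⁻¹ * d := by group
    · rw [show orderOf ((a : G) * n * (a : G)⁻¹) = orderOf (n : G) from
        MulEquiv.orderOf_eq (MulAut.conj (a : G)) n]
  have hzc : ∀ a, z.coeff a = if a ∈ s then 1 else 0 := fun a => by
    simp [z, MonoidAlgebra.coeff_sum, Finsupp.single_apply]
  have hzcent : IsCentralEl z := fun n a => by simp only [hzc, hsinv]
  -- away from the centre of `D` everything vanishes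
  have h2 : omega (ξ : Subgroup.normalizer (D : Set G) → ℂ) (brEl D _ W) =
      omega (ξ : Subgroup.normalizer (D : Set G) → ℂ) z := by
    simp only [omega, evalChar_eq_sum]
    refine congrArg (· / _) (Finset.sum_congr rfl fun n _ => ?_)
    rw [hzc, brEl, coeff_restrEl]
    by_cases hc : (n : G) ∈ Subgroup.centralizer (D : Set G)
    · rw [cutEl_coeff_mem _ hc]
      simp only [W, coeff_ofFun]
      by_cases hn : (n : G) ∈ D
      · simp [s, hc, hn]
      · rw [if_neg (show n ∉ s from fun h => hn (Finset.mem_filter.1 h).2.1), zero_mul]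
        split
        · next ho =>
          rw [one_mul]
          refine char_eq_zero_of_notMem_defect hM hb hξ (x := n) ⟨1, mul_one n,
            Commute.one_right n, ⟨1, by rw [← Subgroup.orderOf_coe, ho, pow_one]⟩,
            by rw [orderOf_one]; exact fun h => hM.1.ne_one (Nat.dvd_one.1 h)⟩ fun D' hD' hnD => ?_
          obtain ⟨a, rfl⟩ := exists_defectGroup_conj_eq hM hb hbD hD'
          rw [mem_map_conj_iff, Subgroup.mem_subgroupOf] at hnD
          exact hn (by simpa [mul_assoc] using (Subgroup.mem_normalizer_iff.1 a.2 _).1 hnD)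
        · rw [zero_mul]
    · rw [cutEl_coeff_notMem _ hc,
        if_neg (show n ∉ s from fun h => hc (Finset.mem_filter.1 h).2.2.1)]
  -- on the centre, compare with the defect class
  set K := classSum y
  have hyu := hy.2.2 ξ hξ
  rw [← omega_classSum (irr_isClassFunction ξ)] at hyu
  obtain ⟨t, htr, ht⟩ : ∃ t : ℂ, Cfsg.MemLocalRing M t ∧ ∀ c,
      t * (ξ : Subgroup.normalizer (D : Set G) → ℂ) c =
        ((Subgroup.centralizer ({y} : Set (Subgroup.normalizer (D : Set G)))).index : ℂ) *
          (ξ : Subgroup.normalizer (D : Set G) → ℂ) c /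
          (ξ : Subgroup.normalizer (D : Set G) → ℂ) 1 := by
    refine ⟨((Subgroup.centralizer ({y} : Set (Subgroup.normalizer (D : Set G)))).index : ℂ) /
      (ξ : Subgroup.normalizer (D : Set G) → ℂ) 1, ?_, fun c => (mul_div_right_comm _ _ _).symm⟩
    rw [← charDegree_cast ξ]
    refine ring_natCast_div hM (charDegree_pos ξ).ne' ?_
    have h3 := degree_factorization_eq hM hb hξ
    have h4 := factorization_index_add
      (Subgroup.centralizer ({y} : Set (Subgroup.normalizer (D : Set G)))) p
    rw [blockDefect_eq hM hb hy, h0] at h3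
    omega
  have hprod : Cong M (omega (ξ : Subgroup.normalizer (D : Set G) → ℂ) z *
      omega (ξ : Subgroup.normalizer (D : Set G) → ℂ) K)
      ((s.card : ℂ) * omega (ξ : Subgroup.normalizer (D : Set G) → ℂ) K) := by
    have hS : ∀ c, IsConj y c → ∑ n ∈ s, (ξ : Subgroup.normalizer (D : Set G) → ℂ) (n * c) =
        ∑ n ∈ s, (ξ : Subgroup.normalizer (D : Set G) → ℂ) (n * y) := by
      intro c hc
      obtain ⟨a, rfl⟩ := isConj_iff.1 hc
      refine (Finset.sum_equiv (MulAut.conj a).toEquiv (fun n => (hsinv a n).symm) fun n _ => ?_).symm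
      rw [show (MulAut.conj a).toEquiv n * (a * y * a⁻¹) = a * (n * y) * a⁻¹ by
        simp [MulAut.conj_apply, mul_assoc], irr_isClassFunction ξ]
    have heq : omega (ξ : Subgroup.normalizer (D : Set G) → ℂ) z *
        omega (ξ : Subgroup.normalizer (D : Set G) → ℂ) K =
        ∑ n ∈ s, t * (ξ : Subgroup.normalizer (D : Set G) → ℂ) (n * y) := by
      rw [← omega_mul ξ hzcent]
      simp only [ht, ← Finset.sum_div, ← Finset.mul_sum]
      refine congrArg (· / _) ?_
      have hK : K = ∑ c ∈ Finset.univ.filter (fun c => IsConj y c),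
          MonoidAlgebra.single c (1 : ℂ) := by
        refine el_ext fun c => ?_
        simp [K, coeff_classSum, MonoidAlgebra.coeff_sum, Finsupp.single_apply]
      simp only [hK, z, Finset.sum_mul, Finset.mul_sum, evalChar_sum,
        MonoidAlgebra.single_mul_single, mul_one, evalChar_single, one_mul]
      rw [Finset.sum_congr rfl fun c hc => hS c (Finset.mem_filter.1 hc).2,
        Finset.sum_const, nsmul_eq_mul, ← Finset.mul_sum]
      congr 2
      convert card_filter_isConj y
    have hK' : omega (ξ : Subgroup.normalizer (D : Set G) → ℂ) K =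
        t * (ξ : Subgroup.normalizer (D : Set G) → ℂ) y := by
      rw [omega_classSum (irr_isClassFunction ξ), Cfsg.centralChar, ht]
    rw [heq, hK', ← nsmul_eq_mul, ← Finset.sum_const]
    refine cong_sum hM fun n hn => cong_mul_left hM htr ?_
    obtain ⟨hn1, hn2, hn3⟩ := (Finset.mem_filter.1 hn).2
    have hyC : (y : G) ∈ Subgroup.centralizer (D : Set G) :=
      (mem_centralizer_subgroupOf Subgroup.le_normalizer).1 (isSylCent_mem hys)
    exact char_cong_of_commute hM ξ (k := 1)
      (Subtype.ext (Subgroup.mem_centralizer_iff.1 hyC _ hn1))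
      (by rw [pow_one, ← hn3, Subgroup.orderOf_coe, pow_orderOf_eq_one])
      (defectClass_regular hM hb hy)
  have hcard : ¬ p ∣ s.card := by
    haveI : Nontrivial D := (Subgroup.nontrivial_iff_ne_bot D).2 hne
    haveI := hDp.center_nontrivial
    let hcg : CommGroup (Subgroup.center D) :=
      { (inferInstance : Group (Subgroup.center D)) with
        mul_comm := fun a b => Subtype.ext (Subgroup.mem_center_iff.1 b.2 (a : D)) }
    have hdvd : p ∣ Nat.card (powMonoidHom (α := Subgroup.center D) p).ker :=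
      prime_dvd_card_powKer (hDp.to_subgroup _)
    haveI := Fintype.ofFinite (powMonoidHom (α := Subgroup.center D) p).ker
    have hcardeq : Nat.card (powMonoidHom (α := Subgroup.center D) p).ker = s.card + 1 := by
      rw [Nat.card_eq_fintype_card, ← Finset.card_univ,
        ← Finset.card_erase_add_one (Finset.mem_univ (1 : (powMonoidHom (α := Subgroup.center D) p).ker))]
      congr 1
      refine Finset.card_bij (fun a _ => ⟨((a : Subgroup.center D) : D).1,
        Subgroup.le_normalizer ((a : Subgroup.center D) : D).2⟩) ?_ ?_ ?_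
      · intro a ha
        have ha1 : a ≠ 1 := (Finset.mem_erase.1 ha).1
        refine Finset.mem_filter.2 ⟨Finset.mem_univ _, ((a : Subgroup.center D) : D).2,
          Subgroup.mem_centralizer_iff.2 fun d hd => congrArg Subtype.val
            (Subgroup.mem_center_iff.1 (a : Subgroup.center D).2 ⟨d, hd⟩), ?_⟩
        show orderOf ((((a : Subgroup.center D) : D)) : G) = p
        rw [Subgroup.orderOf_coe, Subgroup.orderOf_coe]
        refine orderOf_eq_prime ?_ fun h => ha1 (Subtype.ext h)
        exact a.2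
      · intro a _ a' _ h
        exact Subtype.ext (Subtype.ext (Subtype.ext (congrArg Subtype.val h :)))
      · intro n hn
        obtain ⟨hn1, hn2, hn3⟩ := (Finset.mem_filter.1 hn).2
        have hc : (⟨n, hn1⟩ : D) ∈ Subgroup.center D := Subgroup.mem_center_iff.2 fun d =>
          Subtype.ext (Subgroup.mem_centralizer_iff.1 hn2 d d.2)
        refine ⟨⟨⟨⟨n, hn1⟩, hc⟩, ?_⟩, Finset.mem_erase.2 ⟨fun h => ?_, Finset.mem_univ _⟩, rfl⟩
        · rw [MonoidHom.mem_ker, powMonoidHom_apply]
          refine Subtype.ext (Subtype.ext ?_)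
          show (n : G) ^ p = 1
          rw [← hn3, pow_orderOf_eq_one]
        · have : (n : G) = 1 :=
            congrArg (fun a : (powMonoidHom (α := Subgroup.center D) p).ker =>
              (((a : Subgroup.center D) : D) : G)) h
          rw [this, orderOf_one] at hn3
          exact hM.1.ne_one hn3.symm
    intro h
    rw [hcardeq, ← Nat.dvd_add_iff_right h] at hdvd
    exact hM.1.ne_one (Nat.dvd_one.1 hdvd)
  rw [h2] at h1
  have h5 := (ideal_iff_of_cong hM hprod).1 (ideal_mul_right hM h1
    (omega_ring hM ξ (central_classSum y) (intEl_classSum hM y)))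
  rw [ideal_mul_iff hM (ring_natCast hM _)
    (omega_ring hM ξ (central_classSum y) (intEl_classSum hM y)), ideal_natCast_iff hM] at h5
  exact h5.elim hcard hyu

end Cfsg.Agent.Blocks
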