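import Mathlib
import Cfsg.Prelude.Def_Blocks
import Cfsg.Agent.Lib.Blocks.FirstMain
import Cfsg.Agent.Lib.Blocks.DefectCenter
import Cfsg.Agent.Lib.Blocks.HarrisKnorr
import Cfsg.Agent.BlockCharsA.Transport

/-!
# Induced blocks from subgroups containing the centralizer of a defect group
-/

set_option linter.style.haveILetI false
set_option linter.unusedSectionVars false

namespace Cfsg.Agent.Blocks.InducedDefined

open Cfsg.Agent.Characters Cfsg.Agent.Blocks Cfsg.Agent.BlockCharsA.Transport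

universe u

variable {G : Type u} [Group G] [Finite G] {p : ℕ} {M : Ideal Cfsg.AlgInt} {H : Subgroup G}
  {D₀ : Subgroup H}

theorem centralizer_coe_iff {x : H} :
    (x : G) ∈ Subgroup.centralizer ((D₀.map H.subtype : Subgroup G) : Set G) ↔
      x ∈ Subgroup.centralizer (D₀ : Set H) := by
  simp only [Subgroup.mem_centralizer_iff, Subgroup.coe_map, Set.forall_mem_image]
  refine ⟨fun h d hd => Subtype.ext (h hd), fun h d hd => congrArg Subtype.val (h d hd)⟩

theorem cutEl_restrEl (z : MonoidAlgebra ℂ G) :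
    cutEl D₀ (restrEl H z) = brEl (D₀.map H.subtype) H z := by
  refine el_ext fun x => ?_
  rw [brEl, coeff_restrEl]
  by_cases hx : x ∈ Subgroup.centralizer (D₀ : Set H)
  · rw [cutEl_coeff_mem _ hx, cutEl_coeff_mem _ (centralizer_coe_iff.2 hx), coeff_restrEl]
  · rw [cutEl_coeff_notMem _ hx, cutEl_coeff_notMem _ fun e => hx (centralizer_coe_iff.1 e)]

theorem exists_local_block (hM : Cfsg.IsPModular p M) {b : Set (Cfsg.IrrCharacter H)}
    (hb : Cfsg.IsPBlock M b) (hD₀ : Cfsg.IsDefectGroup p M b D₀) :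
    ∃ b₀, Cfsg.IsInducedBlock M (Subgroup.normalizer (D₀ : Set H)) b₀ b ∧
      Cfsg.IsDefectGroup p M b₀ (D₀.subgroupOf (Subgroup.normalizer (D₀ : Set H))) := by
  obtain ⟨b₀, ⟨-, hdef, hind⟩, -⟩ := existsUnique_correspondent hM hb hD₀
  exact ⟨b₀, hind, hdef⟩

/-- The block induced from `H` is defined when `H` contains the centralizer of a defect group. -/
theorem defined (hM : Cfsg.IsPModular p M) {b : Set (Cfsg.IrrCharacter H)}
    (hb : Cfsg.IsPBlock M b) (hD₀ : Cfsg.IsDefectGroup p M b D₀)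
    (hC : Subgroup.centralizer ((D₀.map H.subtype : Subgroup G) : Set G) ≤ H) :
    Cfsg.InducedBlockDefined M H b := by
  obtain ⟨b₀, hind₀, -⟩ := exists_local_block hM hb hD₀
  set K := Subgroup.normalizer (D₀ : Set H)
  obtain ⟨ξ, hξ⟩ := block_nonempty hM hb
  obtain ⟨ξ₀, hξ₀⟩ := block_nonempty hM hind₀.1
  set P := D₀.map H.subtype
  have hDp := isPGroup_defect hD₀
  have hPp : IsPGroup p P := hDp.map _
  let φ : MonoidAlgebra ℂ G →ₗ[ℂ] ℂ :=
    { toFun := fun z => omega (ξ : H → ℂ) (restrEl H z)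
      map_add' := fun x y => by rw [restrEl_add, omega_add]
      map_smul' := fun c x => by rw [restrEl_smul, omega_smul]; rfl }
  have hbr : ∀ z, IsCentralEl z → IntEl M z →
      Cong M (φ z) (omega (ξ₀ : K → ℂ) (restrEl K (brEl P H z))) := fun z hz hi => by
    have h := omega_brEl_of_induced hM hDp Subgroup.le_normalizer le_rfl hind₀ hξ₀ hξ
      (central_restrEl H hz) (intEl_restrEl H hi)
    rw [brEl, cutEl_restrEl] at h
    exact cong_symm hM h
  have hcen : ∀ z, IsCentralEl z → IsCentralEl (restrEl K (brEl P H z)) := fun z hz => by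
    rw [← cutEl_restrEl]
    exact central_brEl (P := D₀) le_rfl (central_restrEl H hz)
  have hint : ∀ z, IntEl M z → IntEl M (restrEl K (brEl P H z)) := fun z hz =>
    intEl_restrEl K (intEl_brEl hM P H hz)
  obtain ⟨B, hB, hφ⟩ := exists_block_of_functional hM φ
    (fun z hz hi => omega_ring hM ξ (central_restrEl H hz) (intEl_restrEl H hi))
    (fun z hz hi => omega_ideal hM ξ (central_restrEl H hz) fun h => by simpa using hi (h : G))
    (by
      show Cong M (omega (ξ : H → ℂ) (restrEl H 1)) 1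
      rw [restrEl_one, omega_one (irr_one_ne_zero ξ.2)]
      exact cong_refl hM 1)
    (fun x y hx hxi hy hyi => by
      refine cong_trans hM (hbr _ (central_mul hx hy) (intEl_mul hM hxi hyi)) ?_
      have h1 : CongEl M (restrEl K (brEl P H (x * y)))
          (restrEl K (brEl P H x) * restrEl K (brEl P H y)) := by
        rw [← restrEl_mul K (x := brEl P H x) fun g hg => by
          rw [← cutEl_restrEl]
          exact cutEl_coeff_notMem _ fun e => hg (centralizer_le_normalizer' D₀ e)]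
        exact congEl_restrEl K (congEl_brEl_mul hM hPp hC hx hy hxi hyi)
      refine cong_trans hM (omega_cong hM ξ₀ (hcen _ (central_mul hx hy))
        (central_mul (hcen x hx) (hcen y hy)) h1) ?_
      rw [omega_mul ξ₀ (hcen x hx)]
      exact cong_symm hM (cong_mul hM (hbr x hx hxi) (hbr y hy hyi)
        (omega_ring hM ξ₀ (hcen x hx) (hint x hxi))
        (omega_ring hM ξ₀ (hcen y hy) (hint y hyi))))
  obtain ⟨χ, hχ⟩ := block_nonempty hM hB
  exact ⟨B, isInduced_of_omega hM hb hB hξ hχ fun g => by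
    rw [← omega_classSum (irr_isClassFunction χ)]
    exact hφ χ hχ _ (central_classSum g) (intEl_classSum hM g)⟩

theorem mem_normalizer_map_iff {x : H} :
    x ∈ Subgroup.normalizer (D₀ : Set H) ↔
      (x : G) ∈ Subgroup.normalizer ((D₀.map H.subtype : Subgroup G) : Set G) := by
  constructor
  · intro h
    refine HarrisKnorr.mem_normalizer_of_conj_mem ?_
    rintro _ ⟨d, hd, rfl⟩
    exact ⟨x * d * x⁻¹, (Subgroup.mem_normalizer_iff.1 h d).1 hd, by simp⟩
  · intro h
    refine HarrisKnorr.mem_normalizer_of_conj_mem fun d hd => ?_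
    obtain ⟨e, he, hee⟩ := (Subgroup.mem_normalizer_iff.1 h d).1 ⟨d, hd, rfl⟩
    have : e = x * d * x⁻¹ := Subtype.ext (by simpa using hee)
    exact this ▸ he

/-- `N_H(D₀)`, seen in `H` and seen in `N_G(D₀)`. -/
def localEquiv (H : Subgroup G) (D₀ : Subgroup H) :
    Subgroup.normalizer (D₀ : Set H) ≃*
      H.subgroupOf (Subgroup.normalizer ((D₀.map H.subtype : Subgroup G) : Set G)) where
  toFun k := ⟨⟨((k : H) : G), mem_normalizer_map_iff.1 k.2⟩, (k : H).2⟩
  invFun y := ⟨⟨((y : Subgroup.normalizer ((D₀.map H.subtype : Subgroup G) : Set G)) : G), y.2⟩,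
    mem_normalizer_map_iff.2
      (y : Subgroup.normalizer ((D₀.map H.subtype : Subgroup G) : Set G)).2⟩
  left_inv _ := rfl
  right_inv _ := rfl
  map_mul' _ _ := rfl

/-- Some defect group of the induced block contains `D₀` and has its centre inside `D₀`. -/
theorem exists_defect_center_le (hM : Cfsg.IsPModular p M) : ∀ (n : ℕ) {H : Subgroup G}
    {b : Set (Cfsg.IrrCharacter H)} {B : Set (Cfsg.IrrCharacter G)} {D₀ : Subgroup H},
    Nat.card G - Nat.card D₀ ≤ n → Cfsg.IsInducedBlock M H b B →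
    Cfsg.IsDefectGroup p M b D₀ →
    Subgroup.centralizer ((D₀.map H.subtype : Subgroup G) : Set G) ≤ H →
    ∃ D : Subgroup G, Cfsg.IsDefectGroup p M B D ∧ D₀.map H.subtype ≤ D ∧
      ∀ z ∈ D, (∀ w ∈ D, z * w = w * z) → z ∈ D₀.map H.subtype := by
  haveI := fact_prime_of_pm hM
  intro n
  induction n using Nat.strong_induction_on with
  | _ n ih =>
  intro H b B D₀ hn hind hD₀ hC
  set K := Subgroup.normalizer (D₀ : Set H)
  set P := D₀.map H.subtype with hPdef
  set N := Subgroup.normalizer (P : Set G) with hNdef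
  set H' := H.subgroupOf N
  set σ := localEquiv H D₀ with hσ
  obtain ⟨b₀, hind₀, hdef₀⟩ := exists_local_block hM hind.1 hD₀
  have hDp := isPGroup_defect hD₀
  have hPp : IsPGroup p P := hDp.map _
  have hPN : P ≤ N := Subgroup.le_normalizer
  have hPH : P ≤ H := Subgroup.map_subtype_le D₀
  haveI hQn : (P.subgroupOf N).Normal := normal_subgroupOf le_rfl
  set b₀' := pullSet σ b₀
  have hb₀' : Cfsg.IsPBlock M b₀' := isPBlock_pullSet hM σ hind₀.1
  have hdef' := HarrisKnorr.isDefectGroup_iso σ hdef₀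
  have hPp' := isPGroup_subgroupOf hPp hPN
  have hPH' : P.subgroupOf N ≤ H' := fun x hx => hPH hx
  have hCH' : Subgroup.centralizer ((P.subgroupOf N : Subgroup N) : Set N) ≤ H' :=
    fun x hx => hC ((mem_centralizer_subgroupOf hPN).1 hx)
  have hHN' : H' ≤ Subgroup.normalizer ((P.subgroupOf N : Subgroup N) : Set N) := by
    rw [Subgroup.normalizer_eq_top]
    exact le_top
  obtain ⟨b₁, hind₁⟩ := inducedBlockDefined_of_brauer hM hPp' hPH' hCH' hHN' hb₀'
  -- `b₁` induces `B`
  obtain ⟨ξ, hξ⟩ := block_nonempty hM hind.1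
  obtain ⟨ξ₀, hξ₀⟩ := block_nonempty hM hind₀.1
  obtain ⟨ξ₁, hξ₁⟩ := block_nonempty hM hind₁.2.1
  obtain ⟨χ, hχ⟩ := block_nonempty hM hind.2.1
  have hind₁B : Cfsg.IsInducedBlock M N b₁ B := by
    refine isInduced_of_omega hM hind₁.2.1 hind.2.1 hξ₁ hχ fun g => ?_
    have hcs := central_classSum g
    have his := intEl_classSum hM g
    refine cong_trans hM (omega_restr_cong_brEl hM hPp hPN le_rfl ξ₁ hcs his) ?_
    refine cong_trans hM (cong_symm hM (omega_brEl_of_induced hM hPp' hPH' hHN' hind₁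
      (symm_mem_pullSet hξ₀) hξ₁ (central_brEl (P := P) (H := N) le_rfl hcs)
      (intEl_brEl hM P N his))) ?_
    rw [omega_iso σ (z := brEl D₀ K (restrEl H (classSum g))) ?_]
    · rw [show (((irrIso σ).symm ξ₀ : Cfsg.IrrCharacter H') : H' → ℂ) ∘ σ = (ξ₀ : K → ℂ) from
        funext fun k => congrArg (ξ₀ : K → ℂ) (σ.symm_apply_apply k),
        ← omega_classSum (irr_isClassFunction χ)]
      exact cong_trans hM (omega_brEl_of_induced hM hDp Subgroup.le_normalizer le_rfl hind₀ hξ₀ hξ
        (central_restrEl H hcs) (intEl_restrEl H his))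
        (omega_cong_of_isInduced hM hind hξ hχ hcs his)
    · intro k
      show (restrEl H' (cutEl (P.subgroupOf N) (restrEl N (cutEl P (classSum g))))).coeff (σ k) =
        (restrEl K (cutEl D₀ (restrEl H (classSum g)))).coeff k
      rw [coeff_restrEl, coeff_restrEl]
      by_cases hk : ((k : H) : G) ∈ Subgroup.centralizer (P : Set G)
      · have hk' : ((σ k : N) : G) ∈ Subgroup.centralizer (P : Set G) := hk
        rw [cutEl_coeff_mem _ ((mem_centralizer_subgroupOf hPN).2 hk'), coeff_restrEl,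
          cutEl_coeff_mem _ hk', cutEl_coeff_mem _ (centralizer_coe_iff.1 hk), coeff_restrEl]
        rfl
      · have hk' : ((σ k : N) : G) ∉ Subgroup.centralizer (P : Set G) := hk
        rw [cutEl_coeff_notMem _ fun e => hk (centralizer_coe_iff.2 e),
          cutEl_coeff_notMem _ fun e => hk' ((mem_centralizer_subgroupOf hPN).1 e)]
  obtain ⟨D₁, hD₁⟩ := exists_defectGroup hM hind₁.2.1
  have hle₁ : P.subgroupOf N ≤ D₁ := normal_le_defect hM hPp' hind₁.2.1 hD₁
  rcases eq_or_lt_of_le hle₁ with heq | hlt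
  · subst heq
    obtain ⟨B', hB', hind'⟩ := exists_induced_defect hM hPp hind₁.2.1 hD₁
    rw [isInduced_unique hM hind₁B hind']
    exact ⟨P, hB', le_rfl, fun z hz _ => hz⟩
  · have hcard : Nat.card D₀ < Nat.card D₁ := by
      rw [← Subgroup.card_map_of_injective (f := H.subtype) H.subtype_injective, ← hPdef,
        ← Nat.card_congr (Subgroup.subgroupOfEquivOfLe hPN).toEquiv]
      by_contra hle
      exact hlt.ne (eq_of_le_of_card_le hle₁ (not_lt.1 hle))
    have hG : Nat.card D₁ ≤ Nat.card G :=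
      (Subgroup.card_le_card_group D₁).trans (Subgroup.card_le_card_group N)
    have hPD₁ : P ≤ D₁.map N.subtype := fun x hx => ⟨⟨x, hPN hx⟩, hle₁ hx, rfl⟩
    obtain ⟨D, hD, hD₁D, hcen⟩ := ih (Nat.card G - Nat.card D₁) (by omega) le_rfl hind₁B hD₁
      (le_trans (Subgroup.centralizer_le hPD₁) (centralizer_le_normalizer' P))
    refine ⟨D, hD, hPD₁.trans hD₁D, fun z hz hzc => ?_⟩
    obtain ⟨d, hd, rfl⟩ := hcen z hz hzc
    have hdc : ∀ w ∈ D₁, d * w = w * d := fun w hw =>
      Subtype.ext (hzc (w : G) (hD₁D ⟨w, hw, rfl⟩))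
    obtain ⟨g, hg, -⟩ := exists_center_defect_le hM hind₁ hdef' hD₁ hd hdc
    have hgP : g * d * g⁻¹ ∈ P.subgroupOf N := by
      obtain ⟨_, ⟨k, hk, rfl⟩, he⟩ := hg
      rw [← he]
      exact ⟨(k : H), hk, by rfl⟩
    have := hQn.conj_mem _ hgP g⁻¹
    simpa [mul_assoc, Subgroup.mem_subgroupOf] using this

end Cfsg.Agent.Blocks.InducedDefined
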