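import Mathlib
import Cfsg.Agent.BlockCharsA.RankOne
import Cfsg.Agent.BlockCharsA.Subsection

/-!
# A major subsection of rank one bounds the number of characters

Let `y` be a `p`-element and `b` a block of its centralizer with one Brauer character, inducing
`B` and of the same defect `d`.  Then every member of `B` has a nonzero generalized decomposition
number at `(y, b)`; their squared norms sum to `p ^ d`, so `B` has at most `p ^ d` members.
-/

set_option linter.style.haveILetI false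
set_option linter.unusedSectionVars false

namespace Cfsg.Agent.Blocks.MajorSubsection

open Cfsg.Agent.Blocks Cfsg.Agent.Characters Cfsg.Agent.BlockCharsA
open Cfsg.Agent.BlockCharsA.RegularPart
open Polynomial
open scoped ComplexConjugate

universe u

variable {G : Type u} [Group G] [Finite G] {p : ℕ} {M : Ideal Cfsg.AlgInt}

/-- Regular elements of the centralizer giving conjugate products with `y` are conjugate there. -/
theorem isConj_of_section (hp : p.Prime) {y : G} (hy : ∃ k : ℕ, orderOf y = p ^ k)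
    {s s' : Subgroup.centralizer ({y} : Set G)} (hs : ¬ p ∣ orderOf s) (hs' : ¬ p ∣ orderOf s')
    (h : IsConj (y * (s : G)) (y * (s' : G))) : IsConj s s' := by
  obtain ⟨x, hx⟩ := isConj_iff.1 h
  have h1 : Cfsg.IsPPart p (y * (s' : G)) y :=
    ⟨s', rfl, ZStar.Principal.commute_coe y s', hy, by rwa [Subgroup.orderOf_coe]⟩
  have h2 : Cfsg.IsPPart p (y * (s' : G)) (x * y * x⁻¹) := by
    refine ⟨x * s * x⁻¹, by rw [← hx]; group, (ZStar.Principal.commute_coe y s).map (MulAut.conj x),
      ?_, ?_⟩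
    · rwa [orderOf_conj']
    · rwa [orderOf_conj', Subgroup.orderOf_coe]
  have e := ppart_unique hp h2 h1
  have hxC : x ∈ Subgroup.centralizer ({y} : Set G) :=
    Subgroup.mem_centralizer_singleton_iff.2 (by
      conv_rhs => rw [← e]
      group)
  refine isConj_iff.2 ⟨⟨x, hxC⟩, Subtype.ext ?_⟩
  simp only [Subgroup.coe_mul, Subgroup.coe_inv]
  refine mul_left_cancel (a := y) ?_
  rw [← hx]
  nth_rw 1 [← e]
  group

open scoped Classical in
/-- The central element carrying a class function on the section of `y`. -/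
noncomputable def secEl (p : ℕ) (y : G) (φ : Subgroup.centralizer ({y} : Set G) → ℂ) :
    MonoidAlgebra ℂ G :=
  ofFun fun g =>
    if h : ∃ s : Subgroup.centralizer ({y} : Set G), ¬ p ∣ orderOf s ∧ IsConj g (y * (s : G))
      then conj (φ h.choose) else 0

variable {y : G} {φ : Subgroup.centralizer ({y} : Set G) → ℂ}

theorem coeff_secEl (hp : p.Prime) (hy : ∃ k : ℕ, orderOf y = p ^ k)
    (hφ : Cfsg.IsClassFunction _ φ) {g : G} {s : Subgroup.centralizer ({y} : Set G)}
    (hs : ¬ p ∣ orderOf s) (hg : IsConj g (y * (s : G))) :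
    (secEl p y φ).coeff g = conj (φ s) := by
  have h : ∃ t : Subgroup.centralizer ({y} : Set G), ¬ p ∣ orderOf t ∧ IsConj g (y * (t : G)) :=
    ⟨s, hs, hg⟩
  rw [secEl, coeff_ofFun, dif_pos h]
  obtain ⟨a, ha⟩ :=
    isConj_iff.1 (isConj_of_section hp hy h.choose_spec.1 hs (h.choose_spec.2.symm.trans hg))
  rw [← ha, hφ h.choose a]

theorem central_secEl (hp : p.Prime) (hy : ∃ k : ℕ, orderOf y = p ^ k)
    (hφ : Cfsg.IsClassFunction _ φ) : IsCentralEl (secEl p y φ) := by
  classical
  intro g h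
  have hc : IsConj (h * g * h⁻¹) g := (isConj_iff.2 ⟨h, rfl⟩ : IsConj g (h * g * h⁻¹)).symm
  by_cases hg : ∃ s : Subgroup.centralizer ({y} : Set G), ¬ p ∣ orderOf s ∧ IsConj g (y * (s : G))
  · obtain ⟨s, hs, hgs⟩ := hg
    rw [coeff_secEl hp hy hφ hs hgs, coeff_secEl hp hy hφ hs (hc.trans hgs)]
  · rw [secEl, coeff_ofFun, coeff_ofFun, dif_neg hg, dif_neg]
    exact fun ⟨s, hs, h'⟩ => hg ⟨s, hs, hc.symm.trans h'⟩

theorem intEl_secEl (hM : Cfsg.IsPModular p M) (hφ : ∀ s, IsIntegral ℤ (φ s)) :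
    IntEl M (secEl p y φ) := fun g => by
  rw [secEl, coeff_ofFun]
  split
  · exact ring_of_isIntegral hM ((hφ _).map (starRingEnd ℂ).toIntAlgHom)
  · exact ring_zero hM

theorem evalChar_secEl [Fintype G] (hp : p.Prime) (hy : ∃ k : ℕ, orderOf y = p ^ k)
    (hφ : Cfsg.IsClassFunction _ φ) {χ : G → ℂ} (hχ : Cfsg.IsClassFunction G χ) :
    evalChar χ (secEl p y φ) = ((Subgroup.centralizer ({y} : Set G)).index : ℂ) *
      regSum p (ZStar.Principal.shift y χ) φ := by
  classical
  haveI := Fintype.ofFinite (Subgroup.centralizer ({y} : Set G))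
  set f : G → ℂ := fun g => (secEl p y φ).coeff g * χ g
  have hf : ∀ g a : G, f (a * g * a⁻¹) = f g := fun g a => by
    simp only [f]
    rw [central_secEl hp hy hφ g a, hχ g a]
  set X := Finset.univ.filter fun x : G => IsConj y x with hX
  have hXo : ∀ x ∈ X, ∃ k : ℕ, orderOf x = p ^ k := fun x hx => by
    obtain ⟨a, rfl⟩ := isConj_iff.1 (Finset.mem_filter.1 hx).2
    rwa [orderOf_conj']
  have h0 : ∀ g : G, g ∉ Finset.univ.filter (fun g => ∃ x ∈ X, Cfsg.IsPPart p g x) → f g = 0 := by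
    intro g hg
    simp only [f]
    rw [secEl, coeff_ofFun, dif_neg, zero_mul]
    rintro ⟨s, hs, hgs⟩
    refine hg (Finset.mem_filter.2 ⟨Finset.mem_univ _, ?_⟩)
    obtain ⟨a, rfl⟩ := isConj_iff.1 hgs.symm
    refine ⟨a * y * a⁻¹, Finset.mem_filter.2 ⟨Finset.mem_univ _, isConj_iff.2 ⟨a, rfl⟩⟩,
      a * s * a⁻¹, by group, (ZStar.Principal.commute_coe y s).map (MulAut.conj a), ?_, ?_⟩
    · rwa [orderOf_conj']
    · rwa [orderOf_conj', Subgroup.orderOf_coe]
  set F : G → ℂ := fun x =>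
    ∑ s ∈ Finset.univ.filter (fun s => Commute x s ∧ ¬ p ∣ orderOf s), f (x * s)
  have hFy : F y = regSum p (ZStar.Principal.shift y χ) φ := by
    simp only [F]
    rw [ZStar.Sections.sum_commute_eq_regSum p y f, regSum_eq_sum, regSum_eq_sum]
    refine Finset.sum_congr rfl fun c _ => ?_
    split
    · next hc =>
      rw [map_one, mul_one]
      simp only [ZStar.Principal.shift, f]
      rw [coeff_secEl hp hy hφ hc (IsConj.refl _), mul_comm]
    · rfl
  have hFx : ∀ x ∈ X, F x = F y := fun x hx => by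
    obtain ⟨a, rfl⟩ := isConj_iff.1 (Finset.mem_filter.1 hx).2
    refine (Finset.sum_equiv (MulAut.conj a).toEquiv (fun s => ?_) fun s _ => ?_).symm
    · simp only [Finset.mem_filter, Finset.mem_univ, true_and, MulEquiv.toEquiv_eq_coe,
        MulEquiv.coe_toEquiv]
      rw [(MulAut.conj a).orderOf_eq s]
      exact and_congr_left fun _ => by
        rw [show a * y * a⁻¹ = MulAut.conj a y from rfl, Commute, SemiconjBy, Commute, SemiconjBy,
          ← map_mul, ← map_mul, (MulAut.conj a).injective.eq_iff]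
    · simp only [MulEquiv.toEquiv_eq_coe, MulEquiv.coe_toEquiv, MulAut.conj_apply]
      rw [show a * y * a⁻¹ * (a * s * a⁻¹) = a * (y * s) * a⁻¹ by group, hf]
  rw [evalChar_eq_sum, ← Finset.sum_subset (Finset.subset_univ _) fun g _ hg => h0 g hg,
    ZStar.Sections.sum_section hp X hXo f, Finset.sum_congr rfl (g := fun _ => F y) hFx,
    Finset.sum_const, nsmul_eq_mul, hX, card_filter_isConj, hFy]

/-- The column of generalized decomposition numbers of a major subsection of rank one: sums of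
roots of unity, none of them zero, with squared norms adding up to `p ^ d`. -/
theorem exists_column (hM : Cfsg.IsPModular p M) {B : Set (Cfsg.IrrCharacter G)}
    {y : G} {b : Set (Cfsg.IrrCharacter (Subgroup.centralizer ({y} : Set G)))}
    (hind : Cfsg.IsInducedBlock M (Subgroup.centralizer ({y} : Set G)) b B)
    (hdef : Cfsg.blockDefect p b = Cfsg.blockDefect p B) (hl : Cfsg.blockRank p b = 1)
    {k : ℕ} (hk : orderOf y = p ^ k) {ζ : ℂ} (hζ : IsPrimitiveRoot ζ (p ^ k)) :
    ∃ (s : Finset (Cfsg.IrrCharacter (Subgroup.centralizer ({y} : Set G))))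
      (w : Cfsg.IrrCharacter G → Cfsg.IrrCharacter (Subgroup.centralizer ({y} : Set G)) → ℕ)
      (e : Cfsg.IrrCharacter (Subgroup.centralizer ({y} : Set G)) → ℕ),
      (∀ χ ∈ B, ∑ η ∈ s, (w χ η : ℂ) * ζ ^ e η ≠ 0) ∧
      ∑ᶠ χ ∈ B, (∑ η ∈ s, (w χ η : ℂ) * ζ ^ e η) * conj (∑ η ∈ s, (w χ η : ℂ) * ζ ^ e η) =
        ((p ^ Cfsg.blockDefect p B : ℕ) : ℂ) := by
  have hy : ∃ k : ℕ, orderOf y = p ^ k := ⟨k, hk⟩
  classical
  haveI := fact_prime_of_pm hM
  haveI := Fintype.ofFinite G
  haveI := Fintype.ofFinite (Cfsg.IrrCharacter G)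
  haveI := Fintype.ofFinite (Subgroup.centralizer ({y} : Set G))
  haveI := Fintype.ofFinite (Cfsg.IrrCharacter (Subgroup.centralizer ({y} : Set G)))
  set q := p ^ k with hqdef
  have hq0 : q ≠ 0 := pow_ne_zero _ hM.1.ne_zero
  have hyq : y ^ q = 1 := by rw [← hk, pow_orderOf_eq_one]
  haveI : NeZero q := ⟨hq0⟩
  have hex : ∀ η : Cfsg.IrrCharacter (Subgroup.centralizer ({y} : Set G)), ∃ i : ℕ, ζ ^ i = Subsection.eps y η := fun η => by
    obtain ⟨i, -, hi⟩ := hζ.eq_pow_of_pow_eq_one (Subsection.eps_pow hyq η)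
    exact ⟨i, hi⟩
  choose e he using hex
  have hn' : ∀ (χ : Cfsg.IrrCharacter G) (η : Cfsg.IrrCharacter (Subgroup.centralizer ({y} : Set G))), ∃ n : ℕ,
      Cfsg.classInner (fun c : (Subgroup.centralizer ({y} : Set G)) => (χ : G → ℂ) c) (η : (Subgroup.centralizer ({y} : Set G)) → ℂ) = (n : ℂ) :=
    fun χ η => classInner_char_nat (isCharacter_restrict _ (irr_isCharacter χ)) (irr_isCharacter η)
  choose n hn using hn'
  obtain ⟨φ₀, d, ⟨m, hm⟩, hd, hsum⟩ := RankOne.exists_decomposition hM hind.1 hl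
  set bs := Finset.univ.filter (· ∈ b) with hbs
  set Bs := Finset.univ.filter (· ∈ B) with hBs
  set φ : (Subgroup.centralizer ({y} : Set G)) → ℂ := fun s => ∑ η ∈ bs, (m η : ℂ) * (η : (Subgroup.centralizer ({y} : Set G)) → ℂ) s with hφdef
  have hmem : ∀ {η : Cfsg.IrrCharacter (Subgroup.centralizer ({y} : Set G))}, η ∈ bs → η ∈ b := fun h => (Finset.mem_filter.1 h).2
  have hφeq : ∀ s : (Subgroup.centralizer ({y} : Set G)), ¬ p ∣ orderOf s → φ s = φ₀ s := fun s hs => by
    rw [hm s hs, ZStar.Principal.finsum_mem_eq_sum_filter]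
  have hdφ : ∀ η ∈ bs, ∀ s : (Subgroup.centralizer ({y} : Set G)), ¬ p ∣ orderOf s → (η : (Subgroup.centralizer ({y} : Set G)) → ℂ) s = (d η : ℂ) * φ s :=
    fun η hη s hs => by rw [hφeq s hs, hd η (hmem hη) s hs]
  have hφcl : Cfsg.IsClassFunction (Subgroup.centralizer ({y} : Set G)) φ := fun g h => by
    simp only [φ]
    exact Finset.sum_congr rfl fun η _ => by rw [irr_isClassFunction η g h]
  have hφint : ∀ s, IsIntegral ℤ (φ s) := fun s => IsIntegral.sum _ fun η _ =>
    (by simpa using isIntegral_algebraMap (R := ℤ) (A := ℂ) (x := m η) :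
      IsIntegral ℤ (m η : ℂ)).mul (char_value_isIntegral (irr_isCharacter η) s)
  have hone : ¬ p ∣ orderOf (1 : (Subgroup.centralizer ({y} : Set G))) := by simp [hM.1.ne_one]
  have hφ1 : φ 1 ≠ 0 := by
    obtain ⟨η, hη⟩ := block_nonempty hM hind.1
    intro h
    exact irr_one_ne_zero η.2 (by rw [hdφ η (by simp [bs, hη]) 1 hone, h, mul_zero])
  set D := Cfsg.blockDefect p b with hD
  -- the norm of `φ`
  set R := regSum p φ φ with hR
  have hRv : R = (Nat.card (Subgroup.centralizer ({y} : Set G)) : ℂ) / ((p ^ D : ℕ) : ℂ) := by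
    have h1 := Rank.blockRank_eq_trace hM (intEl_blockIdem hM hind.1)
    rw [hl, Nat.cast_one] at h1
    rw [eq_div_iff (natCast_p_pow_ne_zero hM D), hR, regSum_eq_sum, Finset.sum_mul]
    refine (mul_right_cancel₀ (b := (Nat.card (Subgroup.centralizer ({y} : Set G)) : ℂ)⁻¹) (inv_ne_zero natCard_ne_zero) ?_)
    rw [mul_inv_cancel₀ natCard_ne_zero, h1, Finset.sum_mul]
    refine Finset.sum_congr rfl fun s _ => ?_
    by_cases hs : p ∣ orderOf s
    · simp [hs]
    · simp only [hs, not_false_eq_true, if_true, blockKernelAt_eq_sum, ← Finset.sum_filter]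
      rw [Finset.sum_congr rfl (g := fun η => ((d η ^ 2 : ℕ) : ℂ) * (φ s * conj (φ s)))
        fun η hη => by rw [hdφ η hη s hs, map_mul, Complex.conj_natCast]; push_cast; ring,
        ← Finset.sum_mul, ← Nat.cast_sum]
      rw [ZStar.Principal.finsum_mem_eq_sum_filter] at hsum
      rw [hsum]
      ring
  -- the decomposition numbers
  set a : Cfsg.IrrCharacter G → ℂ := fun χ => ∑ η ∈ bs, (n χ η : ℂ) * (d η : ℂ) * ζ ^ e η
    with ha
  have hpart : ∀ (χ : Cfsg.IrrCharacter G) (s : Subgroup.centralizer ({y} : Set G)), ¬ p ∣ orderOf s →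
      Cfsg.blockPart b (ZStar.Principal.shift y (χ : G → ℂ)) s = a χ * φ s := by
    intro χ s hs
    rw [ZStar.Principal.blockPart_eq_sum_mul, ZStar.Principal.finsum_mem_eq_sum_filter,
      Finset.sum_mul]
    refine Finset.sum_congr (by ext; simp [bs]) fun η hη => ?_
    rw [Subsection.classInner_shift hq0 hyq, hn, he, hdφ η (by simpa [bs] using hη) s hs]
    ring
  have hreg : ∀ χ : Cfsg.IrrCharacter G,
      regSum p (ZStar.Principal.shift y (χ : G → ℂ)) φ = a χ * R := by
    intro χ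
    set c : Cfsg.IrrCharacter (Subgroup.centralizer ({y} : Set G)) → ℂ := fun η =>
      Cfsg.classInner (ZStar.Principal.shift y (χ : G → ℂ)) (η : (Subgroup.centralizer ({y} : Set G)) → ℂ)
    have hexp := classFun_eq_sum (ZStar.Principal.isClassFunction_shift y (irr_isClassFunction χ))
    have h1 : regSum p (ZStar.Principal.shift y (χ : G → ℂ)) φ =
        ∑ η : Cfsg.IrrCharacter (Subgroup.centralizer ({y} : Set G)), c η * regSum p (η : (Subgroup.centralizer ({y} : Set G)) → ℂ) φ := by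
      rw [regSum_eq_sum]
      simp only [regSum_eq_sum, Finset.mul_sum]
      rw [Finset.sum_comm]
      refine Finset.sum_congr rfl fun s _ => ?_
      by_cases hs : p ∣ orderOf s
      · simp [hs]
      · simp only [hs, not_false_eq_true, if_true]
        conv_lhs => rw [hexp]
        rw [Finset.sum_apply, Finset.sum_mul]
        exact Finset.sum_congr rfl fun η _ => by simp [c, mul_assoc]
    rw [h1, ← Finset.sum_subset (Finset.subset_univ bs) fun η _ hη => ?_, Finset.sum_mul]
    · refine Finset.sum_congr rfl fun η hη => ?_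
      simp only [c]
      rw [Subsection.classInner_shift hq0 hyq, hn, he,
        show regSum p (η : (Subgroup.centralizer ({y} : Set G)) → ℂ) φ = (d η : ℂ) * R from ?_]
      · ring
      · rw [hR, regSum_eq_sum, regSum_eq_sum, Finset.mul_sum]
        refine Finset.sum_congr rfl fun s _ => ?_
        by_cases hs : p ∣ orderOf s
        · simp [hs]
        · simp only [hs, not_false_eq_true, if_true]
          rw [hdφ η hη s hs]; ring
    · refine mul_eq_zero_of_right _ ?_
      rw [regSum_eq_sum]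
      have hz : ∀ θ ∈ bs, regSum p (η : (Subgroup.centralizer ({y} : Set G)) → ℂ) (θ : (Subgroup.centralizer ({y} : Set G)) → ℂ) = 0 := fun θ hθ =>
        regSum_eq_zero_of_not_sameBlock hM fun hsame => hη (by
          simp only [bs, Finset.mem_filter, Finset.mem_univ, true_and]
          exact mem_of_sameBlock hM hind.1 (hmem hθ) (sameBlock_symm hM hsame))
      calc _ = ∑ θ ∈ bs, (m θ : ℂ) * regSum p (η : (Subgroup.centralizer ({y} : Set G)) → ℂ) (θ : (Subgroup.centralizer ({y} : Set G)) → ℂ) := by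
            simp only [regSum_eq_sum, Finset.mul_sum]
            rw [Finset.sum_comm]
            refine Finset.sum_congr rfl fun s _ => ?_
            by_cases hs : p ∣ orderOf s
            · simp [hs]
            · simp only [hs, not_false_eq_true, if_true, φ, map_sum, map_mul, map_intCast,
                Finset.mul_sum]
              exact Finset.sum_congr rfl fun θ _ => by ring
        _ = 0 := Finset.sum_eq_zero fun θ hθ => by rw [hz θ hθ, mul_zero]
  -- the central element
  set z := secEl p y φ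
  have hz := central_secEl hM.1 hy hφcl
  have hzi : IntEl M z := intEl_secEl hM hφint
  have hω : ∀ χ : Cfsg.IrrCharacter G, omega (χ : G → ℂ) z =
      (Nat.card G : ℂ) / (((Cfsg.charDegree (χ : G → ℂ)) * p ^ D : ℕ) : ℂ) * a χ := by
    intro χ
    rw [omega, evalChar_secEl hM.1 hy hφcl (irr_isClassFunction χ), hreg, hRv,
      ← Subgroup.card_mul_index (Subgroup.centralizer ({y} : Set G)), ← charDegree_cast χ]
    have h1 := natCast_p_pow_ne_zero hM D
    have h2 : ((Cfsg.charDegree (χ : G → ℂ)) : ℂ) ≠ 0 := Nat.cast_ne_zero.2 (charDegree_pos χ).ne'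
    push_cast at h1 ⊢
    field_simp
  -- the unit at height zero
  obtain ⟨ψ, hψ, hψ0⟩ := exists_height_zero hM hind.2.1
  obtain ⟨ξ, hξ⟩ := block_nonempty hM hind.1
  set A := ∑ η ∈ bs, n ψ η * d η with hA
  have hApd : ¬ p ∣ A := by
    intro hdvd
    refine Subsection.sum_mult_ratio_unit hM hind hψ hψ0 hξ (n ψ) (hn ψ) ?_
    set T := ((p ^ (Nat.card (Subgroup.centralizer ({y} : Set G))).factorization p : ℕ) : ℂ) / (Nat.card (Subgroup.centralizer ({y} : Set G)) : ℂ) *
      omega (ξ : (Subgroup.centralizer ({y} : Set G)) → ℂ) (regEl p φ)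
    have hTr : Cfsg.MemLocalRing M T := by
      refine ring_mul hM (card_unit hM) (omega_ring hM ξ (central_regEl hφcl) fun x => ?_)
      rw [coeff_regEl]
      split
      · exact ring_zero hM
      · exact ring_of_isIntegral hM (hφint _)
    have e1 : ∑ η ∈ bs, (n ψ η : ℂ) * ratio p (η : (Subgroup.centralizer ({y} : Set G)) → ℂ) (ξ : (Subgroup.centralizer ({y} : Set G)) → ℂ) = (A : ℂ) * T := by
      rw [hA, Nat.cast_sum, Finset.sum_mul]
      refine Finset.sum_congr rfl fun η hη => ?_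
      have : regEl p (η : (Subgroup.centralizer ({y} : Set G)) → ℂ) = (d η : ℂ) • regEl p φ := el_ext fun x => by
        rw [MonoidAlgebra.coeff_smul, Finsupp.smul_apply, coeff_regEl, coeff_regEl]
        split
        · simp
        · next hx => rw [hdφ η hη x⁻¹ (by rwa [orderOf_inv]), smul_eq_mul]
      rw [ratio, this, omega_smul]
      simp only [T]
      push_cast
      ring
    rw [e1]
    exact ideal_mul_right hM ((ideal_natCast_iff hM _).2 hdvd) hTr
  have haA : ∀ χ, Cong M (a χ) ((∑ η ∈ bs, n χ η * d η : ℕ) : ℂ) := fun χ => by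
    rw [Nat.cast_sum]
    refine cong_sum hM fun η _ => ?_
    rw [Nat.cast_mul]
    nth_rw 2 [← mul_one ((n χ η : ℂ) * (d η : ℂ))]
    exact cong_mul_left hM (ring_mul hM (ring_natCast hM _) (ring_natCast hM _))
      (cong_one_of_pow_prime_pow hM (k := k) (by
        rw [← pow_mul, mul_comm, pow_mul, ← hqdef, hζ.pow_eq_one, one_pow]))
  have haψ : ¬ Cfsg.MemLocalIdeal M (a ψ) := fun h =>
    hApd ((ideal_natCast_iff hM _).1 ((ideal_iff_of_cong hM (haA ψ)).1 h))
  have hne : ∀ χ ∈ B, a χ ≠ 0 := by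
    intro χ hχ h0
    have h1 := omega_cong_of_mem hM hind.2.1 hψ hχ hz hzi
    rw [hω ψ, hω χ, h0, mul_zero, cong_zero_iff] at h1
    have hfac : ((Cfsg.charDegree (ψ : G → ℂ)) * p ^ D).factorization p =
        (Nat.card G).factorization p := by
      rw [Nat.factorization_mul (charDegree_pos ψ).ne' (pow_ne_zero _ hM.1.ne_zero),
        Finsupp.add_apply, hM.1.factorization_pow, Finsupp.single_eq_same]
      have := degree_factorization_eq hM hind.2.1 hψ
      omega
    rw [ideal_mul_iff hM (ring_natCast_div hM (mul_ne_zero (charDegree_pos ψ).ne'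
      (pow_ne_zero _ hM.1.ne_zero)) hfac.le) (ring_sum hM fun η _ => ring_mul hM
        (ring_mul hM (ring_natCast hM _) (ring_natCast hM _))
        (ring_of_isIntegral hM ((isIntegral_of_pow_eq_one hq0 hζ.pow_eq_one).pow _)))] at h1
    exact h1.elim (not_ideal_natCast_div hM Nat.card_pos.ne'
      (mul_ne_zero (charDegree_pos ψ).ne' (pow_ne_zero _ hM.1.ne_zero)) hfac) haψ
  have hav : ∀ χ, ∑ η ∈ bs, ((n χ η * d η : ℕ) : ℂ) * ζ ^ e η = a χ := fun χ => by
    simp only [a, Nat.cast_mul]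
  refine ⟨bs, fun χ η => n χ η * d η, e, fun χ hχ => by rw [hav]; exact hne χ hχ, ?_⟩
  rw [← hdef]
  simp only [hav]
  have h1 := Subsection.gram_block hM hy hind hone hone
  rw [ZStar.Principal.finsum_mem_eq_sum_filter] at h1
  simp only [hpart _ 1 hone, map_mul, blockKernelAt_eq_sum, ← Finset.sum_filter] at h1
  rw [← mul_assoc, mul_inv_cancel₀ natCard_ne_zero, one_mul,
    Finset.sum_congr rfl (g := fun η => ((d η ^ 2 : ℕ) : ℂ) * (φ 1 * conj (φ 1)))
      (s₁ := bs) fun η hη => by rw [hdφ η hη 1 hone, map_mul, Complex.conj_natCast]; push_cast; ring,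
    ← Finset.sum_mul, ← Nat.cast_sum] at h1
  rw [ZStar.Principal.finsum_mem_eq_sum_filter] at hsum
  rw [hsum] at h1
  rw [ZStar.Principal.finsum_mem_eq_sum_filter]
  refine mul_right_cancel₀ (b := φ 1 * conj (φ 1))
    (mul_ne_zero hφ1 ((_root_.map_ne_zero _).2 hφ1)) ?_
  rw [Finset.sum_mul, ← h1]
  exact Finset.sum_congr rfl fun χ _ => by ring

/-- At most `p ^ d` characters next to a major subsection of rank one. -/
theorem card_le (hM : Cfsg.IsPModular p M) {B : Set (Cfsg.IrrCharacter G)}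
    {y : G} (hy : ∃ k : ℕ, orderOf y = p ^ k)
    {b : Set (Cfsg.IrrCharacter (Subgroup.centralizer ({y} : Set G)))}
    (hind : Cfsg.IsInducedBlock M (Subgroup.centralizer ({y} : Set G)) b B)
    (hdef : Cfsg.blockDefect p b = Cfsg.blockDefect p B) (hl : Cfsg.blockRank p b = 1) :
    Nat.card B ≤ p ^ Cfsg.blockDefect p B := by
  classical
  haveI := Fintype.ofFinite (Cfsg.IrrCharacter G)
  obtain ⟨k, hk⟩ := hy
  set q := p ^ k with hqdef
  have hq0 : q ≠ 0 := pow_ne_zero _ hM.1.ne_zero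
  haveI : NeZero q := ⟨hq0⟩
  set ζ := Complex.exp (2 * Real.pi * Complex.I / q)
  have hζ : IsPrimitiveRoot ζ q := Complex.isPrimitiveRoot_exp q hq0
  obtain ⟨s, w, e, hne, hsum⟩ := exists_column hM hind hdef hl hk hζ
  set Bs := Finset.univ.filter (· ∈ B) with hBs
  set S : Cfsg.IrrCharacter G → ℚ[X] := fun χ => ∑ η ∈ s, C (w χ η : ℚ) * X ^ e η with hS
  set S' : Cfsg.IrrCharacter G → ℚ[X] := fun χ =>
    ∑ η ∈ s, C (w χ η : ℚ) * X ^ ((q - 1) * e η) with hS'
  have hSv : ∀ μ : ℂ, μ ^ q = 1 → ∀ χ, aeval μ (S' χ) = conj (aeval μ (S χ)) := by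
    intro μ hμ χ
    simp only [S, S', map_sum, map_mul, map_natCast, map_pow, aeval_X,
      Subsection.conj_eq_inv_of_pow hq0 hμ]
    refine Finset.sum_congr rfl fun η _ => ?_
    congr 1
    rw [pow_mul, inv_pow]
    refine eq_inv_of_mul_eq_one_left ?_
    rw [← pow_mul, ← pow_add, ← Nat.add_one_mul, Nat.sub_add_cancel (Nat.pos_of_ne_zero hq0),
      pow_mul, hμ, one_pow]
  have hSζ : ∀ χ, aeval ζ (S χ) = ∑ η ∈ s, (w χ η : ℂ) * ζ ^ e η := fun χ => by
    simp [S, map_sum]
  set Q : ℚ[X] := ∑ χ ∈ Bs, S χ * S' χ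
  have hQζ : aeval ζ Q = (((p ^ Cfsg.blockDefect p B : ℕ) : ℚ) : ℂ) := by
    simp only [Q, map_sum, map_mul, hSv ζ hζ.pow_eq_one, hSζ, Rat.cast_natCast]
    rw [← hsum, ZStar.Principal.finsum_mem_eq_sum_filter]
    exact Finset.sum_congr rfl fun χ _ => by simp only [map_sum, map_mul]
  have hμq : ∀ μ ∈ primitiveRoots q ℂ, μ ^ q = 1 := fun μ hμ =>
    ((mem_primitiveRoots (Nat.pos_of_ne_zero hq0)).1 hμ).pow_eq_one
  have hswap : ∀ μ ∈ primitiveRoots q ℂ,
      ∑ χ ∈ Bs, ‖aeval μ (S χ)‖ ^ 2 = ((p ^ Cfsg.blockDefect p B : ℕ) : ℝ) := by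
    intro μ hμ
    have h1 := aeval_eq_rat_of_primitive (Nat.pos_of_ne_zero hq0) hζ
      ((mem_primitiveRoots (Nat.pos_of_ne_zero hq0)).1 hμ) Q hQζ
    apply Complex.ofReal_injective
    rw [Rat.cast_natCast] at h1
    rw [Complex.ofReal_natCast, ← h1]
    simp only [Q, map_sum, map_mul, Complex.ofReal_sum, Complex.ofReal_pow, hSv μ (hμq μ hμ),
      ← Complex.mul_conj']
  have hge : ∀ χ ∈ Bs, ((primitiveRoots q ℂ).card : ℝ) ≤
      ∑ μ ∈ primitiveRoots q ℂ, ‖aeval μ (S χ)‖ ^ 2 := by
    intro χ hχ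
    have hnz : ∀ μ ∈ primitiveRoots q ℂ, aeval μ (S χ) ≠ 0 := fun μ hμ h0 => by
      have := aeval_eq_rat_of_primitive (Nat.pos_of_ne_zero hq0)
        ((mem_primitiveRoots (Nat.pos_of_ne_zero hq0)).1 hμ) hζ (S χ) (q := 0) (by simp [h0])
      exact hne χ (Finset.mem_filter.1 hχ).2 (by rw [← hSζ, this, Rat.cast_zero])
    have hprod := one_le_prod_norm_primitiveRoots (Nat.pos_of_ne_zero hq0) (S χ)
      (fun μ hμ => by
        simp only [S, map_sum, map_mul, map_natCast, map_pow, aeval_X]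
        exact IsIntegral.sum _ fun η _ =>
          (isIntegral_natCast _).mul ((isIntegral_of_pow_eq_one hq0 (hμq μ hμ)).pow _)) hnz
    have hpos : ∀ μ ∈ primitiveRoots q ℂ, 0 < ‖aeval μ (S χ)‖ ^ 2 := fun μ hμ =>
      pow_pos (norm_pos_iff.2 (hnz μ hμ)) 2
    have hlog : 0 ≤ ∑ μ ∈ primitiveRoots q ℂ, Real.log (‖aeval μ (S χ)‖ ^ 2) := by
      rw [← Real.log_prod (fun μ hμ => (hpos μ hμ).ne'), Finset.prod_pow]
      exact Real.log_nonneg (one_le_pow₀ hprod)
    have h2 := hlog.trans (Finset.sum_le_sum fun μ hμ => Real.log_le_sub_one_of_pos (hpos μ hμ))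
    rw [Finset.sum_sub_distrib, sub_nonneg, Finset.sum_const, nsmul_one] at h2
    exact h2
  have h3 := Finset.sum_le_sum hge
  rw [Finset.sum_comm, Finset.sum_congr rfl hswap, Finset.sum_const, Finset.sum_const,
    nsmul_eq_mul, nsmul_eq_mul, mul_comm] at h3
  have hpr : (0 : ℝ) < ((primitiveRoots q ℂ).card : ℝ) := by
    exact_mod_cast Finset.card_pos.2 ⟨ζ, (mem_primitiveRoots (Nat.pos_of_ne_zero hq0)).2 hζ⟩
  have hcard : Nat.card B = Bs.card := by
    rw [Nat.card_eq_fintype_card, ← Set.toFinset_card]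
    congr 1
    ext; simp [Bs]
  rw [hcard]
  exact_mod_cast le_of_mul_le_mul_left h3 hpr

end Cfsg.Agent.Blocks.MajorSubsection
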