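import Mathlib
import Cfsg.Agent.BlockCharsA.PairCorr
import Cfsg.Agent.BlockCharsA.CentralDefect
import Cfsg.Agent.BlockCharsA.LocalBlock
import Cfsg.Agent.Lib.Blocks.MajorSubsection

/-!
# Nilpotent blocks with an abelian defect group

Such a block has one Brauer character and as many irreducible characters as its defect group has
elements.  The local blocks at the elements of the defect group give pairwise different
subsections, each contributing at least one character; a major subsection of rank one, found by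
induction on the group order or in the central case, gives the opposite bound.
-/

set_option linter.style.haveILetI false
set_option linter.unusedSectionVars false

namespace Cfsg.Agent.Blocks.NilpotentAbelian

open Cfsg.Agent.Blocks Cfsg.Agent.Characters Cfsg.Agent.BlockCharsA
open Cfsg.Agent.BlockCharsA.BrauerPairs Cfsg.Agent.BlockCharsA.Transport
open Cfsg.Agent.BlockCharsA.PairStab Cfsg.Agent.BlockCharsA.PairMax
open Cfsg.Agent.BlockCharsA.PairConj Cfsg.Agent.BlockCharsA.PairLocal
open Cfsg.Agent.BlockCharsA.PairFusion Cfsg.Agent.BlockCharsA.PairCorr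

universe u

variable {G : Type u} [Group G] [Finite G] {p : ℕ} {M : Ideal Cfsg.AlgInt}

/-- The rank is invariant under isomorphisms. -/
theorem blockRank_pullSet {K L : Type*} [Group K] [Group L] [Finite K] [Finite L] (σ : K ≃* L)
    (f : Set (Cfsg.IrrCharacter K)) : Cfsg.blockRank p (pullSet σ f) = Cfsg.blockRank p f := by
  let T : (L → ℂ) ≃ₗ[ℂ] (K → ℂ) :=
    { toFun := fun h k => h (σ k)
      map_add' := fun _ _ => rfl
      map_smul' := fun _ _ => rfl
      invFun := fun h l => h (σ.symm l)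
      left_inv := fun h => funext fun l => by simp
      right_inv := fun h => funext fun k => by simp }
  have hT : ∀ χ : Cfsg.IrrCharacter L, T (Cfsg.pRegularPart p (χ : L → ℂ)) =
      Cfsg.pRegularPart p (irrIso σ χ : K → ℂ) := fun χ => funext fun k => by
    show Cfsg.pRegularPart p (χ : L → ℂ) (σ k) = _
    by_cases hk : p ∣ orderOf k <;>
      simp [Cfsg.pRegularPart, Cfsg.IsPRegular, MulEquiv.orderOf_eq, irrIso_apply, hk]
  have himg : (fun χ : Cfsg.IrrCharacter K => Cfsg.pRegularPart p (χ : K → ℂ)) '' f =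
      T '' ((fun χ : Cfsg.IrrCharacter L => Cfsg.pRegularPart p (χ : L → ℂ)) '' pullSet σ f) := by
    rw [Set.image_image]
    ext v
    constructor
    · rintro ⟨χ, hχ, rfl⟩
      exact ⟨(irrIso σ).symm χ, symm_mem_pullSet hχ, by
        show T (Cfsg.pRegularPart p _) = _
        rw [hT, Equiv.apply_symm_apply]⟩
    · rintro ⟨χ, hχ, rfl⟩
      exact ⟨irrIso σ χ, hχ, (hT χ).symm⟩
  rw [Cfsg.blockRank, Cfsg.blockRank, himg, ← LinearEquiv.coe_toLinearMap,
    Submodule.span_image, LinearEquiv.finrank_map_eq]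

theorem blockRank_pos (hM : Cfsg.IsPModular p M) {f : Set (Cfsg.IrrCharacter G)}
    (hf : Cfsg.IsPBlock M f) : 0 < Cfsg.blockRank p f := by
  haveI := Fintype.ofFinite G
  obtain ⟨χ, hχ⟩ := block_nonempty hM hf
  have hne : Cfsg.pRegularPart p (χ : G → ℂ) ≠ 0 := fun h => irr_one_ne_zero χ.2 (by
    have := congrFun h 1
    simpa [Cfsg.pRegularPart, Cfsg.IsPRegular, hM.1.ne_one] using this)
  refine Module.finrank_pos_iff_exists_ne_zero.2 ⟨⟨_, Submodule.subset_span ⟨χ, hχ, rfl⟩⟩, ?_⟩
  exact fun h => hne (congrArg Subtype.val h)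

/-- A pair at an abelian subgroup gives an induced block on any name of its centralizer. -/
theorem exists_of_pair (hM : Cfsg.IsPModular p M) {B : Set (Cfsg.IrrCharacter G)} {L : Subgroup G}
    {h : Set (Cfsg.IrrCharacter (Subgroup.centralizer (L : Set G)))}
    (hBh : Cfsg.IsBrauerPairOf p M B L h) (hL : L ≤ Subgroup.centralizer (L : Set G))
    {H : Subgroup G} (hH : H = Subgroup.centralizer (L : Set G)) :
    ∃ b : Set (Cfsg.IrrCharacter H), Cfsg.IsInducedBlock M H b B ∧
      elF H b = elF (Subgroup.centralizer (L : Set G)) h ∧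
      Cfsg.blockRank p b = Cfsg.blockRank p h ∧
      Cfsg.blockDefect p b = Cfsg.blockDefect p h := by
  subst hH
  refine ⟨h, ?_, rfl, rfl, rfl⟩
  obtain ⟨ξ, hξ⟩ := block_nonempty hM hBh.1.2
  rw [isInduced_iff_omega_brEl hM hBh.1.1 hL le_rfl (Subgroup.centralizer_le_normalizer _) hBh.1.2
    hξ hBh.2.1]
  intro hi
  have h1 := hBh.2.2 ξ hξ
  rw [brauerOmega_block] at h1
  have e1 : brEl L (Subgroup.centralizer (L : Set G)) (blockIdem B) = br L (blockIdem B) :=
    el_ext fun c => by rw [brEl, br, coeff_restrEl, coeff_restrEl, cutEl_coeff_mem _ c.2]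
  rw [e1] at hi
  exact not_ideal_one hM ((ideal_iff_of_cong hM h1).1 hi)

/-- A block of the whole group seen as a subgroup. -/
theorem pullSet_top (hM : Cfsg.IsPModular p M) {H : Subgroup G} (hH : H = ⊤)
    {b : Set (Cfsg.IrrCharacter H)} {B : Set (Cfsg.IrrCharacter G)}
    (hind : Cfsg.IsInducedBlock M H b B) :
    pullSet ((MulEquiv.subgroupCongr hH).trans Subgroup.topEquiv) b = B := by
  classical
  haveI := Fintype.ofFinite G
  subst hH
  haveI := Fintype.ofFinite (⊤ : Subgroup G)
  set σ := (MulEquiv.subgroupCongr (rfl : (⊤ : Subgroup G) = ⊤)).trans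
    (Subgroup.topEquiv (G := G))
  have hp := Transport.isPBlock_pullSet hM σ hind.1
  obtain ⟨χ, hχ⟩ := block_nonempty hM hind.2.1
  obtain ⟨ξ, hξ⟩ := block_nonempty hM hind.1
  refine block_eq_of_mem hM hp hind.2.1 (symm_mem_pullSet hξ) ?_
  refine mem_of_sameBlock hM hind.2.1 hχ fun g => ?_
  have h := hind.2.2 ξ hξ χ hχ g
  have e : Cfsg.inducedCentralChar (⊤ : Subgroup G) (ξ : (⊤ : Subgroup G) → ℂ) g =
      Cfsg.centralChar ((irrIso σ).symm ξ : G → ℂ) g := by
    have hval : ∀ t : (⊤ : Subgroup G), (ξ : (⊤ : Subgroup G) → ℂ) t =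
        ((irrIso σ).symm ξ : G → ℂ) (t : G) := fun t => by
      rw [irrIso_symm_apply]
      exact congrArg _ (Subtype.ext rfl)
    rw [Cfsg.inducedCentralChar, Cfsg.centralChar, finsum_mem_def, finsum_eq_sum_of_fintype]
    simp only [Set.indicator_apply, Set.mem_ofPred_eq]
    rw [← Finset.sum_filter, hval 1, Subgroup.coe_one]
    calc _ = ∑ x ∈ Finset.univ.filter (fun x : G => IsConj g x),
          ((irrIso σ).symm ξ : G → ℂ) g / ((irrIso σ).symm ξ : G → ℂ) 1 := by
          refine Finset.sum_bij (fun t _ => (t : G)) ?_ (fun _ _ _ _ e => Subtype.ext e) ?_ ?_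
          · exact fun t ht => by simpa using ht
          · exact fun x hx => ⟨⟨x, trivial⟩, by simpa using hx, rfl⟩
          · intro t ht
            obtain ⟨a, ha⟩ := isConj_iff.1 (show IsConj g (t : G) by simpa using ht)
            rw [hval t, ← ha, irr_isClassFunction]
      _ = _ := by
          rw [Finset.sum_const, card_filter_isConj, nsmul_eq_mul, mul_div_assoc']
  rw [e] at h
  have h2 := ideal_neg hM h
  rwa [neg_sub] at h2

variable {B : Set (Cfsg.IrrCharacter G)} {P : Subgroup G}
  {e : Set (Cfsg.IrrCharacter (Subgroup.centralizer (P : Set G)))}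

/-- The local ranks at the elements of the defect group sum to at most `k`. -/
theorem sum_rank_le (hM : Cfsg.IsPModular p M) [Fintype P]
    (hmax : Cfsg.IsMaximalBrauerPair p M B P e) (hab : ∀ x ∈ P, ∀ y ∈ P, x * y = y * x)
    (hnil : Cfsg.IsNilpotentBlock p M B)
    (f : ∀ t : P, Set (Cfsg.IrrCharacter (Subgroup.centralizer
      (Subgroup.zpowers (t : G) : Set G))))
    (hf : ∀ t : P, Cfsg.SubpairLE p M (Subgroup.zpowers (t : G)) (f t) P e) :
    ∑ t : P, Cfsg.blockRank p (f t) ≤ Nat.card B := by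
  classical
  haveI := fact_prime_of_pm hM
  haveI := Fintype.ofFinite G
  have hel : ∀ t : P, ∃ k : ℕ, orderOf (t : G) = p ^ k := fun t => by
    obtain ⟨k, hk⟩ := IsPGroup.iff_orderOf.1 hmax.1.1.1 t
    exact ⟨k, by rwa [Subgroup.orderOf_coe]⟩
  -- representatives of the classes
  haveI := Fintype.ofFinite (ConjClasses G)
  set rep : G → G := fun g => (ConjClasses.mk g).out
  have hrep : ∀ g, IsConj g (rep g) := fun g =>
    (ConjClasses.mk_eq_mk_iff_isConj.1 (Quotient.out_eq (ConjClasses.mk g))).symm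
  have hrep' : ∀ g h, IsConj g h → rep g = rep h := fun g h hgh => by
    simp only [rep, ConjClasses.mk_eq_mk_iff_isConj.2 hgh]
  set X := (Finset.univ.filter fun g : G => ∃ k : ℕ, orderOf g = p ^ k).image rep with hX
  have hXo : ∀ x ∈ X, ∃ k : ℕ, orderOf x = p ^ k := by
    intro x hx
    obtain ⟨g, hg, rfl⟩ := Finset.mem_image.1 hx
    obtain ⟨a, ha⟩ := isConj_iff.1 (hrep g)
    rw [← ha, RegularPart.orderOf_conj']
    exact (Finset.mem_filter.1 hg).2
  have hXu : ∀ g : G, (∃ k : ℕ, orderOf g = p ^ k) → ∃! x, x ∈ X ∧ IsConj g x := fun g hg =>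
    ⟨rep g, ⟨Finset.mem_image_of_mem _ (Finset.mem_filter.2 ⟨Finset.mem_univ _, hg⟩), hrep g⟩,
      fun x ⟨hx, hgx⟩ => by
        obtain ⟨g', -, rfl⟩ := Finset.mem_image.1 hx
        exact hrep' _ _ ((hrep g').trans hgx.symm)⟩
  rw [Rank.card_block hM hmax.1.2.1 X hXo hXu,
    ← Finset.sum_fiberwise_of_maps_to (t := X) (g := fun t : P => rep (t : G)) (fun t _ =>
      Finset.mem_image_of_mem _ (Finset.mem_filter.2 ⟨Finset.mem_univ _, hel t⟩))]
  refine Finset.sum_le_sum fun x _ => ?_
  haveI := Fintype.ofFinite (Cfsg.IrrCharacter (Subgroup.centralizer ({x} : Set G)))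
  haveI := Fintype.ofFinite (Set (Cfsg.IrrCharacter (Subgroup.centralizer ({x} : Set G))))
  rw [ZStar.Principal.finsum_mem_eq_sum_filter]
  -- the transported blocks
  have hex : ∀ t : P, rep (t : G) = x → ∃ g : G,
      ∃ b : Set (Cfsg.IrrCharacter (Subgroup.centralizer ({x} : Set G))),
      g * t * g⁻¹ = x ∧ Cfsg.IsInducedBlock M (Subgroup.centralizer ({x} : Set G)) b B ∧
      Cfsg.blockRank p b = Cfsg.blockRank p (f t) ∧
      elF (Subgroup.centralizer ({x} : Set G)) b =
        elF _ (Cfsg.conjBlock (Subgroup.zpowers (t : G)) g (f t)) := by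
    intro t ht
    obtain ⟨g, hg⟩ := isConj_iff.1 (ht ▸ hrep (t : G))
    have hzp : cj (Subgroup.zpowers (t : G)) g = Subgroup.zpowers x := by
      rw [← hg]
      exact MonoidHom.map_zpowers (MulAut.conj g).toMonoidHom (t : G)
    have hpair := isBrauerPairOf_conj hM g ((block_of_subpairLE hM (hf t)).2 hmax.1)
    have hab' : cj (Subgroup.zpowers (t : G)) g ≤
        Subgroup.centralizer (cj (Subgroup.zpowers (t : G)) g : Set G) := by
      rw [hzp]
      exact Subgroup.zpowers_le.2
        (mem_centralizer_zpowers.2 (Subgroup.mem_centralizer_singleton_iff.2 rfl))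
    obtain ⟨b, hb, he, hr, -⟩ := exists_of_pair hM hpair hab'
      (H := Subgroup.centralizer ({x} : Set G))
      (by rw [hzp]; exact LocalBlock.centralizer_eq_zpowers x)
    refine ⟨g, b, hg, hb, ?_, he⟩
    rw [hr, conjBlock_eq, blockRank_pullSet]
  choose gg bb hgg hbb hrk hel' using hex
  set s := Finset.univ.filter fun t : P => rep (t : G) = x
  have hmem : ∀ t ∈ s, rep ((t : P) : G) = x := fun t ht => (Finset.mem_filter.1 ht).2
  calc ∑ t ∈ s, Cfsg.blockRank p (f t)
      = ∑ t ∈ s.attach, Cfsg.blockRank p (bb t.1 (hmem _ t.2)) := by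
        rw [← Finset.sum_attach]
        exact Finset.sum_congr rfl fun t _ => (hrk _ _).symm
    _ = ∑ b ∈ s.attach.image (fun t => bb t.1 (hmem _ t.2)), Cfsg.blockRank p b := by
        rw [Finset.sum_image]
        rintro ⟨t, ht⟩ - ⟨t', ht'⟩ - heq
        refine Subtype.ext ?_
        have h1 := hel' t (hmem t ht)
        rw [show bb t (hmem t ht) = bb t' (hmem t' ht') from heq, hel' t' (hmem t' ht')] at h1
        set g := gg t (hmem t ht)
        set g' := gg t' (hmem t' ht')
        have hg : g * (t : G) * g⁻¹ = x := hgg t (hmem t ht)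
        have hg' : g' * (t' : G) * g'⁻¹ = x := hgg t' (hmem t' ht')
        have hcj : cjPair g (⟨_, f t⟩ : Cfsg.BrauerPairIdx G) = cjPair g' ⟨_, f t'⟩ := by
          refine idx_ext ?_ fun z => ?_
          · show cj (Subgroup.zpowers (t : G)) g = cj (Subgroup.zpowers (t' : G)) g'
            rw [show cj (Subgroup.zpowers (t : G)) g = Subgroup.zpowers x from by
              rw [← hg]; exact MonoidHom.map_zpowers (MulAut.conj g).toMonoidHom (t : G),
              show cj (Subgroup.zpowers (t' : G)) g' = Subgroup.zpowers x from by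
              rw [← hg']; exact MonoidHom.map_zpowers (MulAut.conj g').toMonoidHom (t' : G)]
          · exact (congrArg (fun w : MonoidAlgebra ℂ G => w.coeff z) h1).symm
        have hmove : cjPair (g'⁻¹ * g) (⟨_, f t⟩ : Cfsg.BrauerPairIdx G) = ⟨_, f t'⟩ := by
          rw [← cjPair_mul, hcj, cjPair_mul, inv_mul_cancel, cjPair_one]
        have hcj1 : cj (Subgroup.zpowers (t : G)) (g'⁻¹ * g) = Subgroup.zpowers (t' : G) :=
          congrArg Sigma.fst hmove
        have hle2 : Relation.ReflTransGen (Cfsg.NormalSubpairRel p M)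
            (cjPair (g'⁻¹ * g) (⟨_, f t⟩ : Cfsg.BrauerPairIdx G)) ⟨P, e⟩ := by
          rw [hmove]; exact hf t'
        have hφ : Cfsg.conjHom (Subgroup.zpowers (t : G)) (g'⁻¹ * g) ∈
            (blockSystem hM hmax).Hom (Subgroup.zpowers (t : G)) :=
          ⟨Subgroup.zpowers_le.2 t.2, g'⁻¹ * g, fun _ => rfl, by
            show cj (Subgroup.zpowers (t : G)) (g'⁻¹ * g) ≤ P
            rw [hcj1]; exact Subgroup.zpowers_le.2 t'.2, f t, hf t, hle2⟩
        rw [PairNilpotent.eq_inner_of_nilpotent hM (isBlockFusion_blockSystem hM hmax) hnil] at hφ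
        obtain ⟨-, w, hw, hφw⟩ := hφ
        have h2 : (g'⁻¹ * g) * (t : G) * (g'⁻¹ * g)⁻¹ = w * (t : G) * w⁻¹ :=
          hφw ⟨t, Subgroup.mem_zpowers _⟩
        rw [hab w hw t t.2, mul_inv_cancel_right] at h2
        refine Subtype.ext ?_
        rw [← h2, show g'⁻¹ * g * (t : G) * (g'⁻¹ * g)⁻¹ = g'⁻¹ * (g * t * g⁻¹) * g' by group, hg,
          ← hg']
        group
    _ ≤ _ := by
        refine Finset.sum_le_sum_of_subset fun b hb => ?_
        obtain ⟨t, -, rfl⟩ := Finset.mem_image.1 hb
        exact Finset.mem_filter.2 ⟨Finset.mem_univ _, hbb _ _⟩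

theorem blockRank_eq_one_aux (hM : Cfsg.IsPModular p M) : ∀ (n : ℕ) {G : Type u} [Group G]
    [Finite G], Nat.card G ≤ n → ∀ {B : Set (Cfsg.IrrCharacter G)} {P : Subgroup G},
    Cfsg.IsDefectGroup p M B P → (∀ x ∈ P, ∀ y ∈ P, x * y = y * x) →
    Cfsg.IsNilpotentBlock p M B → Cfsg.blockRank p B = 1 ∧ Nat.card B = Nat.card P := by
  intro n
  induction n with
  | zero =>
    intro G _ _ hn
    have := Nat.card_pos (α := G)
    omega
  | succ n ih =>
    intro G _ _ hn B P hD hab hnil
    classical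
    haveI := fact_prime_of_pm hM
    haveI := Fintype.ofFinite G
    haveI := Fintype.ofFinite P
    have hB := hnil.1
    obtain ⟨e, hmax⟩ := exists_maximal_on hM hB hD
    have hex : ∀ t : P, ∃ f, Cfsg.SubpairLE p M (Subgroup.zpowers (t : G)) f P e := fun t => by
      obtain ⟨f, -, hf⟩ :=
        exists_subpair hM _ (Subgroup.zpowers (t : G)) P e rfl hmax.1.1 (Subgroup.zpowers_le.2 t.2)
      exact ⟨f, hf⟩
    choose f hf using hex
    have hpos : ∀ t : P, 1 ≤ Cfsg.blockRank p (f t) := fun t =>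
      blockRank_pos hM ((subpairLE_facts hM (hf t)).2 hmax.1.1).2
    have hlow := sum_rank_le hM hmax hab hnil f hf
    have hloc : ∀ t : P, ∃ b : Set (Cfsg.IrrCharacter (Subgroup.centralizer ({(t : G)} : Set G))),
        Cfsg.IsInducedBlock M (Subgroup.centralizer ({(t : G)} : Set G)) b B ∧
        Cfsg.blockRank p b = Cfsg.blockRank p (f t) ∧
        Cfsg.blockDefect p b = Cfsg.blockDefect p (f t) := fun t => by
      obtain ⟨b, hb, -, hr, hd⟩ := exists_of_pair hM ((block_of_subpairLE hM (hf t)).2 hmax.1)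
        (Subgroup.zpowers_le.2 (mem_centralizer_zpowers.2
          (Subgroup.mem_centralizer_singleton_iff.2 rfl)))
        (LocalBlock.centralizer_eq_zpowers (t : G))
      exact ⟨b, hb, hr, hd⟩
    -- the local block at the identity is the block
    have hone : Cfsg.blockRank p (f 1) = Cfsg.blockRank p B ∧
        Cfsg.blockDefect p (f 1) = Cfsg.blockDefect p B := by
      obtain ⟨b, hb, hr, hd⟩ := hloc 1
      have htop : Subgroup.centralizer ({((1 : P) : G)} : Set G) = ⊤ :=
        eq_top_iff.2 fun z _ => Subgroup.mem_centralizer_singleton_iff.2 (by simp)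
      rw [← hr, ← hd, ← pullSet_top hM htop hb, blockRank_pullSet, blockDefect_pullSet]
      exact ⟨rfl, rfl⟩
    -- a major subsection of rank one
    obtain ⟨t, ht1, htd⟩ : ∃ t : P, Cfsg.blockRank p (f t) = 1 ∧
        Cfsg.blockDefect p (f t) = Cfsg.blockDefect p B := by
      by_cases hc : ∀ t ∈ P, ∀ z : G, Commute t z
      · obtain ⟨θ, hθ⟩ := CentralDefect.data_of_defect hM hB hD hc
        exact ⟨1, hone.1.trans (CentralDefect.blockRank_eq_one hθ), hone.2⟩
      push Not at hc
      obtain ⟨t₀, ht₀, z, hz⟩ := hc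
      set t : P := ⟨t₀, ht₀⟩
      have hlt : Nat.card (Subgroup.centralizer (Subgroup.zpowers (t : G) : Set G)) < Nat.card G := by
        refine lt_of_le_of_ne (Subgroup.card_le_card_group _) fun h => hz ?_
        exact Subgroup.mem_centralizer_iff.1
          ((Subgroup.card_eq_iff_eq_top _).1 h ▸ Subgroup.mem_top z) t₀ (Subgroup.mem_zpowers _)
      have hPC : P ≤ Subgroup.centralizer (Subgroup.zpowers (t : G) : Set G) := fun a ha =>
        mem_centralizer_zpowers.2 (Subgroup.mem_centralizer_singleton_iff.2 (hab a ha t t.2))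
      have hDf := defect_local_of_nilpotent hM hmax hnil (hf t)
      rw [inf_eq_left.2 hPC] at hDf
      have hnf := isNilpotent_local hM hnil ((block_of_subpairLE hM (hf t)).2 hmax.1)
      obtain ⟨h1, -⟩ := ih (G := Subgroup.centralizer (Subgroup.zpowers (t : G) : Set G)) (by omega)
        hDf (fun x hx y hy => Subtype.ext (hab x hx y hy)) hnf
      refine ⟨t, h1, ?_⟩
      have e1 := card_defectGroup hM hnf.1 hDf
      rw [Nat.card_congr (Subgroup.subgroupOfEquivOfLe hPC).toEquiv, card_defectGroup hM hB hD] at e1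
      exact (Nat.pow_right_injective hM.1.two_le e1).symm
    obtain ⟨b, hb, hr, hd⟩ := hloc t
    obtain ⟨k, hk⟩ := IsPGroup.iff_orderOf.1 hmax.1.1.1 t
    have hup := MajorSubsection.card_le hM ⟨k, by rwa [Subgroup.orderOf_coe]⟩ hb
      (hd.trans htd) (hr.trans ht1)
    rw [← card_defectGroup hM hB hD] at hup
    have hcard : ∑ _t : P, (1 : ℕ) = Nat.card P := by simp
    have hge : Nat.card P ≤ ∑ t : P, Cfsg.blockRank p (f t) :=
      hcard ▸ Finset.sum_le_sum fun t _ => hpos t
    refine ⟨?_, le_antisymm hup (hge.trans hlow)⟩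
    have heq : ∑ t : P, Cfsg.blockRank p (f t) = ∑ _t : P, (1 : ℕ) := by omega
    rw [← hone.1]
    exact ((Finset.sum_eq_sum_iff_of_le fun t _ => hpos t).1 heq.symm 1 (Finset.mem_univ _)).symm

/-- A nilpotent block with abelian defect group `P`: rank one and `|P|` characters. -/
theorem blockRank_eq_one (hM : Cfsg.IsPModular p M) (hD : Cfsg.IsDefectGroup p M B P)
    (hab : ∀ x ∈ P, ∀ y ∈ P, x * y = y * x) (hnil : Cfsg.IsNilpotentBlock p M B) :
    Cfsg.blockRank p B = 1 ∧ Nat.card B = Nat.card P :=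
  blockRank_eq_one_aux hM _ le_rfl hD hab hnil

end Cfsg.Agent.Blocks.NilpotentAbelian
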