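import Mathlib
import Cfsg.Agent.Lib.Blocks.InducedPairs
import Cfsg.Agent.Lib.Blocks.NilpotentAbelian
import Cfsg.Agent.Lib.Blocks.InducedDefined

/-!
# Nilpotency of local blocks below an abelian defect group
-/

set_option linter.style.haveILetI false
set_option linter.unusedSectionVars false

namespace Cfsg.Agent.Blocks.LocalNilpotent

open Cfsg.Agent.Blocks Cfsg.Agent.Characters Cfsg.Agent.BlockCharsA
open Cfsg.Agent.BlockCharsA.BrauerPairs Cfsg.Agent.BlockCharsA.PairStab
open Cfsg.Agent.BlockCharsA.PairMax Cfsg.Agent.BlockCharsA.PairConj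
open Cfsg.Agent.BlockCharsA.PairLocal Cfsg.Agent.BlockCharsA.PairFusion
open Cfsg.Agent.BlockCharsA.PairCorr Cfsg.Agent.BlockCharsA.PairReceptive

universe u

variable {G : Type u} [Group G] [Finite G] {p : ℕ} {M : Ideal Cfsg.AlgInt}
  {B : Set (Cfsg.IrrCharacter G)} {P Q : Subgroup G}
  {c : Set (Cfsg.IrrCharacter (Subgroup.centralizer (P : Set G)))}
  {f : Set (Cfsg.IrrCharacter (Subgroup.centralizer (Q : Set G)))}

/-- Going down to the centralizer of a subgroup of an abelian defect group: a maximal pair of the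
local block, with the same idempotent. -/
theorem exists_maximal_local_match (hM : Cfsg.IsPModular p M)
    (hmax : Cfsg.IsMaximalBrauerPair p M B P c) (hab : ∀ x ∈ P, ∀ y ∈ P, x * y = y * x)
    (hle : Cfsg.SubpairLE p M Q f P c) :
    ∃ a, Cfsg.IsMaximalBrauerPair p M f (P.subgroupOf (Subgroup.centralizer (Q : Set G))) a ∧
      (∀ y : Subgroup.centralizer (Q : Set G),
        (y ∈ Subgroup.normalizer
            (P.subgroupOf (Subgroup.centralizer (Q : Set G)) : Set (Subgroup.centralizer (Q : Set G))) ∧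
          Cfsg.StabilizesBlock (Subgroup.centralizer
            (P.subgroupOf (Subgroup.centralizer (Q : Set G)) : Set (Subgroup.centralizer (Q : Set G))))
            a y) ↔ (y : G) ∈ stab P c) ∧
      Match (⟨_, a⟩ : Cfsg.BrauerPairIdx (Subgroup.centralizer (Q : Set G))) ⟨P, c⟩ := by
  classical
  haveI := fact_prime_of_pm hM
  haveI := Fintype.ofFinite G
  have hQP := (subpairLE_facts hM hle).1
  have hPH : P ≤ Subgroup.centralizer (Q : Set G) := fun x hx y hy => hab y (hQP hy) x hx
  have hCH : Subgroup.centralizer (P : Set G) ≤ Subgroup.centralizer (Q : Set G) :=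
    centralizer_le_centralizer hQP
  have hA : (P.subgroupOf (Subgroup.centralizer (Q : Set G))).map
      (Subgroup.centralizer (Q : Set G)).subtype = P := map_subgroupOf_eq hPH
  set σ := downEquiv hA hCH
  set a := Transport.pullSet σ c with ha
  have hap : Cfsg.IsBrauerPair p M (P.subgroupOf (Subgroup.centralizer (Q : Set G))) a :=
    ⟨isPGroup_subgroupOf hmax.1.1.1 hPH, Transport.isPBlock_pullSet hM _ hmax.1.1.2⟩
  have hm : Match (⟨_, a⟩ : Cfsg.BrauerPairIdx (Subgroup.centralizer (Q : Set G))) ⟨P, c⟩ :=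
    match_pull hA hCH _ _ fun d => Transport.blockCoeff_pullSet _ _ d
  have hfb := ((subpairLE_facts hM hle).2 hmax.1.1).2
  have hn : Cfsg.IsNormalSubpair p M Q f P c := normal_of_subpairLE hM hle hmax.1.1
    (hPH.trans (Subgroup.centralizer_le_normalizer _))
  have hpair : Cfsg.IsBrauerPairOf p M f (P.subgroupOf (Subgroup.centralizer (Q : Set G))) a := by
    refine ⟨hap, hfb, fun η hη => ?_⟩
    rw [brauerOmega_block]
    have h1 := hn.2.2.2.2.2 (Transport.irrIso σ η) hη
    rw [brauerOmega_elF] at h1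
    rw [Transport.omega_iso σ (z := br P (elF (Subgroup.centralizer (Q : Set G)) f)) fun d => by
      rw [br, br, coeff_restrEl, coeff_restrEl, coeff_blockIdem, coeff_self]
      rfl]
    exact h1
  have hDf := InducedPairs.defect_local_of_abelian hM hmax hab hle
  refine ⟨a, ⟨hpair, fun R r hR hle' =>
    (eq_of_le_of_card_le (subpairLE_facts hM hle').1 ?_).symm⟩, fun y => ?_, hm⟩
  · obtain ⟨R', r', hR', hle''⟩ := exists_maximal_above hM hR
    refine (Subgroup.card_le_of_le (subpairLE_facts hM hle'').1).trans (le_of_eq ?_)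
    show Nat.card R' = Nat.card ↥(P.subgroupOf (Subgroup.centralizer (Q : Set G)))
    rw [card_defectGroup hM hfb hDf,
      card_defectGroup hM hfb (isDefectGroup_of_maximal hM hR')]
  · constructor
    · rintro ⟨hyN, hyst⟩
      have hyN' : (y : G) ∈ Subgroup.normalizer (P : Set G) := by
        have h := (Subgroup.le_normalizer_map (Subgroup.centralizer (Q : Set G)).subtype)
          ⟨y, hyN, rfl⟩
        rwa [hA] at h
      refine ⟨hyN', fun z => ?_⟩
      have hst := (stabilizes_iff_coeff (normalizer_le_normalizer_centralizer _ hyN)).1 hyst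
      by_cases hz : z ∈ Subgroup.centralizer (Q : Set G)
      · have h := hst ⟨z, hz⟩
        rwa [hm.2.2, hm.2.2] at h
      · rw [elF, coeff_inclEl_notMem _ _ fun h' => hz (hCH h'), coeff_inclEl_notMem]
        intro h'
        refine hz ?_
        have := (Subgroup.centralizer (Q : Set G)).mul_mem
          ((Subgroup.centralizer (Q : Set G)).mul_mem
            ((Subgroup.centralizer (Q : Set G)).inv_mem y.2) (hCH h')) y.2
        simpa [mul_assoc] using this
    · intro hy
      have hyN : y ∈ Subgroup.normalizer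
          (P.subgroupOf (Subgroup.centralizer (Q : Set G)) : Set (Subgroup.centralizer (Q : Set G))) := by
        rw [Subgroup.mem_normalizer_iff]
        exact fun z => Subgroup.mem_normalizer_iff.1 (stab_le_normalizer hy) (z : G)
      refine ⟨hyN, (stabilizes_iff_coeff (normalizer_le_normalizer_centralizer _ hyN)).2 fun z => ?_⟩
      rw [hm.2.2, hm.2.2]
      exact hy.2 _

/-- Going down to the centralizer of a subgroup of an abelian defect group: a maximal pair of the
local block. -/
theorem exists_maximal_local (hM : Cfsg.IsPModular p M)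
    (hmax : Cfsg.IsMaximalBrauerPair p M B P c) (hab : ∀ x ∈ P, ∀ y ∈ P, x * y = y * x)
    (hle : Cfsg.SubpairLE p M Q f P c) :
    ∃ a, Cfsg.IsMaximalBrauerPair p M f (P.subgroupOf (Subgroup.centralizer (Q : Set G))) a ∧
      ∀ y : Subgroup.centralizer (Q : Set G),
        (y ∈ Subgroup.normalizer
            (P.subgroupOf (Subgroup.centralizer (Q : Set G)) : Set (Subgroup.centralizer (Q : Set G))) ∧
          Cfsg.StabilizesBlock (Subgroup.centralizer
            (P.subgroupOf (Subgroup.centralizer (Q : Set G)) : Set (Subgroup.centralizer (Q : Set G))))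
            a y) ↔ (y : G) ∈ stab P c := by
  obtain ⟨a, h1, h2, -⟩ := exists_maximal_local_match hM hmax hab hle
  exact ⟨a, h1, h2⟩

/-- The local block is nilpotent exactly when the inertial group meets the centralizer trivially. -/
theorem isNilpotent_iff (hM : Cfsg.IsPModular p M)
    (hmax : Cfsg.IsMaximalBrauerPair p M B P c) (hab : ∀ x ∈ P, ∀ y ∈ P, x * y = y * x)
    (hle : Cfsg.SubpairLE p M Q f P c) :
    Cfsg.IsNilpotentBlock p M f ↔
      ∀ x ∈ stab P c, x ∈ Subgroup.centralizer (Q : Set G) →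
        x ∈ Subgroup.centralizer (P : Set G) := by
  have hQP := (subpairLE_facts hM hle).1
  have hPH : P ≤ Subgroup.centralizer (Q : Set G) := fun x hx y hy => hab y (hQP hy) x hx
  obtain ⟨a, ha, hst⟩ := exists_maximal_local hM hmax hab hle
  have habH : ∀ x ∈ P.subgroupOf (Subgroup.centralizer (Q : Set G)),
      ∀ y ∈ P.subgroupOf (Subgroup.centralizer (Q : Set G)), x * y = y * x :=
    fun x hx y hy => Subtype.ext (hab x hx y hy)
  rw [PairNilpotent.nilpotent_iff_inertial hM ha habH]
  constructor
  · intro h x hx hxQ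
    obtain ⟨h1, h2⟩ := (hst ⟨x, hxQ⟩).2 hx
    exact (mem_centralizer_subgroupOf hPH).1 (h ⟨x, hxQ⟩ h1 h2)
  · intro h y hyN hyst
    exact (mem_centralizer_subgroupOf hPH).2 (h y ((hst y).1 ⟨hyN, hyst⟩) y.2)

theorem blockRank_eq_one (hM : Cfsg.IsPModular p M)
    (hmax : Cfsg.IsMaximalBrauerPair p M B P c) (hab : ∀ x ∈ P, ∀ y ∈ P, x * y = y * x)
    (hle : Cfsg.SubpairLE p M Q f P c)
    (h : ∀ x ∈ stab P c, x ∈ Subgroup.centralizer (Q : Set G) →
      x ∈ Subgroup.centralizer (P : Set G)) :
    Cfsg.blockRank p f = 1 :=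
  (NilpotentAbelian.blockRank_eq_one hM (InducedPairs.defect_local_of_abelian hM hmax hab hle)
    (fun x hx y hy => Subtype.ext (hab x hx y hy)) ((isNilpotent_iff hM hmax hab hle).2 h)).1

/-- Inclusion of pairs gives induction inside the centralizer. -/
theorem inducedIn_of_subpairLE (hM : Cfsg.IsPModular p M)
    (hmax : Cfsg.IsMaximalBrauerPair p M B P c) (hab : ∀ x ∈ P, ∀ y ∈ P, x * y = y * x)
    (hle : Cfsg.SubpairLE p M Q f P c) :
    Cfsg.IsInducedBlockIn M (Subgroup.centralizer (Q : Set G))
      (Subgroup.centralizer (P : Set G)) c f := by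
  classical
  haveI := fact_prime_of_pm hM
  haveI := Fintype.ofFinite G
  have hfb := ((subpairLE_facts hM hle).2 hmax.1.1).2
  have hQP := (subpairLE_facts hM hle).1
  have hPH : P ≤ Subgroup.centralizer (Q : Set G) := fun x hx y hy => hab y (hQP hy) x hx
  have hCH : Subgroup.centralizer (P : Set G) ≤ Subgroup.centralizer (Q : Set G) :=
    centralizer_le_centralizer hQP
  have hA : (P.subgroupOf (Subgroup.centralizer (Q : Set G))).map
      (Subgroup.centralizer (Q : Set G)).subtype = P := map_subgroupOf_eq hPH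
  set σ := downEquiv hA hCH
  set a := Transport.pullSet σ c with ha
  have hap : Cfsg.IsBrauerPair p M (P.subgroupOf (Subgroup.centralizer (Q : Set G))) a :=
    ⟨isPGroup_subgroupOf hmax.1.1.1 hPH, Transport.isPBlock_pullSet hM _ hmax.1.1.2⟩
  have hn : Cfsg.IsNormalSubpair p M Q f P c := normal_of_subpairLE hM hle hmax.1.1
    (hPH.trans (Subgroup.centralizer_le_normalizer _))
  have hpair : Cfsg.IsBrauerPairOf p M f (P.subgroupOf (Subgroup.centralizer (Q : Set G))) a := by
    refine ⟨hap, hfb, fun η hη => ?_⟩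
    rw [brauerOmega_block]
    have h1 := hn.2.2.2.2.2 (Transport.irrIso σ η) hη
    rw [brauerOmega_elF] at h1
    rw [Transport.omega_iso σ (z := br P (elF (Subgroup.centralizer (Q : Set G)) f)) fun d => by
      rw [br, br, coeff_restrEl, coeff_restrEl, coeff_blockIdem, coeff_self]
      rfl]
    exact h1
  obtain ⟨b, hb, hbe, -, -⟩ := NilpotentAbelian.exists_of_pair hM hpair
    (fun x hx y hy => Subtype.ext (hab y hy x hx)) rfl
  have hba : b = a := set_eq_of_blockCoeff fun d => by
    rw [coeff_self, coeff_self, hbe]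
  subst hba
  refine ⟨hmax.1.1.2, hfb, fun ξ hξ χ hχ g => ?_⟩
  have h := hb.2.2 _ (Transport.symm_mem_pullSet (σ := σ) hξ) χ hχ g
  refine (congrArg (Cfsg.MemLocalIdeal M) (congrArg (fun z => z - _) ?_)).mp h
  rw [Cfsg.inducedCentralChar, Cfsg.inducedCentralCharIn]
  haveI := Fintype.ofFinite (Subgroup.centralizer (P : Set G))
  haveI := Fintype.ofFinite (Subgroup.centralizer
    (P.subgroupOf (Subgroup.centralizer (Q : Set G)) : Set (Subgroup.centralizer (Q : Set G))))
  rw [finsum_mem_def, finsum_mem_def, finsum_eq_sum_of_fintype, finsum_eq_sum_of_fintype]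
  simp only [Set.indicator_apply, Set.mem_ofPred_eq]
  refine (Fintype.sum_equiv σ.toEquiv _ _ fun k => ?_).symm
  simp only [MulEquiv.toEquiv_eq_coe, MulEquiv.coe_toEquiv]
  refine if_congr ?_ ?_ rfl
  · rw [isConj_comm, _root_.isConj_iff]
    exact ⟨fun ⟨x, hx⟩ => ⟨x, Subtype.ext hx⟩, fun ⟨x, hx⟩ => ⟨x, congrArg Subtype.val hx⟩⟩
  · rw [Transport.irrIso_symm_apply, Transport.irrIso_symm_apply, σ.symm_apply_apply, map_one]

end Cfsg.Agent.Blocks.LocalNilpotent
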