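import Mathlib
import Cfsg.Agent.Lib.Blocks.InducedPairs
import Cfsg.Agent.Lib.Blocks.NilpotentAbelian
import Cfsg.Agent.Lib.Blocks.LocalNilpotent
import Cfsg.Agent.Lib.Blocks.HarrisKnorr

/-!
# Subpairs of a block with cyclic defect group
-/

set_option linter.style.haveILetI false
set_option linter.unusedSectionVars false

namespace Cfsg.Agent.Blocks.CyclicSubpairs

open Cfsg.Agent.Blocks Cfsg.Agent.Characters Cfsg.Agent.BlockCharsA
open Cfsg.Agent.BlockCharsA.BrauerPairs Cfsg.Agent.BlockCharsA.PairStab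
open Cfsg.Agent.BlockCharsA.PairMax Cfsg.Agent.BlockCharsA.PairConj
open Cfsg.Agent.BlockCharsA.PairLocal Cfsg.Agent.BlockCharsA.PairFusion
open Cfsg.Agent.BlockCharsA.PairCorr Cfsg.Agent.BlockCharsA.PairReceptive

universe u

variable {G : Type u} [Group G] [Finite G] {p : ℕ} {M : Ideal Cfsg.AlgInt}
  {B : Set (Cfsg.IrrCharacter G)} {P Q : Subgroup G}
  {c : Set (Cfsg.IrrCharacter (Subgroup.centralizer (P : Set G)))}

theorem conj_pow_iter {x g : G} {r : ℕ} (h : x * g * x⁻¹ = g ^ r) :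
    ∀ n : ℕ, x ^ n * g * (x ^ n)⁻¹ = g ^ (r ^ n) := by
  intro n
  induction n with
  | zero => simp
  | succ n ih =>
    rw [pow_succ' x, show x * x ^ n * g * (x * x ^ n)⁻¹ = x * (x ^ n * g * (x ^ n)⁻¹) * x⁻¹ by group,
      ih, ← conj_pow, h, ← pow_mul, pow_succ', ]

theorem mem_normalizer_of_cyclic (hcyc : IsCyclic P) (hQP : Q ≤ P) {x : G}
    (hx : x ∈ Subgroup.normalizer (P : Set G)) : x ∈ Subgroup.normalizer (Q : Set G) := by
  obtain ⟨⟨g, hg⟩, hgen⟩ := hcyc.exists_generator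
  obtain ⟨r, hr⟩ := hgen ⟨x * g * x⁻¹, (Subgroup.mem_normalizer_iff.1 hx g).1 hg⟩
  have hr' : x * g * x⁻¹ = g ^ r := (congrArg Subtype.val hr).symm
  refine HarrisKnorr.mem_normalizer_of_conj_mem fun q hq => ?_
  obtain ⟨j, hj⟩ := hgen ⟨q, hQP hq⟩
  have hj' : q = g ^ j := (congrArg Subtype.val hj).symm
  rw [hj', ← conj_zpow, hr', ← zpow_mul, mul_comm, zpow_mul, ← hj']
  exact Q.zpow_mem hq r

/-- An element of the inertial group fixing a nontrivial subgroup centralises the defect group. -/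
theorem mem_centralizer_of_fix (hM : Cfsg.IsPModular p M)
    (hmax : Cfsg.IsMaximalBrauerPair p M B P c) (hcyc : IsCyclic P) (hQP : Q ≤ P) (hQ1 : Q ≠ ⊥)
    {x : G} (hx : x ∈ stab P c) (hxQ : x ∈ Subgroup.centralizer (Q : Set G)) :
    x ∈ Subgroup.centralizer (P : Set G) := by
  haveI := fact_prime_of_pm hM
  obtain ⟨⟨g, hg⟩, hgen⟩ := hcyc.exists_generator
  have hab : ∀ a ∈ P, ∀ b ∈ P, a * b = b * a := fun a ha b hb => by
    letI := hcyc.commGroup
    exact congrArg Subtype.val (mul_comm (⟨a, ha⟩ : P) ⟨b, hb⟩)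
  have hpow : ∀ a ∈ P, ∃ j : ℕ, a = g ^ j := fun a ha => by
    obtain ⟨j, hj⟩ := mem_powers_iff_mem_zpowers.2 (hgen ⟨a, ha⟩)
    exact ⟨j, (congrArg Subtype.val hj).symm⟩
  obtain ⟨r, hr⟩ := hpow _ ((Subgroup.mem_normalizer_iff.1 (stab_le_normalizer hx) g).1 hg)
  obtain ⟨q, hq, hq1⟩ := Q.bot_or_exists_ne_one.resolve_left hQ1
  obtain ⟨j, rfl⟩ := hpow q (hQP hq)
  obtain ⟨m, hm⟩ := IsPGroup.iff_orderOf.1 hmax.1.1.1 ⟨g, hg⟩
  rw [Subgroup.orderOf_mk] at hm
  have hfix : g ^ (j * r) = g ^ j := by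
    rw [mul_comm, pow_mul, ← hr, conj_pow, mul_inv_eq_iff_eq_mul]
    exact (hxQ _ hq).symm
  have hmod : j * r ≡ j * 1 [MOD p ^ m] := by
    rw [mul_one, ← hm]; exact pow_eq_pow_iff_modEq.1 hfix
  -- `r` is one modulo `p`
  have hr1 : (p : ℤ) ∣ (r : ℤ) - 1 := by
    have h1 := Int.modEq_iff_dvd.1 (Int.natCast_modEq_iff.2 hmod.symm)
    have h2 : ((p ^ m : ℕ) : ℤ) ∣ (j : ℤ) * ((r : ℤ) - 1) := by
      rw [mul_sub]; simpa using h1
    by_contra hn
    have hco : IsCoprime ((p : ℤ) ^ m) ((r : ℤ) - 1) :=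
      (((Nat.prime_iff_prime_int.1 hM.1).coprime_iff_not_dvd).2 hn).pow_left
    rw [Nat.cast_pow] at h2
    have h3 := hco.dvd_of_dvd_mul_right h2
    refine hq1 (orderOf_dvd_iff_pow_eq_one.1 ?_)
    rw [hm]
    exact_mod_cast h3
  have hrm : g ^ (r ^ p ^ m) = g := by
    have h1 := dvd_sub_pow_of_dvd_sub (R := ℤ) (p := p) (a := (r : ℤ)) (b := 1) hr1 m
    rw [one_pow] at h1
    have h2 : (r ^ p ^ m : ℕ) ≡ 1 [MOD p ^ m] := by
      rw [← Int.natCast_modEq_iff]
      refine (Int.modEq_iff_dvd.2 ?_).symm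
      push_cast
      exact (pow_dvd_pow _ m.le_succ).trans h1
    conv_rhs => rw [← pow_one g]
    exact pow_eq_pow_iff_modEq.2 (hm.symm ▸ h2)
  set t : stab P c := ⟨x, hx⟩
  have ht : autHom P c t ^ p ^ m = 1 := by
    rw [← map_pow]
    refine autHom_eq_one fun a ha => ?_
    obtain ⟨i, rfl⟩ := hpow a ha
    have h1 : x ^ p ^ m * g ^ i * (x ^ p ^ m)⁻¹ = g ^ i := by
      rw [← conj_pow, conj_pow_iter hr, hrm]
    rw [SubmonoidClass.coe_pow]
    exact (mul_inv_eq_iff_eq_mul.1 h1).symm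
  have hS := isBlockFusion_blockSystem hM hmax
  refine PairNilpotent.mem_centralizer_of_autHom (t := t) ?_
  exact Fusion.Abelian.eq_one_of_pow hmax.1.1.1 (isSaturated hM hS) hab
    ((autGroup_eq hM hS Relation.ReflTransGen.refl).ge ⟨_, rfl⟩) ht

/-- The local blocks at nontrivial subgroups are nilpotent. -/
theorem isNilpotent_local (hM : Cfsg.IsPModular p M)
    (hmax : Cfsg.IsMaximalBrauerPair p M B P c) (hcyc : IsCyclic P) (hQ1 : Q ≠ ⊥)
    {f : Set (Cfsg.IrrCharacter (Subgroup.centralizer (Q : Set G)))}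
    (hle : Cfsg.SubpairLE p M Q f P c) :
    Cfsg.IsNilpotentBlock p M f ∧ Cfsg.blockRank p f = 1 := by
  have hab : ∀ a ∈ P, ∀ b ∈ P, a * b = b * a := fun a ha b hb => by
    letI := hcyc.commGroup
    exact congrArg Subtype.val (mul_comm (⟨a, ha⟩ : P) ⟨b, hb⟩)
  have h : ∀ x ∈ stab P c, x ∈ Subgroup.centralizer (Q : Set G) →
      x ∈ Subgroup.centralizer (P : Set G) := fun x hx hxQ =>
    mem_centralizer_of_fix hM hmax hcyc (subpairLE_facts hM hle).1 hQ1 hx hxQ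
  exact ⟨(LocalNilpotent.isNilpotent_iff hM hmax hab hle).2 h,
    LocalNilpotent.blockRank_eq_one hM hmax hab hle h⟩

/-- The normalizers of the subpairs. -/
theorem stab_eq (hM : Cfsg.IsPModular p M)
    (hmax : Cfsg.IsMaximalBrauerPair p M B P c) (hcyc : IsCyclic P) (hQ1 : Q ≠ ⊥)
    {f : Set (Cfsg.IrrCharacter (Subgroup.centralizer (Q : Set G)))}
    (hle : Cfsg.SubpairLE p M Q f P c) :
    stab Q f = stab P c ⊔ Subgroup.centralizer (Q : Set G) ∧
      (Subgroup.centralizer (Q : Set G)).relIndex (stab Q f) =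
        (Subgroup.centralizer (P : Set G)).relIndex (stab P c) := by
  have hQP := (subpairLE_facts hM hle).1
  have hab : ∀ a ∈ P, ∀ b ∈ P, a * b = b * a := fun a ha b hb => by
    letI := hcyc.commGroup
    exact congrArg Subtype.val (mul_comm (⟨a, ha⟩ : P) ⟨b, hb⟩)
  have hN : stab P c ⊓ Subgroup.normalizer (Q : Set G) = stab P c := inf_eq_left.2 fun y hy =>
    mem_normalizer_of_cyclic hcyc hQP (stab_le_normalizer hy)
  have hC : stab P c ⊓ Subgroup.centralizer (Q : Set G) = Subgroup.centralizer (P : Set G) :=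
    le_antisymm (fun y hy => mem_centralizer_of_fix hM hmax hcyc hQP hQ1 hy.1 hy.2)
      (le_inf centralizer_le_stab (centralizer_le_centralizer hQP))
  have hTle : stab P c ≤ stab Q f := by
    conv_lhs => rw [← hN]
    exact PairNilpotent.inf_normalizer_le hM hmax.1.1 hle
  refine ⟨le_antisymm (fun x hx => ?_) (sup_le hTle centralizer_le_stab), ?_⟩
  · obtain ⟨y, hy, z, hz, rfl⟩ := PairNilpotent.exists_factor hM hmax hab hle hx
    exact Subgroup.mul_mem_sup hy hz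
  · have h := PairNilpotent.index_eq hM hmax hab hle
    rw [hN, hC] at h
    exact h

end Cfsg.Agent.Blocks.CyclicSubpairs
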