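import Mathlib
import Cfsg.Agent.Lib.Blocks.NilpotentAbelian

/-!
# Counting the subsections of a block with abelian defect group

They correspond to the orbits of the inertial group on the defect group.
-/

set_option linter.style.haveILetI false
set_option linter.unusedSectionVars false

namespace Cfsg.Agent.Blocks.OrbitCount

open Cfsg.Agent.Blocks Cfsg.Agent.Characters Cfsg.Agent.BlockCharsA
open Cfsg.Agent.BlockCharsA.BrauerPairs Cfsg.Agent.BlockCharsA.Transport
open Cfsg.Agent.BlockCharsA.PairStab Cfsg.Agent.BlockCharsA.PairMax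
open Cfsg.Agent.BlockCharsA.PairConj Cfsg.Agent.BlockCharsA.PairLocal
open Cfsg.Agent.BlockCharsA.PairFusion Cfsg.Agent.BlockCharsA.PairCorr
open Cfsg.Agent.Blocks.NilpotentAbelian Cfsg.Agent.BlockCharsA.PairReceptive

universe u

variable {G : Type u} [Group G] [Finite G] {p : ℕ} {M : Ideal Cfsg.AlgInt}
  {B : Set (Cfsg.IrrCharacter G)} {P : Subgroup G}
  {e : Set (Cfsg.IrrCharacter (Subgroup.centralizer (P : Set G)))}

/-- A block of the centralizer of an abelian `p`-subgroup inducing `B` is a pair of `B`. -/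
theorem exists_pair_of_induced (hM : Cfsg.IsPModular p M) {L : Subgroup G} (hLp : IsPGroup p L)
    (hL : L ≤ Subgroup.centralizer (L : Set G)) {H : Subgroup G}
    (hH : H = Subgroup.centralizer (L : Set G)) {b : Set (Cfsg.IrrCharacter H)}
    (hb : Cfsg.IsInducedBlock M H b B) :
    ∃ h, Cfsg.IsBrauerPairOf p M B L h ∧ elF (Subgroup.centralizer (L : Set G)) h = elF H b := by
  subst hH
  refine ⟨b, ⟨⟨hLp, hb.1⟩, hb.2.1, fun ξ hξ => ?_⟩, rfl⟩
  rw [brauerOmega_block]
  obtain ⟨χ, hχ⟩ := block_nonempty hM hb.2.1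
  have h := omega_brEl_of_induced hM hLp hL (Subgroup.centralizer_le_normalizer _) hb hξ hχ
    (central_blockIdem B) (intEl_blockIdem hM hb.2.1)
  rw [show brEl L (Subgroup.centralizer (L : Set G)) (blockIdem B) = br L (blockIdem B) from
    el_ext fun x => by rw [brEl, br, coeff_restrEl, coeff_restrEl, cutEl_coeff_mem _ x.2],
    omega_blockIdem_mem hχ] at h
  exact h

theorem cj_zpowers (t g : G) : cj (Subgroup.zpowers t) g = Subgroup.zpowers (g * t * g⁻¹) :=
  MonoidHom.map_zpowers (MulAut.conj g).toMonoidHom t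

set_option maxHeartbeats 1000000 in
/-- `k (B)` is the sum of the local ranks over the orbits of the inertial group. -/
theorem card_eq_sum_orbit (hM : Cfsg.IsPModular p M)
    (hmax : Cfsg.IsMaximalBrauerPair p M B P e) (hab : ∀ x ∈ P, ∀ y ∈ P, x * y = y * x)
    (f : ∀ t : P, Set (Cfsg.IrrCharacter (Subgroup.centralizer
      (Subgroup.zpowers (t : G) : Set G))))
    (hf : ∀ t : P, Cfsg.SubpairLE p M (Subgroup.zpowers (t : G)) (f t) P e)
    (R : Finset P) (hcov : ∀ t : P, ∃ r ∈ R, ∃ w ∈ stab P e, w * (r : G) * w⁻¹ = (t : G))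
    (hsep : ∀ r ∈ R, ∀ r' ∈ R, ∀ w ∈ stab P e, w * (r : G) * w⁻¹ = (r' : G) → r = r') :
    Nat.card B = ∑ r ∈ R, Cfsg.blockRank p (f r) := by
  classical
  haveI := fact_prime_of_pm hM
  haveI := Fintype.ofFinite G
  have hel : ∀ t : P, ∃ k : ℕ, orderOf (t : G) = p ^ k := fun t => by
    obtain ⟨k, hk⟩ := IsPGroup.iff_orderOf.1 hmax.1.1.1 t
    exact ⟨k, by rwa [Subgroup.orderOf_coe]⟩
  -- representatives of the classes
  haveI := Fintype.ofFinite (ConjClasses G)
  set rep : G → G := fun g => (ConjClasses.mk g).out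
  have hrep : ∀ g, IsConj g (rep g) := fun g =>
    (ConjClasses.mk_eq_mk_iff_isConj.1 (Quotient.out_eq (ConjClasses.mk g))).symm
  have hrep' : ∀ g h, IsConj g h → rep g = rep h := fun g h hgh => by
    simp only [rep, ConjClasses.mk_eq_mk_iff_isConj.2 hgh]
  set X := (Finset.univ.filter fun g : G => ∃ k : ℕ, orderOf g = p ^ k).image rep with hX
  have hXo : ∀ x ∈ X, ∃ k : ℕ, orderOf x = p ^ k := by
    intro x hx
    obtain ⟨g, hg, rfl⟩ := Finset.mem_image.1 hx
    obtain ⟨a, ha⟩ := _root_.isConj_iff.1 (hrep g)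
    rw [← ha, RegularPart.orderOf_conj']
    exact (Finset.mem_filter.1 hg).2
  have hXr : ∀ x ∈ X, rep x = x := by
    intro x hx
    obtain ⟨g, -, rfl⟩ := Finset.mem_image.1 hx
    exact (hrep' _ _ (hrep g)).symm
  have hXu : ∀ g : G, (∃ k : ℕ, orderOf g = p ^ k) → ∃! x, x ∈ X ∧ IsConj g x := fun g hg =>
    ⟨rep g, ⟨Finset.mem_image_of_mem _ (Finset.mem_filter.2 ⟨Finset.mem_univ _, hg⟩), hrep g⟩,
      fun x ⟨hx, hgx⟩ => by
        obtain ⟨g', -, rfl⟩ := Finset.mem_image.1 hx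
        exact hrep' _ _ ((hrep g').trans hgx.symm)⟩
  rw [Rank.card_block hM hmax.1.2.1 X hXo hXu,
    ← Finset.sum_fiberwise_of_maps_to (s := R) (t := X) (g := fun t : P => rep (t : G)) (fun t _ =>
      Finset.mem_image_of_mem _ (Finset.mem_filter.2 ⟨Finset.mem_univ _, hel t⟩))]
  refine Finset.sum_congr rfl fun x hxX => ?_
  haveI := Fintype.ofFinite (Cfsg.IrrCharacter (Subgroup.centralizer ({x} : Set G)))
  haveI := Fintype.ofFinite (Set (Cfsg.IrrCharacter (Subgroup.centralizer ({x} : Set G))))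
  rw [ZStar.Principal.finsum_mem_eq_sum_filter]
  -- the transported blocks
  have hex : ∀ t : P, rep (t : G) = x → ∃ g : G,
      ∃ b : Set (Cfsg.IrrCharacter (Subgroup.centralizer ({x} : Set G))),
      g * t * g⁻¹ = x ∧ Cfsg.IsInducedBlock M (Subgroup.centralizer ({x} : Set G)) b B ∧
      Cfsg.blockRank p b = Cfsg.blockRank p (f t) ∧
      elF (Subgroup.centralizer ({x} : Set G)) b =
        elF _ (Cfsg.conjBlock (Subgroup.zpowers (t : G)) g (f t)) := by
    intro t ht
    obtain ⟨g, hg⟩ := _root_.isConj_iff.1 (ht ▸ hrep (t : G))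
    have hzp : cj (Subgroup.zpowers (t : G)) g = Subgroup.zpowers x := by rw [cj_zpowers, hg]
    have hpair := isBrauerPairOf_conj hM g ((block_of_subpairLE hM (hf t)).2 hmax.1)
    have hab' : cj (Subgroup.zpowers (t : G)) g ≤
        Subgroup.centralizer (cj (Subgroup.zpowers (t : G)) g : Set G) := by
      rw [hzp]
      exact Subgroup.zpowers_le.2
        (mem_centralizer_zpowers.2 (Subgroup.mem_centralizer_singleton_iff.2 rfl))
    obtain ⟨b, hb, he, hr, -⟩ := exists_of_pair hM hpair hab'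
      (H := Subgroup.centralizer ({x} : Set G))
      (by rw [hzp]; exact LocalBlock.centralizer_eq_zpowers x)
    refine ⟨g, b, hg, hb, ?_, he⟩
    rw [hr, conjBlock_eq, blockRank_pullSet]
  choose gg bb hgg hbb hrk hel' using hex
  refine (Finset.sum_bij (fun b _ => b) ?_ ?_ ?_ ?_).trans
    (Finset.sum_bij (s := (R.filter fun t : P => rep (t : G) = x).attach)
      (t := Finset.univ.filter fun b : Set (Cfsg.IrrCharacter
        (Subgroup.centralizer ({x} : Set G))) =>
          Cfsg.IsInducedBlock M (Subgroup.centralizer ({x} : Set G)) b B)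
      (f := fun t => Cfsg.blockRank p (f t.1)) (g := fun b => Cfsg.blockRank p b)
      (fun t _ => bb t.1 (Finset.mem_filter.1 t.2).2) ?_ ?_ ?_ ?_).symm |>.trans
    (Finset.sum_attach (R.filter fun t : P => rep (t : G) = x) fun t => Cfsg.blockRank p (f t))
  · exact fun b hb => Finset.mem_filter.2 ⟨Finset.mem_univ _, (Finset.mem_filter.1 hb).2⟩
  · exact fun a _ b _ h => h
  · exact fun b hb => ⟨b, Finset.mem_filter.2 ⟨Finset.mem_univ _, (Finset.mem_filter.1 hb).2⟩, rfl⟩
  · exact fun b _ => rfl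
  · exact fun t _ => Finset.mem_filter.2 ⟨Finset.mem_univ _, hbb _ _⟩
  · rintro ⟨t, ht⟩ - ⟨t', ht'⟩ - heq
    obtain ⟨htR, htx⟩ := Finset.mem_filter.1 ht
    obtain ⟨htR', htx'⟩ := Finset.mem_filter.1 ht'
    refine Subtype.ext ?_
    have h1 := hel' t htx
    rw [show bb t htx = bb t' htx' from heq, hel' t' htx'] at h1
    set g := gg t htx
    set g' := gg t' htx'
    have hg : g * (t : G) * g⁻¹ = x := hgg t htx
    have hg' : g' * (t' : G) * g'⁻¹ = x := hgg t' htx'
    have hcj : cjPair g (⟨_, f t⟩ : Cfsg.BrauerPairIdx G) = cjPair g' ⟨_, f t'⟩ := by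
      refine idx_ext ?_ fun z => ?_
      · show cj (Subgroup.zpowers (t : G)) g = cj (Subgroup.zpowers (t' : G)) g'
        rw [cj_zpowers, cj_zpowers, hg, hg']
      · exact (congrArg (fun w : MonoidAlgebra ℂ G => w.coeff z) h1).symm
    have hmove : cjPair (g'⁻¹ * g) (⟨_, f t⟩ : Cfsg.BrauerPairIdx G) = ⟨_, f t'⟩ := by
      rw [← cjPair_mul, hcj, cjPair_mul, inv_mul_cancel, cjPair_one]
    have hcj1 : cj (Subgroup.zpowers (t : G)) (g'⁻¹ * g) = Subgroup.zpowers (t' : G) :=
      congrArg Sigma.fst hmove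
    have hle2 : Relation.ReflTransGen (Cfsg.NormalSubpairRel p M)
        (cjPair (g'⁻¹ * g) (⟨_, f t⟩ : Cfsg.BrauerPairIdx G)) ⟨P, e⟩ := by
      rw [hmove]; exact hf t'
    have hφ : Cfsg.conjHom (Subgroup.zpowers (t : G)) (g'⁻¹ * g) ∈
        (blockSystem hM hmax).Hom (Subgroup.zpowers (t : G)) :=
      ⟨Subgroup.zpowers_le.2 t.2, g'⁻¹ * g, fun _ => rfl, by
        show cj (Subgroup.zpowers (t : G)) (g'⁻¹ * g) ≤ P
        rw [hcj1]; exact Subgroup.zpowers_le.2 t'.2, f t, hf t, hle2⟩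
    have hS := isBlockFusion_blockSystem hM hmax
    obtain ⟨α, hα, he⟩ :=
      Fusion.Abelian.exists_aut hmax.1.1.1 (isSaturated hM hS) hab (Fusion.Basic.IsMap.of_hom hφ)
    obtain ⟨w, rfl⟩ := (autGroup_eq hM hS (Q := P) (f := e) Relation.ReflTransGen.refl) ▸ hα
    refine hsep t htR t' htR' w w.2 ?_
    have h2 := he t (Subgroup.mem_zpowers _)
    rw [Fusion.Basic.autFun_of_mem _ t.2, coe_autHom,
      show (t : G) = ((⟨t, Subgroup.mem_zpowers _⟩ : Subgroup.zpowers (t : G)) : G) from rfl,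
      Fusion.Basic.ext_apply] at h2
    have h3 : (g'⁻¹ * g) * (t : G) * (g'⁻¹ * g)⁻¹ = (t' : G) := by
      rw [show g'⁻¹ * g * (t : G) * (g'⁻¹ * g)⁻¹ = g'⁻¹ * (g * t * g⁻¹) * g' by group, hg, ← hg']
      group
    exact h2.trans h3
  · intro b hb
    have hb' := (Finset.mem_filter.1 hb).2
    obtain ⟨k, hk⟩ := hXo x hxX
    obtain ⟨h, hh, heh⟩ := exists_pair_of_induced hM (zpowers_isPGroup ⟨k, hk⟩)
      (Subgroup.zpowers_le.2 (mem_centralizer_zpowers.2
        (Subgroup.mem_centralizer_singleton_iff.2 rfl)))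
      (LocalBlock.centralizer_eq_zpowers x) hb'
    obtain ⟨g, hg⟩ := exists_conj_le hM hmax hh
    have htP : g * x * g⁻¹ ∈ P :=
      (subpairLE_facts hM hg).1 (Subgroup.mem_map_of_mem _ (Subgroup.mem_zpowers x))
    obtain ⟨r, hr, w, hw, hwr'⟩ := hcov ⟨_, htP⟩
    have hwr : w * (r : G) * w⁻¹ = g * x * g⁻¹ := hwr'
    have hrx : rep (r : G) = x := by
      rw [hrep' (r : G) x (_root_.isConj_iff.2 ⟨g⁻¹ * w, by
        rw [show g⁻¹ * w * (r : G) * (g⁻¹ * w)⁻¹ = g⁻¹ * (w * r * w⁻¹) * g by group, hwr]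
        group⟩), hXr x hxX]
    refine ⟨⟨r, Finset.mem_filter.2 ⟨hr, hrx⟩⟩, Finset.mem_attach _ _, ?_⟩
    set a : Cfsg.BrauerPairIdx G := ⟨_, f r⟩
    have hwe : cjPair w (⟨P, e⟩ : Cfsg.BrauerPairIdx G) = ⟨P, e⟩ := mem_stab_iff.1 hw
    have h1 : cjPair w a = cjPair g (⟨_, h⟩ : Cfsg.BrauerPairIdx G) := by
      refine eq_of_below hM hmax.1.1 ?_ ?_ hg
      · show cj (Subgroup.zpowers (r : G)) w = cj (Subgroup.zpowers x) g
        rw [cj_zpowers, cj_zpowers, hwr]
      · have := subpairLE_conj hM w (hf r)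
        rwa [hwe] at this
    set g₀ := gg r hrx
    have hg₀ : g₀ * (r : G) * g₀⁻¹ = x := hgg r hrx
    have hz : w⁻¹ * g * g₀ ∈ Subgroup.centralizer (Subgroup.zpowers (r : G) : Set G) := by
      refine mem_centralizer_zpowers.2 (Subgroup.mem_centralizer_singleton_iff.2 ?_)
      rw [← mul_inv_eq_iff_eq_mul, show w⁻¹ * g * g₀ * (r : G) * (w⁻¹ * g * g₀)⁻¹ =
        w⁻¹ * (g * (g₀ * r * g₀⁻¹) * g⁻¹) * w by group, hg₀, ← hwr]
      group
    have h2 : cjPair (w⁻¹ * g * g₀) a = a := mem_stab_iff.1 (centralizer_le_stab hz)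
    have h3 : cjPair g₀ a = (⟨_, h⟩ : Cfsg.BrauerPairIdx G) := by
      have h4 := congrArg (cjPair g⁻¹) h1
      rw [cjPair_mul, cjPair_mul, inv_mul_cancel, cjPair_one] at h4
      calc cjPair g₀ a = cjPair (g⁻¹ * w) (cjPair (w⁻¹ * g * g₀) a) := by
            rw [cjPair_mul]; congr 1; group
        _ = _ := by rw [h2]; exact h4
    have h5 : elF (Subgroup.centralizer ({x} : Set G)) (bb r hrx) =
        elF (Subgroup.centralizer ({x} : Set G)) b := by
      rw [hel' r hrx, ← heh]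
      have h7 : ∀ q q' : Cfsg.BrauerPairIdx G, q = q' →
          elF (Subgroup.centralizer (q.1 : Set G)) q.2 =
            elF (Subgroup.centralizer (q'.1 : Set G)) q'.2 := fun q q' e => by subst e; rfl
      have h8 := h7 _ _ h3
      simp only [cjPair, a] at h8
      exact h8
    refine set_eq_of_blockCoeff fun d => ?_
    have hK : ∀ (c : Set (Cfsg.IrrCharacter (Subgroup.centralizer ({x} : Set G)))),
        (elF (Subgroup.centralizer ({x} : Set G)) c).coeff (d : G) = Cfsg.blockCoeff c d := fun c => by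
      rw [elF, coeff_inclEl_mem, coeff_blockIdem]
    rw [← hK, ← hK, h5]
  · exact fun t _ => (hrk _ _).symm

end Cfsg.Agent.Blocks.OrbitCount
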