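import Mathlib

/-!
# Lattices for a cyclic group of order `p` over an unramified valuation ring

For an automorphism `γ` of order `p` of a lattice and an automorphism `h` of order `e` prime to
`p` normalising it, the two Tate cohomology groups have bases of `h`-eigenvectors, the difference
of their sizes is the trace of `γ`, and every assignment of eigenvalues to either basis is
realised by an endomorphism commuting with `γ` and `h`.
-/

set_option linter.style.haveILetI false
set_option linter.unusedSectionVars false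

namespace Cfsg.Agent.Blocks.CycLattice

open Module

variable {R : Type*} [CommRing R] [IsDomain R] [IsPrincipalIdealRing R] [IsLocalRing R]
variable {L : Type*} [AddCommGroup L] [Module R L]

/-- Every `x` is a combination of `f` modulo `U`, all whose relations modulo `U` are divisible
by `p`. -/
structure RelBasis (p : ℕ) (U W : Submodule R L) {ι : Type*} [Fintype ι] (f : ι → L) : Prop where
  span_eq : W = U ⊔ Submodule.span R (Set.range f)
  rel : ∀ a : ι → R, ∑ i, a i • f i ∈ U → ∀ i, (p : R) ∣ a i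

theorem exists_relBasis [IsNoetherian R L] {p : ℕ}
    (hp : IsLocalRing.maximalIdeal R = Ideal.span {(p : R)}) {U W : Submodule R L} {S : Set L}
    (hW : W = U ⊔ Submodule.span R S) :
    ∃ (n : ℕ) (f : Fin n → L), (∀ i, f i ∈ S) ∧ RelBasis p U W f := by
  classical
  have hfg : (Submodule.span R S).FG := IsNoetherian.noetherian _
  obtain ⟨F₀, hF₀S, hF₀⟩ := (Submodule.fg_span_iff_fg_span_finset_subset S).1 hfg
  have hex : ∃ n, ∃ f : Fin n → L, (∀ i, f i ∈ S) ∧ W = U ⊔ Submodule.span R (Set.range f) := by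
    refine ⟨F₀.card, fun i => (F₀.equivFin.symm i : L), fun i => hF₀S (F₀.equivFin.symm i).2, ?_⟩
    rw [hW, hF₀]
    congr 2
    ext x
    exact ⟨fun hx => ⟨F₀.equivFin ⟨x, hx⟩, by simp⟩, by rintro ⟨i, rfl⟩; exact (F₀.equivFin.symm i).2⟩
  obtain ⟨f, hfS, hf⟩ := Nat.find_spec hex
  refine ⟨_, f, hfS, hf, fun a ha i => ?_⟩
  by_contra hi
  have hunit : IsUnit (a i) := by
    by_contra h
    refine hi (Ideal.mem_span_singleton.1 ?_)
    rw [← hp]
    exact h
  have h0 : Nat.find hex ≠ 0 := fun e => (e ▸ i : Fin 0).elim0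
  obtain ⟨n, hn⟩ := Nat.exists_eq_succ_of_ne_zero h0
  refine Nat.find_min hex (m := n) (by omega) ?_
  revert i
  revert a f
  rw [hn]
  intro f hfS hf a ha i _ hunit
  refine ⟨f ∘ i.succAbove, fun j => hfS _, le_antisymm ?_ ?_⟩
  · rw [hf]
    refine sup_le le_sup_left ?_
    have hfi : f i ∈ U ⊔ Submodule.span R (Set.range (f ∘ i.succAbove)) := by
      have h1 : a i • f i ∈ U ⊔ Submodule.span R (Set.range (f ∘ i.succAbove)) := by
        rw [Fin.sum_univ_succAbove _ i] at ha
        rw [show a i • f i = (a i • f i + ∑ j, a (i.succAbove j) • f (i.succAbove j)) -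
          ∑ j, a (i.succAbove j) • f (i.succAbove j) by abel]
        exact sub_mem (Submodule.mem_sup_left ha) (Submodule.mem_sup_right
          (sum_mem fun j _ => Submodule.smul_mem _ _ (Submodule.subset_span ⟨j, rfl⟩)))
      exact (Submodule.smul_mem_iff_of_isUnit _ hunit).1 h1
    rw [Submodule.span_le, Set.range_subset_iff]
    intro j
    rcases Fin.eq_self_or_eq_succAbove i j with rfl | ⟨l, rfl⟩
    · exact hfi
    · exact Submodule.mem_sup_right (Submodule.subset_span ⟨l, rfl⟩)
  · rw [hf]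
    exact sup_le_sup_left (Submodule.span_mono (Set.range_comp_subset_range _ _)) _

/-- Relative bases compose. -/
theorem relBasis_append {p : ℕ} {U W W' : Submodule R L} {ι κ : Type*} [Fintype ι] [Fintype κ]
    {f : ι → L} {g : κ → L} (hf : RelBasis p U W f) (hg : RelBasis p W W' g)
    (hpW : ∀ x ∈ W', (p : R) • x ∈ U) : RelBasis p U W' (Sum.elim f g) := by
  constructor
  · rw [hg.span_eq, hf.span_eq, Set.Sum.elim_range, Submodule.span_union, sup_assoc]
  · intro a ha
    have hWf : ∑ i, a (Sum.inl i) • f i ∈ W := by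
      rw [hf.span_eq]
      exact Submodule.mem_sup_right (sum_mem fun i _ =>
        Submodule.smul_mem _ _ (Submodule.subset_span ⟨i, rfl⟩))
    rw [Fintype.sum_sum_type] at ha
    simp only [Sum.elim_inl, Sum.elim_inr] at ha
    have hUW : U ≤ W := hf.span_eq ▸ le_sup_left
    have hg' := hg.rel (fun j => a (Sum.inr j)) (by simpa using sub_mem (hUW ha) hWf)
    choose b hb using hg'
    have hgU : ∑ j, a (Sum.inr j) • g j ∈ U := by
      refine sum_mem fun j _ => ?_
      rw [hb j, mul_comm, mul_smul]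
      refine U.smul_mem _ (hpW _ ?_)
      rw [hg.span_eq]
      exact Submodule.mem_sup_right (Submodule.subset_span ⟨j, rfl⟩)
    have hf' := hf.rel (fun i => a (Sum.inl i)) (by simpa using sub_mem ha hgU)
    rintro (i | j)
    · exact hf' i
    · exact ⟨b j, hb j⟩

/-- Independence modulo `p` over a saturated submodule gives independence. -/
theorem eq_zero_of_rel {p : ℕ} (hp : IsLocalRing.maximalIdeal R = Ideal.span {(p : R)})
    {K : Submodule R L} (hK : ∀ x, (p : R) • x ∈ K → x ∈ K) {ι : Type*} [Fintype ι] {f : ι → L}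
    (hf : ∀ a : ι → R, ∑ i, a i • f i ∈ K → ∀ i, (p : R) ∣ a i) {a : ι → R}
    (ha : ∑ i, a i • f i ∈ K) (i : ι) : a i = 0 := by
  have key : ∀ n : ℕ, ∀ a : ι → R, ∑ i, a i • f i ∈ K → ∀ i, (p : R) ^ n ∣ a i := by
    intro n
    induction n with
    | zero => intros; rw [pow_zero]; exact one_dvd _
    | succ n ih =>
      intro a ha i
      choose b hb using hf a ha
      have hbK : ∑ i, b i • f i ∈ K := by
        refine hK _ ?_
        rw [Finset.smul_sum]
        simpa only [smul_smul, ← hb] using ha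
      rw [hb i, pow_succ']
      exact mul_dvd_mul_left _ (ih b hbK i)
  have hmem : a i ∈ ⨅ n : ℕ, IsLocalRing.maximalIdeal R ^ n := Submodule.mem_iInf _ |>.2 fun n => by
    rw [hp, Ideal.span_singleton_pow]
    exact Ideal.mem_span_singleton.2 (key n a ha i)
  rwa [Ideal.iInf_pow_eq_bot_of_isLocalRing _ (IsLocalRing.maximalIdeal.isMaximal R).ne_top,
    Submodule.mem_bot] at hmem

theorem eq_top_of_sup_smul [Module.Finite R L] {p : ℕ}
    (hp : IsLocalRing.maximalIdeal R = Ideal.span {(p : R)}) {S : Submodule R L}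
    (h : ∀ x, ∃ s ∈ S, ∃ y, x = s + (p : R) • y) : S = ⊤ := by
  refine eq_top_iff.2 (Submodule.le_of_le_smul_of_le_jacobson_bot Module.Finite.fg_top
    (IsLocalRing.maximalIdeal_le_jacobson ⊥) fun x _ => ?_)
  obtain ⟨s, hs, y, rfl⟩ := h x
  refine add_mem (Submodule.mem_sup_left hs) (Submodule.mem_sup_right
    (Submodule.smul_mem_smul ?_ Submodule.mem_top))
  rw [hp]
  exact Ideal.mem_span_singleton_self _

section

variable (p : ℕ) (γ : Module.End R L)

/-- The norm of `γ`. -/
noncomputable def nrm : Module.End R L := ∑ i ∈ Finset.range p, γ ^ i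

/-- The fixed vectors of `γ`. -/
def fixd : Submodule R L := LinearMap.ker (γ - 1)

variable {p γ}

theorem mem_fixd {x : L} : x ∈ fixd γ ↔ γ x = x := by
  simp [fixd, sub_eq_zero]

theorem pow_apply_fixd {x : L} (hx : x ∈ fixd γ) (i : ℕ) : (γ ^ i) x = x := by
  induction i with
  | zero => simp
  | succ i ih => rw [pow_succ, Module.End.mul_apply, mem_fixd.1 hx, ih]

theorem nrm_apply (x : L) : nrm p γ x = ∑ i ∈ Finset.range p, (γ ^ i) x := by
  simp [nrm, LinearMap.sum_apply]

theorem nrm_fixd {x : L} (hx : x ∈ fixd γ) : nrm p γ x = (p : R) • x := by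
  rw [nrm_apply, Finset.sum_congr rfl fun i _ => pow_apply_fixd hx i, Finset.sum_const,
    Finset.card_range, Nat.cast_smul_eq_nsmul]

theorem sub_one_mul_nrm (hγ : γ ^ p = 1) : (γ - 1) * nrm p γ = 0 := by
  rw [nrm, mul_geom_sum, hγ, sub_self]

theorem nrm_mul_sub_one (hγ : γ ^ p = 1) : nrm p γ * (γ - 1) = 0 := by
  rw [nrm, geom_sum_mul, hγ, sub_self]

theorem nrm_mem_fixd (hγ : γ ^ p = 1) (x : L) : nrm p γ x ∈ fixd γ := by
  show (γ - 1) (nrm p γ x) = 0
  rw [← Module.End.mul_apply, sub_one_mul_nrm hγ, LinearMap.zero_apply]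

theorem range_le_ker (hγ : γ ^ p = 1) : LinearMap.range (γ - 1) ≤ LinearMap.ker (nrm p γ) := by
  rintro _ ⟨x, rfl⟩
  rw [LinearMap.mem_ker, ← Module.End.mul_apply, nrm_mul_sub_one hγ, LinearMap.zero_apply]

theorem pow_sub_one_mem (i : ℕ) (x : L) : (γ ^ i) x - x ∈ LinearMap.range (γ - 1) := by
  refine ⟨(∑ j ∈ Finset.range i, γ ^ j) x, ?_⟩
  rw [← Module.End.mul_apply, mul_geom_sum, LinearMap.sub_apply, Module.End.one_apply]

theorem p_smul_mem (hγ : γ ^ p = 1) (x : L) :
    (p : R) • x ∈ fixd γ ⊔ LinearMap.range (γ - 1) := by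
  rw [show (p : R) • x = nrm p γ x + ((p : R) • x - nrm p γ x) by abel]
  refine add_mem (Submodule.mem_sup_left (nrm_mem_fixd hγ x)) (Submodule.mem_sup_right ?_)
  rw [nrm_apply, Nat.cast_smul_eq_nsmul, ← Finset.card_range p, ← Finset.sum_const,
    Finset.card_range, ← Finset.sum_sub_distrib]
  exact sum_mem fun i _ => by simpa using neg_mem (pow_sub_one_mem (γ := γ) i x)

/-- `(γ - 1) ^ (p - 1)` is the norm plus `p` times an endomorphism congruent to `-1`. -/
theorem exists_pow_eq_nrm (hp : p.Prime) :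
    ∃ W : Module.End R L, (γ - 1) ^ (p - 1) = nrm p γ + (p : R) • W ∧
      ∀ x, W x + x ∈ LinearMap.range (γ - 1) := by
  open Polynomial in
  haveI := Fact.mk hp
  obtain ⟨k, hk⟩ : ∃ k : Polynomial ℤ, (Polynomial.X - 1) ^ (p - 1) -
      ∑ i ∈ Finset.range p, Polynomial.X ^ i = Polynomial.C (p : ℤ) * k := by
    refine Polynomial.C_dvd_iff_dvd_coeff _ _ |>.2 fun i => ?_
    refine (ZMod.intCast_zmod_eq_zero_iff_dvd _ p).1 ?_
    rw [← eq_intCast (Int.castRingHom (ZMod p)), ← Polynomial.coeff_map,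
      Polynomial.map_sub, Polynomial.map_pow, Polynomial.map_sub, Polynomial.map_X,
      Polynomial.map_one, Polynomial.map_sum]
    simp only [Polynomial.map_pow, Polynomial.map_X]
    rw [show ∑ j ∈ Finset.range p, (Polynomial.X : Polynomial (ZMod p)) ^ j =
      (Polynomial.X - 1) ^ (p - 1) from ?_, sub_self, Polynomial.coeff_zero]
    refine mul_right_cancel₀ (b := (Polynomial.X - 1 : Polynomial (ZMod p)))
      (by simpa using Polynomial.X_sub_C_ne_zero (1 : ZMod p)) ?_
    rw [geom_sum_mul, ← pow_succ, Nat.sub_add_cancel hp.one_le, sub_pow_char, one_pow]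
  have hk1 : k.eval 1 = -1 := by
    have h := congrArg (Polynomial.eval (1 : ℤ)) hk
    simp only [Polynomial.eval_sub, Polynomial.eval_pow, Polynomial.eval_X, Polynomial.eval_one,
      sub_self, zero_pow (show p - 1 ≠ 0 by have := hp.two_le; omega), Polynomial.eval_finsetSum,
      one_pow, Finset.sum_const, Finset.card_range, nsmul_eq_mul, mul_one, zero_sub,
      Polynomial.eval_mul, Polynomial.eval_C] at h
    exact mul_left_cancel₀ (Int.natCast_ne_zero.2 hp.ne_zero) (by linarith)
  refine ⟨Polynomial.aeval γ k, ?_, fun x => ?_⟩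
  · have h := congrArg (Polynomial.aeval γ) hk
    simp only [map_sub, map_pow, Polynomial.aeval_X, map_one, map_sum, map_mul, map_natCast] at h
    rw [nrm, eq_add_of_sub_eq' h, Nat.cast_smul_eq_nsmul, nsmul_eq_mul]
  · obtain ⟨q, hq⟩ := Polynomial.X_sub_C_dvd_sub_C_eval (p := k) (a := (1 : ℤ))
    refine ⟨Polynomial.aeval γ q x, ?_⟩
    have h := congrArg (Polynomial.aeval γ) hq
    rw [hk1] at h
    simp only [map_sub, map_neg, map_mul, Polynomial.aeval_X, map_one, sub_neg_eq_add] at h
    rw [← Module.End.mul_apply, ← h]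
    simp

end

section

variable [CharZero R] [Module.Free R L] [Module.Finite R L] {p : ℕ} (hp : p.Prime)
  (hmax : IsLocalRing.maximalIdeal R = Ideal.span {(p : R)}) {γ : Module.End R L}
  (hγ : γ ^ p = 1)

include hp in
theorem natCast_ne_zero : (p : R) ≠ 0 := Nat.cast_ne_zero.2 hp.ne_zero

include hp in
theorem ker_saturated (f : Module.End R L) (x : L) (hx : (p : R) • x ∈ LinearMap.ker f) :
    x ∈ LinearMap.ker f := by
  rw [LinearMap.mem_ker, map_smul, smul_eq_zero] at hx
  exact hx.resolve_left (natCast_ne_zero hp)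

include hp hγ in
theorem mem_of_pow_sub_one {k : ℕ} (hk : k < p - 1) {y x : L}
    (hx : ((γ - 1) ^ k) y - (p : R) • x ∈ fixd γ) : y ∈ fixd γ ⊔ LinearMap.range (γ - 1) := by
  obtain ⟨W, hW, hW1⟩ := exists_pow_eq_nrm (γ := γ) hp
  obtain ⟨j, hj⟩ : ∃ j, p - 1 - k = j + 1 := ⟨p - 1 - k - 1, by omega⟩
  have h1 : ((γ - 1) ^ (p - 1)) y = (p : R) • ((γ - 1) ^ (j + 1)) x := by
    rw [show p - 1 = (j + 1) + k by omega, pow_add, Module.End.mul_apply, ← map_smul,
      ← sub_eq_zero, ← map_sub, pow_succ, Module.End.mul_apply]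
    rw [show (γ - 1) (((γ - 1) ^ k) y - (p : R) • x) = 0 from hx, map_zero]
  rw [hW, LinearMap.add_apply, LinearMap.smul_apply] at h1
  have h2 : (p : R) • (W y - ((γ - 1) ^ (j + 1)) x) ∈ fixd γ := by
    rw [smul_sub, ← h1, sub_add_cancel_right]
    exact neg_mem (nrm_mem_fixd hγ y)
  have h3 : W y - ((γ - 1) ^ (j + 1)) x ∈ fixd γ := ker_saturated hp _ _ h2
  rw [show y = (W y + y) - (W y - ((γ - 1) ^ (j + 1)) x) - ((γ - 1) ^ (j + 1)) x by abel]
  refine sub_mem (sub_mem (Submodule.mem_sup_right (hW1 y)) (Submodule.mem_sup_left h3))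
    (Submodule.mem_sup_right ?_)
  rw [pow_succ', Module.End.mul_apply]
  exact LinearMap.mem_range_self _ _

include hp hmax hγ in
theorem relBasis_pow {d : ℕ} {b : Fin d → L}
    (hb : RelBasis p (fixd γ ⊔ LinearMap.range (γ - 1)) ⊤ b)
    {a : Fin (p - 1) × Fin d → R}
    (ha : ∑ il, a il • ((γ - 1) ^ (il.1 : ℕ)) (b il.2) ∈ fixd γ) :
    ∀ il, a il = 0 := by
  intro il
  refine eq_zero_of_rel hmax (K := fixd γ)
    (fun x hx => ker_saturated hp _ x hx) (fun a ha => ?_) ha il
  suffices h : ∀ k : ℕ, k ≤ p - 1 → ∀ il : Fin (p - 1) × Fin d, (il.1 : ℕ) < k → (p : R) ∣ a il from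
    fun il => h (p - 1) le_rfl il il.1.isLt
  intro k
  induction k with
  | zero => intro _ il h; omega
  | succ k ih =>
    intro hk il hil
    rcases Nat.lt_succ_iff_lt_or_eq.1 hil with h | h
    · exact ih (by omega) il h
    classical
    -- the part below level `k` is a multiple of `p`
    choose c hc using fun il : {il : Fin (p - 1) × Fin d // (il.1 : ℕ) < k} =>
      ih (by omega) il.1 il.2
    let T := γ - 1
    have hsplit : ∑ il, a il • (T ^ (il.1 : ℕ)) (b il.2) =
        (p : R) • (∑ il : {il : Fin (p - 1) × Fin d // (il.1 : ℕ) < k},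
            c il • (T ^ (il.1.1 : ℕ)) (b il.1.2)) +
          (T ^ k) (∑ il : {il : Fin (p - 1) × Fin d // ¬ (il.1 : ℕ) < k},
            a il.1 • (T ^ ((il.1.1 : ℕ) - k)) (b il.1.2)) := by
      rw [← Fintype.sum_subtype_add_sum_subtype (fun il : Fin (p - 1) × Fin d => (il.1 : ℕ) < k),
        Finset.smul_sum, map_sum]
      congr 1
      · exact Finset.sum_congr rfl fun il _ => by rw [hc il, mul_smul]
      · refine Finset.sum_congr rfl fun il _ => ?_
        rw [map_smul, ← Module.End.mul_apply, ← pow_add,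
          Nat.add_sub_cancel' (not_lt.1 il.2)]
    rw [hsplit] at ha
    have hy := mem_of_pow_sub_one (x := -∑ il : {il : Fin (p - 1) × Fin d // (il.1 : ℕ) < k},
      c il • (T ^ (il.1.1 : ℕ)) (b il.1.2)) hp hγ (show k < p - 1 by omega)
      (by rw [smul_neg, sub_neg_eq_add, add_comm]; exact ha)
    have hlev : ∑ i : Fin d, a (⟨k, by omega⟩, i) • b i ∈ fixd γ ⊔ LinearMap.range (γ - 1) := by
      let e : Fin d → {il : Fin (p - 1) × Fin d // ¬ (il.1 : ℕ) < k} :=
        fun i => ⟨(⟨k, by omega⟩, i), lt_irrefl k⟩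
      rw [← Finset.sum_add_sum_compl (Finset.univ.image e)] at hy
      have hrest : ∑ il ∈ (Finset.univ.image e)ᶜ, a il.1 • (T ^ ((il.1.1 : ℕ) - k)) (b il.1.2) ∈
          LinearMap.range T := by
        refine sum_mem fun il hil => Submodule.smul_mem _ _ ?_
        obtain ⟨j, hj⟩ : ∃ j, (il.1.1 : ℕ) - k = j + 1 := by
          refine ⟨(il.1.1 : ℕ) - k - 1, ?_⟩
          have : (il.1.1 : ℕ) ≠ k := fun h => Finset.mem_compl.1 hil (Finset.mem_image.2
            ⟨il.1.2, Finset.mem_univ _, Subtype.ext (Prod.ext (Fin.ext h.symm) rfl)⟩)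
          have := il.2
          omega
        rw [hj, pow_succ', Module.End.mul_apply]
        exact LinearMap.mem_range_self _ _
      have := sub_mem hy (Submodule.mem_sup_right hrest)
      rw [add_sub_cancel_right, Finset.sum_image (fun i _ j _ h => congrArg (·.1.2) h)] at this
      simpa [e] using this
    have := hb.rel _ hlev il.2
    rwa [show ((⟨k, by omega⟩ : Fin (p - 1)), il.2) = il from Prod.ext (Fin.ext h.symm) rfl] at this

include hp hmax hγ in
theorem span_pow {d : ℕ} {b : Fin d → L}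
    (hb : RelBasis p (fixd γ ⊔ LinearMap.range (γ - 1)) ⊤ b) :
    fixd γ ⊔ Submodule.span R (Set.range fun il : Fin (p - 1) × Fin d =>
      ((γ - 1) ^ (il.1 : ℕ)) (b il.2)) = ⊤ := by
  set T := γ - 1 with hT
  set S := fixd γ ⊔ Submodule.span R (Set.range fun il : Fin (p - 1) × Fin d =>
    (T ^ (il.1 : ℕ)) (b il.2))
  obtain ⟨W, hW, -⟩ := exists_pow_eq_nrm (γ := γ) hp
  -- powers of `γ - 1` on the family stay in the span modulo `p`
  have hpow : ∀ (i : Fin d) (n : ℕ), ∃ s ∈ S, ∃ y, (T ^ n) (b i) = s + (p : R) • y := by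
    intro i n
    rcases lt_or_ge n (p - 1) with h | h
    · exact ⟨_, Submodule.mem_sup_right (Submodule.subset_span ⟨(⟨n, h⟩, i), rfl⟩), 0, by simp⟩
    · refine ⟨nrm p γ ((T ^ (n - (p - 1))) (b i)),
        Submodule.mem_sup_left (nrm_mem_fixd hγ _), W ((T ^ (n - (p - 1))) (b i)), ?_⟩
      conv_lhs => rw [← Nat.add_sub_cancel' h, pow_add, Module.End.mul_apply, hW]
      simp
  have hiter : ∀ (n : ℕ) (x : L), ∃ s ∈ S, ∃ y z, x = s + (p : R) • y + (T ^ n) z := by
    intro n
    induction n with
    | zero => exact fun x => ⟨0, zero_mem _, 0, x, by simp⟩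
    | succ n ih =>
      intro x
      obtain ⟨s, hs, y, z, rfl⟩ := ih x
      have hz : z ∈ (fixd γ ⊔ LinearMap.range T) ⊔ Submodule.span R (Set.range b) :=
        hb.span_eq ▸ Submodule.mem_top
      obtain ⟨_, hu, w, hw, rfl⟩ := Submodule.mem_sup.1 hz
      obtain ⟨f, hf, _, ⟨z', rfl⟩, rfl⟩ := Submodule.mem_sup.1 hu
      obtain ⟨s', hs', y', hy'⟩ : ∃ s ∈ S, ∃ y, (T ^ n) w = s + (p : R) • y := by
        clear * - hw hpow
        induction hw using Submodule.span_induction with
        | mem w hw => obtain ⟨i, rfl⟩ := hw; exact hpow i n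
        | zero => exact ⟨0, zero_mem _, 0, by simp⟩
        | add a c _ _ ha hc =>
          obtain ⟨s, hs, y, hy⟩ := ha
          obtain ⟨s', hs', y', hy'⟩ := hc
          exact ⟨s + s', add_mem hs hs', y + y', by rw [map_add, hy, hy', smul_add]; abel⟩
        | smul r a _ ha =>
          obtain ⟨s, hs, y, hy⟩ := ha
          exact ⟨r • s, Submodule.smul_mem _ r hs, r • y, by rw [map_smul, hy, smul_add, smul_comm]⟩
      obtain ⟨f', hf', hff⟩ : ∃ f' ∈ S, (T ^ n) f = f' := by
        cases n with
        | zero => exact ⟨f, Submodule.mem_sup_left hf, by simp⟩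
        | succ n =>
          refine ⟨0, zero_mem _, ?_⟩
          rw [pow_succ, Module.End.mul_apply, show T f = 0 from hf, map_zero]
      refine ⟨s + f' + s', add_mem (add_mem hs hf') hs', y + y', z', ?_⟩
      rw [map_add, map_add, hff, hy', pow_succ, Module.End.mul_apply, smul_add]
      abel
  refine eq_top_of_sup_smul hmax fun x => ?_
  obtain ⟨s, hs, y, z, rfl⟩ := hiter p x
  obtain ⟨s', hs', y', hy'⟩ : ∃ s ∈ S, ∃ y, (T ^ p) z = s + (p : R) • y := by
    refine ⟨nrm p γ (T z), Submodule.mem_sup_left (nrm_mem_fixd hγ _), W (T z), ?_⟩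
    conv_lhs => rw [show p = (p - 1) + 1 by have := hp.one_le; omega, pow_succ,
      Module.End.mul_apply, hW]
    simp
  exact ⟨s + s', add_mem hs hs', y + y', by rw [hy', smul_add]; abel⟩

end

/-! ## Eigenvectors and endomorphisms -/

section

variable {e : ℕ} {h : Module.End R L} (he : 0 < e) (hh : h ^ e = 1) {ω : R}
  (hω : IsPrimitiveRoot ω e) (heu : IsUnit (e : R))

include he hh hω heu in
/-- A stable submodule is spanned by its eigenvectors. -/
theorem le_span_eigen {W : Submodule R L} (hW : ∀ x ∈ W, h x ∈ W) :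
    W ≤ Submodule.span R {x | x ∈ W ∧ ∃ μ : R, μ ^ e = 1 ∧ h x = μ • x} := by
  intro x hx
  set g := h ^ (e - 1) with hg
  have hhg : h * g = 1 := by rw [hg, ← pow_succ', Nat.sub_add_cancel he, hh]
  have hge : g ^ e = 1 := by rw [hg, ← pow_mul, mul_comm, pow_mul, hh, one_pow]
  have hgW : ∀ i, ∀ y ∈ W, (g ^ i) y ∈ W := by
    intro i y hy
    rw [hg, ← pow_mul]
    induction ((e - 1) * i) with
    | zero => simpa using hy
    | succ n ih => rw [pow_succ', Module.End.mul_apply]; exact hW _ ih
  set P : ℕ → Module.End R L := fun j => ∑ i ∈ Finset.range e, (ω ^ j • g) ^ i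
  have heig : ∀ j, h (P j x) = ω ^ j • P j x := by
    intro j
    have h1 : (ω ^ j • g) * P j = P j := by
      have hz : (ω ^ j • g - 1) * P j = 0 := by
        rw [mul_geom_sum, smul_pow, hge, ← pow_mul, mul_comm, pow_mul, hω.pow_eq_one, one_pow,
          one_smul, sub_self]
      rw [sub_mul, one_mul, sub_eq_zero] at hz
      exact hz
    have h2 : h * P j = ω ^ j • P j := by
      conv_lhs => rw [← h1]
      rw [← mul_assoc, mul_smul_comm, hhg, smul_mul_assoc, one_mul]
    simpa using congrArg (fun f : Module.End R L => f x) h2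
  have hsum : ∑ j ∈ Finset.range e, P j = (e : R) • 1 := by
    simp only [P, smul_pow]
    rw [Finset.sum_comm, Finset.sum_eq_single 0 ?_ (fun h0 => absurd (Finset.mem_range.2 he) h0)]
    · simp [← Nat.cast_smul_eq_nsmul R]
    · intro i hi hi0
      have hne : ω ^ i ≠ 1 := hω.pow_ne_one_of_pos_of_lt hi0 (Finset.mem_range.1 hi)
      have hz : ∑ j ∈ Finset.range e, (ω ^ j) ^ i = 0 := by
        have := geom_sum_mul (ω ^ i) e
        rw [← pow_mul, mul_comm i e, pow_mul, hω.pow_eq_one, one_pow, sub_self, mul_eq_zero,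
          or_iff_left (sub_ne_zero.2 hne)] at this
        rw [← this]
        exact Finset.sum_congr rfl fun j _ => by rw [← pow_mul, ← pow_mul, mul_comm]
      rw [← Finset.sum_smul, hz, zero_smul]
  refine (Submodule.smul_mem_iff_of_isUnit _ heu).1 ?_
  have hx' : (e : R) • x = ∑ j ∈ Finset.range e, P j x := by
    rw [← LinearMap.sum_apply, hsum]; simp
  rw [hx']
  refine sum_mem fun j _ => Submodule.subset_span ⟨?_, ω ^ j, ?_, heig j⟩
  · simp only [P, LinearMap.sum_apply, smul_pow, LinearMap.smul_apply]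
    exact sum_mem fun i _ => W.smul_mem _ (hgW i x hx)
  · rw [← pow_mul, mul_comm, pow_mul, hω.pow_eq_one, one_pow]

variable {p : ℕ} {γ : Module.End R L} (hγ : γ ^ p = 1) {u : ℕ} (hu : u.Coprime p)
  (hconj : h * γ = γ ^ u * h)

include hconj in
theorem mul_pow_conj (k : ℕ) : h * γ ^ k = γ ^ (u * k) * h := by
  induction k with
  | zero => simp
  | succ k ih => rw [pow_succ, ← mul_assoc, ih, mul_assoc, hconj, ← mul_assoc, ← pow_add, mul_add, mul_one]

include hγ hu in
theorem exists_pow_inv : ∃ u', γ ^ (u * u') = γ := by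
  rcases Nat.lt_or_ge 1 p with hp | hp
  · obtain ⟨u', hu'⟩ := Nat.exists_mul_mod_eq_one_of_coprime hu hp
    exact ⟨u', (pow_eq_pow_mod _ hγ).trans (by rw [hu'.2, pow_one])⟩
  · rcases Nat.le_one_iff_eq_zero_or_eq_one.1 hp with rfl | rfl
    · rw [Nat.coprime_zero_right] at hu
      exact ⟨1, by rw [hu, one_mul, pow_one]⟩
    · rw [pow_one] at hγ
      exact ⟨0, by simp [hγ]⟩

include hγ hu hconj in
theorem fixd_stable {x : L} (hx : x ∈ fixd γ) : h x ∈ fixd γ := by
  obtain ⟨u', hu'⟩ := exists_pow_inv hγ hu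
  have h1 := congrArg (fun f : Module.End R L => f x) (mul_pow_conj hconj u')
  rw [hu'] at h1
  simp only [Module.End.mul_apply, pow_apply_fixd hx] at h1
  exact mem_fixd.2 h1.symm

include he hh hγ hconj heu in
/-- Averaging over `h`. -/
theorem exists_average {φ₀ : Module.End R L} (h0 : φ₀ * γ = γ * φ₀) :
    ∃ φ : Module.End R L, φ * γ = γ * φ ∧ φ * h = h * φ ∧ ∀ (x : L) (μ c : R),
      h x = μ • x → φ₀ x = c • x → φ x = c • x := by
  obtain ⟨ei, hei⟩ := heu.exists_left_inv
  set g := h ^ (e - 1) with hg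
  have hgh : g * h = 1 := by rw [hg, ← pow_succ, Nat.sub_add_cancel he, hh]
  have hhg : h * g = 1 := by rw [hg, ← pow_succ', Nat.sub_add_cancel he, hh]
  have hcom : Commute g h := (Commute.refl h).pow_left _
  have hgih : ∀ i, g ^ i * h ^ i = 1 := fun i => by rw [← hcom.mul_pow, hgh, one_pow]
  have hγi : ∀ i, ∃ w, h ^ i * γ = γ ^ w * h ^ i := by
    intro i
    induction i with
    | zero => exact ⟨1, by simp⟩
    | succ i ih =>
      obtain ⟨w, hw⟩ := ih
      exact ⟨u * w, by rw [pow_succ', mul_assoc, hw, ← mul_assoc, mul_pow_conj hconj, mul_assoc]⟩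
  set F := fun i => g ^ i * φ₀ * h ^ i with hF
  refine ⟨ei • ∑ i ∈ Finset.range e, F i, ?_, ?_, ?_⟩
  · rw [smul_mul_assoc, mul_smul_comm, Finset.sum_mul, Finset.mul_sum]
    congr 1
    refine Finset.sum_congr rfl fun i _ => ?_
    obtain ⟨w, hw⟩ := hγi i
    have h1 : g ^ i * γ ^ w = γ * g ^ i := by
      calc g ^ i * γ ^ w = g ^ i * (γ ^ w * h ^ i) * g ^ i := by
            rw [mul_assoc (g ^ i), mul_assoc (γ ^ w), ← hcom.symm.mul_pow, hhg, one_pow, mul_one]
        _ = γ * g ^ i := by rw [← hw, ← mul_assoc, hgih, one_mul]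
    calc F i * γ = g ^ i * φ₀ * (h ^ i * γ) := by rw [hF]; simp only [mul_assoc]
      _ = g ^ i * (φ₀ * γ ^ w) * h ^ i := by rw [hw]; simp only [mul_assoc]
      _ = g ^ i * (γ ^ w * φ₀) * h ^ i := by rw [(Commute.pow_right (show Commute φ₀ γ from h0) w).eq]
      _ = γ * F i := by rw [← mul_assoc, h1, hF]; simp only [mul_assoc]
  · rw [smul_mul_assoc, mul_smul_comm, Finset.sum_mul, Finset.mul_sum]
    congr 1
    have hshift : ∀ i, F i * h = h * F (i + 1) := fun i => by
      simp only [hF, pow_succ' g, pow_succ h]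
      rw [← mul_assoc h, ← mul_assoc h, ← mul_assoc h, hhg, one_mul]
      simp only [mul_assoc]
    rw [Finset.sum_congr rfl fun i _ => hshift i]
    have h1 := Finset.sum_range_succ (fun i => h * F i) e
    rw [Finset.sum_range_succ'] at h1
    have he' : F e = F 0 := by simp [hF, hh, show g ^ e = 1 by rw [hg, ← pow_mul, mul_comm, pow_mul, hh, one_pow]]
    rw [he'] at h1
    exact add_right_cancel h1
  · intro x μ c hx hc
    have hpow : ∀ i, (h ^ i) x = μ ^ i • x := fun i => by
      induction i with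
      | zero => simp
      | succ i ih => rw [pow_succ', Module.End.mul_apply, ih, map_smul, hx, smul_smul, ← pow_succ]
    have hterm : ∀ i, F i x = c • x := fun i => by
      calc F i x = (g ^ i) (φ₀ ((h ^ i) x)) := rfl
        _ = c • (g ^ i) ((h ^ i) x) := by rw [hpow, map_smul φ₀, hc, smul_comm, map_smul]
        _ = c • x := by rw [← Module.End.mul_apply, hgih, Module.End.one_apply]
    rw [LinearMap.smul_apply, LinearMap.sum_apply, Finset.sum_congr rfl fun i _ => hterm i,
      Finset.sum_const, Finset.card_range, ← Nat.cast_smul_eq_nsmul R, smul_smul, hei, one_smul]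

end

section

variable [CharZero R] [Module.Free R L] [Module.Finite R L] {p : ℕ} (hp : p.Prime)
  (hmax : IsLocalRing.maximalIdeal R = Ideal.span {(p : R)}) {γ : Module.End R L}
  (hγ : γ ^ p = 1)

theorem relBasis_equiv {U W : Submodule R L} {ι κ : Type*} [Fintype ι] [Fintype κ] {f : ι → L}
    (σ : κ ≃ ι) (hf : RelBasis p U W f) : RelBasis p U W (f ∘ σ) := by
  refine ⟨by rw [hf.span_eq, EquivLike.range_comp], fun a ha i => ?_⟩
  have := hf.rel (a ∘ σ.symm) (by
    rw [← σ.sum_comp]
    simpa using ha) (σ i)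
  simpa using this

include hmax in
theorem not_mem_of_rel {U W : Submodule R L} {ι : Type*} [Fintype ι] {f : ι → L}
    (hf : RelBasis p U W f) (i : ι) : f i ∉ U := by
  classical
  intro h
  have := hf.rel (Pi.single i 1) (by simpa [Pi.single_apply, ite_smul] using h) i
  rw [Pi.single_eq_same] at this
  have h1 : (1 : R) ∈ IsLocalRing.maximalIdeal R := by
    rw [hmax]; exact Ideal.mem_span_singleton.2 this
  exact (IsLocalRing.maximalIdeal.isMaximal R).ne_top ((Ideal.eq_top_iff_one _).2 h1)

include hp hγ in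
theorem trace_nrm {ι : Type*} [Fintype ι] (bY : Basis ι R (L ⧸ LinearMap.ker (nrm p γ))) :
    LinearMap.trace R L (nrm p γ) = (p : R) * (Fintype.card ι : R) := by
  haveI := Module.Free.of_basis bY
  haveI := Module.Finite.of_basis bY
  set N := nrm p γ
  set K := LinearMap.ker N
  have h1 : N = (K.liftQ N le_rfl) ∘ₗ K.mkQ := (Submodule.liftQ_mkQ K N le_rfl).symm
  have h2 : K.mkQ ∘ₗ (K.liftQ N le_rfl) = (p : R) • (1 : Module.End R (L ⧸ K)) := by
    refine Submodule.linearMap_qext _ (LinearMap.ext fun x => ?_)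
    simp only [LinearMap.comp_apply, Submodule.mkQ_apply, Submodule.liftQ_apply,
      LinearMap.smul_apply, Module.End.one_apply]
    rw [← Submodule.Quotient.mk_smul, Submodule.Quotient.eq, LinearMap.mem_ker, map_sub,
      nrm_fixd (nrm_mem_fixd hγ x), map_smul, sub_self]
  rw [h1, LinearMap.trace_comp_comm', h2, map_smul, LinearMap.trace_one,
    Module.finrank_eq_card_basis bY, smul_eq_mul]

include hγ in
theorem sum_trace_sub_one {ι : Type*} [Fintype ι] (bX : Basis ι R (L ⧸ fixd γ)) :
    LinearMap.trace R L (nrm p γ) - (p : R) * (Module.finrank R L : R) =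
      -((p : R) * (Fintype.card ι : R)) := by
  haveI := Module.Free.of_basis bX
  haveI := Module.Finite.of_basis bX
  set F := fixd γ
  set D : Module.End R L := nrm p γ - (p : R) • 1
  have hD : F ≤ LinearMap.ker D := fun x hx => by
    simp [D, nrm_fixd hx]
  have h1 : D = (F.liftQ D hD) ∘ₗ F.mkQ := (Submodule.liftQ_mkQ F D hD).symm
  have h2 : F.mkQ ∘ₗ (F.liftQ D hD) = -((p : R) • (1 : Module.End R (L ⧸ F))) := by
    refine Submodule.linearMap_qext _ (LinearMap.ext fun x => ?_)
    simp only [LinearMap.comp_apply, Submodule.mkQ_apply, Submodule.liftQ_apply,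
      LinearMap.neg_apply, LinearMap.smul_apply, Module.End.one_apply, D, LinearMap.sub_apply]
    rw [Submodule.Quotient.mk_sub, (Submodule.Quotient.mk_eq_zero F).2 (nrm_mem_fixd hγ x),
      zero_sub, Submodule.Quotient.mk_smul]
  have h3 := LinearMap.trace_comp_comm' (F.mkQ) (F.liftQ D hD)
  rw [← h1, h2, map_neg, map_smul, LinearMap.trace_one, Module.finrank_eq_card_basis bX,
    smul_eq_mul] at h3
  rw [← h3, map_sub, map_smul, LinearMap.trace_one, smul_eq_mul]

include hp hmax hγ in
/-- The two eigenbases, their sizes and the endomorphisms with prescribed eigenvalues on them. -/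
theorem exists_eigen_pairs {h : Module.End R L} {e : ℕ} (he : 0 < e) (hh : h ^ e = 1) {u : ℕ}
    (hu : u.Coprime p) (hconj : h * γ = γ ^ u * h) {ω : R} (hω : IsPrimitiveRoot ω e)
    (heu : IsUnit (e : R)) {v : R}
    (hv : ∀ i, 0 < i → i < p → LinearMap.trace R L (γ ^ i) = v) :
    ∃ s t : ℕ, (s : R) = (t : R) + v ∧
      (∀ c : Fin s → R, ∃ φ : Module.End R L, φ * γ = γ * φ ∧ φ * h = h * φ ∧ ∀ i, ∃ x,
        γ x = x ∧ x ∉ LinearMap.ker (nrm p γ) ⊔ LinearMap.range ((p : R) • (1 : Module.End R L)) ∧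
          φ x = c i • x) ∧
      (∀ c : Fin t → R, ∃ φ : Module.End R L, φ * γ = γ * φ ∧ φ * h = h * φ ∧ ∀ i, ∃ x,
        nrm p γ x = 0 ∧ x ∉ fixd γ ⊔ LinearMap.range (γ - 1) ∧ φ x = c i • x) := by
  classical
  have hp0 : (p : R) ≠ 0 := natCast_ne_zero hp
  set F := fixd γ with hFdef
  set K := LinearMap.ker (nrm p γ) with hKdef
  set pL := LinearMap.range ((p : R) • (1 : Module.End R L)) with hpLdef
  set Us := K ⊔ pL
  set Ut := F ⊔ LinearMap.range (γ - 1)
  set W := F ⊔ K
  have hKstab : ∀ x ∈ K, h x ∈ K := by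
    intro x hx
    obtain ⟨u', hu'⟩ := exists_pow_inv hγ hu
    refine ker_saturated hp _ _ ?_
    rw [LinearMap.mem_ker, map_smul, ← nrm_fixd (nrm_mem_fixd hγ (h x))]
    have hN : nrm p γ * h * (γ - 1) = 0 := by
      have h1 : h * (γ - 1) = (γ ^ u - 1) * h := by rw [mul_sub, hconj, sub_mul, one_mul, mul_one]
      rw [mul_assoc, h1, ← mul_geom_sum, ← mul_assoc (nrm p γ), ← mul_assoc (nrm p γ),
        nrm_mul_sub_one hγ, zero_mul, zero_mul]
    obtain ⟨y, hy⟩ : nrm p γ x - (p : R) • x ∈ LinearMap.range (γ - 1) := by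
      rw [nrm_apply, Nat.cast_smul_eq_nsmul, ← Finset.card_range p, ← Finset.sum_const,
        Finset.card_range, ← Finset.sum_sub_distrib]
      exact sum_mem fun i _ => pow_sub_one_mem i x
    have h2 : nrm p γ (h ((p : R) • x)) = 0 := by
      have h3 := congrArg (fun f : Module.End R L => f y) hN
      simp only [Module.End.mul_apply, LinearMap.zero_apply, hy] at h3
      rw [LinearMap.mem_ker.1 hx, zero_sub, map_neg, map_neg, neg_eq_zero] at h3
      exact h3
    rw [map_smul, map_smul, smul_eq_zero, or_iff_right hp0] at h2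
    rw [h2, map_zero]
  set Sf := {x | x ∈ F ∧ ∃ μ : R, μ ^ e = 1 ∧ h x = μ • x}
  set Sk := {x | x ∈ K ∧ ∃ μ : R, μ ^ e = 1 ∧ h x = μ • x}
  have hSf : Submodule.span R Sf = F := le_antisymm (Submodule.span_le.2 fun x hx => hx.1)
    (le_span_eigen he hh hω heu fun x hx => fixd_stable hγ hu hconj hx)
  have hSk : Submodule.span R Sk = K := le_antisymm (Submodule.span_le.2 fun x hx => hx.1)
    (le_span_eigen he hh hω heu hKstab)
  have hpW : pL ≤ W := by
    rintro _ ⟨x, rfl⟩
    simp only [LinearMap.smul_apply, Module.End.one_apply]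
    rw [show (p : R) • x = nrm p γ x + ((p : R) • x - nrm p γ x) by abel]
    refine add_mem (Submodule.mem_sup_left (nrm_mem_fixd hγ x)) (Submodule.mem_sup_right ?_)
    rw [hKdef, LinearMap.mem_ker, map_sub, map_smul, nrm_fixd (nrm_mem_fixd hγ x), sub_self]
  have hWs : W = Us ⊔ Submodule.span R Sf := by
    rw [hSf]
    exact le_antisymm (sup_le le_sup_right (le_sup_left.trans le_sup_left))
      (sup_le (sup_le le_sup_right hpW) le_sup_left)
  have hWt : W = Ut ⊔ Submodule.span R Sk := by
    rw [hSk]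
    exact le_antisymm (sup_le (le_sup_left.trans le_sup_left) le_sup_right)
      (sup_le (sup_le le_sup_left ((range_le_ker hγ).trans le_sup_right)) le_sup_right)
  obtain ⟨s, vs, hvs, hbs⟩ := exists_relBasis hmax hWs
  obtain ⟨t, zs, hzs, hbt⟩ := exists_relBasis hmax hWt
  obtain ⟨q, ws, -, hbq⟩ := exists_relBasis hmax (U := W) (W := ⊤) (S := Set.univ)
    (by rw [Submodule.span_univ, sup_top_eq])
  have hBs := relBasis_append hbs hbq fun x _ =>
    Submodule.mem_sup_right ⟨x, by simp⟩
  have hBt := relBasis_append hbt hbq fun x _ => p_smul_mem hγ x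
  -- the basis of the quotient by the kernel of the norm
  set β := Sum.elim vs ws
  have hKsat : ∀ x, (p : R) • x ∈ K → x ∈ K := fun x hx => ker_saturated hp _ x hx
  have hindY : LinearIndependent R (K.mkQ ∘ β) := by
    refine Fintype.linearIndependent_iff.2 fun a ha i => eq_zero_of_rel hmax hKsat
      (fun b hb => hBs.rel b (Submodule.mem_sup_left hb)) ?_ i
    rw [← Submodule.Quotient.mk_eq_zero, ← Submodule.mkQ_apply, map_sum]
    simpa using ha
  have htopY : K ⊔ Submodule.span R (Set.range β) = ⊤ := by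
    refine eq_top_of_sup_smul hmax fun x => ?_
    have hx : x ∈ Us ⊔ Submodule.span R (Set.range β) := hBs.span_eq ▸ Submodule.mem_top
    obtain ⟨_, hU, w, hw, rfl⟩ := Submodule.mem_sup.1 hx
    obtain ⟨k, hk, _, ⟨y, rfl⟩, rfl⟩ := Submodule.mem_sup.1 hU
    exact ⟨k + w, add_mem (Submodule.mem_sup_left hk) (Submodule.mem_sup_right hw), y, by
      simp only [LinearMap.smul_apply, Module.End.one_apply]; abel⟩
  have hspanY : ⊤ ≤ Submodule.span R (Set.range (K.mkQ ∘ β)) := by
    rw [Set.range_comp, Submodule.span_image]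
    rintro y -
    obtain ⟨x, rfl⟩ := K.mkQ_surjective y
    have hx : x ∈ K ⊔ Submodule.span R (Set.range β) := htopY ▸ Submodule.mem_top
    obtain ⟨k, hk, w, hw, rfl⟩ := Submodule.mem_sup.1 hx
    exact ⟨w, hw, by rw [map_add, show K.mkQ k = 0 from (Submodule.Quotient.mk_eq_zero K).2 hk, zero_add]⟩
  set bY := Basis.mk hindY hspanY
  -- the basis of the quotient by the fixed vectors
  set σ := finSumFinEquiv (m := t) (n := q)
  set b := Sum.elim zs ws ∘ σ.symm
  have hBt' : RelBasis p Ut ⊤ b := relBasis_equiv σ.symm hBt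
  set βX := fun il : Fin (p - 1) × Fin (t + q) => ((γ - 1) ^ (il.1 : ℕ)) (b il.2)
  have hindX : LinearIndependent R (F.mkQ ∘ βX) := by
    refine Fintype.linearIndependent_iff.2 fun a ha => relBasis_pow hp hmax hγ hBt' ?_
    rw [← Submodule.Quotient.mk_eq_zero, ← Submodule.mkQ_apply, map_sum]
    simpa [βX] using ha
  have hspanX : ⊤ ≤ Submodule.span R (Set.range (F.mkQ ∘ βX)) := by
    rw [Set.range_comp, Submodule.span_image]
    rintro y -
    obtain ⟨x, rfl⟩ := F.mkQ_surjective y
    have hx : x ∈ F ⊔ Submodule.span R (Set.range βX) :=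
      (span_pow hp hmax hγ hBt').symm ▸ Submodule.mem_top
    obtain ⟨k, hk, w, hw, rfl⟩ := Submodule.mem_sup.1 hx
    exact ⟨w, hw, by rw [map_add, show F.mkQ k = 0 from (Submodule.Quotient.mk_eq_zero F).2 hk, zero_add]⟩
  set bX := Basis.mk hindX hspanX
  refine ⟨s, t, ?_, ?_, ?_⟩
  · have hY := trace_nrm hp hγ bY
    have hX := sum_trace_sub_one hγ bX
    simp only [Fintype.card_sum, Fintype.card_prod, Fintype.card_fin, Nat.cast_add, Nat.cast_mul,
      Nat.cast_sub hp.one_le, Nat.cast_one] at hY hX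
    have hN : LinearMap.trace R L (nrm p γ) =
        (Module.finrank R L : R) + ((p : R) - 1) * v := by
      rw [nrm, map_sum, Finset.sum_range_eq_add_Ico _ hp.pos, pow_zero, LinearMap.trace_one,
        Finset.sum_congr rfl fun i hi => hv i (Finset.mem_Ico.1 hi).1 (Finset.mem_Ico.1 hi).2,
        Finset.sum_const, Nat.card_Ico, nsmul_eq_mul, Nat.cast_sub hp.one_le, Nat.cast_one]
    have hp1 : (p : R) - 1 ≠ 0 := by
      rw [← Nat.cast_one, ← Nat.cast_sub hp.one_le, Nat.cast_ne_zero]
      have := hp.two_le; omega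
    have hn : (p : R) * (Module.finrank R L : R) =
        (p : R) * (((s : R) + q) + ((p : R) - 1) * ((t : R) + q)) := by
      linear_combination hY - hX
    have hn' := mul_left_cancel₀ hp0 hn
    refine mul_left_cancel₀ hp1 ?_
    linear_combination -hY + hN + hn'
  · intro c
    let φ₀ : Module.End R L :=
      ∑ i, c i • ((bY.coord (Sum.inl i)) ∘ₗ K.mkQ).smulRight (vs i)
    have hγK : ∀ x, K.mkQ (γ x) = K.mkQ x := fun x => (Submodule.Quotient.eq K).2 (range_le_ker hγ ⟨x, rfl⟩)
    have hc : φ₀ * γ = γ * φ₀ := by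
      refine LinearMap.ext fun x => ?_
      simp only [φ₀, Module.End.mul_apply, LinearMap.sum_apply, LinearMap.smul_apply,
        LinearMap.smulRight_apply, LinearMap.comp_apply, hγK, map_sum, map_smul,
        mem_fixd.1 (hvs _).1]
    obtain ⟨φ, h1, h2, h3⟩ := exists_average he hh heu hγ hconj hc
    refine ⟨φ, h1, h2, fun i => ⟨vs i, mem_fixd.1 (hvs i).1, not_mem_of_rel hmax hbs i, ?_⟩⟩
    obtain ⟨μ, -, hμ⟩ := (hvs i).2
    refine h3 _ μ _ hμ ?_
    have hbi : K.mkQ (vs i) = bY (Sum.inl i) := by rw [Basis.mk_apply]; rfl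
    simp only [φ₀, LinearMap.sum_apply, LinearMap.smul_apply, LinearMap.smulRight_apply,
      LinearMap.comp_apply, hbi, Basis.coord_apply, Basis.repr_self]
    rw [Finset.sum_eq_single i (fun j _ hj => by
      rw [Finsupp.single_eq_of_ne (fun e => hj (Sum.inl_injective e)), zero_smul, smul_zero])
      (by simp), Finsupp.single_eq_same, one_smul]
  · intro c
    -- functionals with prescribed values on the translates of the family
    let dfun : Fin t → (L →ₗ[R] R) := fun i =>
      (∑ l : Fin (p - 1), (-1 : R) ^ ((l : ℕ) + 1) • bX.coord (l, σ (Sum.inl i))) ∘ₗ F.mkQ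
    have hd : ∀ (i k : Fin t) (l : ℕ), l < p - 1 →
        dfun i ((γ ^ l) (zs k)) = if k = i ∧ l = 0 then -1 else 0 := by
      intro i k l hl
      have hbk : zs k = b (σ (Sum.inl k)) := by simp [b]
      have hT : ∀ j, j ≤ l → dfun i (((γ - 1) ^ j) (zs k)) =
          if k = i then (-1 : R) ^ (j + 1) else 0 := by
        intro j hj
        have he' : F.mkQ (((γ - 1) ^ j) (zs k)) = bX (⟨j, by omega⟩, σ (Sum.inl k)) := by
          rw [Basis.mk_apply, hbk]; rfl
        simp only [dfun, LinearMap.comp_apply, LinearMap.sum_apply, LinearMap.smul_apply, he',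
          Basis.coord_apply, Basis.repr_self, smul_eq_mul]
        by_cases hki : k = i
        · subst hki
          rw [if_pos rfl, Finset.sum_eq_single (⟨j, by omega⟩ : Fin (p - 1)) (fun l' _ hl' => by
            rw [Finsupp.single_eq_of_ne (fun e => hl' (Prod.ext_iff.1 e).1), mul_zero]) (by simp),
            Finsupp.single_eq_same, mul_one]
        · rw [if_neg hki]
          exact Finset.sum_eq_zero fun l' _ => by
            rw [Finsupp.single_eq_of_ne (fun e => hki
              (Sum.inl_injective (σ.injective (Prod.ext_iff.1 e).2)).symm), mul_zero]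
      have hγl : γ ^ l = ∑ j ∈ Finset.range (l + 1), (l.choose j : R) • (γ - 1) ^ j := by
        conv_lhs => rw [← sub_add_cancel γ 1, (Commute.one_right (γ - 1)).add_pow]
        refine Finset.sum_congr rfl fun j _ => ?_
        rw [one_pow, mul_one, Nat.cast_smul_eq_nsmul, nsmul_eq_mul']
      rw [hγl]
      simp only [LinearMap.sum_apply, LinearMap.smul_apply, map_sum, map_smul, smul_eq_mul]
      rw [Finset.sum_congr rfl fun j hj => by
        rw [hT j (by have := Finset.mem_range.1 hj; omega)]]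
      by_cases hki : k = i
      · simp only [hki, if_true, true_and]
        have h0 := Int.alternating_sum_range_choose (n := l)
        have h0' := congrArg (fun z : ℤ => -(z : R)) h0
        simp only [Int.cast_sum, Int.cast_mul, Int.cast_pow, Int.cast_neg, Int.cast_one,
          Int.cast_natCast, apply_ite (fun z : ℤ => (z : R)), Int.cast_zero] at h0'
        rw [show (if l = 0 then (-1 : R) else 0) = -(if l = 0 then 1 else 0) by split <;> simp,
          ← h0', ← Finset.sum_neg_distrib]
        exact Finset.sum_congr rfl fun j _ => by ring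
      · simp [hki]
    set g := γ ^ (p - 1)
    have hγg : γ * g = 1 := by rw [← pow_succ', Nat.sub_add_cancel hp.one_le, hγ]
    have hgp : g ^ p = 1 := by rw [← pow_mul, mul_comm, pow_mul, hγ, one_pow]
    set S := fun (i : Fin t) (j : ℕ) (x : L) => ∑ l ∈ Finset.range j, dfun i ((γ ^ l) x)
    let φi : Fin t → Module.End R L := fun i => ∑ j ∈ Finset.range p,
      ((dfun i) ∘ₗ (∑ l ∈ Finset.range j, γ ^ l)).smulRight ((g ^ j) (zs i))
    have hφi : ∀ i x, φi i x = ∑ j ∈ Finset.range p, S i j x • (g ^ j) (zs i) := fun i x => by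
      simp [φi, S, LinearMap.sum_apply, map_sum]
    have hSig : ∀ i, ∑ j ∈ Finset.range p, (g ^ j) (zs i) = 0 := by
      intro i
      set Sg := ∑ j ∈ Finset.range p, g ^ j
      have hS0 : ∑ j ∈ Finset.range p, (g ^ j) (zs i) = Sg (zs i) := (LinearMap.sum_apply ..).symm
      have hgS : g * Sg = Sg := by
        have : (g - 1) * Sg = 0 := by rw [mul_geom_sum, hgp, sub_self]
        rwa [sub_mul, one_mul, sub_eq_zero] at this
      have hfix : Sg (zs i) ∈ F := by
        rw [hFdef, mem_fixd]
        calc γ (Sg (zs i)) = (γ * g * Sg) (zs i) := by rw [mul_assoc, hgS]; rfl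
          _ = Sg (zs i) := by rw [hγg, one_mul]
      have hcomm : Commute (nrm p γ) Sg := Commute.sum_right _ _ _ fun j _ =>
        ((Commute.sum_left _ _ _ fun l _ => (Commute.refl γ).pow_pow _ _) : Commute (nrm p γ) g).pow_right j
      have h0 := nrm_fixd (p := p) hfix
      rw [← Module.End.mul_apply, hcomm.eq, Module.End.mul_apply,
        LinearMap.mem_ker.1 (hzs i).1, map_zero] at h0
      rw [hS0]
      exact (smul_eq_zero.1 h0.symm).resolve_left hp0
    let φ₀ : Module.End R L := ∑ i, c i • φi i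
    have hcomm : ∀ i x, φi i (γ x) = γ (φi i x) := by
      intro i x
      have hS : ∀ j, S i j (γ x) = S i (j + 1) x - dfun i x := fun j => by
        simp only [S, Finset.sum_range_succ', pow_zero, Module.End.one_apply, add_sub_cancel_right,
          pow_succ, Module.End.mul_apply]
      rw [hφi, hφi, Finset.sum_congr rfl fun j _ => by rw [hS j, sub_smul], Finset.sum_sub_distrib,
        ← Finset.smul_sum, hSig, smul_zero, sub_zero, map_sum]
      set Fj := fun j => S i j x • γ ((g ^ j) (zs i))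
      have hstep : ∀ j, S i (j + 1) x • (g ^ j) (zs i) = Fj (j + 1) := fun j => by
        simp only [Fj]
        rw [pow_succ' g, ← Module.End.mul_apply, ← mul_assoc, hγg, one_mul]
      rw [Finset.sum_congr rfl fun j _ => hstep j,
        Finset.sum_congr rfl fun j _ => show γ (S i j x • (g ^ j) (zs i)) = Fj j from map_smul γ _ _]
      have hSp : S i p x = 0 := by
        simp only [S, ← map_sum]
        rw [← nrm_apply]
        show (dfun i) (nrm p γ x) = 0
        simp only [dfun, LinearMap.comp_apply]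
        rw [show F.mkQ (nrm p γ x) = 0 from (Submodule.Quotient.mk_eq_zero F).2 (nrm_mem_fixd hγ x),
          map_zero]
      have h1 := Finset.sum_range_succ Fj p
      rw [Finset.sum_range_succ'] at h1
      simpa [Fj, hSp, S] using h1
    have hc : φ₀ * γ = γ * φ₀ := LinearMap.ext fun x => by
      simp only [φ₀, Module.End.mul_apply, LinearMap.sum_apply, LinearMap.smul_apply, map_sum,
        map_smul, hcomm]
    obtain ⟨φ, h1, h2, h3⟩ := exists_average he hh heu hγ hconj hc
    refine ⟨φ, h1, h2, fun k => ⟨zs k, LinearMap.mem_ker.1 (hzs k).1,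
      not_mem_of_rel hmax hbt k, ?_⟩⟩
    obtain ⟨μ, -, hμ⟩ := (hzs k).2
    refine h3 _ μ _ hμ ?_
    have hval : ∀ i, φi i (zs k) = if k = i then zs k else 0 := by
      intro i
      rw [hφi]
      have hS : ∀ j ∈ Finset.range p, S i j (zs k) =
          if k = i then (if j = 0 then (1 : R) else 0) - 1 else 0 := by
        intro j hj
        have hj' := Finset.mem_range.1 hj
        cases j with
        | zero => simp [S]
        | succ j =>
          simp only [S, if_neg (Nat.succ_ne_zero j), zero_sub]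
          rw [Finset.sum_congr rfl fun l hl =>
            hd i k l (by have := Finset.mem_range.1 hl; omega)]
          by_cases hki : k = i <;> simp [hki]
      rw [Finset.sum_congr rfl fun j hj => by rw [hS j hj]]
      by_cases hki : k = i
      · subst hki
        simp only [if_true, sub_smul, one_smul, Finset.sum_sub_distrib, hSig, sub_zero, ite_smul,
          zero_smul, Finset.sum_ite_eq', Finset.mem_range, if_pos hp.pos, pow_zero,
          Module.End.one_apply]
      · simp [hki]
    simp only [φ₀, LinearMap.sum_apply, LinearMap.smul_apply, hval, smul_ite, smul_zero,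
      Finset.sum_ite_eq, Finset.mem_univ, if_true]

end

end Cfsg.Agent.Blocks.CycLattice
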