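import Mathlib
import Cfsg.Agent.Lib.Blocks.LocalRing

/-!
# Discrete valuation rings of cyclotomic numbers at `M`

For a ring `A` of algebraic integers and `π ∈ A` such that a Frobenius power fixes `A` modulo
`π`, the fractions `a / b` with `b ∉ M` form a principal local ring with uniformiser `π`.
-/

set_option linter.style.haveILetI false
set_option linter.unusedSectionVars false

namespace Cfsg.Agent.Blocks

open Polynomial

variable {p : ℕ} {M : Ideal Cfsg.AlgInt}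

/-- The fractions `a / b` with `a, b ∈ A` and `b` outside the local ideal. -/
def localSub (hM : Cfsg.IsPModular p M) (A : Subalgebra ℤ ℂ) (hA : ∀ x ∈ A, IsIntegral ℤ x) :
    Subring ℂ where
  carrier := {z | ∃ a ∈ A, ∃ b ∈ A, ¬ Cfsg.MemLocalIdeal M b ∧ z = a / b}
  one_mem' := ⟨1, one_mem A, 1, one_mem A, not_ideal_one hM, (div_one 1).symm⟩
  zero_mem' := ⟨0, zero_mem A, 1, one_mem A, not_ideal_one hM, (zero_div 1).symm⟩
  neg_mem' := by
    rintro _ ⟨a, ha, b, hb, hbM, rfl⟩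
    exact ⟨-a, neg_mem ha, b, hb, hbM, by ring⟩
  mul_mem' := by
    rintro _ _ ⟨a, ha, b, hb, hbM, rfl⟩ ⟨c, hc, d, hd, hdM, rfl⟩
    refine ⟨a * c, mul_mem ha hc, b * d, mul_mem hb hd, fun h => ?_, by rw [div_mul_div_comm]⟩
    rcases (ideal_mul_iff hM (ring_of_isIntegral hM (hA b hb))
      (ring_of_isIntegral hM (hA d hd))).1 h with h' | h'
    · exact hbM h'
    · exact hdM h'
  add_mem' := by
    rintro _ _ ⟨a, ha, b, hb, hbM, rfl⟩ ⟨c, hc, d, hd, hdM, rfl⟩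
    refine ⟨a * d + b * c, add_mem (mul_mem ha hd) (mul_mem hb hc), b * d, mul_mem hb hd,
      fun h => ?_, by rw [div_add_div _ _ (ne_zero_of_not_ideal hM hbM)
        (ne_zero_of_not_ideal hM hdM)]⟩
    rcases (ideal_mul_iff hM (ring_of_isIntegral hM (hA b hb))
      (ring_of_isIntegral hM (hA d hd))).1 h with h' | h'
    · exact hbM h'
    · exact hdM h'

section

variable (hM : Cfsg.IsPModular p M) (A : Subalgebra ℤ ℂ) (hA : ∀ x ∈ A, IsIntegral ℤ x)

theorem mem_localSub {z : ℂ} : z ∈ localSub hM A hA ↔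
    ∃ a ∈ A, ∃ b ∈ A, ¬ Cfsg.MemLocalIdeal M b ∧ z = a / b := Iff.rfl

theorem subset_localSub {a : ℂ} (ha : a ∈ A) : a ∈ localSub hM A hA :=
  ⟨a, ha, 1, one_mem A, not_ideal_one hM, (div_one a).symm⟩

theorem localSub_ring (z : localSub hM A hA) : Cfsg.MemLocalRing M (z : ℂ) := by
  obtain ⟨_, a, ha, b, hb, hbM, rfl⟩ := z
  show Cfsg.MemLocalRing M (a / b)
  rw [div_eq_mul_inv]
  exact ring_mul hM (ring_of_isIntegral hM (hA a ha))
    (ring_inv hM (ring_of_isIntegral hM (hA b hb)) hbM)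

theorem localSub_isUnit_iff (z : localSub hM A hA) :
    IsUnit z ↔ ¬ Cfsg.MemLocalIdeal M (z : ℂ) := by
  constructor
  · rintro h hz
    obtain ⟨w, hw⟩ := h.exists_right_inv
    refine not_ideal_one hM ?_
    rw [← (show ((z : ℂ) * (w : ℂ)) = 1 from congrArg Subtype.val hw)]
    exact ideal_mul_right hM hz (localSub_ring hM A hA w)
  · intro hz
    obtain ⟨a, ha, b, hb, hbM, he⟩ := (mem_localSub hM A hA).1 z.2
    have haM : ¬ Cfsg.MemLocalIdeal M a := fun h => hz (by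
      rw [he, div_eq_mul_inv]
      exact ideal_mul_right hM h (ring_inv hM (ring_of_isIntegral hM (hA b hb)) hbM))
    refine IsUnit.of_mul_eq_one (⟨b / a, b, hb, a, ha, haM, rfl⟩ : localSub hM A hA)
      (Subtype.ext ?_)
    show (z : ℂ) * (b / a) = 1
    rw [he, div_mul_div_comm, mul_comm a b, div_self]
    exact mul_ne_zero (ne_zero_of_not_ideal hM hbM) (ne_zero_of_not_ideal hM haM)

theorem isLocalRing_localSub : IsLocalRing (localSub hM A hA) := by
  refine IsLocalRing.of_nonunits_add fun a b ha hb h => ?_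
  rw [mem_nonunits_iff, localSub_isUnit_iff, not_not] at ha hb
  exact (localSub_isUnit_iff hM A hA _).1 h (ideal_add hM ha hb)

/-- The data of a uniformiser: a Frobenius power fixes `A` modulo `π`. -/
structure IsUnif (π : localSub hM A hA) : Prop where
  ideal : Cfsg.MemLocalIdeal M (π : ℂ)
  frob : ∃ q, 2 ≤ q ∧ ∀ x ∈ A, ∃ y ∈ A, x ^ q - x = (π : ℂ) * y
  pow_p : ∃ k, ∃ y ∈ A, (π : ℂ) ^ k = (p : ℂ) * y

variable {hM A hA}
variable {π : localSub hM A hA} (hπ : IsUnif hM A hA π)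

include hπ in
theorem dvd_of_ideal {z : localSub hM A hA} (hz : Cfsg.MemLocalIdeal M (z : ℂ)) : π ∣ z := by
  obtain ⟨q, hq, hfr⟩ := hπ.frob
  obtain ⟨a, ha, b, hb, hbM, he⟩ := (mem_localSub hM A hA).1 z.2
  have hb0 := ne_zero_of_not_ideal hM hbM
  have haI : Cfsg.MemLocalIdeal M a := by
    have h := ideal_mul_right hM hz (ring_of_isIntegral hM (hA b hb))
    rwa [he, div_mul_cancel₀ a hb0] at h
  obtain ⟨y, hy, hxy⟩ := hfr a ha
  set d := a ^ (q - 1) - 1 with hd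
  have hdA : d ∈ A := sub_mem (pow_mem ha _) (one_mem A)
  have hdM : ¬ Cfsg.MemLocalIdeal M d := fun h => not_ideal_one hM (by
    have h' := ideal_sub hM (ideal_pow hM haI (n := q - 1) (by omega)) h
    rwa [sub_sub_cancel] at h')
  have hda : a * d = (π : ℂ) * y := by
    rw [← hxy, hd, mul_sub, mul_one, ← pow_succ', Nat.sub_add_cancel (by omega)]
  have hdb : ¬ Cfsg.MemLocalIdeal M (d * b) := fun h => by
    rcases (ideal_mul_iff hM (ring_of_isIntegral hM (hA d hdA))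
      (ring_of_isIntegral hM (hA b hb))).1 h with h' | h'
    · exact hdM h'
    · exact hbM h'
  refine ⟨⟨y / (d * b), y, hy, d * b, mul_mem hdA hb, hdb, rfl⟩, Subtype.ext ?_⟩
  show (z : ℂ) = (π : ℂ) * (y / (d * b))
  rw [he, mul_div, ← hda, mul_comm a d, mul_div_mul_left _ _ (ne_zero_of_not_ideal hM hdM)]

theorem exists_int_mul {a : ℂ} (ha : IsIntegral ℤ a) (h0 : a ≠ 0) :
    ∃ c : ℤ, c ≠ 0 ∧ ∃ a' : ℂ, IsIntegral ℤ a' ∧ (c : ℂ) = a * a' := by
  have h := minpoly.aeval ℤ a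
  conv_lhs at h => rw [← (minpoly ℤ a).X_mul_divX_add]
  simp only [map_add, map_mul, aeval_X, eq_intCast, map_intCast] at h
  refine ⟨(minpoly ℤ a).coeff 0, fun hc => ?_, -(aeval a (minpoly ℤ a).divX),
    (adjoin_le_integralClosure ha (aeval_mem_adjoin_singleton ℤ a)).neg,
    by linear_combination h⟩
  rw [hc, Int.cast_zero, add_zero, mul_eq_zero, or_iff_right h0] at h
  have hdvd := minpoly.isIntegrallyClosed_dvd ha h
  have hd : 0 < (minpoly ℤ a).natDegree := minpoly.natDegree_pos ha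
  have hne : (minpoly ℤ a).divX ≠ 0 := fun e => by
    have := congrArg natDegree e
    have h1 := (minpoly ℤ a).X_mul_divX_add
    rw [e, mul_zero, zero_add, hc, map_zero] at h1
    exact minpoly.ne_zero ha h1.symm
  have := natDegree_le_of_dvd hdvd hne
  rw [natDegree_divX_eq_natDegree_tsub_one] at this
  omega

include hπ in
theorem exists_eq_pow_mul {z : localSub hM A hA} (hz : z ≠ 0) :
    ∃ (n : ℕ) (w : localSub hM A hA), IsUnit w ∧ z = π ^ n * w := by
  haveI := fact_prime_of_pm hM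
  obtain ⟨k, y, hy, hk⟩ := hπ.pow_p
  suffices h : ∃ n, ¬ π ^ n ∣ z by
    classical
    obtain ⟨n, hn⟩ : ∃ n, Nat.find h = n + 1 := by
      refine ⟨Nat.find h - 1, (Nat.sub_add_cancel ?_).symm⟩
      exact Nat.one_le_iff_ne_zero.2 fun e => Nat.find_spec h (by rw [e, pow_zero]; exact one_dvd z)
    obtain ⟨w, hw⟩ := not_not.1 (Nat.find_min h (m := n) (by omega))
    refine ⟨n, w, (localSub_isUnit_iff hM A hA w).2 fun hwI => Nat.find_spec h ?_, hw⟩
    obtain ⟨w', rfl⟩ := dvd_of_ideal hπ hwI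
    exact ⟨w', by rw [hn, hw, pow_succ, mul_assoc]⟩
  by_contra hall
  push Not at hall
  obtain ⟨a, ha, b, hb, hbM, he⟩ := (mem_localSub hM A hA).1 z.2
  have hb0 := ne_zero_of_not_ideal hM hbM
  have ha0 : a ≠ 0 := fun h => hz (Subtype.ext (by rw [he, h, zero_div]; rfl))
  obtain ⟨c, hc, a', ha', hca⟩ := exists_int_mul (hA a ha) ha0
  obtain ⟨u, hu, hcv⟩ := exists_natCast_eq_pow_mul hM (Int.natAbs_ne_zero.2 hc)
  set v := c.natAbs.factorization p
  obtain ⟨w, hw⟩ := hall (k * (v + 1))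
  have hr : Cfsg.MemLocalRing M ((w : ℂ) * y ^ (v + 1) * b * a') := by
    refine ring_mul hM (ring_mul hM (ring_mul hM (localSub_ring hM A hA w) ?_) ?_) ?_
    · exact ring_pow hM (ring_of_isIntegral hM (hA y hy)) _
    · exact ring_of_isIntegral hM (hA b hb)
    · exact ring_of_isIntegral hM ha'
  have hceq : (c : ℂ) = (p : ℂ) ^ (v + 1) * ((w : ℂ) * y ^ (v + 1) * b * a') := by
    have hw' : (z : ℂ) = (π : ℂ) ^ (k * (v + 1)) * (w : ℂ) := by
      simpa using congrArg Subtype.val hw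
    rw [pow_mul, hk, mul_pow] at hw'
    rw [hca, show a = (z : ℂ) * b by rw [he, div_mul_cancel₀ a hb0], hw']
    ring
  have hp0 : (p : ℂ) ≠ 0 := Nat.cast_ne_zero.2 hM.1.ne_zero
  have hsign : (c.natAbs : ℂ) = (c : ℂ) ∨ (c.natAbs : ℂ) = -(c : ℂ) := by
    rcases c.natAbs_eq with e | e
    · left; conv_rhs => rw [e]
      simp
    · right; conv_rhs => rw [e]
      simp
  have hdiv : ∃ r, Cfsg.MemLocalRing M r ∧ (c.natAbs : ℂ) = (p : ℂ) ^ (v + 1) * r := by
    rcases hsign with e | e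
    · exact ⟨_, hr, e.trans hceq⟩
    · exact ⟨_, ring_neg hM hr, by rw [e, hceq]; ring⟩
  obtain ⟨r, hr', hre⟩ := hdiv
  rw [hcv, pow_succ, mul_assoc] at hre
  have := mul_left_cancel₀ (pow_ne_zero v hp0) hre
  exact hu ((ideal_natCast_iff hM u).1 (this ▸ ideal_mul_right hM (ideal_p hM) hr'))

include hπ in
theorem isPrincipalIdealRing_localSub : IsPrincipalIdealRing (localSub hM A hA) := by
  classical
  refine ⟨fun I => ?_⟩
  by_cases h : ∃ n, π ^ n ∈ I
  · refine ⟨⟨π ^ Nat.find h, le_antisymm (fun z hz => ?_)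
      ((Submodule.span_singleton_le_iff_mem _ _).2 (Nat.find_spec h))⟩⟩
    rcases eq_or_ne z 0 with rfl | hz0
    · exact zero_mem _
    obtain ⟨n, w, hw, rfl⟩ := exists_eq_pow_mul hπ hz0
    obtain ⟨w', hw'⟩ := hw.exists_right_inv
    have hn : π ^ n ∈ I := by
      have := I.mul_mem_right w' hz
      rwa [mul_assoc, hw', mul_one] at this
    obtain ⟨d, hd⟩ := pow_dvd_pow π (Nat.find_min' h hn)
    refine Submodule.mem_span_singleton.2 ⟨d * w, ?_⟩
    rw [smul_eq_mul, hd]; ring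
  · refine ⟨⟨0, ?_⟩⟩
    rw [Submodule.span_singleton_eq_bot.2 rfl]
    refine eq_bot_iff.2 fun z hz => ?_
    by_contra hz0
    obtain ⟨n, w, hw, rfl⟩ := exists_eq_pow_mul hπ (by simpa using hz0)
    obtain ⟨w', hw'⟩ := hw.exists_right_inv
    exact h ⟨n, by have := I.mul_mem_right w' hz; rwa [mul_assoc, hw', mul_one] at this⟩

end

/-! ## Cyclotomic rings -/

/-- The subalgebra generated by an element. -/
noncomputable abbrev cycAlg (ξ : ℂ) : Subalgebra ℤ ℂ := Algebra.adjoin ℤ {ξ}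

theorem self_mem_cycAlg (ξ : ℂ) : ξ ∈ cycAlg ξ := Algebra.self_mem_adjoin_singleton ℤ ξ

theorem isIntegral_cycAlg {ξ : ℂ} (hξ : IsIntegral ℤ ξ) {x : ℂ} (hx : x ∈ cycAlg ξ) :
    IsIntegral ℤ x := adjoin_le_integralClosure hξ hx

theorem cong_frob_of_generator {q f : ℕ} (hp : p.Prime) (hq : q = p ^ f) {ξ π : ℂ}
    (hπ : π ∈ cycAlg ξ) (hpπ : ∃ y ∈ cycAlg ξ, (p : ℂ) = π * y)
    (hξ : ∃ y ∈ cycAlg ξ, ξ ^ q - ξ = π * y) :
    ∀ x ∈ cycAlg ξ, ∃ y ∈ cycAlg ξ, x ^ q - x = π * y := by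
  haveI := Fact.mk hp
  obtain ⟨yp, hyp, hpy⟩ := hpπ
  intro x hx
  induction hx using Algebra.adjoin_induction with
  | mem x hx => rw [Set.mem_singleton_iff.1 hx]; exact hξ
  | algebraMap n =>
    obtain ⟨d, hd⟩ : (p : ℤ) ∣ n ^ q - n := by
      refine (ZMod.intCast_zmod_eq_zero_iff_dvd _ p).1 ?_
      push_cast
      rw [hq, ZMod.pow_card_pow, sub_self]
    refine ⟨yp * (d : ℂ), mul_mem hyp (intCast_mem _ d), ?_⟩
    rw [algebraMap_int_eq, eq_intCast, ← mul_assoc, ← hpy]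
    exact_mod_cast hd
  | add x y hx hy ihx ihy =>
    obtain ⟨a, ha, hxa⟩ := ihx
    obtain ⟨b, hb, hyb⟩ := ihy
    obtain ⟨r, hr⟩ := exists_add_pow_prime_pow_eq hp (⟨x, hx⟩ : cycAlg ξ) ⟨y, hy⟩ f
    have hr' := congrArg Subtype.val hr
    push_cast at hr'
    refine ⟨a + b + yp * (x * y * r), add_mem (add_mem ha hb)
      (mul_mem hyp (mul_mem (mul_mem hx hy) r.2)), ?_⟩
    rw [hq] at hxa hyb ⊢
    rw [hr', mul_add, mul_add, ← hxa, ← hyb, ← mul_assoc π, ← hpy]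
    ring
  | mul x y hx hy ihx ihy =>
    obtain ⟨a, ha, hxa⟩ := ihx
    obtain ⟨b, hb, hyb⟩ := ihy
    refine ⟨a * y ^ q + x * b, add_mem (mul_mem ha (pow_mem hy q)) (mul_mem hx hb), ?_⟩
    rw [mul_pow, mul_add, ← mul_assoc, ← hxa, mul_left_comm π, ← hyb]
    ring

/-- A cyclotomic ring of order prime to `p` is unramified at `M`. -/
theorem exists_unif_unramified (hM : Cfsg.IsPModular p M) {m : ℕ} (hm : ¬ p ∣ m) {η : ℂ}
    (hη : η ^ m = 1) (hA : ∀ x ∈ cycAlg η, IsIntegral ℤ x) :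
    IsUnif hM (cycAlg η) hA (p : localSub hM (cycAlg η) hA) := by
  have hc : ((p : localSub hM (cycAlg η) hA) : ℂ) = (p : ℂ) := by simp
  have hm0 : m ≠ 0 := fun h => hm (h ▸ dvd_zero p)
  have hcop : p.Coprime m := hM.1.coprime_iff_not_dvd.2 hm
  set f := m.totient
  have hf : 0 < f := Nat.totient_pos.2 (Nat.pos_of_ne_zero hm0)
  refine ⟨by rw [hc]; exact ideal_p hM, ⟨p ^ f, ?_, ?_⟩,
    ⟨1, 1, one_mem _, by rw [hc, pow_one, mul_one]⟩⟩
  · exact hM.1.two_le.trans (Nat.le_self_pow hf.ne' p)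
  · rw [hc]
    refine cong_frob_of_generator hM.1 rfl (natCast_mem _ p) ⟨1, one_mem _, (mul_one _).symm⟩
      ⟨0, zero_mem _, ?_⟩
    have h1 : p ^ f ≡ 1 [MOD m] := Nat.ModEq.pow_totient hcop
    obtain ⟨t, ht⟩ := (Nat.modEq_iff_dvd' (Nat.one_le_pow _ _ hM.1.pos)).1 h1.symm
    rw [show p ^ f = m * t + 1 by have := Nat.one_le_pow f p hM.1.pos; omega, pow_succ, pow_mul,
      hη, one_pow]
    ring

/-- Adjoining a `p`-th root of unity gives the uniformiser `1 - ζ`. -/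
theorem exists_unif_ramified (hM : Cfsg.IsPModular p M) {m : ℕ} (hm : ¬ p ∣ m) {ξ : ℂ}
    (hξ : IsPrimitiveRoot ξ (m * p)) (hA : ∀ x ∈ cycAlg ξ, IsIntegral ℤ x) :
    IsUnif hM (cycAlg ξ) hA
      ⟨1 - ξ ^ m, subset_localSub hM _ hA (sub_mem (one_mem _) (pow_mem (self_mem_cycAlg ξ) m))⟩ := by
  have hp := hM.1
  set ζ := ξ ^ m with hζdef
  have hζA : ζ ∈ cycAlg ξ := pow_mem (self_mem_cycAlg ξ) m
  have hζ : IsPrimitiveRoot ζ p := hξ.pow
    (Nat.mul_pos (Nat.pos_of_ne_zero fun h => hm (by rw [h]; exact dvd_zero p)) hp.pos) rfl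
  have hζp : ζ ^ p = 1 := hζ.pow_eq_one
  have hgeom : ∀ i : ℕ, ∃ y ∈ cycAlg ξ, 1 - ζ ^ i = (1 - ζ) * y := fun i =>
    ⟨∑ j ∈ Finset.range i, ζ ^ j, sum_mem fun j _ => pow_mem hζA j, (mul_neg_geom_sum ζ i).symm⟩
  have hpπ : ∃ y ∈ cycAlg ξ, (p : ℂ) = (1 - ζ) * y := by
    choose g hg hge using hgeom
    refine ⟨∑ i ∈ Finset.range p, g i, sum_mem fun i _ => hg i, ?_⟩
    rw [Finset.mul_sum, ← Finset.sum_congr rfl fun i _ => hge i, Finset.sum_sub_distrib,
      hζ.geom_sum_eq_zero hp.one_lt]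
    simp
  have hcop : p.Coprime m := hp.coprime_iff_not_dvd.2 hm
  have hm0 : m ≠ 0 := fun h => hm (h ▸ dvd_zero p)
  set f := m.totient
  have hf : 0 < f := Nat.totient_pos.2 (Nat.pos_of_ne_zero hm0)
  refine ⟨?_, ⟨p ^ f, hp.two_le.trans (Nat.le_self_pow hf.ne' p), ?_⟩, ?_⟩
  · show Cfsg.MemLocalIdeal M (1 - ζ)
    exact cong_symm hM (cong_one_of_pow_prime_pow hM (k := 1) (by rw [pow_one, hζp]))
  · refine cong_frob_of_generator hp rfl (sub_mem (one_mem _) hζA) hpπ ?_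
    have h1 : p ^ f ≡ 1 [MOD m] := Nat.ModEq.pow_totient hcop
    obtain ⟨t, ht⟩ := (Nat.modEq_iff_dvd' (Nat.one_le_pow _ _ hp.pos)).1 h1.symm
    obtain ⟨y, hy, hye⟩ := hgeom t
    refine ⟨-(ξ * y), neg_mem (mul_mem (self_mem_cycAlg ξ) hy), ?_⟩
    rw [show p ^ f = m * t + 1 by have := Nat.one_le_pow f p hp.pos; omega, pow_succ, pow_mul]
    show ζ ^ t * ξ - ξ = (1 - ζ) * -(ξ * y)
    linear_combination (-ξ) * hye
  · haveI := Fact.mk hp
    obtain ⟨r, hr⟩ := exists_add_pow_prime_eq hp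
      (⟨1 - ζ, sub_mem (one_mem _) hζA⟩ : cycAlg ξ) ⟨ζ, hζA⟩
    refine ⟨p, -((1 - ζ) * ζ * r), neg_mem (mul_mem (mul_mem (sub_mem (one_mem _) hζA) hζA) r.2), ?_⟩
    have hr' := congrArg Subtype.val hr
    push_cast at hr'
    rw [sub_add_cancel, one_pow, hζp] at hr'
    show (1 - ζ) ^ p = _
    linear_combination -hr'

/-- The Galois substitution `ξ ↦ ξ ^ w`, congruent to the identity when `w ≡ 1` modulo `m`. -/
theorem exists_sigma (hM : Cfsg.IsPModular p M) {m : ℕ} (hm : ¬ p ∣ m) {ξ : ℂ}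
    (hξ : IsPrimitiveRoot ξ (m * p)) (hA : ∀ x ∈ cycAlg ξ, IsIntegral ℤ x) {w : ℕ}
    (hw : w.Coprime (m * p)) (hw1 : w ≡ 1 [MOD m]) :
    ∃ σ : localSub hM (cycAlg ξ) hA →+* ℂ,
      σ ⟨ξ, subset_localSub hM _ hA (self_mem_cycAlg ξ)⟩ = ξ ^ w ∧
      ∀ s, Cong M (σ s) (s : ℂ) := by
  have hN : 0 < m * p := Nat.mul_pos (Nat.pos_of_ne_zero fun h => hm (h ▸ dvd_zero p)) hM.1.pos
  haveI : NeZero (m * p) := ⟨hN.ne'⟩
  have hint : IsIntegral ℚ ξ := (hξ.isIntegral hN).tower_top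
  set pb := IntermediateField.adjoin.powerBasis hint
  have hroot : aeval (ξ ^ w) (minpoly ℚ pb.gen) = 0 := by
    have hwp := hξ.pow_of_coprime w hw
    rw [IntermediateField.adjoin.powerBasis_gen]
    erw [IntermediateField.minpoly_gen ℚ ξ]
    rw [← cyclotomic_eq_minpoly_rat hξ hN, cyclotomic_eq_minpoly_rat hwp hN]
    exact minpoly.aeval ℚ _
  set τ := pb.lift (ξ ^ w) hroot
  have hgen : (⟨ξ, IntermediateField.mem_adjoin_simple_self ℚ ξ⟩ :
      IntermediateField.adjoin ℚ {ξ}) = pb.gen := by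
    rw [IntermediateField.adjoin.powerBasis_gen]; rfl
  have hτ : τ ⟨ξ, IntermediateField.mem_adjoin_simple_self ℚ ξ⟩ = ξ ^ w := by
    rw [hgen]; exact pb.lift_gen _ hroot
  have hle : ∀ a ∈ cycAlg ξ, a ∈ IntermediateField.adjoin ℚ {ξ} := by
    intro a ha
    induction ha using Algebra.adjoin_induction with
    | mem x hx => exact Set.mem_singleton_iff.1 hx ▸ IntermediateField.mem_adjoin_simple_self ℚ ξ
    | algebraMap n => rw [algebraMap_int_eq, eq_intCast]; exact intCast_mem _ n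
    | add x y _ _ hx hy => exact add_mem hx hy
    | mul x y _ _ hx hy => exact mul_mem hx hy
  have hsub : ∀ s : localSub hM (cycAlg ξ) hA, (s : ℂ) ∈ IntermediateField.adjoin ℚ {ξ} := by
    rintro ⟨_, a, ha, b, hb, -, rfl⟩
    exact div_mem (hle a ha) (hle b hb)
  let ι : localSub hM (cycAlg ξ) hA →+* IntermediateField.adjoin ℚ {ξ} :=
    (localSub hM (cycAlg ξ) hA).subtype.codRestrict _ hsub
  refine ⟨τ.toRingHom.comp ι, hτ, ?_⟩
  have hξr : Cong M (ξ ^ w) ξ := by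
    have hm0 : m ≠ 0 := fun h => hm (h ▸ dvd_zero p)
    rcases Nat.eq_zero_or_pos w with h0 | h0
    · subst h0
      rw [Nat.coprime_zero_left] at hw
      exact absurd hw (fun e => hM.1.ne_one (Nat.eq_one_of_mul_eq_one_left e))
    obtain ⟨t, ht⟩ := (Nat.modEq_iff_dvd' h0).1 hw1.symm
    rw [show w = m * t + 1 by omega, pow_succ, mul_comm, pow_mul]
    have h1 : Cong M ((ξ ^ m) ^ t) 1 := cong_one_of_pow_prime_pow hM (k := 1) (by
      rw [pow_one, ← pow_mul, ← pow_mul, show m * (t * p) = (m * p) * t by ring, pow_mul,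
        hξ.pow_eq_one, one_pow])
    simpa using cong_mul_left hM (ring_of_isIntegral hM (hA ξ (self_mem_cycAlg ξ))) h1
  have hA' : ∀ a (ha : a ∈ cycAlg ξ), Cong M (τ ⟨a, hle a ha⟩) a := by
    intro a ha
    induction ha using Algebra.adjoin_induction with
    | mem x hx => obtain rfl := Set.mem_singleton_iff.1 hx; rw [hτ]; exact hξr
    | algebraMap n =>
      refine cong_of_eq hM ?_
      simp only [algebraMap_int_eq, eq_intCast]
      exact map_intCast τ n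
    | add x y hx hy hx' hy' =>
      rw [show (⟨x + y, _⟩ : IntermediateField.adjoin ℚ {ξ}) = ⟨x, hle x hx⟩ + ⟨y, hle y hy⟩ from rfl,
        map_add]
      exact cong_add hM hx' hy'
    | mul x y hx hy hx' hy' =>
      rw [show (⟨x * y, _⟩ : IntermediateField.adjoin ℚ {ξ}) = ⟨x, hle x hx⟩ * ⟨y, hle y hy⟩ from rfl,
        map_mul]
      have hyr := ring_of_isIntegral hM (hA y hy)
      refine cong_trans hM (cong_mul_left hM
        (ring_of_cong hM hx' (ring_of_isIntegral hM (hA x hx))) hy') ?_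
      simpa [mul_comm] using cong_mul_left hM hyr hx'
  intro s
  obtain ⟨a, ha, b, hb, hbM, he⟩ := (mem_localSub hM _ hA).1 s.2
  have hb0 := ne_zero_of_not_ideal hM hbM
  have he' : ι s * ⟨b, hle b hb⟩ = ⟨a, hle a ha⟩ := Subtype.ext (by
    show (s : ℂ) * b = a
    rw [he, div_mul_cancel₀ a hb0])
  have h1 := congrArg τ he'
  rw [map_mul] at h1
  show Cong M (τ (ι s)) (s : ℂ)
  set T := τ (ι s)
  set B := τ ⟨b, hle b hb⟩
  have hBM : ¬ Cfsg.MemLocalIdeal M B := fun h => hbM ((ideal_iff_of_cong hM (hA' b hb)).1 h)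
  have hB0 := ne_zero_of_not_ideal hM hBM
  have hBr : Cfsg.MemLocalRing M B := ring_of_cong hM (hA' b hb) (ring_of_isIntegral hM (hA b hb))
  have hT : Cfsg.MemLocalRing M T := by
    rw [show T = τ ⟨a, hle a ha⟩ * B⁻¹ by rw [← h1, mul_inv_cancel_right₀ hB0]]
    exact ring_mul hM (ring_of_cong hM (hA' a ha) (ring_of_isIntegral hM (hA a ha)))
      (ring_inv hM hBr hBM)
  unfold Cong
  have h2 : Cfsg.MemLocalIdeal M ((T - (s : ℂ)) * B) := by
    have e : (T - (s : ℂ)) * B = (τ ⟨a, hle a ha⟩ - a) - (s : ℂ) * (B - b) := by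
      rw [← h1, show a = (s : ℂ) * b by rw [he, div_mul_cancel₀ a hb0]]; ring
    rw [e]
    exact ideal_sub hM (hA' a ha) (ideal_mul_left hM (localSub_ring hM _ hA s) (hA' b hb))
  exact ((ideal_mul_iff hM (ring_sub hM hT (localSub_ring hM _ hA s)) hBr).1 h2).resolve_right hBM

end Cfsg.Agent.Blocks
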