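import Mathlib
import Cfsg.Agent.Lib.Blocks.Block

/-!
# Lattices `S G e` in the complex group algebra
-/

set_option linter.style.haveILetI false
set_option linter.unusedSectionVars false

namespace Cfsg.Agent.Blocks.Lattice

open Module Polynomial MonoidAlgebra Cfsg.Agent.Characters

universe u

variable {G : Type u} [Group G] [Finite G] {S : Type} [CommRing S] [IsDomain S]

/-- Change of coefficients of the group algebra along `σ`. -/
noncomputable abbrev push (σ : S →+* ℂ) : MonoidAlgebra S G →+* MonoidAlgebra ℂ G :=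
  MonoidAlgebra.mapRingHom G σ

theorem coeff_push (σ : S →+* ℂ) (x : MonoidAlgebra S G) (g : G) :
    (push σ x).coeff g = σ (x.coeff g) := MonoidAlgebra.coeff_map σ.toAddMonoidHom x ▸ rfl

theorem push_injective {ι : S →+* ℂ} (hι : Function.Injective ι) :
    Function.Injective (push (G := G) ι) := fun x y h => by
  ext g
  have := congrArg (fun z : MonoidAlgebra ℂ G => z.coeff g) h
  exact hι (by simpa [coeff_push] using this)

theorem push_single (σ : S →+* ℂ) (g : G) (r : S) : push σ (single g r) = single g (σ r) := by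
  classical
  refine el_ext fun h => ?_
  rw [coeff_push, coeff_single, coeff_single, Finsupp.single_apply, Finsupp.single_apply]
  split <;> simp

theorem push_smul (σ : S →+* ℂ) (r : S) (x : MonoidAlgebra S G) :
    push σ (r • x) = σ r • push σ x := by
  refine el_ext fun h => ?_
  rw [coeff_push, MonoidAlgebra.coeff_smul, MonoidAlgebra.coeff_smul, Finsupp.smul_apply, Finsupp.smul_apply, coeff_push]
  exact map_mul σ _ _

/-- The element with coefficients `f`. -/
noncomputable def ofCoeff (f : G → S) : MonoidAlgebra S G :=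
  MonoidAlgebra.ofCoeff (Finsupp.equivFunOnFinite.symm f)

@[simp] theorem coeff_ofCoeff (f : G → S) (g : G) : (ofCoeff f).coeff g = f g := rfl

variable (E : MonoidAlgebra S G)

/-- The left ideal generated by `E`. -/
noncomputable abbrev lat : Submodule S (MonoidAlgebra S G) :=
  LinearMap.range (LinearMap.mulRight S E)

theorem mem_lat {x : MonoidAlgebra S G} : x ∈ lat E ↔ ∃ w, w * E = x := Iff.rfl

theorem self_mem_lat : E ∈ lat E := ⟨1, one_mul E⟩

theorem mul_mem_lat (y : MonoidAlgebra S G) {x : MonoidAlgebra S G} (hx : x ∈ lat E) :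
    y * x ∈ lat E := by
  obtain ⟨w, rfl⟩ := hx
  exact ⟨y * w, mul_assoc _ _ _⟩

/-- Left multiplication on the lattice. -/
noncomputable def lact : MonoidAlgebra S G →ₐ[S] Module.End S (lat E) :=
  AlgHom.ofLinearMap
    { toFun := fun y => (LinearMap.mulLeft S y).restrict fun x hx => mul_mem_lat E y hx
      map_add' := fun y y' => LinearMap.ext fun x => Subtype.ext (add_mul y y' x.1)
      map_smul' := fun r y => LinearMap.ext fun x => Subtype.ext (smul_mul_assoc r y x.1) }
    (LinearMap.ext fun x => Subtype.ext (one_mul x.1))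
    (fun y y' => LinearMap.ext fun x => Subtype.ext (mul_assoc y y' x.1))

theorem lact_apply (y : MonoidAlgebra S G) (x : lat E) : (lact E y x).1 = y * x.1 := rfl

theorem trace_single_mul {q : ℕ} (hE : E * E = (q : S) • E) [IsPrincipalIdealRing S] (a : G) :
    haveI := Fintype.ofFinite G
    (q : S) * LinearMap.trace S (lat E) (lact E (single a 1)) =
      ∑ h : G, E.coeff ((a * h)⁻¹ * h) := by
  classical
  letI := Fintype.ofFinite G
  set B : Basis G S (MonoidAlgebra S G) := MonoidAlgebra.basis G S
  haveI : Module.Free S (MonoidAlgebra S G) := Module.Free.of_basis B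
  haveI : Module.Finite S (MonoidAlgebra S G) := Module.Finite.of_basis B
  haveI : Module.Free S (lat E) := Module.Free.of_basis (Submodule.basisOfPid B (lat E)).2
  set f : MonoidAlgebra S G →ₗ[S] lat E := (LinearMap.mulRight S E).rangeRestrict
  set g : lat E →ₗ[S] MonoidAlgebra S G :=
    (LinearMap.mulLeft S (single a (1 : S))) ∘ₗ (lat E).subtype
  have h1 : f ∘ₗ g = (q : S) • lact E (single a 1) := by
    refine LinearMap.ext fun x => Subtype.ext ?_
    obtain ⟨w, hw⟩ := x.2
    show single a (1 : S) * x.1 * E = (q : S) • (single a (1 : S) * x.1)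
    rw [← hw]
    show single a (1 : S) * (w * E) * E = _
    rw [mul_assoc, mul_assoc w, hE, mul_smul_comm, mul_smul_comm]
    rfl
  have h2 := LinearMap.trace_comp_comm' g f
  rw [h1, map_smul, smul_eq_mul] at h2
  rw [h2, LinearMap.trace_eq_matrix_trace S B, Matrix.trace]
  refine Finset.sum_congr rfl fun h _ => ?_
  rw [Matrix.diag_apply, LinearMap.toMatrix_apply]
  show B.repr (single a (1 : S) * (B h * E)) h = _
  rw [MonoidAlgebra.basis_apply, ← mul_assoc, single_mul_single, one_mul]
  show (single (a * h) (1 : S) * E).coeff h = _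
  refine (MonoidAlgebra.coeff_single_mul_eq_mul_coeff ((a * h)⁻¹ * h)
    fun m _ => eq_inv_mul_iff_mul_eq.symm).trans ?_
  exact one_mul _

theorem ofBasis_free [IsPrincipalIdealRing S] :
    Module.Free S (lat E) ∧ Module.Finite S (lat E) := by
  classical
  letI := Fintype.ofFinite G
  set B : Basis G S (MonoidAlgebra S G) := MonoidAlgebra.basis G S
  exact ⟨Module.Free.of_basis (Submodule.basisOfPid B (lat E)).2,
    Module.Finite.of_basis (Submodule.basisOfPid B (lat E)).2⟩

/-- A basis of the lattice stays independent over `ℂ`. -/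
theorem linearIndependent_push [IsPrincipalIdealRing S] (ι : S →+* ℂ) {q : ℕ} (hq : q ≠ 0)
    (hE : E * E = (q : S) • E) {κ : Type*} [Fintype κ] (b : Basis κ S (lat E)) :
    LinearIndependent ℂ fun i => push ι (b i : MonoidAlgebra S G) := by
  classical
  letI := Fintype.ofFinite G
  haveI := Module.Free.of_basis b
  haveI := Module.Finite.of_basis b
  set e := push ι E
  set R : Module.End ℂ (MonoidAlgebra ℂ G) := (q : ℂ)⁻¹ • LinearMap.mulRight ℂ e
  have hq' : (q : ℂ) ≠ 0 := Nat.cast_ne_zero.2 hq
  have hee : e * e = (q : ℂ) • e := by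
    rw [← map_mul, hE, push_smul, map_natCast]
  have hR : ∀ x, R x = (q : ℂ)⁻¹ • (x * e) := fun x => rfl
  set B : Basis G ℂ (MonoidAlgebra ℂ G) := MonoidAlgebra.basis G ℂ
  haveI : FiniteDimensional ℂ (MonoidAlgebra ℂ G) := Module.Finite.of_basis B
  have hproj : LinearMap.IsProj (LinearMap.range R) R := by
    refine ⟨fun x => LinearMap.mem_range_self R x, ?_⟩
    rintro _ ⟨x, rfl⟩
    simp only [hR, smul_mul_assoc, mul_assoc, hee, mul_smul_comm, smul_smul]
    rw [inv_mul_cancel₀ hq', mul_one]
  have hle : LinearMap.range R ≤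
      Submodule.span ℂ (Set.range fun i => push ι (b i : MonoidAlgebra S G)) := by
    rintro _ ⟨x, rfl⟩
    rw [hR]
    refine Submodule.smul_mem _ _ ?_
    rw [eq_sum_single x, Finset.sum_mul]
    refine sum_mem fun h _ => ?_
    rw [show single h (x.coeff h) = x.coeff h • push ι (single h (1 : S)) by
      rw [push_single, smul_single, map_one, smul_eq_mul, mul_one], smul_mul_assoc, ← map_mul]
    refine Submodule.smul_mem _ _ ?_
    have hmem : single h (1 : S) * E ∈ lat E := ⟨_, rfl⟩
    rw [show single h (1 : S) * E = ((⟨_, hmem⟩ : lat E) : MonoidAlgebra S G) from rfl,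
      ← b.sum_repr ⟨_, hmem⟩, Submodule.coe_sum, map_sum]
    refine sum_mem fun i _ => ?_
    rw [Submodule.coe_smul, push_smul]
    exact Submodule.smul_mem _ _ (Submodule.subset_span ⟨i, rfl⟩)
  refine linearIndependent_iff_card_le_finrank_span.2 ?_
  refine le_trans (le_of_eq ?_) (Submodule.finrank_mono hle)
  apply Nat.cast_injective (R := ℂ)
  rw [← hproj.trace, LinearMap.trace_eq_matrix_trace ℂ B, Matrix.trace,
    ← Module.finrank_eq_card_basis b]
  refine mul_left_cancel₀ hq' ?_
  have h1 := congrArg ι (trace_single_mul E hE 1)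
  rw [← MonoidAlgebra.one_def, map_one, LinearMap.trace_one] at h1
  simp only [map_mul, map_natCast, map_sum, one_mul, inv_mul_cancel] at h1
  rw [h1, Finset.mul_sum]
  refine Finset.sum_congr rfl fun h _ => ?_
  rw [Matrix.diag_apply, LinearMap.toMatrix_apply, hR]
  show _ = (q : ℂ) * (B.repr ((q : ℂ)⁻¹ • (B h * e)) h)
  rw [map_smul, Finsupp.smul_apply, smul_eq_mul, ← mul_assoc, mul_inv_cancel₀ hq', one_mul,
    MonoidAlgebra.basis_apply]
  show _ = (single h (1 : ℂ) * e).coeff h
  rw [coeff_single_mul', one_mul, inv_mul_cancel, coeff_push]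

/-- Change of coefficients intertwines polynomials in a right multiplication. -/
theorem push_aeval (σ : S →+* ℂ) {Φ : Module.End S (lat E)} {z : MonoidAlgebra S G}
    (hz : ∀ x : lat E, (Φ x).1 = x.1 * z) (P : Polynomial S) (x : lat E) :
    push σ (aeval Φ P x).1 =
      aeval (LinearMap.mulRight ℂ (push σ z)) (P.map σ) (push σ x.1) := by
  induction P using Polynomial.induction_on' generalizing x with
  | add P Q hP hQ =>
    rw [map_add, Polynomial.map_add, map_add, LinearMap.add_apply, LinearMap.add_apply,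
      Submodule.coe_add, map_add, hP, hQ]
  | monomial n r =>
    rw [Polynomial.map_monomial, aeval_monomial, aeval_monomial, ← Algebra.smul_def,
      ← Algebra.smul_def, LinearMap.smul_apply, LinearMap.smul_apply, Submodule.coe_smul, push_smul]
    congr 1
    induction n generalizing x with
    | zero => simp
    | succ n ih =>
      rw [pow_succ, pow_succ, Module.End.mul_apply, Module.End.mul_apply, ih, hz, map_mul]
      rfl

/-- A right eigenvalue on a spanned part is a root of the transported characteristic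
polynomial. -/
theorem eval_charpoly_eq_zero [IsPrincipalIdealRing S] (σ : S →+* ℂ) {Φ : Module.End S (lat E)}
    {z : MonoidAlgebra S G} (hz : ∀ x : lat E, (Φ x).1 = x.1 * z) {y : MonoidAlgebra ℂ G}
    {lam : ℂ} (hy0 : y ≠ 0) (hyz : y * push σ z = lam • y)
    (hy : ∃ w : MonoidAlgebra ℂ G, w * push σ E = y)
    [Module.Free S (lat E)] [Module.Finite S (lat E)] :
    (Φ.charpoly.map σ).eval lam = 0 := by
  classical
  letI := Fintype.ofFinite G
  set Rz := LinearMap.mulRight ℂ (push σ z)
  set Q := Φ.charpoly.map σ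
  have h0 : ∀ x : lat E, aeval Rz Q (push σ x.1) = 0 := fun x => by
    rw [← push_aeval E σ hz, LinearMap.aeval_self_charpoly]
    simp
  obtain ⟨w, hw⟩ := hy
  have h1 : aeval Rz Q y = 0 := by
    rw [← hw, eq_sum_single w, Finset.sum_mul, map_sum]
    refine Finset.sum_eq_zero fun h _ => ?_
    rw [show single h (w.coeff h) = w.coeff h • push σ (single h (1 : S)) by
      rw [push_single, smul_single, map_one, smul_eq_mul, mul_one], smul_mul_assoc, ← map_mul,
      map_smul, show single h (1 : S) * E = ((⟨_, _, rfl⟩ : lat E) : MonoidAlgebra S G) from rfl,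
      h0, smul_zero]
  have h2 : Rz y = lam • y := hyz
  have hpow : ∀ n : ℕ, (Rz ^ n) y = lam ^ n • y := fun n => by
    induction n with
    | zero => simp
    | succ n ih => rw [pow_succ', Module.End.mul_apply, ih, map_smul, h2, smul_smul, ← pow_succ]
  rw [Polynomial.aeval_eq_sum_range, LinearMap.sum_apply] at h1
  simp only [LinearMap.smul_apply, hpow, smul_smul, ← Finset.sum_smul] at h1
  rw [← Polynomial.eval_eq_sum_range] at h1
  exact (smul_eq_zero.1 h1).resolve_right hy0

/-- A root of the characteristic polynomial of a right multiplication has an eigenvector. -/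
theorem exists_eigvec [IsPrincipalIdealRing S] (ι : S →+* ℂ) {q : ℕ} (hq : q ≠ 0) (hE : E * E = (q : S) • E)
    {Φ : Module.End S (lat E)} {z : MonoidAlgebra S G}
    (hz : ∀ x : lat E, (Φ x).1 = x.1 * z) [Module.Free S (lat E)] [Module.Finite S (lat E)]
    {μ : ℂ} (hμ : (Φ.charpoly.map ι).eval μ = 0) :
    ∃ x : MonoidAlgebra ℂ G, x ≠ 0 ∧ x * push ι z = μ • x ∧
      x * push ι E = (q : ℂ) • x := by
  classical
  set b := Module.Free.chooseBasis S (lat E)
  haveI := Module.Free.ChooseBasisIndex.fintype S (lat E)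
  set A := LinearMap.toMatrix b b Φ
  set Aσ := A.map ι
  have hchar : Aσ.charpoly.eval μ = 0 := by
    rw [show Aσ = A.map ι from rfl, Matrix.charpoly_map, LinearMap.charpoly_toMatrix]
    exact hμ
  rw [Matrix.eval_charpoly] at hchar
  obtain ⟨c, hc0, hc⟩ := Matrix.exists_mulVec_eq_zero_iff.2 hchar
  set v := fun i => push ι (b i : MonoidAlgebra S G)
  have hv : LinearIndependent ℂ v := linearIndependent_push E ι hq hE b
  have hAv : ∀ i, v i * push ι z = ∑ j, Aσ j i • v j := by
    intro i
    simp only [v, ← map_mul, ← hz]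
    conv_lhs => rw [← b.sum_repr (Φ (b i))]
    rw [Submodule.coe_sum, map_sum]
    refine Finset.sum_congr rfl fun j _ => ?_
    rw [Submodule.coe_smul, push_smul]
    congr 1
    simp [Aσ, A, LinearMap.toMatrix_apply]
  have hmv : ∀ j, ∑ i, Aσ j i * c i = μ * c j := fun j => by
    have := congrFun hc j
    rw [Matrix.sub_mulVec, Pi.sub_apply, Matrix.scalar_apply, Matrix.mulVec_diagonal,
      Pi.zero_apply, sub_eq_zero] at this
    exact this.symm
  refine ⟨∑ i, c i • v i, fun h => hc0 (funext (Fintype.linearIndependent_iff.1 hv c h)), ?_, ?_⟩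
  · simp only [Finset.sum_mul, smul_mul_assoc, hAv, Finset.smul_sum, smul_smul]
    rw [Finset.sum_comm]
    refine Finset.sum_congr rfl fun j _ => ?_
    rw [← Finset.sum_smul, ← hmv j]
    congr 1
    exact Finset.sum_congr rfl fun i _ => mul_comm _ _
  · simp only [Finset.sum_mul, smul_mul_assoc, Finset.smul_sum]
    refine Finset.sum_congr rfl fun i _ => ?_
    obtain ⟨w, hw⟩ := (b i).2
    rw [smul_comm (q : ℂ)]
    congr 1
    show push ι (b i : MonoidAlgebra S G) * _ = _ • push ι (b i : MonoidAlgebra S G)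
    rw [← hw]
    show push ι (w * E) * push ι E = (q : ℂ) • push ι (w * E)
    rw [← map_mul, mul_assoc, hE, mul_smul_comm, push_smul, map_natCast]

/-- A right eigenvalue on the component of an irreducible representation is an eigenvalue of
the representing matrix. -/
theorem mem_roots_rep {n : ℕ} (ρ : Representation ℂ G (Fin n → ℂ))
    (hρ : Cfsg.IsIrrCharacter G ρ.character) {x z : MonoidAlgebra ℂ G} {μ : ℂ} (hx0 : x ≠ 0)
    (hx : x * blockIdem {(⟨_, hρ⟩ : Cfsg.IrrCharacter G)} = x) (hxz : x * z = μ • x) :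
    μ ∈ ((ρ.asAlgebraHom z).charpoly).roots := by
  classical
  letI := Fintype.ofFinite G
  set χ : Cfsg.IrrCharacter G := ⟨_, hρ⟩
  have hX : ρ.asAlgebraHom x ≠ 0 := by
    intro hX
    refine hx0 (el_ext fun g => ?_)
    rw [MonoidAlgebra.coeff_zero, Finsupp.zero_apply, ← hx, coeff_mul']
    have h1 : ∑ h : G, x.coeff h * (χ : G → ℂ) (g⁻¹ * h) = 0 := by
      have h2 := evalChar_eq_trace ρ (single g⁻¹ (1 : ℂ) * x)
      rw [map_mul, hX, mul_zero, map_zero, evalChar_eq_sum] at h2
      rw [← h2]
      refine Fintype.sum_equiv (Equiv.mulLeft g⁻¹) _ _ fun h => ?_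
      simp only [Equiv.coe_mulLeft, coeff_single_mul', one_mul, inv_inv, mul_inv_cancel_left]
      rfl
    have hb : ∀ h : G, (blockIdem {χ}).coeff (h⁻¹ * g) =
        ((Nat.card G : ℂ)⁻¹ * (χ : G → ℂ) 1) * (χ : G → ℂ) (g⁻¹ * h) := by
      intro h
      rw [coeff_blockIdem, Cfsg.blockCoeff, finsum_mem_singleton, ← char_inv (irr_isCharacter χ),
        mul_inv_rev, inv_inv, mul_assoc]
    simp only [hb, mul_left_comm _ ((Nat.card G : ℂ)⁻¹ * (χ : G → ℂ) 1), ← Finset.mul_sum, h1,
      mul_zero]
  have hne : (ρ.asAlgebraHom z).charpoly ≠ 0 := (LinearMap.charpoly_monic _).ne_zero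
  rw [Polynomial.mem_roots hne, ← Module.End.hasEigenvalue_iff_isRoot_charpoly]
  by_contra hev
  have hker : LinearMap.ker (ρ.asAlgebraHom z - μ • 1) = ⊥ := by
    by_contra h
    exact hev (by
      rw [Module.End.hasEigenvalue_iff, Module.End.eigenspace_def]
      exact h)
  have hunit : IsUnit (ρ.asAlgebraHom z - μ • 1) :=
    LinearMap.isUnit_iff_ker_eq_bot _ |>.2 hker
  have h0 : ρ.asAlgebraHom x * (ρ.asAlgebraHom z - μ • 1) = 0 := by
    rw [mul_sub, ← map_mul, hxz, map_smul, mul_smul_comm, mul_one, sub_self]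
  exact hX (hunit.mul_left_eq_zero.1 h0)

end Cfsg.Agent.Blocks.Lattice
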