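import Mathlib
import Cfsg.Agent.Lib.Blocks.CycloLocal
import Cfsg.Agent.Lib.Blocks.Defect
import Cfsg.Agent.Lib.Blocks.CyclicLattice
import Cfsg.Agent.Lib.Blocks.LatticeAlgebra

/-!
# The stable bound on character values at an element generating a Sylow group of order `p`

Sums of Galois conjugates of an irreducible character which are rational integers `v` on the
`p`-singular elements satisfy `|v| ≤ 1`: a lattice over the unramified ring affording them has
Tate cohomology of dimension at least `n |v|` on which endomorphisms of the lattice realise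
arbitrary distinct eigenvalues, while they have at most `n` of them modulo `p`.
-/

set_option linter.style.haveILetI false
set_option linter.unusedSectionVars false

namespace Cfsg.Agent.Blocks

open Module Polynomial MonoidAlgebra Cfsg.Agent.Characters
open scoped ComplexConjugate

universe u

/-- The local ring of `ℤ[ξ]` at `M`. -/
noncomputable def cycLocal {p : ℕ} {M : Ideal Cfsg.AlgInt} (hM : Cfsg.IsPModular p M) {ξ : ℂ}
    (hξ : IsIntegral ℤ ξ) : Subring ℂ :=
  localSub hM (cycAlg ξ) fun _ => isIntegral_cycAlg hξ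

theorem mem_cycLocal {p : ℕ} {M : Ideal Cfsg.AlgInt} (hM : Cfsg.IsPModular p M) {ξ : ℂ}
    (hξ : IsIntegral ℤ ξ) {a : ℂ} (ha : a ∈ cycAlg ξ) : a ∈ cycLocal hM hξ :=
  subset_localSub hM _ _ ha

/-- A root of a monic polynomial with local integral coefficients is a local integer. -/
theorem ring_of_root {p : ℕ} {M : Ideal Cfsg.AlgInt} (hM : Cfsg.IsPModular p M) {Q : ℂ[X]}
    (hQ : Q.Monic) (hc : ∀ i, Cfsg.MemLocalRing M (Q.coeff i)) {x : ℂ} (hx : Q.IsRoot x) :
    Cfsg.MemLocalRing M x := by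
  classical
  haveI := isPrime_of_pm hM
  choose a b hb hab using hc
  set s := Finset.range (Q.natDegree + 1)
  set d : Cfsg.AlgInt := ∏ i ∈ s, b i
  have hd : d ∉ M := fun h => by
    obtain ⟨i, -, hi⟩ := (Ideal.IsPrime.prod_mem_iff (p := M)).1 h
    exact hb i hi
  set Q' := scaleRoots Q (d : ℂ)
  have hlift : Q' ∈ Polynomial.lifts (algebraMap Cfsg.AlgInt ℂ) := by
    rw [Polynomial.lifts_iff_coeff_lifts]
    intro i
    rw [coeff_scaleRoots]
    rcases lt_or_ge i Q.natDegree with hi | hi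
    · obtain ⟨j, hj⟩ : ∃ j, Q.natDegree - i = j + 1 := ⟨Q.natDegree - i - 1, by omega⟩
      have his : i ∈ s := Finset.mem_range.2 (by omega)
      obtain ⟨c, hc⟩ : b i ∣ d := Finset.dvd_prod_of_mem _ his
      refine ⟨a i * c * d ^ j, ?_⟩
      have hb0 : (b i : ℂ) ≠ 0 := algInt_coe_ne_zero (hb i)
      have hdc : (d : ℂ) = (b i : ℂ) * (c : ℂ) := congrArg Subtype.val hc
      show ((a i * c * d ^ j : Cfsg.AlgInt) : ℂ) = _
      push_cast
      rw [← hab i, hj, pow_succ, hdc]
      field_simp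
    · rcases hi.eq_or_lt with rfl | hi
      · exact ⟨1, by rw [hQ.coeff_natDegree, Nat.sub_self, pow_zero, mul_one, map_one]⟩
      · exact ⟨0, by rw [Q.coeff_eq_zero_of_natDegree_lt hi, zero_mul, map_zero]⟩
  obtain ⟨P, hP, -, hPm⟩ := Polynomial.lifts_and_degree_eq_and_monic hlift
    (Polynomial.monic_scaleRoots_iff _ |>.2 hQ)
  have hint : IsIntegral ℤ ((d : ℂ) * x) := by
    refine isIntegral_trans (A := Cfsg.AlgInt) _ ⟨P, hPm, ?_⟩
    rw [← Polynomial.eval_map, hP, ← Polynomial.eval₂_id]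
    exact scaleRoots_eval₂_eq_zero (RingHom.id ℂ) (by rw [Polynomial.eval₂_id]; exact hx)
  have hd0 : (d : ℂ) ≠ 0 := algInt_coe_ne_zero hd
  have h := ring_mul hM (ring_of_isIntegral hM hint)
    (ring_inv hM (ring_coe hM d) (fun h => hd ((ideal_coe_iff hM d).1 h)))
  rwa [mul_comm (d : ℂ), mul_assoc, mul_inv_cancel₀ hd0, mul_one] at h

/-- A monic polynomial with local integral coefficients vanishing modulo the local ideal at `c`
has a root congruent to `c`. -/
theorem exists_root_cong {p : ℕ} {M : Ideal Cfsg.AlgInt} (hM : Cfsg.IsPModular p M) {Q : ℂ[X]}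
    (hQ : Q.Monic) (hc : ∀ i, Cfsg.MemLocalRing M (Q.coeff i)) {c : ℂ}
    (hcr : Cfsg.MemLocalRing M c) (h : Cfsg.MemLocalIdeal M (Q.eval c)) :
    ∃ x, Q.IsRoot x ∧ Cong M x c := by
  rw [(IsAlgClosed.splits Q).eq_prod_roots_of_monic hQ, eval_multiset_prod, Multiset.map_map] at h
  have key : ∀ s : Multiset ℂ, (∀ x ∈ s, Cfsg.MemLocalRing M x) →
      Cfsg.MemLocalIdeal M (s.map ((eval c) ∘ fun x => X - C x)).prod → ∃ x ∈ s, Cong M x c := by
    intro s
    induction s using Multiset.induction_on with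
    | empty => intro _ h; simp only [Multiset.map_zero, Multiset.prod_zero] at h; exact absurd h (not_ideal_one hM)
    | cons a s ih =>
      intro hr h
      rw [Multiset.map_cons, Multiset.prod_cons,
        show (eval c ∘ fun x => X - C x) a = c - a by simp] at h
      have hrs : Cfsg.MemLocalRing M (s.map ((eval c) ∘ fun x => X - C x)).prod := by
        clear h ih
        induction s using Multiset.induction_on with
        | empty => simpa using ring_one hM
        | cons b s ih =>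
          simp only [Multiset.map_cons, Multiset.prod_cons, Function.comp_apply, eval_sub, eval_X,
            eval_C] at ih ⊢
          exact ring_mul hM (ring_sub hM hcr (hr b (by simp)))
            (ih fun x hx => hr x (by
              rcases Multiset.mem_cons.1 hx with h | h <;> simp [h]))
      rcases (ideal_mul_iff hM (ring_sub hM hcr (hr a (Multiset.mem_cons_self a s))) hrs).1 h with
        h' | h'
      · exact ⟨a, Multiset.mem_cons_self a s, cong_symm hM h'⟩
      · obtain ⟨x, hx, hxc⟩ := ih (fun x hx => hr x (Multiset.mem_cons_of_mem hx)) h'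
        exact ⟨x, Multiset.mem_cons_of_mem hx, hxc⟩
  obtain ⟨x, hx, hxc⟩ := key Q.roots
    (fun x hx => ring_of_root hM hQ hc ((mem_roots hQ.ne_zero).1 hx)) h
  exact ⟨x, (mem_roots hQ.ne_zero).1 hx, hxc⟩

/-- Sums over a finite set permuted freely by a map of order `p` lie in `U` if the orbit sums do. -/
theorem sum_mem_of_orbits {X A : Type*} [AddCommGroup A] [DecidableEq X] {p : ℕ} (hp : p.Prime)
    (σ : Equiv.Perm X) (hσp : σ ^ p = 1) (f : X → A) (U : AddSubgroup A)
    (hU : ∀ x, ∑ i ∈ Finset.range p, f ((σ ^ i) x) ∈ U) :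
    ∀ s : Finset X, (∀ x ∈ s, σ x ∈ s) → (∀ x ∈ s, σ x ≠ x) → ∑ x ∈ s, f x ∈ U := by
  haveI := Fact.mk hp
  intro s
  induction s using Finset.strongInductionOn with
  | _ s ih =>
    intro hs hfree
    rcases s.eq_empty_or_nonempty with rfl | ⟨x, hx⟩
    · simp
    have hpow : ∀ (i : ℕ) (y : X), y ∈ s → (σ ^ i) y ∈ s := by
      intro i y hy
      induction i with
      | zero => simpa using hy
      | succ i ihi => rw [pow_succ', Equiv.Perm.mul_apply]; exact hs _ ihi
    set O := (Finset.range p).image fun i => (σ ^ i) x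
    have hinj : Set.InjOn (fun i => (σ ^ i) x) (Finset.range p : Set ℕ) := by
      intro i hi j hj hij
      by_contra hne
      wlog hlt : i < j generalizing i j
      · exact this hj hi hij.symm (Ne.symm hne) (by omega)
      have hjp : j < p := Finset.mem_range.1 hj
      have hfix : (σ ^ (j - i)) x = x := by
        apply (σ ^ i).injective
        rw [← Equiv.Perm.mul_apply, ← pow_add, Nat.add_sub_cancel' hlt.le]
        exact hij.symm
      obtain ⟨k, hk⟩ := Nat.exists_mul_mod_eq_one_of_coprime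
        ((hp.coprime_iff_not_dvd.2 (Nat.not_dvd_of_pos_of_lt (by omega) (by omega : j - i < p))).symm)
        hp.one_lt
      refine hfree x hx ?_
      have h1 : σ ^ ((j - i) * k) = σ := by rw [pow_eq_pow_mod _ hσp, hk.2, pow_one]
      conv_lhs => rw [← h1]
      rw [pow_mul]
      have hk' : ∀ n, ((σ ^ (j - i)) ^ n) x = x := fun n => by
        induction n with
        | zero => simp
        | succ n ihn => rw [pow_succ, Equiv.Perm.mul_apply, hfix, ihn]
      exact hk' k
    have hOs : O ⊆ s := fun y hy => by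
      obtain ⟨i, -, rfl⟩ := Finset.mem_image.1 hy
      exact hpow i x hx
    have hOσ : ∀ y, σ y ∈ O → y ∈ O := by
      intro y hy
      obtain ⟨i, hi, he⟩ := Finset.mem_image.1 hy
      refine Finset.mem_image.2 ⟨(i + (p - 1)) % p, Finset.mem_range.2 (Nat.mod_lt _ hp.pos), ?_⟩
      rw [← pow_eq_pow_mod _ hσp, add_comm, pow_add, Equiv.Perm.mul_apply, he,
        ← Equiv.Perm.mul_apply, ← pow_succ, Nat.sub_add_cancel hp.one_le, hσp]
      rfl
    rw [← Finset.sum_sdiff hOs]
    refine U.add_mem (ih (s \ O) ?_ ?_ fun y hy => hfree y (Finset.mem_sdiff.1 hy).1) ?_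
    · exact Finset.sdiff_ssubset hOs
        ⟨x, Finset.mem_image.2 ⟨0, Finset.mem_range.2 hp.pos, by simp⟩⟩
    · intro y hy
      obtain ⟨hy1, hy2⟩ := Finset.mem_sdiff.1 hy
      exact Finset.mem_sdiff.2 ⟨hs y hy1, fun h => hy2 (hOσ y h)⟩
    · rw [Finset.sum_image hinj]
      exact hU x

variable {G : Type u} [Group G] [Finite G] {p : ℕ} {M : Ideal Cfsg.AlgInt}

/-- Outside the normaliser a Sylow subgroup of order `p` permutes the cosets freely. -/
theorem smul_coset_ne [Fact p.Prime] (P : Sylow p G) (hP : Nat.card (P : Subgroup G) = p) {g : G}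
    (hg : g ∈ (P : Subgroup G)) (hg1 : g ≠ 1)
    (q : G ⧸ Subgroup.normalizer ((P : Subgroup G) : Set G))
    (hq : g • q = q) : q = ((1 : G) : G ⧸ Subgroup.normalizer ((P : Subgroup G) : Set G)) := by
  have hp : p.Prime := Fact.out
  obtain ⟨a, rfl⟩ := QuotientGroup.mk_surjective q
  rw [MulAction.Quotient.smul_mk, smul_eq_mul, QuotientGroup.eq] at hq
  set x := a⁻¹ * g * a
  have hx : x ∈ Subgroup.normalizer ((P : Subgroup G) : Set G) := by
    have := inv_mem hq
    simpa [x, mul_assoc] using this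
  have hzp : Subgroup.zpowers g = (P : Subgroup G) := by
    refine eq_of_le_of_card_le (Subgroup.zpowers_le.2 hg) ?_
    rw [hP, Nat.card_zpowers]
    refine le_of_eq (orderOf_eq_prime ?_ hg1).symm
    have h1 : (⟨g, hg⟩ : (P : Subgroup G)) ^ Nat.card (P : Subgroup G) = 1 := pow_card_eq_one'
    rw [hP] at h1
    exact congrArg Subtype.val h1
  have hQ : IsPGroup p (Subgroup.zpowers x) := by
    refine IsPGroup.of_card (n := 1) ?_
    rw [Nat.card_zpowers, pow_one, ← hP, ← hzp, Nat.card_zpowers]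
    exact (MulAut.conj a⁻¹).orderOf_eq g ▸ (congrArg orderOf (by simp [x]))
  have hxP : x ∈ (P : Subgroup G) := by
    have h := hQ.inf_normalizer_sylow P
    exact (Subgroup.mem_inf.1 (h ▸ Subgroup.mem_inf.2 ⟨Subgroup.mem_zpowers x, hx⟩ :
      x ∈ Subgroup.zpowers x ⊓ (P : Subgroup G))).2
  rw [QuotientGroup.eq, mul_one]
  rw [Subgroup.mem_normalizer_iff]
  have hmap : (P : Subgroup G).map (MulAut.conj a⁻¹).toMonoidHom = (P : Subgroup G) := by
    refine eq_of_le_of_card_le ?_ (card_map_conj _ _).ge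
    rw [← hzp, MonoidHom.map_zpowers, Subgroup.zpowers_le]
    rw [hzp]
    simpa [x] using hxP
  intro b
  constructor <;> intro hb
  · rw [← hmap]; exact ⟨_, hb, rfl⟩
  · rw [← hmap] at hb
    obtain ⟨c, hc, he⟩ := hb
    exact (MulAut.conj a⁻¹).injective he ▸ hc

set_option maxHeartbeats 3200000 in
/-- **The stable bound.** -/
theorem abs_sum_conjugates_le_one (hM : Cfsg.IsPModular p M) [Fact p.Prime] (P : Sylow p G)
    (hP : Nat.card (P : Subgroup G) = p) {g : G} (hg : g ∈ (P : Subgroup G)) (hg1 : g ≠ 1)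
    {K : Subgroup G} (hKn : ∀ a ∈ Subgroup.normalizer ((P : Subgroup G) : Set G), ∀ k ∈ K,
      a * k * a⁻¹ ∈ K)
    (hKg : ∀ k ∈ K, Commute g k) (hKp : ¬ p ∣ Nat.card K)
    {h : G} (hh : h ∈ Subgroup.normalizer ((P : Subgroup G) : Set G)) {u : ℕ} (hu : u.Coprime p)
    (hhg : h * g * h⁻¹ = g ^ u) {e : ℕ} (he : 0 < e) (heK : h ^ e ∈ K)
    (hgen : ∀ a ∈ Subgroup.normalizer ((P : Subgroup G) : Set G), ∃ j i : ℕ, ∃ k ∈ K,
      a = h ^ j * (g ^ i * k))
    {m : ℕ} (hm : ¬ p ∣ m) (hem : e ∣ m) {ξ : ℂ} (hξ : IsPrimitiveRoot ξ (m * p))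
    (hξi : IsIntegral ℤ ξ) {r : ℕ} (θ : Fin r → Cfsg.IrrCharacter G) (hinj : Function.Injective θ)
    (j₀ : Fin r) {n : ℕ} (hdeg : ∀ j, (θ j : G → ℂ) 1 = n) (hnm : n < m)
    (hθS : ∀ a, (θ j₀ : G → ℂ) a ∈ cycLocal hM hξi)
    (hΘR : ∀ a, ∑ j, (θ j : G → ℂ) a ∈ cycLocal hM (hξi.pow p))
    (hσ : ∀ j, ∃ σ : cycLocal hM hξi →+* ℂ,
      (∀ s : cycLocal hM hξi, (s : ℂ) ∈ cycLocal hM (hξi.pow p) → σ s = s) ∧
      (∀ s, Cong M (σ s) (s : ℂ)) ∧
      ∀ a, σ ⟨_, hθS a⟩ = (θ j : G → ℂ) a)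
    (v : ℤ) (hv : ∀ i : ℕ, 0 < i → i < p → ∀ k ∈ K, ∑ j, (θ j : G → ℂ) (g ^ i * k) = v) :
    |v| ≤ 1 := by
  classical
  letI := Fintype.ofFinite G
  haveI := Fintype.ofFinite K
  have hp : p.Prime := Fact.out
  set η := ξ ^ p
  set R := cycLocal hM (hξi.pow p) with hR
  set S := cycLocal hM hξi with hS
  have hm0 : 0 < m := Nat.pos_of_ne_zero fun e => hm (by rw [e]; exact dvd_zero p)
  have hη : IsPrimitiveRoot η m := hξ.pow (Nat.mul_pos hm0 hp.pos) (mul_comm m p)
  have hηm : η ^ m = 1 := hη.pow_eq_one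
  have hπR : IsUnif hM (cycAlg η) (fun _ => isIntegral_cycAlg (hξi.pow p)) ((p : ℕ) : R) :=
    exists_unif_unramified hM hm hηm _
  haveI : IsLocalRing R := isLocalRing_localSub hM _ _
  haveI : IsPrincipalIdealRing R := isPrincipalIdealRing_localSub hπR
  have hπS := exists_unif_ramified hM hm hξ (fun _ => isIntegral_cycAlg hξi)
  haveI : IsPrincipalIdealRing S := isPrincipalIdealRing_localSub hπS
  have hmax : IsLocalRing.maximalIdeal R = Ideal.span {((p : ℕ) : R)} := by
    refine le_antisymm (fun z hz => Ideal.mem_span_singleton.2 (dvd_of_ideal hπR ?_))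
      ((Ideal.span_singleton_le_iff_mem _).2 fun hu' => ?_)
    · by_contra h0
      exact hz ((localSub_isUnit_iff hM _ _ z).2 h0)
    · exact (localSub_isUnit_iff hM _ _ _).1 hu' hπR.ideal
  have hRS : R ≤ S := by
    rintro _ ⟨a, ha, b, hb, hbM, rfl⟩
    have hle : cycAlg η ≤ cycAlg ξ := Algebra.adjoin_le (Set.singleton_subset_iff.2
      (pow_mem (self_mem_cycAlg ξ) p))
    exact ⟨a, hle ha, b, hle hb, hbM, rfl⟩
  set ι : R →+* S := Subring.inclusion hRS
  -- elements and idempotents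
  obtain ⟨q, hq⟩ : n ∣ Nat.card G := by
    have := char_degree_dvd_card (θ j₀)
    rwa [show Cfsg.charDegree (θ j₀ : G → ℂ) = n from Nat.cast_injective (R := ℂ)
      (by rw [charDegree_cast, hdeg])] at this
  have hn0 : n ≠ 0 := by rintro rfl; exact irr_one_ne_zero (θ j₀).2 (by rw [hdeg]; simp)
  have hq0 : q ≠ 0 := by rintro rfl; rw [mul_zero] at hq; exact Nat.card_pos.ne' hq
  set E : Fin r → MonoidAlgebra ℂ G := fun j => (q : ℂ) • blockIdem {θ j} with hE
  have hEcoef : ∀ j a, (E j).coeff a = (θ j : G → ℂ) a⁻¹ := by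
    intro j a
    rw [hE, MonoidAlgebra.coeff_smul, Finsupp.smul_apply, coeff_blockIdem, Cfsg.blockCoeff,
      finsum_mem_singleton, ← char_inv (irr_isCharacter (θ j)), smul_eq_mul, hdeg, hq, Nat.cast_mul]
    field_simp
  have hEmul : ∀ j k, E j * E k = if j = k then (q : ℂ) • E j else 0 := by
    intro j k
    rw [hE, smul_mul_smul_comm, blockIdem_mul]
    split_ifs with hjk
    · rw [hjk, Set.inter_self, smul_smul]
    · rw [Set.singleton_inter_eq_empty.2 (by simpa using fun e => hjk (hinj e)),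
        show blockIdem (∅ : Set (Cfsg.IrrCharacter G)) = 0 from el_ext fun a => by
          simp [Cfsg.blockCoeff], smul_zero]
  set EΘ : MonoidAlgebra R G := Lattice.ofCoeff fun a => ⟨_, hΘR a⁻¹⟩
  set E₁ : MonoidAlgebra S G := Lattice.ofCoeff fun a => ⟨_, hθS a⁻¹⟩
  have hpΘ : Lattice.push R.subtype EΘ = ∑ j, E j := el_ext fun a => by
    rw [Lattice.coeff_push, MonoidAlgebra.coeff_sum, Finset.sum_apply']
    simp only [hEcoef]
    rfl
  have hpE₁ : Lattice.push S.subtype E₁ = E j₀ := el_ext fun a => by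
    rw [Lattice.coeff_push, hEcoef]; rfl
  have hEc : ∀ j x, E j * x = x * E j := fun j x => by
    rw [hE, smul_mul_assoc, mul_smul_comm, (central_commute (central_blockIdem _) x).eq]
  have hEΘ : EΘ * EΘ = (q : R) • EΘ := Lattice.push_injective Subtype.val_injective (by
    rw [map_mul, Lattice.push_smul, map_natCast, hpΘ, Finset.sum_mul, Finset.smul_sum]
    refine Finset.sum_congr rfl fun j _ => ?_
    rw [Finset.mul_sum]
    simp [hEmul])
  have hE₁ : E₁ * E₁ = (q : S) • E₁ := Lattice.push_injective Subtype.val_injective (by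
    rw [map_mul, Lattice.push_smul, map_natCast, hpE₁, hEmul, if_pos rfl])
  have hEΘc : ∀ x, EΘ * x = x * EΘ := fun x => Lattice.push_injective Subtype.val_injective (by
    rw [map_mul, map_mul, hpΘ, Finset.sum_mul, Finset.mul_sum]
    exact Finset.sum_congr rfl fun j _ => hEc j _)
  have hE₁c : ∀ x, E₁ * x = x * E₁ := fun x => Lattice.push_injective Subtype.val_injective (by
    rw [map_mul, map_mul, hpE₁, hEc])
  obtain ⟨_, _⟩ := Lattice.ofBasis_free EΘ
  obtain ⟨_, _⟩ := Lattice.ofBasis_free E₁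
  let L := Lattice.lat EΘ
  set act := Lattice.lact EΘ
  let ρ : G →* Module.End R L := (act : MonoidAlgebra R G →* Module.End R L).comp (MonoidAlgebra.of R G)
  have hρ : ∀ a, ρ a = act (single a 1) := fun a => rfl
  have htr : ∀ a, ((LinearMap.trace R L (ρ a) : R) : ℂ) = n * ∑ j, (θ j : G → ℂ) a := by
    intro a
    have h1 := congrArg R.subtype (Lattice.trace_single_mul EΘ hEΘ a)
    rw [map_mul, map_natCast, map_sum] at h1
    have h2 : ∑ b : G, R.subtype (EΘ.coeff ((a * b)⁻¹ * b)) =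
        (Nat.card G : ℂ) * ∑ j, (θ j : G → ℂ) a := by
      have h3 : ∀ b : G, R.subtype (EΘ.coeff ((a * b)⁻¹ * b)) = ∑ j, (θ j : G → ℂ) a := fun b => by
        show ∑ j, (θ j : G → ℂ) ((a * b)⁻¹ * b)⁻¹ = _
        refine Finset.sum_congr rfl fun j _ => ?_
        rw [show ((a * b)⁻¹ * b)⁻¹ = b⁻¹ * a * b⁻¹⁻¹ by group]
        exact irr_isClassFunction _ _ _
      rw [Finset.sum_congr rfl fun b _ => h3 b, Finset.sum_const, Finset.card_univ,
        Nat.card_eq_fintype_card, nsmul_eq_mul]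
    rw [h2, hq, Nat.cast_mul, mul_comm (n : ℂ), mul_assoc] at h1
    exact mul_left_cancel₀ (Nat.cast_ne_zero.2 hq0) h1
  -- the averaging idempotent of `K`
  have hKu : IsUnit ((Nat.card K : ℕ) : R) := (localSub_isUnit_iff hM _ _ _).2 (by
    rw [show (((Nat.card K : ℕ) : R) : ℂ) = (Nat.card K : ℂ) from map_natCast R.subtype _]
    exact fun h => hKp ((ideal_natCast_iff hM _).1 h))
  obtain ⟨ki, hki⟩ := hKu.exists_left_inv
  set π : Module.End R L := ki • ∑ k : K, ρ k with hπdef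
  have hρπ : ∀ k : K, ρ k * π = π := by
    intro k
    rw [hπdef, mul_smul_comm, Finset.mul_sum]
    congr 1
    exact Fintype.sum_equiv (Equiv.mulLeft k) _ _ fun k' => by
      simp [← map_mul]
  have hππ : π * π = π := by
    nth_rw 1 [hπdef]
    rw [smul_mul_assoc, Finset.sum_mul, Finset.sum_congr rfl fun k _ => hρπ k, Finset.sum_const,
      Finset.card_univ, ← Nat.card_eq_fintype_card, ← Nat.cast_smul_eq_nsmul R, smul_smul, hki,
      one_smul]
  set N := Subgroup.normalizer ((P : Subgroup G) : Set G)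
  have hπN : ∀ a ∈ N, ρ a * π = π * ρ a := by
    intro a ha
    rw [hπdef, mul_smul_comm, smul_mul_assoc, Finset.mul_sum, Finset.sum_mul]
    congr 1
    refine Fintype.sum_bijective (fun k : K => (⟨a * k * a⁻¹, hKn a ha k k.2⟩ : K)) ?_ _ _ fun k => ?_
    · exact Finite.injective_iff_bijective.1 fun k k' h => Subtype.ext
        (mul_left_cancel (mul_right_cancel (congrArg Subtype.val h)))
    · rw [← map_mul, ← map_mul]
      simp
  haveI : Module.Free R (LinearMap.range π) :=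
    Module.Free.of_basis (Submodule.basisOfPid (Module.Free.chooseBasis R L) _).2
  haveI : Module.Finite R (LinearMap.range π) :=
    Module.Finite.of_basis (Submodule.basisOfPid (Module.Free.chooseBasis R L) _).2
  let L₁ := LinearMap.range π
  have hfix : ∀ y : L₁, π (y : L) = y := by
    rintro ⟨_, w, rfl⟩
    exact congrArg (fun f : Module.End R L => f w) hππ
  let cod : L →ₗ[R] L₁ := π.rangeRestrict
  have hcs : ∀ y : L₁, cod (y : L) = y := fun y => Subtype.ext (hfix y)
  have hsc : ∀ x : L, (cod x : L) = π x := fun x => rfl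
  let f₁ : G → Module.End R L₁ := fun a => cod ∘ₗ ρ a ∘ₗ L₁.subtype
  have hf₁ : ∀ a ∈ N, ∀ y : L₁, (f₁ a y : L) = ρ a y := fun a ha y => by
    show π (ρ a y) = _
    rw [← Module.End.mul_apply, ← hπN a ha, Module.End.mul_apply, hfix]
  have hgN : g ∈ N := Subgroup.le_normalizer hg
  have hf₁mul : ∀ a b, a ∈ N → b ∈ N → f₁ (a * b) = f₁ a * f₁ b := fun a b ha hb =>
    LinearMap.ext fun y => Subtype.ext (by
      rw [Module.End.mul_apply, hf₁ _ (mul_mem ha hb), hf₁ a ha, hf₁ b hb, map_mul,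
        Module.End.mul_apply])
  have hf₁one : f₁ 1 = 1 := LinearMap.ext fun y => Subtype.ext (by
    rw [hf₁ 1 (one_mem N), map_one]; rfl)
  have hf₁pow : ∀ a, a ∈ N → ∀ i : ℕ, f₁ (a ^ i) = f₁ a ^ i := fun a ha i => by
    induction i with
    | zero => rw [pow_zero, pow_zero, hf₁one]
    | succ i ih => rw [pow_succ, pow_succ, hf₁mul _ _ (pow_mem ha i) ha, ih]
  have hf₁K : ∀ k ∈ K, k ∈ N → f₁ k = 1 := fun k hk hkN => LinearMap.ext fun y => Subtype.ext (by
    rw [hf₁ k hkN]
    conv_lhs => rw [← hfix y, ← Module.End.mul_apply, hρπ ⟨k, hk⟩, hfix y]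
    rfl)
  set γ := f₁ g
  have hgp : g ^ p = 1 := by
    rw [← hP, ← Subgroup.coe_mk (P : Subgroup G) g hg, ← Subgroup.coe_pow, pow_card_eq_one',
      Subgroup.coe_one]
  have hγ : γ ^ p = 1 := by rw [← hf₁pow g hgN, hgp, hf₁one]
  have hh1 : f₁ h ^ e = 1 := by rw [← hf₁pow h hh, hf₁K _ heK (pow_mem hh e)]
  have hconj : f₁ h * γ = γ ^ u * f₁ h := by
    rw [← hf₁pow g hgN, ← hf₁mul _ _ hh hgN, ← hf₁mul _ _ (pow_mem hgN u) hh, ← hhg,
      inv_mul_cancel_right]
  obtain ⟨d, hd⟩ := hem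
  set ω : R := ⟨η ^ d, mem_cycLocal hM _ (pow_mem (self_mem_cycAlg η) d)⟩
  have hω : IsPrimitiveRoot ω e :=
    IsPrimitiveRoot.of_map_of_injective (f := R.subtype)
      (hη.pow hm0 (by rw [hd, mul_comm])) Subtype.val_injective
  have heu : IsUnit ((e : ℕ) : R) := (localSub_isUnit_iff hM _ _ _).2 (by
    rw [show (((e : ℕ) : R) : ℂ) = (e : ℂ) from map_natCast R.subtype _]
    exact fun h => hm (((ideal_natCast_iff hM _).1 h).trans (hd ▸ dvd_mul_right e d)))
  have hv' : ∀ i, 0 < i → i < p →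
      LinearMap.trace R L₁ (γ ^ i) = ((n * v : ℤ) : R) := by
    intro i hi hip
    rw [← hf₁pow g hgN]
    refine Subtype.val_injective ?_
    have h1 : LinearMap.trace R L₁ (f₁ (g ^ i)) = LinearMap.trace R L (ρ (g ^ i) * π) := by
      rw [show f₁ (g ^ i) = cod ∘ₗ (ρ (g ^ i) ∘ₗ L₁.subtype) from rfl,
        ← LinearMap.trace_comp_comm' (R := R) (M := L) (N := L₁) cod (ρ (g ^ i) ∘ₗ L₁.subtype)]
      rfl
    rw [h1, hπdef, mul_smul_comm, map_smul, Finset.mul_sum, map_sum, smul_eq_mul]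
    show R.subtype (ki * ∑ k : K, LinearMap.trace R L (ρ (g ^ i) * ρ k)) = R.subtype ((n * v : ℤ) : R)
    rw [map_mul, map_sum, map_intCast,
      Finset.sum_congr rfl fun (k : K) _ => show R.subtype (LinearMap.trace R L (ρ (g ^ i) * ρ k)) =
        (n : ℂ) * v by rw [← map_mul]; exact (htr _).trans (by rw [hv i hi hip (k : G) k.2]),
      Finset.sum_const, Finset.card_univ, ← Nat.card_eq_fintype_card, nsmul_eq_mul, ← mul_assoc]
    have h2 := congrArg R.subtype hki
    rw [map_mul, map_natCast, map_one] at h2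
    rw [h2, one_mul]
    push_cast
    rfl
  obtain ⟨s, t, hst, hφs, hφt⟩ :=
    CycLattice.exists_eigen_pairs (R := R) (L := L₁) hp hmax hγ he hh1 hu hconj hω heu hv'
  have hstZ : (s : ℤ) = t + n * v := by
    have h1 := congrArg R.subtype hst
    rw [map_natCast, map_add, map_natCast, map_intCast] at h1
    exact_mod_cast h1
  -- the transported endomorphism
  have hρcomm : ∀ a b : G, ρ a * ρ b = ρ (a * b) := fun a b => (map_mul ρ a b).symm
  have hlift : ∀ φ : Module.End R L₁, φ * γ = γ * φ → φ * f₁ h = f₁ h * φ →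
      ∃ Φ : Module.End R L, (∀ a, Φ * ρ a = ρ a * Φ) ∧
        ∀ (U : Submodule R L) (x : L₁), (∀ ψ : Module.End R L,
          ∑ i ∈ Finset.range p, ρ (g ^ i) (ψ (ρ (g ^ i)⁻¹ x)) ∈ U) →
            Φ x - (φ x : L) ∈ U := by
    intro φ hφg hφh
    set φ' : Module.End R L := L₁.subtype ∘ₗ φ ∘ₗ cod
    have hφ' : ∀ a ∈ N, φ' * ρ a = ρ a * φ' := by
      intro a ha
      obtain ⟨j, i, k, hk, rfl⟩ := hgen a ha
      have hkN : k ∈ N := by
        have := mul_mem (pow_mem (inv_mem hgN) i) (mul_mem (pow_mem (inv_mem hh) j) ha)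
        simpa [inv_pow, mul_assoc] using this
      have hφa : φ * f₁ (h ^ j * (g ^ i * k)) = f₁ (h ^ j * (g ^ i * k)) * φ := by
        rw [hf₁mul _ _ (pow_mem hh j) (mul_mem (pow_mem hgN i) hkN),
          hf₁mul _ _ (pow_mem hgN i) hkN, hf₁K k hk hkN, mul_one, hf₁pow h hh, hf₁pow g hgN]
        exact ((show Commute φ (f₁ h) from hφh).pow_right j).mul_right
          ((show Commute φ γ from hφg).pow_right i)
      refine LinearMap.ext fun x => ?_
      have h1 : cod (ρ (h ^ j * (g ^ i * k)) x) = f₁ (h ^ j * (g ^ i * k)) (cod x) :=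
        Subtype.ext (by
          rw [hf₁ _ ha, hsc, hsc, ← Module.End.mul_apply, ← hπN _ ha, Module.End.mul_apply])
      show (φ (cod (ρ _ x)) : L) = ρ _ (φ (cod x) : L)
      rw [h1, ← hf₁ _ ha, ← Module.End.mul_apply, hφa, Module.End.mul_apply]
    have hwd : ∀ a b : G, (QuotientGroup.leftRel N) a b →
        ρ a * φ' * ρ a⁻¹ = ρ b * φ' * ρ b⁻¹ := by
      intro a b hab
      rw [QuotientGroup.leftRel_apply] at hab
      have hcc : ρ (a⁻¹ * b) * ρ (a⁻¹ * b)⁻¹ = 1 := by rw [hρcomm, mul_inv_cancel, map_one]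
      symm
      calc ρ b * φ' * ρ b⁻¹
          = ρ (a * (a⁻¹ * b)) * φ' * ρ ((a⁻¹ * b)⁻¹ * a⁻¹) := by
            rw [mul_inv_cancel_left, show (a⁻¹ * b)⁻¹ * a⁻¹ = b⁻¹ by group]
        _ = ρ a * (ρ (a⁻¹ * b) * φ') * (ρ (a⁻¹ * b)⁻¹ * ρ a⁻¹) := by
            rw [map_mul ρ a (a⁻¹ * b), map_mul ρ (a⁻¹ * b)⁻¹ a⁻¹, mul_assoc (ρ a)]
        _ = ρ a * φ' * (ρ (a⁻¹ * b) * ρ (a⁻¹ * b)⁻¹) * ρ a⁻¹ := by
            rw [← hφ' _ hab]; simp only [mul_assoc]
        _ = ρ a * φ' * ρ a⁻¹ := by rw [hcc, mul_one]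
    let F : G ⧸ N → Module.End R L := Quotient.lift (fun a => ρ a * φ' * ρ a⁻¹) hwd
    haveI := Fintype.ofFinite (G ⧸ N)
    have hF : ∀ (a : G) (q : G ⧸ N), F (a • q) = ρ a * F q * ρ a⁻¹ := by
      intro a q
      obtain ⟨b, rfl⟩ := QuotientGroup.mk_surjective q
      show ρ (a * b) * φ' * ρ (a * b)⁻¹ = ρ a * (ρ b * φ' * ρ b⁻¹) * ρ a⁻¹
      rw [mul_inv_rev, map_mul, map_mul]
      simp only [mul_assoc]
    refine ⟨∑ q, F q, fun a => ?_, fun U x hU => ?_⟩
    · rw [Finset.sum_mul, Finset.mul_sum]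
      refine (Fintype.sum_equiv (MulAction.toPerm a) _ _ fun q => ?_).symm
      rw [MulAction.toPerm_apply, hF, mul_assoc _ (ρ a⁻¹), hρcomm, inv_mul_cancel, map_one, mul_one]
    · have h1 : (φ x : L) = F ((1 : G) : G ⧸ N) x := by
        show _ = (ρ 1 * φ' * ρ 1⁻¹) (x : L)
        rw [inv_one, map_one, one_mul, mul_one]
        show _ = (φ (cod (x : L)) : L)
        rw [hcs]
      rw [LinearMap.sum_apply, h1, ← Finset.sum_erase_add Finset.univ _ (Finset.mem_univ ((1 : G) : G ⧸ N)),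
        add_sub_cancel_right]
      refine sum_mem_of_orbits hp (MulAction.toPerm g) ?_ _ U.toAddSubgroup (fun q => ?_) _ ?_ ?_
      · ext q
        rw [show MulAction.toPerm g = MulAction.toPermHom G (G ⧸ N) g from rfl, ← map_pow, hgp,
          map_one]
      · rw [Finset.sum_congr rfl fun i _ => show F ((MulAction.toPerm g ^ i) q) (x : L) =
          ρ (g ^ i) ((F q) (ρ (g ^ i)⁻¹ x)) by
            rw [show MulAction.toPerm g = MulAction.toPermHom G (G ⧸ N) g from rfl, ← map_pow]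
            show F (g ^ i • q) _ = _
            rw [hF]; rfl]
        exact hU (F q)
      · intro q hq
        refine Finset.mem_erase.2 ⟨fun e => ?_, Finset.mem_univ _⟩
        refine (Finset.mem_erase.1 hq).1 ?_
        have h2 : g • ((1 : G) : G ⧸ N) = ((1 : G) : G ⧸ N) := by
          rw [MulAction.Quotient.smul_mk, QuotientGroup.eq]
          simpa using inv_mem hgN
        exact (MulAction.injective g) (e.trans h2.symm)
      · exact fun q hq e => (Finset.mem_erase.1 hq).1 (smul_coset_ne P hP hg hg1 q e)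
  -- eigenvalues modulo `p` lift to the representing matrix
  obtain ⟨χ₁, n', ρ₁, hρ₁, hχ₁⟩ : ∃ χ : Cfsg.IrrCharacter G, ∃ (n' : ℕ)
      (ρ₁ : Representation ℂ G (Fin n' → ℂ)), ρ₁.IsIrreducible ∧ ρ₁.character = (θ j₀ : G → ℂ) := by
    obtain ⟨n', ρ₁, h1, h2⟩ := (θ j₀).2
    exact ⟨θ j₀, n', ρ₁, h1, h2⟩
  have hirr : Cfsg.IsIrrCharacter G ρ₁.character := by rw [hχ₁]; exact (θ j₀).2
  have hn' : n' = n := by
    apply Nat.cast_injective (R := ℂ)
    rw [← hdeg j₀, ← hχ₁, Representation.char_one, Module.finrank_fin_fun]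
  have hcore : ∀ Φ : Module.End R L, (∀ a, Φ * ρ a = ρ a * Φ) →
      ∃ roots : Finset ℂ, roots.card ≤ n ∧ ∀ (U : Submodule R L), (∀ y ∈ U, Φ y ∈ U) →
        ∀ (x : L) (c : R), x ∉ U → Φ x - c • x ∈ U → ∃ μ ∈ roots, Cong M μ (c : ℂ) := by
    intro Φ hΦ
    obtain ⟨z, hz⟩ := (Φ ⟨EΘ, Lattice.self_mem_lat EΘ⟩).2
    have hΦz : ∀ x : L, (Φ x).1 = x.1 * z := by
      rintro ⟨_, w, rfl⟩
      have hlin : ∀ w, Φ * act w = act w * Φ := by
        intro w
        induction w using MonoidAlgebra.induction_on with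
        | of a => exact hΦ a
        | add a b ha hb => rw [map_add, mul_add, add_mul, ha, hb]
        | smul c a ha => rw [map_smul, mul_smul_comm, smul_mul_assoc, ha]
      have h1 := congrArg (fun f : Module.End R L => (f ⟨EΘ, Lattice.self_mem_lat EΘ⟩).1) (hlin w)
      simp only [Module.End.mul_apply] at h1
      show (Φ ⟨w * EΘ, _⟩).1 = w * EΘ * z
      rw [mul_assoc, hEΘc z]
      refine Eq.trans h1 ?_
      show w * (Φ ⟨EΘ, _⟩).1 = _
      rw [← hz]
      rfl
    set zS : MonoidAlgebra S G := MonoidAlgebra.mapRingHom G ι z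
    have hzS : ∀ σ : S →+* ℂ, (∀ s : S, (s : ℂ) ∈ R → σ s = s) →
        Lattice.push σ zS = Lattice.push R.subtype z := fun σ hσ => el_ext fun a => by
      rw [Lattice.coeff_push, Lattice.coeff_push]
      have : zS.coeff a = ι (z.coeff a) := by
        show (MonoidAlgebra.mapRingHom G ι z).coeff a = _
        exact MonoidAlgebra.coeff_map ι.toAddMonoidHom z ▸ rfl
      rw [this]
      exact hσ _ (z.coeff a).2
    let Φ₁ : Module.End S (Lattice.lat E₁) := (LinearMap.mulRight S zS).restrict fun y hy => by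
      obtain ⟨w, rfl⟩ := hy
      refine ⟨w * zS, ?_⟩
      show w * zS * E₁ = w * E₁ * zS
      rw [mul_assoc, mul_assoc, hE₁c]
    have hΦ₁ : ∀ y : Lattice.lat E₁, (Φ₁ y).1 = y.1 * zS := fun y => rfl
    set B := ρ₁.asAlgebraHom (Lattice.push R.subtype z)
    refine ⟨B.charpoly.roots.toFinset, ?_, ?_⟩
    · refine (Multiset.toFinset_card_le _).trans ((Polynomial.card_roots' _).trans ?_)
      rw [LinearMap.charpoly_natDegree, Module.finrank_fin_fun, hn']
    intro U hU x c hxU hxc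
    -- the characteristic polynomial vanishes at `c` modulo `p`
    set Q := Φ.charpoly
    have hpow : ∀ i : ℕ, (Φ ^ i) x - c ^ i • x ∈ U := by
      intro i
      induction i with
      | zero => simp
      | succ i ih =>
        rw [pow_succ', Module.End.mul_apply, pow_succ, mul_smul]
        rw [show Φ ((Φ ^ i) x) - c ^ i • c • x = Φ ((Φ ^ i) x - c ^ i • x) + c ^ i • (Φ x - c • x) by
          rw [map_sub, map_smul, smul_sub]; abel]
        exact add_mem (hU _ ih) (U.smul_mem _ hxc)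
    have hQc : ¬ IsUnit (Q.eval c) := by
      intro hunit
      refine hxU ((Submodule.smul_mem_iff_of_isUnit _ hunit).1 ?_)
      have h0 : Q.eval c • x = -(aeval Φ Q x - Q.eval c • x) := by
        rw [LinearMap.aeval_self_charpoly, LinearMap.zero_apply, zero_sub, neg_neg]
      rw [h0, Polynomial.aeval_eq_sum_range, Polynomial.eval_eq_sum_range, LinearMap.sum_apply,
        Finset.sum_smul, ← Finset.sum_sub_distrib]
      refine neg_mem (sum_mem fun i _ => ?_)
      rw [LinearMap.smul_apply, mul_smul, ← smul_sub]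
      exact U.smul_mem _ (hpow i)
    set Qc := Q.map R.subtype
    have hQm : Q.Monic := LinearMap.charpoly_monic Φ
    have hQI : Cfsg.MemLocalIdeal M (Qc.eval (c : ℂ)) := by
      rw [show (c : ℂ) = R.subtype c from rfl, Polynomial.eval_map_apply]
      by_contra h
      exact hQc ((localSub_isUnit_iff hM _ _ _).2 h)
    obtain ⟨lam, hlam, hlc⟩ := exists_root_cong hM (hQm.map _)
      (fun i => by rw [Polynomial.coeff_map]; exact localSub_ring hM _ _ _)
      (localSub_ring hM _ _ c) hQI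
    obtain ⟨y, hy0, hyz, hyE⟩ := Lattice.exists_eigvec EΘ R.subtype hq0 hEΘ hΦz hlam
    -- a component
    obtain ⟨j, hj⟩ : ∃ j, y * E j ≠ 0 := by
      by_contra hcon
      push Not at hcon
      rw [hpΘ, Finset.mul_sum, Finset.sum_eq_zero fun j _ => hcon j] at hyE
      exact (smul_ne_zero (Nat.cast_ne_zero.2 hq0) hy0) hyE.symm
    obtain ⟨σ, hσR, hσc, hσθ⟩ := hσ j
    have hσE : Lattice.push σ E₁ = E j := el_ext fun a => by
      rw [Lattice.coeff_push, hEcoef]; exact hσθ a⁻¹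
    have hroot : (Φ₁.charpoly.map σ).eval lam = 0 :=
      Lattice.eval_charpoly_eq_zero E₁ σ hΦ₁ hj
        (by rw [hzS σ hσR, mul_assoc, hEc, ← mul_assoc, hyz, smul_mul_assoc])
        ⟨y, by rw [hσE]⟩
    set Q₁ := Φ₁.charpoly.map S.subtype
    have hlr : Cfsg.MemLocalRing M lam := ring_of_cong hM hlc (localSub_ring hM _ _ c)
    have hQ₁ : Cfsg.MemLocalIdeal M (Q₁.eval lam) := by
      have hnd : Φ₁.charpoly.natDegree = (Φ₁.charpoly.map σ).natDegree :=
        ((LinearMap.charpoly_monic Φ₁).natDegree_map σ).symm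
      have h1 : Q₁.eval lam = ∑ i ∈ Finset.range (Φ₁.charpoly.natDegree + 1),
          ((Φ₁.charpoly.coeff i : ℂ) - σ (Φ₁.charpoly.coeff i)) * lam ^ i := by
        simp only [sub_mul, Finset.sum_sub_distrib]
        have h2 := Polynomial.eval_eq_sum_range (p := Φ₁.charpoly.map σ) lam
        rw [hroot, ← hnd] at h2
        simp only [Polynomial.coeff_map] at h2
        rw [← h2, sub_zero, Polynomial.eval_eq_sum_range,
          (LinearMap.charpoly_monic Φ₁).natDegree_map]
        exact Finset.sum_congr rfl fun i _ => by rw [Polynomial.coeff_map]; rfl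
      rw [h1]
      exact ideal_sum hM fun i _ => ideal_mul_right hM (cong_symm hM (hσc _)) (ring_pow hM hlr i)
    obtain ⟨μ, hμ, hμl⟩ := exists_root_cong hM ((LinearMap.charpoly_monic Φ₁).map S.subtype)
      (fun i => by rw [Polynomial.coeff_map]; exact localSub_ring hM _ _ _) hlr hQ₁
    obtain ⟨y₁, hy₁0, hy₁z, hy₁E⟩ := Lattice.exists_eigvec E₁ S.subtype hq0 hE₁ hΦ₁ hμ
    refine ⟨μ, Multiset.mem_toFinset.2 (Lattice.mem_roots_rep ρ₁ hirr hy₁0 ?_ ?_), cong_trans hM hμl hlc⟩
    · have hcx : (⟨_, hirr⟩ : Cfsg.IrrCharacter G) = θ j₀ := Subtype.ext hχ₁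
      rw [hcx]
      rw [hpE₁, hE, mul_smul_comm] at hy₁E
      exact smul_right_injective _ (Nat.cast_ne_zero.2 hq0) hy₁E
    · rw [← hzS S.subtype fun s _ => rfl]; exact hy₁z
  -- conclusion
  let η' : R := ⟨η, mem_cycLocal hM _ (self_mem_cycAlg η)⟩
  have hfinal : ∀ (l : ℕ), n < l → (∀ c : Fin l → R, ∃ φ : Module.End R L₁,
      φ * γ = γ * φ ∧ φ * f₁ h = f₁ h * φ ∧ ∀ i, ∃ (x : L₁) (U : Submodule R L),
        (∀ ψ : Module.End R L, ∑ i ∈ Finset.range p, ρ (g ^ i) (ψ (ρ (g ^ i)⁻¹ x)) ∈ U) ∧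
        (∀ Φ : Module.End R L, (∀ a, Φ * ρ a = ρ a * Φ) → ∀ y ∈ U, Φ y ∈ U) ∧
        (x : L) ∉ U ∧ φ x = c i • x) → False := by
    intro l hl hex
    obtain ⟨φ, hφg, hφh, hφx⟩ := hex fun i => η' ^ (i : ℕ)
    obtain ⟨Φ, hΦ, hΦU⟩ := hlift φ hφg hφh
    obtain ⟨roots, hcard, hroots⟩ := hcore Φ hΦ
    choose x U hU1 hU2 hxU hxc using hφx
    have hmu : ∀ i : Fin (n + 1), ∃ μ ∈ roots, Cong M μ (η ^ (i : ℕ)) := by
      intro i
      set i' : Fin l := Fin.castLE hl i
      obtain ⟨μ, hμ, hμc⟩ := hroots (U i') (hU2 i' Φ hΦ) (x i') (η' ^ (i : ℕ)) (hxU i') (by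
        have := hΦU (U i') (x i') (hU1 i')
        rw [hxc i'] at this
        exact this)
      exact ⟨μ, hμ, by simpa [η'] using hμc⟩
    choose μ hμ hμc using hmu
    have hμinj : Function.Injective μ := by
      intro i i' heq
      by_contra hne
      wlog hlt : (i : ℕ) < (i' : ℕ) generalizing i i'
      · exact this heq.symm (Ne.symm hne) (by
          have : (i : ℕ) ≠ (i' : ℕ) := fun e => hne (Fin.ext e)
          omega)
      have h1 : Cong M (η ^ (i : ℕ)) (η ^ (i' : ℕ)) :=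
        cong_trans hM (cong_symm hM (hμc i)) (heq ▸ hμc i')
      have hi'm : (i' : ℕ) < m := by have := i'.isLt; omega
      have hη0 : η ≠ 0 := hη.ne_zero hm0.ne'
      have h2 : Cong M (η ^ ((i' : ℕ) - i)) 1 := by
        have h3 := cong_mul_left hM (ring_of_pow_eq_one hM hm0.ne'
          (show (η ^ (m - i)) ^ m = 1 by rw [← pow_mul, mul_comm, pow_mul, hηm, one_pow]))
          (cong_symm hM h1)
        rw [← pow_add, ← pow_add, show m - (i : ℕ) + (i' : ℕ) = m + ((i' : ℕ) - i) by omega,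
          show m - (i : ℕ) + (i : ℕ) = m by omega, pow_add, hηm, one_mul] at h3
        exact h3
      have h4 := eq_one_of_cong_one hM hm
        (show (η ^ ((i' : ℕ) - i)) ^ m = 1 by rw [← pow_mul, mul_comm, pow_mul, hηm, one_pow]) h2
      exact hη.pow_ne_one_of_pos_of_lt (by omega) (by omega) h4
    have := Finset.card_le_card_of_injOn μ (s := Finset.univ) (fun i _ => hμ i)
      fun i _ j _ h => hμinj h
    rw [Finset.card_univ, Fintype.card_fin] at this
    omega
  have hρinv : ∀ i, ρ (g ^ i)⁻¹ * ρ (g ^ i) = 1 := fun i => by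
    rw [hρcomm, inv_mul_cancel, map_one]
  have hρpow : ∀ (i : ℕ) (x : L₁), ρ (g ^ i) x = ((γ ^ i) x : L) := fun i x => by
    rw [← hf₁pow g hgN, hf₁ _ (pow_mem hgN i)]
  by_contra hcon
  rcases (lt_abs.1 (lt_of_not_ge hcon)) with hv1 | hv1
  · refine hfinal s (by nlinarith [Int.natCast_nonneg t, hstZ, (show (1 : ℤ) ≤ n by omega)]) fun c => ?_
    obtain ⟨φ, h1, h2, h3⟩ := hφs c
    refine ⟨φ, h1, h2, fun i => ?_⟩
    obtain ⟨x, hxf, hxU, hxc⟩ := h3 i
    refine ⟨x, LinearMap.ker (CycLattice.nrm p (ρ g)) ⊔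
      LinearMap.range ((p : R) • (1 : Module.End R L)), fun ψ => ?_, fun Φ hΦ y hy => ?_, ?_, hxc⟩
    · have hfixg : ∀ j, ρ (g ^ j)⁻¹ (x : L) = x := fun j => by
        have h4 : ρ (g ^ j) (x : L) = x := by
          rw [hρpow, CycLattice.pow_apply_fixd (R := R) (L := L₁) ((CycLattice.mem_fixd (R := R) (L := L₁)).2 hxf)]
        conv_lhs => rw [← h4, ← Module.End.mul_apply, hρinv]
        rfl
      rw [Finset.sum_congr rfl fun j _ => by rw [hfixg, map_pow], ← CycLattice.nrm_apply]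
      set N₀ := CycLattice.nrm p (ρ g)
      rw [show N₀ (ψ x) = (N₀ (ψ x) - (p : R) • ψ x) + (p : R) • ψ x by abel]
      refine add_mem (Submodule.mem_sup_left ?_) (Submodule.mem_sup_right ⟨ψ x, rfl⟩)
      have hgγ : ρ g ^ p = 1 := by rw [← map_pow, hgp, map_one]
      rw [LinearMap.mem_ker, map_sub, map_smul,
        CycLattice.nrm_fixd (CycLattice.nrm_mem_fixd hgγ _), sub_self]
    · obtain ⟨a, ha, _, ⟨b, rfl⟩, rfl⟩ := Submodule.mem_sup.1 hy
      rw [map_add]
      refine add_mem (Submodule.mem_sup_left ?_) (Submodule.mem_sup_right ⟨Φ b, by simp⟩)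
      rw [LinearMap.mem_ker, CycLattice.nrm_apply] at ha ⊢
      have h5 : ∀ j, (ρ g ^ j) (Φ a) = Φ ((ρ g ^ j) a) := fun j => by
        rw [← map_pow, ← Module.End.mul_apply, ← hΦ, Module.End.mul_apply]
      rw [Finset.sum_congr rfl fun j _ => h5 j, ← map_sum, ha, map_zero]
    · intro hxL
      apply hxU
      obtain ⟨a, ha, _, ⟨b, rfl⟩, hab⟩ := Submodule.mem_sup.1 hxL
      have h6 : cod a + cod ((p : R) • b) = x := by
        rw [← map_add, show (p : R) • b = ((p : R) • (1 : Module.End R L)) b from rfl, hab, hcs]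
      rw [← h6]
      refine add_mem (Submodule.mem_sup_left ?_) (Submodule.mem_sup_right ⟨cod b, by simp⟩)
      refine Subtype.ext ?_
      rw [CycLattice.nrm_apply, Submodule.coe_sum,
        Finset.sum_congr rfl fun j _ => by rw [← hρpow, hsc, ← Module.End.mul_apply,
          hπN _ (pow_mem hgN j), Module.End.mul_apply, map_pow], ← map_sum,
        ← CycLattice.nrm_apply, LinearMap.mem_ker.1 ha, map_zero]
      rfl
  · refine hfinal t (by nlinarith [Int.natCast_nonneg s, hstZ, (show (1 : ℤ) ≤ n by omega)]) fun c => ?_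
    obtain ⟨φ, h1, h2, h3⟩ := hφt c
    refine ⟨φ, h1, h2, fun i => ?_⟩
    obtain ⟨x, hxN, hxU, hxc⟩ := h3 i
    refine ⟨x, CycLattice.fixd (ρ g) ⊔ LinearMap.range (ρ g - 1), fun ψ => ?_,
      fun Φ hΦ y hy => ?_, ?_, hxc⟩
    · refine Submodule.mem_sup_right ?_
      have h4 : ∀ j, ρ (g ^ j) (ψ (ρ (g ^ j)⁻¹ x)) - ψ (ρ (g ^ j)⁻¹ x) ∈
          LinearMap.range (ρ g - 1) := fun j => by
        rw [map_pow]; exact CycLattice.pow_sub_one_mem j _
      have h5 : ∑ j ∈ Finset.range p, ψ (ρ (g ^ j)⁻¹ (x : L)) = 0 := by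
        rw [← map_sum, ← Finset.sum_range_reflect]
        have h6 : ∀ j ∈ Finset.range p, ρ (g ^ (p - 1 - j))⁻¹ (x : L) = ρ g ((γ ^ j) x : L) := by
          intro j hj
          have hjp := Finset.mem_range.1 hj
          rw [← hρpow, ← Module.End.mul_apply, hρcomm, show (g ^ (p - 1 - j))⁻¹ = g * g ^ j from ?_]
          rw [← pow_succ', inv_eq_iff_mul_eq_one, ← pow_add,
            show p - 1 - j + (j + 1) = p by omega, hgp]
        rw [Finset.sum_congr rfl h6, ← map_sum, ← Submodule.coe_sum,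
          ← CycLattice.nrm_apply (R := R) (L := L₁), hxN]
        simp
      have h7 := sum_mem (t := Finset.range p) fun j _ => h4 j
      rwa [Finset.sum_sub_distrib, h5, sub_zero] at h7
    · obtain ⟨a, ha, _, ⟨b, rfl⟩, rfl⟩ := Submodule.mem_sup.1 hy
      rw [map_add]
      refine add_mem (Submodule.mem_sup_left ?_) (Submodule.mem_sup_right ⟨Φ b, ?_⟩)
      · rw [CycLattice.mem_fixd] at ha ⊢
        rw [← Module.End.mul_apply, ← hΦ, Module.End.mul_apply, ha]
      · simp only [LinearMap.sub_apply, Module.End.one_apply, map_sub]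
        rw [← Module.End.mul_apply, ← hΦ, Module.End.mul_apply]
    · intro hxL
      apply hxU
      obtain ⟨a, ha, _, ⟨b, rfl⟩, hab⟩ := Submodule.mem_sup.1 hxL
      have hcg : ∀ w : L, γ (cod w) = cod (ρ g w) := fun w => Subtype.ext (by
        rw [hf₁ g hgN, hsc, hsc, ← Module.End.mul_apply, hπN g hgN, Module.End.mul_apply])
      have h6 : cod a + cod ((ρ g - 1) b) = x := by rw [← map_add, hab, hcs]
      rw [← h6]
      refine add_mem (Submodule.mem_sup_left (CycLattice.mem_fixd.2 ?_))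
        (Submodule.mem_sup_right ⟨cod b, ?_⟩)
      · rw [hcg, CycLattice.mem_fixd.1 ha]
      · show γ (cod b) - cod b = cod (ρ g b - b)
        rw [map_sub, hcg]

end Cfsg.Agent.Blocks
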