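import Mathlib
import Cfsg.Prelude.Def_Blocks
import Cfsg.Agent.Lib.Blocks.Block
import Cfsg.Agent.Lib.Blocks.Orthogonality
import Cfsg.Agent.Lib.Characters.Burnside

/-!
# Blocks do not depend on the maximal ideal; principal block and simple groups
-/

set_option linter.style.haveILetI false
set_option linter.unusedSectionVars false

namespace Cfsg.Agent.Blocks

open Cfsg.Agent.Characters
open scoped ComplexConjugate
open Module

universe u

variable {G : Type u} [Group G] [Finite G] {p : ℕ} {M M' : Ideal Cfsg.AlgInt}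

/-- Blocks at `M` have idempotents integral at every other modular ideal. -/
theorem intEl_blockIdem_other (hM : Cfsg.IsPModular p M) (hM' : Cfsg.IsPModular p M')
    {B : Set (Cfsg.IrrCharacter G)} (hB : Cfsg.IsPBlock M B) : IntEl M' (blockIdem B) := by
  classical
  haveI := fact_prime_of_pm hM
  haveI := Fintype.ofFinite G
  haveI := Fintype.ofFinite (Cfsg.IrrCharacter G)
  obtain ⟨P⟩ : Nonempty (Sylow p G) := inferInstance
  haveI := Fintype.ofFinite (P : Subgroup G)
  intro g
  rw [coeff_blockIdem]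
  by_cases hg : p ∣ orderOf g
  · rw [blockCoeff_eq_zero_of_singular hM (intEl_blockIdem hM hB) hg]
    exact ring_zero hM'
  set c : Cfsg.IrrCharacter G → ℂ := fun χ => if χ ∈ B then conj ((χ : G → ℂ) g) else 0
  have h := value_div_card_ring hM' (D := (P : Subgroup G)) (y := 1) (one_mem _) c
    (fun χ => by
      simp only [c]
      split
      · exact irr_conj_ring hM' χ g
      · exact ring_zero hM') fun t ht ht1 => by
      rw [one_mul]
      have hts : p ∣ orderOf t := by
        obtain ⟨k, hk⟩ := IsPGroup.iff_orderOf.1 P.isPGroup' ⟨t, ht⟩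
        rw [Subgroup.orderOf_mk] at hk
        rw [hk]
        exact dvd_pow_self p fun h => ht1 (orderOf_eq_one_iff.1 (by rw [hk, h, pow_zero]))
      have h0 := congrArg conj (sum_block_reg_sing hM (intEl_blockIdem hM hB) hg hts)
      rw [finsum_mem_def, finsum_eq_sum_of_fintype, map_sum, map_zero] at h0
      refine (Finset.sum_congr rfl fun χ _ => ?_).trans h0
      rw [Set.indicator_apply]
      simp only [c]
      split <;> simp [mul_comm]
  have hidx : ¬ p ∣ (P : Subgroup G).index := P.not_dvd_index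
  have h2 := ring_mul hM' (ring_inv_natCast hM' hidx) h
  rw [blockCoeff_eq_sum]
  convert h2 using 1
  rw [← (P : Subgroup G).index_mul_card, Nat.cast_mul, mul_inv, mul_assoc]
  congr 1
  rw [inv_mul_eq_div]
  congr 1
  refine Finset.sum_congr rfl fun χ _ => ?_
  simp only [c]
  split <;> ring

theorem sameBlock_other (hM : Cfsg.IsPModular p M) (hM' : Cfsg.IsPModular p M')
    {χ ψ : Cfsg.IrrCharacter G} (h : Cfsg.SameBlock M (χ : G → ℂ) (ψ : G → ℂ)) :
    Cfsg.SameBlock M' (χ : G → ℂ) (ψ : G → ℂ) :=
  blockOf_subset_of_intEl hM (intEl_blockIdem_other hM' hM (isPBlock_blockOf M' χ))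
    (mem_blockOf_self hM' χ) h

/-- A member of prime-power degree of the principal block of a simple group is trivial. -/
theorem eq_trivIrr_of_degree_pow (hM : Cfsg.IsPModular p M) [IsSimpleGroup G]
    (hna : ∃ a b : G, a * b ≠ b * a) {χ : Cfsg.IrrCharacter G}
    (hχ : χ ∈ Cfsg.principalBlock M G) {k : ℕ} (hdeg : (χ : G → ℂ) 1 = (p : ℂ) ^ k) :
    χ = trivIrr G := by
  classical
  haveI := fact_prime_of_pm hM
  haveI := Fintype.ofFinite G
  by_contra hne
  obtain ⟨n, ρ, hρ, hchar⟩ := χ.2
  obtain ⟨P⟩ : Nonempty (Sylow p G) := inferInstance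
  obtain ⟨g, hg1, hgP⟩ : ∃ g : G, g ≠ 1 ∧ g ∈ Subgroup.centralizer ((P : Subgroup G) : Set G) := by
    rcases eq_or_ne (P : Subgroup G) ⊥ with h | h
    · obtain ⟨g, hg⟩ := exists_ne (1 : G)
      refine ⟨g, hg, Subgroup.mem_centralizer_iff.2 fun x hx => ?_⟩
      rw [h, SetLike.mem_coe, Subgroup.mem_bot] at hx
      simp [hx]
    · haveI : Nontrivial (P : Subgroup G) := (Subgroup.nontrivial_iff_ne_bot _).2 h
      haveI := P.isPGroup'.center_nontrivial
      obtain ⟨⟨⟨g, hgP⟩, hgc⟩, hg⟩ := exists_ne (1 : Subgroup.center (P : Subgroup G))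
      exact ⟨g, fun h => hg (Subtype.ext (Subtype.ext h)), Subgroup.mem_centralizer_iff.2
        fun x hx => congrArg Subtype.val (Subgroup.mem_center_iff.1 hgc ⟨x, hx⟩)⟩
  have hidx : ¬ p ∣ (Subgroup.centralizer ({g} : Set G)).index := fun h =>
    P.not_dvd_index (h.trans (Subgroup.index_dvd_of_le (le_centralizer_iff_mem.2 hgP)))
  have hχg : (χ : G → ℂ) g ≠ 0 := by
    intro h0
    have h1 : Cong M (Cfsg.centralChar (trivIrr G : G → ℂ) g)
        (Cfsg.centralChar (χ : G → ℂ) g) := hχ g
    rw [Cfsg.centralChar, Cfsg.centralChar, h0, mul_zero, zero_div, cong_zero_iff] at h1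
    simp only [trivIrr, mul_one, div_one] at h1
    exact hidx ((ideal_natCast_iff hM _).1 h1)
  rw [← hchar] at hχg hdeg
  have hn : finrank ℂ (Fin n → ℂ) = p ^ k := by
    rw [ρ.char_one] at hdeg
    exact_mod_cast hdeg
  have hnorm := (char_eq_zero_or_norm_eq_of_coprime ρ g (by
    rw [hn]
    exact Nat.Coprime.pow_left _ (hM.1.coprime_iff_not_dvd.2 hidx))).resolve_left hχg
  obtain ⟨ω, hω⟩ := rep_apply_eq_smul_of_norm_eq ρ g hnorm
  rcases (inferInstance : (ρ.asGroupHom.ker).Normal).eq_bot_or_eq_top with hker | hker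
  · have hinj := (MonoidHom.ker_eq_bot_iff ρ.asGroupHom).1 hker
    have hprime := prime_card_of_simple_of_central hg1 fun x => hinj (Units.ext (by
      simp [Representation.asGroupHom_apply, hω, Module.End.mul_eq_comp, map_mul]))
    haveI := Fact.mk hprime
    haveI : IsCyclic G := isCyclic_of_prime_card rfl
    letI : CommGroup G := IsCyclic.commGroup
    obtain ⟨a, b, hab⟩ := hna
    exact hab (mul_comm a b)
  · have hconst : ∀ x : G, (χ : G → ℂ) x = (χ : G → ℂ) 1 := fun x => by
      rw [← hchar]
      refine rep_char_eq_of_apply_eq_id ?_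
      have hx : x ∈ ρ.asGroupHom.ker := hker ▸ Subgroup.mem_top x
      have := congrArg Units.val (MonoidHom.mem_ker.1 hx)
      rw [Representation.asGroupHom_apply] at this
      exact this.trans (by rfl)
    have h0 := classInner_isIrr_ne χ.2 (trivIrr G).2 (fun e => hne (Subtype.ext e))
    rw [classInner_def] at h0
    simp only [hconst, trivIrr_coe, map_one, mul_one, Finset.sum_const, Finset.card_univ,
      nsmul_eq_mul, ← Nat.card_eq_fintype_card] at h0
    rw [inv_mul_cancel_left₀ natCard_ne_zero] at h0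
    exact irr_one_ne_zero χ.2 h0

end Cfsg.Agent.Blocks
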