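import Mathlib
import Cfsg.Prelude.Def_Blocks
import Cfsg.Agent.Lib.Blocks.Covering

/-!
# The blocks of `P C(P)` inducing a block with defect group `P`
-/

set_option linter.style.haveILetI false
set_option linter.unusedSectionVars false

namespace Cfsg.Agent.Blocks

open Cfsg.Agent.Characters Cfsg.Agent.BlockCharsA.NormalSupport

universe u

variable {G : Type u} [Group G] [Finite G] {p : ℕ} {M : Ideal Cfsg.AlgInt}

theorem sup_centralizer_conj {P : Subgroup G} {n : G}
    (hn : n ∈ Subgroup.normalizer (P : Set G)) {x : G}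
    (hx : x ∈ P ⊔ Subgroup.centralizer (P : Set G)) :
    n * x * n⁻¹ ∈ P ⊔ Subgroup.centralizer (P : Set G) := by
  have h : (P ⊔ Subgroup.centralizer (P : Set G)).map (MulAut.conj n).toMonoidHom ≤
      P ⊔ Subgroup.centralizer (P : Set G) := by
    rw [Subgroup.map_sup]
    refine sup_le_sup ?_ ?_
    · rintro _ ⟨y, hy, rfl⟩
      exact (Subgroup.mem_normalizer_iff.1 hn y).1 hy
    · rintro _ ⟨y, hy, rfl⟩
      refine Subgroup.mem_centralizer_iff.2 fun d hd => ?_
      have h1 := Subgroup.mem_centralizer_iff.1 hy _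
        ((Subgroup.mem_normalizer_iff.1 (Subgroup.inv_mem _ hn) d).1 hd)
      simp only [inv_inv] at h1
      show d * (n * y * n⁻¹) = n * y * n⁻¹ * d
      calc d * (n * y * n⁻¹) = n * (n⁻¹ * d * n * y) * n⁻¹ := by group
        _ = n * (y * (n⁻¹ * d * n)) * n⁻¹ := by rw [h1]
        _ = n * y * n⁻¹ * d := by group
  exact h ⟨x, hx, rfl⟩

theorem omega_comp_equiv_brEl {P H : Subgroup G}
    (hH : H ≤ Subgroup.normalizer (P : Set G)) (θ : H → ℂ) (z : MonoidAlgebra ℂ G) :
    omega (θ ∘ Subgroup.subgroupOfEquivOfLe hH)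
      (restrEl (H.subgroupOf (Subgroup.normalizer (P : Set G)))
        (brEl P (Subgroup.normalizer (P : Set G)) z)) = omega θ (brEl P H z) := by
  haveI := Fintype.ofFinite H
  haveI := Fintype.ofFinite (H.subgroupOf (Subgroup.normalizer (P : Set G)))
  simp only [omega, evalChar_eq_sum, Function.comp_apply, map_one]
  refine congrArg (· / _) (Fintype.sum_equiv (Subgroup.subgroupOfEquivOfLe hH).toEquiv _ _ ?_)
  intro x
  simp only [brEl, coeff_restrEl]
  rfl

/-- Two blocks of `P C(P)` inducing a block with defect group `P` are conjugate in `N(P)`. -/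
theorem correspondents_conj (hM : Cfsg.IsPModular p M) {P : Subgroup G}
    {B : Set (Cfsg.IrrCharacter G)} (hP : Cfsg.IsDefectGroup p M B P)
    {b b' : Set (Cfsg.IrrCharacter ↥(P ⊔ Subgroup.centralizer (P : Set G)))}
    (hind : Cfsg.IsInducedBlock M (P ⊔ Subgroup.centralizer (P : Set G)) b B)
    (hind' : Cfsg.IsInducedBlock M (P ⊔ Subgroup.centralizer (P : Set G)) b' B) :
    ∃ n ∈ Subgroup.normalizer (P : Set G), ∀ θ ∈ b, ∃ θ' ∈ b',
      ∀ x : ↥(P ⊔ Subgroup.centralizer (P : Set G)),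
        ∀ hx : n * (x : G) * n⁻¹ ∈ P ⊔ Subgroup.centralizer (P : Set G),
        (θ' : ↥(P ⊔ Subgroup.centralizer (P : Set G)) → ℂ) x =
          (θ : ↥(P ⊔ Subgroup.centralizer (P : Set G)) → ℂ) ⟨n * (x : G) * n⁻¹, hx⟩ := by
  classical
  have hPp := isPGroup_defect hP
  have hHN : P ⊔ Subgroup.centralizer (P : Set G) ≤ Subgroup.normalizer (P : Set G) :=
    sup_le Subgroup.le_normalizer (centralizer_le_normalizer' P)
  set e := Subgroup.subgroupOfEquivOfLe hHN
  haveI hn' : ((P ⊔ Subgroup.centralizer (P : Set G)).subgroupOf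
      (Subgroup.normalizer (P : Set G))).Normal :=
    ⟨fun x hx n => Subgroup.mem_subgroupOf.2 (sup_centralizer_conj n.2 hx)⟩
  haveI hQ := normal_subgroupOf (H := Subgroup.normalizer (P : Set G)) (P := P) le_rfl
  haveI := Fintype.ofFinite ((P ⊔ Subgroup.centralizer (P : Set G)).subgroupOf
    (Subgroup.normalizer (P : Set G)))
  haveI := Fintype.ofFinite (Subgroup.normalizer (P : Set G))
  have hCH : Subgroup.centralizer ((P.subgroupOf (Subgroup.normalizer (P : Set G)) :
      Subgroup (Subgroup.normalizer (P : Set G))) : Set (Subgroup.normalizer (P : Set G))) ≤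
      (P ⊔ Subgroup.centralizer (P : Set G)).subgroupOf (Subgroup.normalizer (P : Set G)) :=
    fun x hx => Subgroup.mem_subgroupOf.2
      (Subgroup.mem_sup_right ((mem_centralizer_subgroupOf Subgroup.le_normalizer).1 hx))
  -- a covering block of `N(P)`
  have key : ∀ (b : Set (Cfsg.IrrCharacter ↥(P ⊔ Subgroup.centralizer (P : Set G)))),
      Cfsg.IsInducedBlock M (P ⊔ Subgroup.centralizer (P : Set G)) b B → ∀ θ ∈ b,
      ∀ θ'' : Cfsg.IrrCharacter ((P ⊔ Subgroup.centralizer (P : Set G)).subgroupOf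
        (Subgroup.normalizer (P : Set G))),
      θ''.1 = (θ : ↥(P ⊔ Subgroup.centralizer (P : Set G)) → ℂ) ∘ e →
      ∃ ψ : Cfsg.IrrCharacter (Subgroup.normalizer (P : Set G)),
        Cfsg.classInner (fun m : (P ⊔ Subgroup.centralizer (P : Set G)).subgroupOf
          (Subgroup.normalizer (P : Set G)) => (ψ : Subgroup.normalizer (P : Set G) → ℂ) m) θ''.1 ≠ 0 ∧
        Cfsg.IsInducedBlock M (Subgroup.normalizer (P : Set G))
          (Cfsg.blockOf M (ψ : Subgroup.normalizer (P : Set G) → ℂ)) B := by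
    intro b hind θ hθ θ'' hθ''
    obtain ⟨ψ, hψ⟩ := exists_over (G := Subgroup.normalizer (P : Set G)) θ''
    obtain ⟨χ, hχ⟩ := block_nonempty hM hind.2.1
    refine ⟨ψ, hψ, isInduced_of_omega hM (isPBlock_blockOf M ψ) hind.2.1 (mem_blockOf_self hM ψ)
      hχ fun g => ?_⟩
    have hwc := central_brEl (P := P) (H := Subgroup.normalizer (P : Set G)) le_rfl
      (central_classSum g)
    refine cong_trans hM (omega_restr_cong_brEl hM hPp Subgroup.le_normalizer le_rfl ψ
      (central_classSum g) (intEl_classSum hM g)) ?_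
    refine cong_trans hM (omega_cong_res hM (isPGroup_subgroupOf hPp Subgroup.le_normalizer) hCH ψ
      hwc (intEl_brEl hM P _ (intEl_classSum hM g))) ?_
    rw [omega_push_eq ψ θ'' hψ (isInvEl_res hwc), res_eq_restrEl, hθ'', omega_comp_equiv_brEl hHN]
    rw [← omega_classSum (irr_isClassFunction χ)]
    exact omega_brEl_of_induced hM hPp le_sup_left hHN hind hθ hχ (central_classSum g)
      (intEl_classSum hM g)
  obtain ⟨θ, hθ⟩ := block_nonempty hM hind.1
  obtain ⟨θ₀, hθ₀⟩ := block_nonempty hM hind'.1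
  set θ'' : Cfsg.IrrCharacter ((P ⊔ Subgroup.centralizer (P : Set G)).subgroupOf
    (Subgroup.normalizer (P : Set G))) := ⟨_, (isIrrCharacter_comp_mulEquiv e).2 θ.2⟩
  set θ₀'' : Cfsg.IrrCharacter ((P ⊔ Subgroup.centralizer (P : Set G)).subgroupOf
    (Subgroup.normalizer (P : Set G))) := ⟨_, (isIrrCharacter_comp_mulEquiv e).2 θ₀.2⟩
  obtain ⟨ψ, hψ, hψi⟩ := key b hind θ hθ θ'' rfl
  obtain ⟨ψ₀, hψ₀, hψ₀i⟩ := key b' hind' θ₀ hθ₀ θ₀'' rfl
  have hsame : Cfsg.SameBlock M (ψ : Subgroup.normalizer (P : Set G) → ℂ)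
      (ψ₀ : Subgroup.normalizer (P : Set G) → ℂ) := by
    have := mem_blockOf_self hM ψ₀
    rwa [← induced_normalizer_unique hM hP hψi hψ₀i] at this
  obtain ⟨g, hg⟩ := constituents_conj_block hM hsame hψ hψ₀
  refine ⟨g, g.2, fun η hη => ?_⟩
  set η'' : Cfsg.IrrCharacter ((P ⊔ Subgroup.centralizer (P : Set G)).subgroupOf
    (Subgroup.normalizer (P : Set G))) := ⟨_, (isIrrCharacter_comp_mulEquiv e).2 η.2⟩
  have h1 : Cfsg.SameBlock M θ''.1 η''.1 :=
    sameBlock_comp_mulEquiv e (sameBlock_of_mem hM hind.1 hθ hη)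
  have h2 := sameBlock_trans hM (sameBlock_symm hM hg) (sameBlock_conjIrr g h1)
  have h3 := sameBlock_comp_mulEquiv e.symm h2
  have hθ₀e : θ₀''.1 ∘ e.symm = (θ₀ : ↥(P ⊔ Subgroup.centralizer (P : Set G)) → ℂ) := by
    funext x; simp [θ₀'']
  rw [hθ₀e] at h3
  set η' : Cfsg.IrrCharacter ↥(P ⊔ Subgroup.centralizer (P : Set G)) :=
    ⟨_, (isIrrCharacter_comp_mulEquiv e.symm).2 (conjIrr g η'').2⟩
  exact ⟨η', mem_of_sameBlock hM hind'.1 hθ₀ h3, fun x hx => congrArg _ (Subtype.ext rfl)⟩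

end Cfsg.Agent.Blocks
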