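import Mathlib
import Cfsg.Agent.Lib.Blocks.Covering
import Cfsg.Agent.Lib.Blocks.FirstMain
import Cfsg.Agent.Lib.PLocal.PSolvable

/-!
# Blocks of a group with a normal Sylow subgroup; blocks of full defect
-/

set_option linter.style.haveILetI false
set_option linter.unusedSectionVars false

namespace Cfsg.Agent.Blocks

open Cfsg.Agent.Characters Cfsg.Agent.CharTheory Cfsg.Agent.BlockCharsA.NormalSupport

universe u

variable {G : Type u} [Group G] [Finite G] {p : ℕ} {M : Ideal Cfsg.AlgInt}

/-- The `p`-regular elements centralising a normal Sylow subgroup form a normal `p'`-subgroup. -/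
theorem exists_regular_centralizer [Fact p.Prime] (P : Sylow p G) [(P : Subgroup G).Normal] :
    ∃ K : Subgroup G, K.Normal ∧ ¬ p ∣ Nat.card K ∧
      ∀ g, g ∈ K ↔ ¬ p ∣ orderOf g ∧ g ∈ Subgroup.centralizer ((P : Subgroup G) : Set G) := by
  have hp : p.Prime := Fact.out
  set C := Subgroup.centralizer ((P : Subgroup G) : Set G)
  set Z := (P : Subgroup G).subgroupOf C
  have hZc : Z ≤ Subgroup.center C := fun z hz => Subgroup.mem_center_iff.2 fun n =>
    Subtype.ext (Subgroup.mem_centralizer_iff.1 n.2 z hz).symm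
  have hidx : ¬ p ∣ Z.index := fun h => P.not_dvd_index
    (h.trans (Subgroup.relIndex_dvd_index_of_normal (P : Subgroup G) C))
  obtain ⟨S, N, hNn, hN⟩ := PLocal.PSolvable.hasNormalPComplement_of_central hZc
    (P.isPGroup'.comap_of_injective _ C.subtype_injective) hidx
  haveI := hNn
  obtain ⟨k, hk⟩ := S.isPGroup'.exists_card_eq
  have hNiff : ∀ g : C, g ∈ N ↔ ¬ p ∣ orderOf g := by
    refine fun g => ⟨fun hg h => S.not_dvd_index ?_, fun h => ?_⟩
    · rw [hN.index_eq_card]
      exact h.trans (N.orderOf_dvd_natCard hg)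
    · exact mem_of_regular hp ⟨k, by rw [hN.symm.index_eq_card, hk]⟩ h
  let K : Subgroup G :=
    { carrier := {g | ¬ p ∣ orderOf g ∧ g ∈ C}
      one_mem' := ⟨by simp [hp.ne_one], one_mem _⟩
      mul_mem' := fun {a b} ha hb => ⟨by
        have h := (hNiff (⟨a, ha.2⟩ * ⟨b, hb.2⟩)).1 (N.mul_mem
          ((hNiff ⟨a, ha.2⟩).2 (by rw [Subgroup.orderOf_mk]; exact ha.1))
          ((hNiff ⟨b, hb.2⟩).2 (by rw [Subgroup.orderOf_mk]; exact hb.1)))
        rwa [← Subgroup.orderOf_coe] at h, mul_mem ha.2 hb.2⟩
      inv_mem' := fun {a} ha => ⟨by rw [orderOf_inv]; exact ha.1, inv_mem ha.2⟩ }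
  refine ⟨K, ⟨fun g hg a => ⟨?_, (inferInstance : C.Normal).conj_mem g hg.2 a⟩⟩, fun h => ?_,
    fun g => Iff.rfl⟩
  · rw [show orderOf (a * g * a⁻¹) = orderOf g from (MulAut.conj a).orderOf_eq g]
    exact hg.1
  · obtain ⟨⟨g, hg⟩, hgo⟩ := exists_prime_orderOf_dvd_card' p h
    exact hg.1 (by rw [← Subgroup.orderOf_mk g hg, hgo])

/-- Blocks of a group with normal Sylow subgroup `P` correspond in number to the classes of
`p`-regular elements centralising `P`. -/
theorem card_blocks_of_normal_sylow (hM : Cfsg.IsPModular p M) [Fact p.Prime] (P : Sylow p G)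
    [(P : Subgroup G).Normal] :
    Nat.card {B : Set (Cfsg.IrrCharacter G) // Cfsg.IsPBlock M B} =
      Nat.card {C : ConjClasses G // ∀ g : G, ConjClasses.mk g = C →
        ¬ p ∣ orderOf g ∧ g ∈ Subgroup.centralizer ((P : Subgroup G) : Set G)} := by
  classical
  obtain ⟨K, hKn, hKp, hK⟩ := exists_regular_centralizer P
  haveI := hKn
  haveI := Fintype.ofFinite G
  haveI := Fintype.ofFinite K
  haveI := Fintype.ofFinite (Cfsg.IrrCharacter G)
  set β := {B : Set (Cfsg.IrrCharacter G) // Cfsg.IsPBlock M B}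
  set γ := {C : ConjClasses G // ∀ g : G, ConjClasses.mk g = C →
    ¬ p ∣ orderOf g ∧ g ∈ Subgroup.centralizer ((P : Subgroup G) : Set G)}
  haveI := Fintype.ofFinite β
  haveI := Fintype.ofFinite γ
  choose rep hrep using fun B : β => block_nonempty hM B.2
  choose θ hθ using fun B : β => exists_under (N := K) (rep B)
  have hout : ∀ C : γ, Quotient.out C.1 ∈ K := fun C => (hK _).2 (C.2 _ (Quotient.out_eq _))
  -- characters sharing a constituent on `K` lie in one block
  have hshare : ∀ (χ χ' : Cfsg.IrrCharacter G) (φ : Cfsg.IrrCharacter K),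
      Cfsg.classInner (fun n : K => (χ : G → ℂ) n) (φ : K → ℂ) ≠ 0 →
      Cfsg.classInner (fun n : K => (χ' : G → ℂ) n) (φ : K → ℂ) ≠ 0 →
      Cfsg.SameBlock M (χ : G → ℂ) (χ' : G → ℂ) := by
    intro χ χ' φ h h'
    by_contra hne
    have hB := isPBlock_blockOf M χ
    set e := blockIdem (Cfsg.blockOf M (χ : G → ℂ)) with he
    set e' := cutEl (P : Subgroup G) e
    have hc : IsCentralEl e' := central_cutEl_normal (central_blockIdem _)
    have hcong : CongEl M e e' := blockIdem_congEl_cutEl hM P.isPGroup' hB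
    have hsupp : push K (res K e') = e' := push_res fun g hg => by
      by_cases hgC : g ∈ Subgroup.centralizer ((P : Subgroup G) : Set G)
      · rw [cutEl_coeff_mem _ hgC, he, coeff_blockIdem]
        refine blockCoeff_eq_zero_of_singular hM (intEl_blockIdem hM hB) ?_
        by_contra hr
        exact hg ((hK g).2 ⟨hr, hgC⟩)
      · exact cutEl_coeff_notMem _ hgC
    have hinv : IsInvEl (res K e') := isInvEl_res hc
    have heq : omega (χ : G → ℂ) e' = omega (χ' : G → ℂ) e' := by
      rw [← hsupp, omega_push_eq χ φ h hinv, omega_push_eq χ' φ h' hinv]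
    have h1 : Cong M (omega (χ : G → ℂ) e) (omega (χ' : G → ℂ) e) :=
      cong_trans hM (omega_cong hM χ (central_blockIdem _) hc hcong)
        (heq ▸ cong_symm hM (omega_cong hM χ' (central_blockIdem _) hc hcong))
    rw [he, omega_blockIdem_mem (mem_blockOf_self hM χ),
      omega_blockIdem_notMem (show χ' ∉ Cfsg.blockOf M (χ : G → ℂ) from hne)] at h1
    exact not_cong_zero_one hM (cong_symm hM h1)
  -- characters of one block have proportional restrictions to `K`
  have hprop : ∀ (B : β) (χ : Cfsg.IrrCharacter G), χ ∈ B.1 →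
      ∃ r : ℂ, ∀ k : K, (χ : G → ℂ) k = r * (rep B : G → ℂ) k := by
    intro B χ hχ
    have hsame : Cfsg.SameBlock M (rep B : G → ℂ) (χ : G → ℂ) := by
      have := block_eq_blockOf hM B.2 (hrep B)
      rw [this] at hχ; exact hχ
    have h' := constituent_transfer hM hKp hsame (hθ B)
    let T : Subgroup G :=
      { carrier := {g | Clifford.conjBy K g (θ B : K → ℂ) = θ B}
        one_mem' := Clifford.conjBy_one K _
        mul_mem' := fun {a b} ha hb => by
          show Clifford.conjBy K (a * b) _ = _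
          rw [← Clifford.conjBy_conjBy K b a, ha, hb]
        inv_mem' := fun {a} ha => by
          show Clifford.conjBy K a⁻¹ _ = _
          apply Clifford.conjBy_injective K a
          rw [Clifford.conjBy_conjBy, inv_mul_cancel, Clifford.conjBy_one, ha] }
    have e1 := Clifford.card_smul_restrict K χ.2 (θ B).2 h' T fun g => Iff.rfl
    have e2 := Clifford.card_smul_restrict K (rep B).2 (θ B).2 (hθ B) T fun g => Iff.rfl
    set m := Cfsg.classInner (fun n : K => (χ : G → ℂ) n) (θ B : K → ℂ)
    set m' := Cfsg.classInner (fun n : K => (rep B : G → ℂ) n) (θ B : K → ℂ)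
    refine ⟨m / m', fun k => ?_⟩
    have f1 := congrFun e1 k
    have f2 := congrFun e2 k
    simp only [Pi.smul_apply, smul_eq_mul] at f1 f2
    have hT : (Nat.card T : ℂ) ≠ 0 := natCard_ne_zero
    rw [div_mul_eq_mul_div, eq_div_iff (hθ B)]
    apply mul_left_cancel₀ hT
    linear_combination m' * f1 - m * f2
  let L : (β → ℂ) →ₗ[ℂ] (γ → ℂ) :=
    { toFun := fun a C => ∑ B : β, a B * (rep B : G → ℂ) (Quotient.out C.1)
      map_add' := fun a b => funext fun C => by simp [add_mul, Finset.sum_add_distrib]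
      map_smul' := fun c a => funext fun C => by simp [Finset.mul_sum, mul_assoc] }
  suffices hb : Function.Bijective L by
    have h := (LinearEquiv.ofBijective L hb).finrank_eq
    rwa [Module.finrank_fintype_fun_eq_card, Module.finrank_fintype_fun_eq_card,
      ← Nat.card_eq_fintype_card, ← Nat.card_eq_fintype_card] at h
  have hclass : ∀ g, g ∈ K → ∀ x : G, ConjClasses.mk x = ConjClasses.mk g →
      ¬ p ∣ orderOf x ∧ x ∈ Subgroup.centralizer ((P : Subgroup G) : Set G) := by
    intro g hg x hx
    obtain ⟨c, hc⟩ := isConj_iff.1 (ConjClasses.mk_eq_mk_iff_isConj.1 hx.symm)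
    exact (hK x).1 (hc ▸ hKn.conj_mem g hg c)
  refine ⟨(injective_iff_map_eq_zero L).2 fun a ha => funext fun B => ?_, fun v => ?_⟩
  · have hall : (∑ B : β, a B • fun k : K => (rep B : G → ℂ) k) = 0 := funext fun k => by
      rw [Finset.sum_apply, Pi.zero_apply]
      obtain ⟨c, hc⟩ := isConj_iff.1 (ConjClasses.mk_eq_mk_iff_isConj.1
        (Quotient.out_eq (ConjClasses.mk (k : G))))
      have h0 : ∑ B : β, a B * (rep B : G → ℂ) (Quotient.out (ConjClasses.mk (k : G))) = 0 :=
        congrFun ha ⟨ConjClasses.mk (k : G), hclass k k.2⟩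
      rw [← h0]
      exact Finset.sum_congr rfl fun B _ => congrArg (a B * ·)
        ((congrArg ((rep B : G → ℂ)) hc.symm).trans (irr_isClassFunction (rep B) _ c))
    have h := congrArg (fun f => Cfsg.classInner f (θ B : K → ℂ)) hall
    simp only [classInner_sum_left, classInner_smul_left] at h
    rw [Finset.sum_eq_single B (fun B' _ hne => ?_) (by simp), classInner_zero_left] at h
    · exact (mul_eq_zero.1 h).resolve_right (hθ B)
    · by_contra hn
      refine hne (Subtype.ext ?_)
      have hs := hshare (rep B') (rep B) (θ B) (fun h => hn (by rw [h, mul_zero])) (hθ B)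
      rw [block_eq_blockOf hM B'.2 (hrep B'), block_eq_blockOf hM B.2 (hrep B)]
      exact blockOf_eq hM hs
  · set F : G → ℂ := fun g => if h : ∀ x : G, ConjClasses.mk x = ConjClasses.mk g →
      ¬ p ∣ orderOf x ∧ x ∈ Subgroup.centralizer ((P : Subgroup G) : Set G)
      then v ⟨ConjClasses.mk g, h⟩ else 0 with hF
    have hFcl : Cfsg.IsClassFunction G F := fun g a => by
      simp only [hF]
      have e : ConjClasses.mk (a * g * a⁻¹) = ConjClasses.mk g :=
        (ConjClasses.mk_eq_mk_iff_isConj.2 (isConj_iff.2 ⟨a, rfl⟩)).symm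
      by_cases h : ∀ x : G, ConjClasses.mk x = ConjClasses.mk g →
        ¬ p ∣ orderOf x ∧ x ∈ Subgroup.centralizer ((P : Subgroup G) : Set G)
      · rw [dif_pos h, dif_pos (fun x hx => h x (hx.trans e))]
        exact congrArg v (Subtype.ext e)
      · rw [dif_neg h, dif_neg fun h' => h fun x hx => h' x (hx.trans e.symm)]
    let bl : Cfsg.IrrCharacter G → β := fun χ => ⟨_, isPBlock_blockOf M χ⟩
    choose r hr using fun χ => hprop (bl χ) χ (mem_blockOf_self hM χ)
    refine ⟨fun B => ∑ χ : Cfsg.IrrCharacter G,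
      if bl χ = B then Cfsg.classInner F (χ : G → ℂ) * r χ else 0, funext fun C => ?_⟩
    show ∑ B : β, (∑ χ : Cfsg.IrrCharacter G, if bl χ = B then
      Cfsg.classInner F (χ : G → ℂ) * r χ else 0) * (rep B : G → ℂ) (Quotient.out C.1) = v C
    simp only [Finset.sum_mul, ite_mul, zero_mul]
    rw [Finset.sum_comm]
    have hFC : F (Quotient.out C.1) = v C := by
      simp only [hF]
      rw [dif_pos (fun x hx => C.2 x (hx.trans (Quotient.out_eq _)))]
      exact congrArg v (Subtype.ext (Quotient.out_eq _))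
    rw [← hFC]
    conv_rhs => rw [congrFun (classFun_eq_sum hFcl) (Quotient.out C.1), Finset.sum_apply]
    refine Finset.sum_congr rfl fun χ _ => ?_
    rw [Finset.sum_ite_eq Finset.univ (bl χ), if_pos (Finset.mem_univ _), Pi.smul_apply,
      smul_eq_mul, mul_assoc, ← hr χ ⟨_, hout C⟩]

/-- Blocks with defect group a Sylow subgroup correspond to the classes of `p`-regular elements of
its normaliser that centralise it. -/
theorem card_full_defect_blocks (hM : Cfsg.IsPModular p M) [Fact p.Prime] (P : Sylow p G) :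
    Nat.card {B : Set (Cfsg.IrrCharacter G) // Cfsg.IsPBlock M B ∧
        Cfsg.IsDefectGroup p M B (P : Subgroup G)} =
      Nat.card {C : ConjClasses (Subgroup.normalizer ((P : Subgroup G) : Set G)) //
        ∀ n : Subgroup.normalizer ((P : Subgroup G) : Set G), ConjClasses.mk n = C →
          ¬ p ∣ orderOf n ∧ (n : G) ∈ Subgroup.centralizer ((P : Subgroup G) : Set G)} := by
  classical
  set N := Subgroup.normalizer ((P : Subgroup G) : Set G) with hN
  set P' : Sylow p N := P.subtype (Subgroup.le_normalizer) with hP'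
  have hP'c : (P' : Subgroup N) = (P : Subgroup G).subgroupOf N := Sylow.coe_subtype _ _
  haveI : (P' : Subgroup N).Normal := by rw [hP'c]; exact normal_subgroupOf le_rfl
  have hdefect : ∀ b : Set (Cfsg.IrrCharacter N), Cfsg.IsPBlock M b →
      Cfsg.IsDefectGroup p M b ((P : Subgroup G).subgroupOf N) := by
    intro b hb
    obtain ⟨D, hD⟩ := exists_defectGroup hM hb
    have h := normal_le_defect hM P'.isPGroup' hb hD
    rw [P'.is_maximal' (isPGroup_defect hD) h, hP'c] at hD
    exact hD
  have key := card_blocks_of_normal_sylow hM P'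
  rw [hP'c] at key
  refine Eq.trans ?_ (key.trans (Nat.card_congr (Equiv.subtypeEquivRight fun C =>
    forall_congr' fun n => imp_congr_right fun _ => and_congr Iff.rfl
      (mem_centralizer_subgroupOf Subgroup.le_normalizer))))
  choose f hf using fun B : {B : Set (Cfsg.IrrCharacter G) // Cfsg.IsPBlock M B ∧
      Cfsg.IsDefectGroup p M B (P : Subgroup G)} =>
    (existsUnique_correspondent hM B.2.1 B.2.2).exists
  refine Nat.card_congr (Equiv.ofBijective (fun B => ⟨f B, (hf B).1⟩) ⟨fun B B' h => ?_,
    fun b => ?_⟩)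
  · have hfe : f B = f B' := congrArg Subtype.val h
    have h' := (hf B').2.2
    rw [← hfe] at h'
    exact Subtype.ext (isInduced_unique hM (hf B).2.2 h')
  · obtain ⟨B, hBD, hind⟩ := exists_induced_defect hM P.isPGroup' b.2 (hdefect b.1 b.2)
    exact ⟨⟨B, hind.2.1, hBD⟩, Subtype.ext
      (induced_normalizer_unique hM hBD (hf ⟨B, hind.2.1, hBD⟩).2.2 hind)⟩

end Cfsg.Agent.Blocks
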