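import Mathlib
import Cfsg.Agent.Lib.Blocks.NormalSylow
import Cfsg.Agent.Lib.Blocks.SecondMain

/-!
# The normaliser of a Sylow subgroup of order `p`
-/

set_option linter.style.haveILetI false
set_option linter.unusedSectionVars false

namespace Cfsg.Agent.Blocks

open Cfsg.Agent.Characters

universe u

variable {G : Type u} [Group G] [Finite G] {p : ℕ}

/-- The structure of `N(P)` for `P = ⟨g⟩` of order `p`: `C(P) = ⟨g⟩ × K` with `K` of order prime
to `p`, and `N(P)` is generated over it by one element `h` acting as `u`. -/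
structure PrimeData (p : ℕ) [Fact p.Prime] (P : Sylow p G) (g : G) (K : Subgroup G) (h : G)
    (u : (ZMod p)ˣ) : Prop where
  gen : Subgroup.zpowers g = (P : Subgroup G)
  order : orderOf g = p
  normal : ∀ a ∈ Subgroup.normalizer ((P : Subgroup G) : Set G), ∀ k ∈ K, a * k * a⁻¹ ∈ K
  mem_iff : ∀ k, k ∈ K ↔ ¬ p ∣ orderOf k ∧ k ∈ Subgroup.centralizer ((P : Subgroup G) : Set G)
  not_dvd : ¬ p ∣ Nat.card K
  decomp : ∀ c ∈ Subgroup.centralizer ((P : Subgroup G) : Set G), ∃ i : ℕ, ∃ k ∈ K, c = g ^ i * k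
  mem_h : h ∈ Subgroup.normalizer ((P : Subgroup G) : Set G)
  conj_h : h * g * h⁻¹ = g ^ (u : ZMod p).val
  pow_h : h ^ orderOf u ∈ K
  decomp_normalizer : ∀ a ∈ Subgroup.normalizer ((P : Subgroup G) : Set G),
    ∃ j i : ℕ, ∃ k ∈ K, a = h ^ j * (g ^ i * k)
  order_u : orderOf u = (Subgroup.centralizer ((P : Subgroup G) : Set G)).relIndex
    (Subgroup.normalizer ((P : Subgroup G) : Set G))

theorem pow_eq_of_natCast [Fact p.Prime] {g : G} (ho : orderOf g = p) {a b : ℕ}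
    (h : (a : ZMod p) = b) : g ^ a = g ^ b :=
  pow_eq_pow_iff_modEq.2 (by rw [ho]; exact (ZMod.natCast_eq_natCast_iff _ _ _).1 h)

theorem natCast_eq_of_pow [Fact p.Prime] {g : G} (ho : orderOf g = p) {a b : ℕ}
    (h : g ^ a = g ^ b) : (a : ZMod p) = b :=
  (ZMod.natCast_eq_natCast_iff _ _ _).2 (ho ▸ pow_eq_pow_iff_modEq.1 h)

theorem orderOf_mul_not_dvd (hp : p.Prime) {a b : G} (hab : Commute a b) (ha : ¬ p ∣ orderOf a)
    (hb : ¬ p ∣ orderOf b) : ¬ p ∣ orderOf (a * b) := fun h => by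
  rcases hp.dvd_mul.1 (h.trans hab.orderOf_mul_dvd_mul_orderOf) with h' | h'
  exacts [ha h', hb h']

theorem exists_primeData [Fact p.Prime] (P : Sylow p G) (hP : Nat.card (P : Subgroup G) = p) :
    ∃ (g : G) (K : Subgroup G) (h : G) (u : (ZMod p)ˣ), PrimeData p P g K h u := by
  classical
  have hp : p.Prime := Fact.out
  set N := Subgroup.normalizer ((P : Subgroup G) : Set G)
  set C := Subgroup.centralizer ((P : Subgroup G) : Set G)
  haveI : Nontrivial (P : Subgroup G) := Finite.one_lt_card_iff_nontrivial.1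
    (lt_of_lt_of_eq hp.one_lt hP.symm)
  obtain ⟨⟨g, hgP⟩, hg1⟩ := exists_ne (1 : (P : Subgroup G))
  have ho : orderOf g = p := by
    rw [← Subgroup.orderOf_mk g hgP]
    have h1 := orderOf_dvd_natCard (⟨g, hgP⟩ : (P : Subgroup G))
    rw [hP] at h1
    exact (hp.eq_one_or_self_of_dvd _ h1).resolve_left fun h => hg1 (orderOf_eq_one_iff.1 h)
  have hgen : Subgroup.zpowers g = (P : Subgroup G) := eq_of_le_of_card_le
    (Subgroup.zpowers_le.2 hgP) (by rw [hP, Nat.card_zpowers, ho])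
  have hCN : C ≤ N := Subgroup.centralizer_le_normalizer _
  have hCg : ∀ c, c ∈ C ↔ c * g = g * c := fun c => by
    show c ∈ Subgroup.centralizer ((P : Subgroup G) : Set G) ↔ _
    rw [← hgen]
    exact mem_centralizer_zpowers.trans Subgroup.mem_centralizer_singleton_iff
  -- the action on `P`
  have hex : ∀ a : N, ∃ i : ℕ, (a : G) * g * (a : G)⁻¹ = g ^ i := by
    intro a
    have hmem : (a : G) * g * (a : G)⁻¹ ∈ Subgroup.zpowers g := by
      rw [hgen]; exact (Subgroup.mem_normalizer_iff.1 a.2 g).1 hgP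
    rw [← mem_powers_iff_mem_zpowers] at hmem
    obtain ⟨i, hi⟩ := hmem
    exact ⟨i, hi.symm⟩
  choose f hf using hex
  have hfmul : ∀ a b : N, (f (a * b) : ZMod p) = f a * f b := fun a b => by
    rw [← Nat.cast_mul]
    refine natCast_eq_of_pow ho ?_
    rw [← hf, pow_mul, ← hf a, conj_pow, ← hf b]
    simp only [Subgroup.coe_mul]; group
  let φ : N →* ZMod p :=
    { toFun := fun a => (f a : ZMod p)
      map_one' := by
        rw [← Nat.cast_one]
        refine natCast_eq_of_pow ho ?_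
        rw [← hf, pow_one]
        simp
      map_mul' := hfmul }
  set Φ := φ.toHomUnits
  have hΦ : ∀ a : N, (a : G) * g * (a : G)⁻¹ = g ^ (Φ a : ZMod p).val := fun a => by
    rw [hf a]
    exact pow_eq_of_natCast ho (by rw [ZMod.natCast_rightInverse]; rfl)
  have hker : Φ.ker = C.subgroupOf N := by
    ext a
    rw [MonoidHom.mem_ker, Subgroup.mem_subgroupOf, hCg, ← mul_inv_eq_iff_eq_mul]
    constructor
    · intro h
      rw [hΦ a, h, Units.val_one, ZMod.val_one, pow_one]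
    · intro h
      refine Units.ext ?_
      show (f a : ZMod p) = 1
      rw [← Nat.cast_one]
      exact natCast_eq_of_pow ho (by rw [← hf a, h, pow_one])
  obtain ⟨⟨u, hu⟩, hgenU⟩ := IsCyclic.exists_generator (α := Φ.range)
  obtain ⟨h₀, hh₀⟩ := hu
  set h : N := h₀ ^ p with hhdef
  have hΦh : Φ h = u := by
    rw [hhdef, map_pow, hh₀]
    exact Units.ext (by rw [Units.val_pow_eq_pow_val]; exact ZMod.pow_card _)
  -- the `p`-regular part of the centraliser
  set Z := (P : Subgroup G).subgroupOf C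
  have hZc : Z ≤ Subgroup.center C := fun z hz => Subgroup.mem_center_iff.2 fun n =>
    Subtype.ext (Subgroup.mem_centralizer_iff.1 n.2 z hz).symm
  have hPC : (P : Subgroup G) ≤ C := by
    rw [← hgen, Subgroup.zpowers_le, hCg]
  have hidx : ¬ p ∣ Z.index := fun h => P.not_dvd_index
    (h.trans ((Subgroup.relIndex_mul_index hPC) ▸ dvd_mul_right _ _))
  obtain ⟨S, N₁, hN₁, hN⟩ := PLocal.PSolvable.hasNormalPComplement_of_central hZc
    (P.isPGroup'.comap_of_injective _ C.subtype_injective) hidx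
  haveI := hN₁
  obtain ⟨k₀, hk₀⟩ := S.isPGroup'.exists_card_eq
  have hNiff : ∀ x : C, x ∈ N₁ ↔ ¬ p ∣ orderOf x := by
    refine fun x => ⟨fun hx h => S.not_dvd_index ?_, fun h => ?_⟩
    · rw [hN.index_eq_card]
      exact h.trans (N₁.orderOf_dvd_natCard hx)
    · exact mem_of_regular hp ⟨k₀, by rw [hN.symm.index_eq_card, hk₀]⟩ h
  let K : Subgroup G :=
    { carrier := {x | ¬ p ∣ orderOf x ∧ x ∈ C}
      one_mem' := ⟨by simp [hp.ne_one], one_mem _⟩
      mul_mem' := fun {a b} ha hb => ⟨by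
        have h := (hNiff (⟨a, ha.2⟩ * ⟨b, hb.2⟩)).1 (N₁.mul_mem
          ((hNiff ⟨a, ha.2⟩).2 (by rw [Subgroup.orderOf_mk]; exact ha.1))
          ((hNiff ⟨b, hb.2⟩).2 (by rw [Subgroup.orderOf_mk]; exact hb.1)))
        rwa [← Subgroup.orderOf_coe] at h, mul_mem ha.2 hb.2⟩
      inv_mem' := fun {a} ha => ⟨by rw [orderOf_inv]; exact ha.1, inv_mem ha.2⟩ }
  have hKnorm : ∀ a ∈ N, ∀ k ∈ K, a * k * a⁻¹ ∈ K := by
    intro a ha k hk
    refine ⟨by rw [show orderOf (a * k * a⁻¹) = orderOf k from (MulAut.conj a).orderOf_eq k]; exact hk.1,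
      Subgroup.mem_centralizer_iff.2 fun x hx => ?_⟩
    have hx' : a⁻¹ * x * a ∈ (P : Subgroup G) := by
      simpa using (Subgroup.mem_normalizer_iff.1 (inv_mem ha) x).1 hx
    have h1 := Subgroup.mem_centralizer_iff.1 hk.2 _ hx'
    calc x * (a * k * a⁻¹) = a * ((a⁻¹ * x * a) * k) * a⁻¹ := by group
      _ = a * (k * (a⁻¹ * x * a)) * a⁻¹ := by rw [h1]
      _ = a * k * a⁻¹ * x := by group
  have hdec : ∀ c ∈ C, ∃ i : ℕ, ∃ k ∈ K, c = g ^ i * k := by
    intro c hc
    obtain ⟨x, y, hxy, hcom, hxp, hy⟩ := exists_ppart hp c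
    have hxc : Commute x c := hxy ▸ (Commute.refl x).mul_right hcom
    have hxQ : IsPGroup p (Subgroup.zpowers x) := zpowers_isPGroup hxp
    -- `x` is a power of `c`
    have hxC : x ∈ C := by
      rw [hCg]
      obtain ⟨k, hk⟩ := hxp
      obtain ⟨s, hs⟩ : ∃ s : ℕ, c ^ s = x := by
        obtain ⟨s, hs0, hs1⟩ := Nat.chineseRemainder
          (Nat.Coprime.pow_left k (hp.coprime_iff_not_dvd.2 hy)) 1 0
        refine ⟨s, ?_⟩
        rw [← hxy, hcom.mul_pow, orderOf_dvd_iff_pow_eq_one.1 (Nat.modEq_zero_iff_dvd.1 hs1),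
          mul_one]
        conv_rhs => rw [← pow_one x]
        exact pow_eq_pow_iff_modEq.2 (hk ▸ hs0)
      rw [← hs]
      exact ((show Commute c g from (hCg c).1 hc).pow_left s).eq
    have hxP : x ∈ Subgroup.zpowers g := by
      rw [hgen]
      exact (Subgroup.mem_inf.1 ((hxQ.inf_normalizer_sylow P) ▸ Subgroup.mem_inf.2
        ⟨Subgroup.mem_zpowers x, hCN hxC⟩ : x ∈ Subgroup.zpowers x ⊓ (P : Subgroup G))).2
    rw [← mem_powers_iff_mem_zpowers] at hxP
    obtain ⟨i, hi⟩ := hxP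
    simp only at hi
    refine ⟨i, y, ⟨hy, ?_⟩, by rw [hi, hxy]⟩
    rw [show y = x⁻¹ * c by rw [← hxy, inv_mul_cancel_left]]
    exact mul_mem (inv_mem hxC) hc
  refine ⟨g, K, h, u, hgen, ho, hKnorm, fun k => Iff.rfl, fun hd => ?_, hdec, h.2,
    by rw [hΦ h, hΦh], ?_, ?_, ?_⟩
  · obtain ⟨⟨k, hk⟩, hko⟩ := exists_prime_orderOf_dvd_card' p hd
    exact hk.1 (by rw [← Subgroup.orderOf_mk k hk, hko])
  · have hmem : h ^ orderOf u ∈ Φ.ker := by rw [MonoidHom.mem_ker, map_pow, hΦh, pow_orderOf_eq_one]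
    rw [hker, Subgroup.mem_subgroupOf, Subgroup.coe_pow] at hmem
    refine ⟨fun hd => ?_, hmem⟩
    have h1 : p ∣ orderOf (h : G) := hd.trans (orderOf_pow_dvd _)
    rw [hhdef, Subgroup.coe_pow] at h1
    by_cases h2 : p ∣ orderOf (h₀ : G)
    · rw [orderOf_pow, Nat.gcd_eq_right h2] at h1
      have h3 : p * p ∣ Nat.card G :=
        ((Nat.mul_dvd_mul_right h1 p).trans (dvd_of_eq (Nat.div_mul_cancel h2))).trans
          (orderOf_dvd_natCard _)
      apply P.not_dvd_index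
      rw [← (P : Subgroup G).index_mul_card, hP] at h3
      exact Nat.dvd_of_mul_dvd_mul_right hp.pos h3
    · exact h2 (h1.trans (orderOf_pow_dvd _))
  · intro a ha
    have hmem := hgenU ⟨Φ ⟨a, ha⟩, ⟨_, rfl⟩⟩
    rw [← mem_powers_iff_mem_zpowers] at hmem
    obtain ⟨j, hj⟩ := hmem
    have hj' : u ^ j = Φ ⟨a, ha⟩ := by simpa using congrArg Subtype.val hj
    have hk : (h ^ j)⁻¹ * ⟨a, ha⟩ ∈ Φ.ker := by
      rw [MonoidHom.mem_ker, map_mul, map_inv, map_pow, hΦh, hj', inv_mul_cancel]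
    rw [hker, Subgroup.mem_subgroupOf] at hk
    obtain ⟨i, k, hk', hik⟩ := hdec _ hk
    refine ⟨j, i, k, hk', ?_⟩
    rw [← hik]
    simp
  · have h1 : Nat.card Φ.range = C.relIndex N := by
      rw [← Subgroup.index_ker, hker]; rfl
    rw [← h1, ← orderOf_eq_card_of_forall_mem_zpowers hgenU]
    exact (Subgroup.orderOf_mk u _).symm

end Cfsg.Agent.Blocks
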