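import Mathlib
import Cfsg.Agent.Lib.Blocks.PrimeNormalizer
import Cfsg.Agent.Lib.Blocks.SectionNorm
import Cfsg.Agent.Lib.Blocks.DefectCenter

/-!
# Coordinates of principal block values on a Sylow subgroup of order `p`
-/

set_option linter.style.haveILetI false
set_option linter.unusedSectionVars false

namespace Cfsg.Agent.Blocks

open Cfsg.Agent.Characters
open scoped ComplexConjugate

universe u

variable {G : Type u} [Group G] [Finite G] {p : ℕ} [Fact p.Prime] {M : Ideal Cfsg.AlgInt}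
  {P : Sylow p G} {g : G} {K : Subgroup G} {h : G} {u : (ZMod p)ˣ}

theorem PrimeData.card_sylow (D : PrimeData p P g K h u) : Nat.card (P : Subgroup G) = p := by
  rw [← D.gen, Nat.card_zpowers, D.order]

theorem PrimeData.g_mem (D : PrimeData p P g K h u) : g ∈ (P : Subgroup G) :=
  D.gen ▸ Subgroup.mem_zpowers g

theorem PrimeData.g_ne_one (D : PrimeData p P g K h u) : g ≠ 1 := fun e =>
  (Fact.out : p.Prime).ne_one (by rw [← D.order, e, orderOf_one])

theorem PrimeData.pow_val_add (D : PrimeData p P g K h u) (a b : ZMod p) :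
    g ^ (a + b).val = g ^ a.val * g ^ b.val := by
  rw [← pow_add]
  exact pow_eq_of_natCast D.order (by push_cast; simp only [ZMod.natCast_rightInverse _])

theorem PrimeData.pow_val_mul (D : PrimeData p P g K h u) (a b : ZMod p) :
    g ^ (a * b).val = (g ^ a.val) ^ b.val := by
  rw [← pow_mul]
  exact pow_eq_of_natCast D.order (by push_cast; simp only [ZMod.natCast_rightInverse _])

theorem PrimeData.orderOf_pow (D : PrimeData p P g K h u) {i : ℕ} (hi : ¬ p ∣ i) :
    orderOf (g ^ i) = p := by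
  rw [Nat.Coprime.orderOf_pow (by
    rw [D.order]; exact (Fact.out : p.Prime).coprime_iff_not_dvd.2 hi), D.order]

theorem PrimeData.zpowers_pow (D : PrimeData p P g K h u) {i : ℕ} (hi : ¬ p ∣ i) :
    Subgroup.zpowers (g ^ i) = (P : Subgroup G) :=
  eq_of_le_of_card_le (D.gen ▸ Subgroup.zpowers_le.2 (Subgroup.npow_mem_zpowers g i))
    (by rw [Nat.card_zpowers, D.orderOf_pow hi, D.card_sylow])

theorem PrimeData.centralizer_pow (D : PrimeData p P g K h u) {i : ℕ} (hi : ¬ p ∣ i) :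
    Subgroup.centralizer ({g ^ i} : Set G) = Subgroup.centralizer ((P : Subgroup G) : Set G) := by
  ext c
  rw [← D.zpowers_pow hi, mem_centralizer_zpowers]

theorem PrimeData.commute_of_mem (D : PrimeData p P g K h u) {k : G} (hk : k ∈ K) :
    Commute g k :=
  Subgroup.mem_centralizer_iff.1 ((D.mem_iff k).1 hk).2 g D.g_mem

theorem PrimeData.isPPart (D : PrimeData p P g K h u) (i : ℕ) {k : G} (hk : k ∈ K) :
    Cfsg.IsPPart p (g ^ i * k) (g ^ i) := by
  refine ⟨k, rfl, (D.commute_of_mem hk).pow_left i, ?_, ((D.mem_iff k).1 hk).1⟩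
  obtain ⟨j, -, hj⟩ := (Nat.dvd_prime_pow (Fact.out : p.Prime)).1
    (show orderOf (g ^ i) ∣ p ^ 1 by rw [pow_one, ← D.order]; exact orderOf_pow_dvd i)
  exact ⟨j, hj⟩

theorem PrimeData.factorization_card (D : PrimeData p P g K h u) :
    (Nat.card G).factorization p = 1 := by
  have hp : p.Prime := Fact.out
  have h1 := P.card_eq_multiplicity
  rw [D.card_sylow] at h1
  exact (Nat.pow_right_injective hp.two_le (h1.symm.trans (pow_one p).symm))

/-- Every element is `p`-regular or conjugate to some `g ^ i * k`. -/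
theorem PrimeData.regular_or_conj (D : PrimeData p P g K h u) (a : G) :
    ¬ p ∣ orderOf a ∨ ∃ i : ℕ, ¬ p ∣ i ∧ ∃ k ∈ K, IsConj a (g ^ i * k) := by
  have hp : p.Prime := Fact.out
  rcases em' (p ∣ orderOf a) with h | h
  · exact Or.inl h
  refine Or.inr ?_
  obtain ⟨x, y, hxy, hcom, hxp, hy⟩ := exists_ppart hp a
  have hx1 : x ≠ 1 := fun e => by
    subst e; rw [one_mul] at hxy; exact hy (hxy ▸ h)
  obtain ⟨Q, hQ⟩ := IsPGroup.exists_le_sylow (zpowers_isPGroup hxp)
  obtain ⟨c, hc⟩ := MulAction.exists_smul_eq G Q P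
  have hxP : c * x * c⁻¹ ∈ (P : Subgroup G) := by
    rw [← hc]
    exact ⟨x, hQ (Subgroup.mem_zpowers x), rfl⟩
  rw [← D.gen, ← mem_powers_iff_mem_zpowers] at hxP
  obtain ⟨i₀, hi₀⟩ := hxP
  simp only at hi₀
  have hi₀' : ¬ p ∣ i₀ := fun hd => by
    obtain ⟨d, rfl⟩ := hd
    rw [pow_mul, ← D.order, pow_orderOf_eq_one, one_pow] at hi₀
    exact hx1 (conj_eq_one_iff.1 hi₀.symm)
  have hcC : c * y * c⁻¹ ∈ Subgroup.centralizer ((P : Subgroup G) : Set G) := by
    rw [← D.centralizer_pow hi₀', Subgroup.mem_centralizer_singleton_iff, hi₀]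
    calc c * y * c⁻¹ * (c * x * c⁻¹) = c * (y * x) * c⁻¹ := by group
      _ = c * (x * y) * c⁻¹ := by rw [hcom.eq]
      _ = c * x * c⁻¹ * (c * y * c⁻¹) := by group
  refine ⟨i₀, hi₀', c * y * c⁻¹, (D.mem_iff _).2 ⟨?_, hcC⟩, isConj_iff.2 ⟨c, ?_⟩⟩
  · rw [show orderOf (c * y * c⁻¹) = orderOf y from (MulAut.conj c).orderOf_eq y]; exact hy
  · rw [hi₀, ← hxy]; group

variable (D : PrimeData p P g K h u)

include D in
/-- Principal block characters are constant along `K`. -/
theorem value_mul_K (hM : Cfsg.IsPModular p M) {χ : Cfsg.IrrCharacter G}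
    (hχ : χ ∈ Cfsg.principalBlock M G) {i : ℕ} (hi : ¬ p ∣ i) {k : G} (hk : k ∈ K) :
    (χ : G → ℂ) (g ^ i * k) = (χ : G → ℂ) (g ^ i) := by
  set C' := Subgroup.centralizer ({g ^ i} : Set G)
  have hC' : C' = Subgroup.centralizer ((P : Subgroup G) : Set G) := D.centralizer_pow hi
  haveI : (K.subgroupOf C').Normal := ⟨fun n hn a => D.normal a
    (Subgroup.centralizer_le_normalizer _ (hC' ▸ a.2)) n hn⟩
  refine value_mul_core hM ⟨1, by rw [D.orderOf_pow hi, pow_one]⟩ hχ
    (K := K.subgroupOf C') (fun hd => D.not_dvd ?_) (v := ⟨k, (D.centralizer_pow hi).symm ▸ ((D.mem_iff k).1 hk).2⟩) hk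
  exact hd.trans (Subgroup.card_comap_dvd_of_injective K C'.subtype C'.subtype_injective)

/-- The additive character `z ↦ ζ ^ z`. -/
noncomputable def zexp (ζ : ℂ) (z : ZMod p) : ℂ := ζ ^ z.val

variable {ζ : ℂ} (hζ : IsPrimitiveRoot ζ p)

include hζ in
theorem zexp_add (a b : ZMod p) : zexp ζ (a + b) = zexp ζ a * zexp ζ b := by
  rw [zexp, zexp, zexp, ← pow_add, ZMod.val_add, pow_eq_pow_mod (a.val + b.val) hζ.pow_eq_one]

theorem zexp_zero : zexp (p := p) ζ 0 = 1 := by simp [zexp]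

include hζ in
theorem sum_zexp_mul (j : ZMod p) :
    ∑ i : ZMod p, zexp ζ (i * j) = if j = 0 then (p : ℂ) else 0 := by
  split_ifs with hj
  · subst hj; simp [zexp_zero]
  have h1 : zexp ζ j ≠ 1 := by
    rw [zexp]
    refine hζ.pow_ne_one_of_pos_of_lt ?_ (ZMod.val_lt j)
    simpa [ZMod.val_eq_zero] using hj
  have h2 : zexp ζ j * ∑ i : ZMod p, zexp ζ (i * j) = ∑ i : ZMod p, zexp ζ (i * j) := by
    rw [Finset.mul_sum]
    refine Fintype.sum_equiv (Equiv.addRight 1) _ _ fun i => ?_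
    rw [Equiv.coe_addRight, add_mul, one_mul, zexp_add hζ, mul_comm]
  have h3 : (zexp ζ j - 1) * ∑ i : ZMod p, zexp ζ (i * j) = 0 := by
    rw [sub_mul, one_mul, h2, sub_self]
  exact (mul_eq_zero.1 h3).resolve_left (sub_ne_zero.2 h1)

include hζ in
theorem conj_zexp (a : ZMod p) : conj (zexp ζ a) = zexp ζ (-a) := by
  have h1 : zexp ζ a * zexp ζ (-a) = 1 := by rw [← zexp_add hζ, add_neg_cancel, zexp_zero]
  rw [eq_inv_of_mul_eq_one_right h1]
  refine (Complex.inv_eq_conj ?_).symm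
  refine Complex.norm_eq_one_of_pow_eq_one (n := p) ?_ (Fact.out : p.Prime).ne_zero
  rw [zexp, ← pow_mul, mul_comm, pow_mul, hζ.pow_eq_one, one_pow]

include hζ in
theorem sum_units_zexp {i : ZMod p} (hi : i ≠ 0) : ∑ j : (ZMod p)ˣ, zexp ζ (i * (j : ZMod p)) = -1 := by
  have h := sum_zexp_mul hζ i
  rw [if_neg hi, ← Finset.add_sum_erase _ _ (Finset.mem_univ (0 : ZMod p)), zero_mul, zexp_zero] at h
  have h2 : ∑ j : (ZMod p)ˣ, zexp ζ (i * (j : ZMod p)) = ∑ j ∈ Finset.univ.erase 0, zexp ζ (j * i) := by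
    refine Finset.sum_bij (fun j _ => (j : ZMod p)) (by simp) (fun a _ b _ e => Units.ext e)
      (fun b hb => ⟨Units.mk0 b (Finset.mem_erase.1 hb).1, Finset.mem_univ _, rfl⟩) fun j _ => ?_
    rw [mul_comm]
  rw [h2]; linear_combination h

include D hζ in
/-- The values on `P` are integral combinations of the nontrivial linear characters, constant on
the orbits of the normaliser. -/
theorem exists_coord (χ : Cfsg.IrrCharacter G) : ∃ a : ZMod p → ℤ, a 0 = 0 ∧
    (∀ i : ZMod p, i ≠ 0 → (χ : G → ℂ) (g ^ i.val) = ∑ j : ZMod p, (a j : ℂ) * zexp ζ (i * j)) ∧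
    (∀ j, a ((u : ZMod p) * j) = a j) ∧
    ∀ j, (p : ℂ) * a j = ∑ i : ZMod p, (χ : G → ℂ) (g ^ i.val) * (zexp ζ (-(i * j)) - 1) := by
  classical
  have hp : p.Prime := Fact.out
  obtain ⟨n, ρ, hρ, hch⟩ := χ.2
  obtain ⟨w, hw, hsum⟩ := exists_rootsOfUnity_sum ρ g
  have hw' : ∀ l, ∃ z : ZMod p, w l = zexp ζ z := fun l => by
    obtain ⟨k, hk, he⟩ := hζ.eq_pow_of_pow_eq_one (ξ := w l) (by rw [← D.order]; exact hw l)
    exact ⟨k, by rw [zexp, ZMod.val_natCast_of_lt hk, he]⟩
  choose z hz using hw'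
  set mult : ZMod p → ℤ := fun j => ((Finset.univ.filter fun l => z l = j).card : ℤ)
  set a : ZMod p → ℤ := fun j => mult j - mult 0
  have hval : ∀ i : ZMod p, (χ : G → ℂ) (g ^ i.val) = ∑ j : ZMod p, (mult j : ℂ) * zexp ζ (i * j) := by
    intro i
    rw [← hch, hsum, ← Finset.sum_fiberwise (g := z)]
    refine Finset.sum_congr rfl fun j _ => ?_
    rw [Finset.sum_congr rfl fun l hl => show w l ^ i.val = zexp ζ (i * j) by
      rw [hz, (Finset.mem_filter.1 hl).2, zexp, zexp, ← pow_mul, ZMod.val_mul,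
        ← pow_eq_pow_mod _ hζ.pow_eq_one, mul_comm]]
    simp [mult]
  have hav : ∀ i : ZMod p, (χ : G → ℂ) (g ^ i.val) =
      ∑ j : ZMod p, (a j : ℂ) * zexp ζ (i * j) + (mult 0 : ℂ) * if i = 0 then (p : ℂ) else 0 := by
    intro i
    rw [hval, ← sum_zexp_mul hζ i, Finset.mul_sum, ← Finset.sum_add_distrib]
    refine Finset.sum_congr rfl fun j _ => ?_
    rw [mul_comm j i]
    simp only [a]; push_cast; ring
  have hinv : ∀ j, (p : ℂ) * a j =
      ∑ i : ZMod p, (χ : G → ℂ) (g ^ i.val) * (zexp ζ (-(i * j)) - 1) := by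
    intro j
    have h1 : ∀ i : ZMod p, (χ : G → ℂ) (g ^ i.val) * (zexp ζ (-(i * j)) - 1) =
        ∑ k : ZMod p, (a k : ℂ) * (zexp ζ (i * (k - j)) - zexp ζ (i * k)) := by
      intro i
      rw [hav i, add_mul]
      have h0 : (mult 0 : ℂ) * (if i = 0 then (p : ℂ) else 0) * (zexp ζ (-(i * j)) - 1) = 0 := by
        split_ifs with hi
        · rw [hi, zero_mul, neg_zero, zexp_zero, sub_self, mul_zero]
        · rw [mul_zero, zero_mul]
      rw [h0, add_zero, Finset.sum_mul]
      refine Finset.sum_congr rfl fun k _ => ?_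
      rw [show i * (k - j) = i * k + -(i * j) by ring, zexp_add hζ]; ring
    rw [Finset.sum_congr rfl fun i _ => h1 i, Finset.sum_comm,
      Finset.sum_congr rfl fun k _ => show ∑ i : ZMod p,
          (a k : ℂ) * (zexp ζ (i * (k - j)) - zexp ζ (i * k)) =
          (a k : ℂ) * ((if k = j then (p : ℂ) else 0) - if k = 0 then (p : ℂ) else 0) by
        rw [← Finset.mul_sum, Finset.sum_sub_distrib, sum_zexp_mul hζ, sum_zexp_mul hζ]
        simp only [sub_eq_zero]]
    simp only [mul_sub, mul_ite, mul_zero, Finset.sum_sub_distrib, Finset.sum_ite_eq',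
      Finset.mem_univ, if_true]
    simp [a, mul_comm]
  refine ⟨a, sub_self _, fun i hi => by rw [hav, if_neg hi, mul_zero, add_zero], fun j => ?_, hinv⟩
  have hp0 : (p : ℂ) ≠ 0 := Nat.cast_ne_zero.2 hp.ne_zero
  have h1 : (p : ℂ) * a ((u : ZMod p) * j) = (p : ℂ) * a j := by
    rw [hinv, hinv]
    refine Fintype.sum_equiv (Units.mulLeft u) _ _ fun i => ?_
    rw [Units.mulLeft_apply, D.pow_val_mul, show u * i * j = i * (u * j) by ring]
    congr 1
    rw [← D.conj_h, conj_pow]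
    exact (irr_isClassFunction χ _ _).symm
  exact_mod_cast mul_left_cancel₀ hp0 h1

include D in
theorem isConj_pow_iff {i j : ZMod p} (hi : i ≠ 0) :
    IsConj (g ^ i.val) (g ^ j.val) ↔ ∃ v ∈ Subgroup.zpowers u, (v : ZMod p) * i = j := by
  have hconj : ∀ n : ℕ, h ^ n * g * (h ^ n)⁻¹ = g ^ ((u : ZMod p) ^ n).val := by
    intro n
    induction n with
    | zero => simp [ZMod.val_one]
    | succ n ih =>
      rw [pow_succ' h, mul_inv_rev]
      calc h * h ^ n * g * ((h ^ n)⁻¹ * h⁻¹) = h * (h ^ n * g * (h ^ n)⁻¹) * h⁻¹ := by group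
        _ = (g ^ (u : ZMod p).val) ^ ((u : ZMod p) ^ n).val := by rw [ih, ← conj_pow, D.conj_h]
        _ = g ^ ((u : ZMod p) ^ (n + 1)).val := by rw [← D.pow_val_mul, ← pow_succ']
  constructor
  · intro hc
    obtain ⟨a, ha⟩ := isConj_iff.1 hc
    have hi' : ¬ p ∣ i.val := fun hd => hi (by
      rw [← ZMod.natCast_rightInverse i, (ZMod.natCast_eq_zero_iff _ _).2 hd])
    have haN : a ∈ Subgroup.normalizer ((P : Subgroup G) : Set G) := by
      rw [← D.zpowers_pow hi', Subgroup.mem_normalizer_iff]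
      have hmap : (Subgroup.zpowers (g ^ i.val)).map (MulAut.conj a).toMonoidHom =
          Subgroup.zpowers (g ^ i.val) := by
        refine eq_of_le_of_card_le ?_ (card_map_conj _ _).ge
        rw [MonoidHom.map_zpowers, Subgroup.zpowers_le, D.zpowers_pow hi']
        show a * g ^ i.val * a⁻¹ ∈ _
        rw [ha, ← D.gen]; exact Subgroup.npow_mem_zpowers _ _
      intro b
      constructor <;> intro hb
      · rw [← hmap]; exact ⟨b, hb, rfl⟩
      · rw [← hmap] at hb
        obtain ⟨c, hc, he⟩ := hb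
        exact (MulAut.conj a).injective he ▸ hc
    obtain ⟨n, l, k, hk, rfl⟩ := D.decomp_normalizer a haN
    refine ⟨u ^ n, Subgroup.npow_mem_zpowers u n, ?_⟩
    have h1 : g ^ l * k * g ^ i.val * (g ^ l * k)⁻¹ = g ^ i.val := by
      rw [mul_inv_eq_iff_eq_mul, mul_assoc, ← ((D.commute_of_mem hk).pow_left i.val).eq,
        ← mul_assoc, ← pow_add, add_comm, pow_add, mul_assoc]
    have h2 : g ^ (((u ^ n : (ZMod p)ˣ) : ZMod p) * i).val = g ^ j.val := by
      rw [← ha, D.pow_val_mul, Units.val_pow_eq_pow_val, ← hconj, conj_pow, mul_inv_rev]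
      conv_lhs => rw [← h1]
      group
    have := natCast_eq_of_pow D.order h2
    rwa [ZMod.natCast_rightInverse _, ZMod.natCast_rightInverse _] at this
  · rintro ⟨v, hv, rfl⟩
    rw [← mem_powers_iff_mem_zpowers] at hv
    obtain ⟨n, rfl⟩ := hv
    refine isConj_iff.2 ⟨h ^ n, ?_⟩
    rw [Units.val_pow_eq_pow_val, D.pow_val_mul, ← hconj, conj_pow]

include D in
/-- Orthogonality of the principal block on `P`. -/
theorem sum_section_values [Fintype (Cfsg.IrrCharacter G)]
    [DecidablePred fun χ : Cfsg.IrrCharacter G => χ ∈ Cfsg.principalBlock M G]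
    (hM : Cfsg.IsPModular p M) {i j : ZMod p} (hi : i ≠ 0) (hj : j ≠ 0)
    [Decidable (∃ v ∈ Subgroup.zpowers u, (v : ZMod p) * i = j)] :
    ∑ χ ∈ Finset.univ.filter (fun χ : Cfsg.IrrCharacter G => χ ∈ Cfsg.principalBlock M G),
      (χ : G → ℂ) (g ^ i.val) * conj ((χ : G → ℂ) (g ^ j.val)) =
      if ∃ v ∈ Subgroup.zpowers u, (v : ZMod p) * i = j then (p : ℂ) else 0 := by
  have hp : p.Prime := Fact.out
  have hnd : ∀ {i : ZMod p}, i ≠ 0 → ¬ p ∣ i.val := fun {i} hi hd => hi (by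
    rw [← ZMod.natCast_rightInverse i, (ZMod.natCast_eq_zero_iff _ _).2 hd])
  have hfin : ∀ F : Cfsg.IrrCharacter G → ℂ,
      ∑ᶠ χ ∈ Cfsg.principalBlock M G, F χ = ∑ χ ∈ Finset.univ.filter
        (fun χ : Cfsg.IrrCharacter G => χ ∈ Cfsg.principalBlock M G), F χ := fun F => by
    rw [finsum_mem_eq_finite_toFinset_sum _ (Set.toFinite _)]
    exact Finset.sum_congr (by ext; simp) fun _ _ => rfl
  have hpp : ∀ i : ZMod p, Cfsg.IsPPart p (g ^ i.val) (g ^ i.val) := fun i => by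
    simpa using D.isPPart i.val (one_mem K)
  split_ifs with hc
  · obtain ⟨c, hcg⟩ := isConj_iff.1 ((isConj_pow_iff D hi).2 hc)
    have h1 : ∀ χ : Cfsg.IrrCharacter G,
        (χ : G → ℂ) (g ^ i.val) * conj ((χ : G → ℂ) (g ^ j.val)) =
          ((‖(χ : G → ℂ) (g ^ i.val)‖ ^ 2 : ℝ) : ℂ) := fun χ => by
      rw [← hcg, irr_isClassFunction χ, Complex.mul_conj']
      push_cast; rfl
    rw [Finset.sum_congr rfl fun χ _ => h1 χ, ← hfin (fun χ => ((‖(χ : G → ℂ) (g ^ i.val)‖ ^ 2 : ℝ) : ℂ)),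
      hfin, ← Complex.ofReal_sum]
    set C' := Subgroup.centralizer ({g ^ i.val} : Set G)
    have hC' : C' = Subgroup.centralizer ((P : Subgroup G) : Set G) := D.centralizer_pow (hnd hi)
    haveI : (K.subgroupOf C').Normal := ⟨fun n hn a => D.normal a
      (Subgroup.centralizer_le_normalizer _ (hC' ▸ a.2)) n hn⟩
    have hK' : ¬ p ∣ Nat.card (K.subgroupOf C') := fun hd => D.not_dvd
      (hd.trans (Subgroup.card_comap_dvd_of_injective K C'.subtype C'.subtype_injective))
    have hQ : IsPGroup p (C' ⧸ K.subgroupOf C') := fun q => by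
      obtain ⟨⟨c, hc'⟩, rfl⟩ := QuotientGroup.mk_surjective q
      refine ⟨1, ?_⟩
      rw [pow_one, ← QuotientGroup.mk_pow, QuotientGroup.eq_one_iff, Subgroup.mem_subgroupOf]
      obtain ⟨l, k, hk, rfl⟩ := D.decomp c (hC' ▸ hc')
      show (g ^ l * k) ^ p ∈ K
      rw [((D.commute_of_mem hk).pow_left l).mul_pow, ← pow_mul, mul_comm l p, pow_mul,
        show g ^ p = 1 from D.order ▸ pow_orderOf_eq_one g, one_pow, one_mul]
      exact pow_mem hk p
    have h2 := norm_section_eq hM (z := g ^ i.val) ⟨1, by rw [D.orderOf_pow (hnd hi), pow_one]⟩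
      (y := 1) (by simp [hp.ne_one])
    rw [norm_principal_pnilpotent hM (N := K.subgroupOf C') hK' hQ.exists_card_eq
      (by simp [hp.ne_one]), Subgroup.coe_one, mul_one] at h2
    have hv : (Nat.card C').factorization p = 1 := by
      refine le_antisymm ?_ ?_
      · rw [← D.factorization_card]
        exact (Nat.factorization_le_iff_dvd Nat.card_pos.ne' Nat.card_pos.ne').2
          C'.card_subgroup_dvd_card p
      · refine (hp.dvd_iff_one_le_factorization Nat.card_pos.ne').1 ?_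
        rw [← D.orderOf_pow (hnd hi)]
        exact Subgroup.orderOf_mk (g ^ i.val) (Subgroup.mem_centralizer_singleton_iff.2 rfl) ▸
          orderOf_dvd_natCard _
    rw [hv, pow_one] at h2
    rw [finsum_mem_eq_finite_toFinset_sum _ (Set.toFinite _)] at h2
    rw [show (Finset.univ.filter fun χ : Cfsg.IrrCharacter G => χ ∈ Cfsg.principalBlock M G) =
      (Set.toFinite (Cfsg.principalBlock M G)).toFinset by ext; simp, h2]
    simp
  · rw [← hfin]
    exact sum_block_mul_conj_eq_zero hM (intEl_blockIdem hM (isPBlock_principal M G)) (hpp i) (hpp j)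
      fun e => hc ((isConj_pow_iff D hi).1 e)

include D hζ in
/-- The Gram matrix of the coordinates. -/
theorem sum_coord_mul [Fintype (Cfsg.IrrCharacter G)]
    [DecidablePred fun χ : Cfsg.IrrCharacter G => χ ∈ Cfsg.principalBlock M G]
    (hM : Cfsg.IsPModular p M) (a : Cfsg.IrrCharacter G → ZMod p → ℤ)
    (ha : ∀ χ ∈ Cfsg.principalBlock M G, ∀ j, (p : ℂ) * a χ j =
      ∑ i : ZMod p, (χ : G → ℂ) (g ^ i.val) * (zexp ζ (-(i * j)) - 1))
    (j k : (ZMod p)ˣ) [Decidable (j * k⁻¹ ∈ Subgroup.zpowers u)] :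
    ∑ χ ∈ Finset.univ.filter (fun χ : Cfsg.IrrCharacter G => χ ∈ Cfsg.principalBlock M G),
      a χ j * a χ k = (if j * k⁻¹ ∈ Subgroup.zpowers u then 1 else 0) + (orderOf u : ℤ) := by
  classical
  have hp : p.Prime := Fact.out
  set B := Finset.univ.filter (fun χ : Cfsg.IrrCharacter G => χ ∈ Cfsg.principalBlock M G)
  set U := Finset.univ.filter (fun v : (ZMod p)ˣ => v ∈ Subgroup.zpowers u)
  have hU : U.card = orderOf u := by
    rw [← Nat.card_zpowers, Nat.card_eq_fintype_card, Fintype.card_subtype]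
  set e₁ : ZMod p → ZMod p → ℂ := fun i j => zexp ζ (-(i * j)) - 1 with he₁
  have he0 : ∀ j, e₁ 0 j = 0 := fun j => by simp [e₁, zexp_zero]
  have hinner : ∀ i : ZMod p, i ≠ 0 →
      ∑ i' : ZMod p, (∑ χ ∈ B, (χ : G → ℂ) (g ^ i.val) * conj ((χ : G → ℂ) (g ^ i'.val))) *
        conj (e₁ i' k) = (p : ℂ) * ∑ v ∈ U, conj (e₁ ((v : ZMod p) * i) k) := by
    intro i hi
    have hterm : ∀ i' : ZMod p,
        (∑ χ ∈ B, (χ : G → ℂ) (g ^ i.val) * conj ((χ : G → ℂ) (g ^ i'.val))) * conj (e₁ i' k) =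
          if i' ∈ U.image (fun v : (ZMod p)ˣ => (v : ZMod p) * i) then
            (p : ℂ) * conj (e₁ i' k) else 0 := by
      intro i'
      rcases eq_or_ne i' 0 with rfl | hi'
      · simp [he0]
      · rw [sum_section_values D hM hi hi', ite_mul, zero_mul]
        refine if_congr ?_ rfl rfl
        simp [U]
    rw [Finset.sum_congr rfl fun i' _ => hterm i', ← Finset.sum_filter, Finset.mul_sum,
      Finset.filter_mem_eq_inter, Finset.univ_inter, Finset.sum_image fun v _ w _ e =>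
        Units.ext (mul_right_cancel₀ hi e)]
  have hfull : ∀ v ∈ U, ∑ i : ZMod p, e₁ i j * conj (e₁ ((v : ZMod p) * i) k) =
      (if j = v * k then (p : ℂ) else 0) + p := by
    intro v _
    have h1 : ∀ i : ZMod p, e₁ i j * conj (e₁ ((v : ZMod p) * i) k) =
        zexp ζ (i * ((v * k : (ZMod p)ˣ) - j : ZMod p)) - zexp ζ (i * (-(j : ZMod p))) -
          zexp ζ (i * ((v * k : (ZMod p)ˣ) : ZMod p)) + 1 := by
      intro i
      simp only [e₁, map_sub, map_one, conj_zexp hζ, neg_neg, Units.val_mul]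
      rw [show i * ((v : ZMod p) * k - j) = -(i * j) + (v : ZMod p) * i * k by ring, zexp_add hζ,
        mul_neg, show i * ((v : ZMod p) * k) = (v : ZMod p) * i * k by ring]
      ring
    rw [Finset.sum_congr rfl fun i _ => h1 i, Finset.sum_add_distrib, Finset.sum_sub_distrib,
      Finset.sum_sub_distrib, sum_zexp_mul hζ, sum_zexp_mul hζ, sum_zexp_mul hζ,
      if_neg (show -(j : ZMod p) ≠ 0 from neg_ne_zero.2 j.ne_zero), if_neg (v * k).ne_zero]
    rw [sub_zero, sub_zero, Finset.sum_const, Finset.card_univ, ZMod.card, nsmul_one]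
    congr 1
    refine if_congr ?_ rfl rfl
    rw [sub_eq_zero, Units.val_inj, eq_comm]
  have hp0 : (p : ℂ) ≠ 0 := Nat.cast_ne_zero.2 hp.ne_zero
  have hmain : (p : ℂ) * p * ∑ χ ∈ B, (a χ j : ℂ) * a χ k =
      (p : ℂ) * p * ((if j * k⁻¹ ∈ Subgroup.zpowers u then (1 : ℂ) else 0) + (orderOf u : ℂ)) := by
    have h1 : ∀ χ ∈ B, (p : ℂ) * p * ((a χ j : ℂ) * a χ k) =
        ∑ i : ZMod p, ∑ i' : ZMod p,
          e₁ i j * ((χ : G → ℂ) (g ^ i.val) * conj ((χ : G → ℂ) (g ^ i'.val)) * conj (e₁ i' k)) := by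
      intro χ hχ
      have hχ' := (Finset.mem_filter.1 hχ).2
      rw [show (p : ℂ) * p * ((a χ j : ℂ) * a χ k) = ((p : ℂ) * a χ j) * conj ((p : ℂ) * a χ k) by
        rw [map_mul, map_natCast, map_intCast]; ring, ha χ hχ' j, ha χ hχ' k, map_sum,
        Finset.sum_mul_sum]
      refine Finset.sum_congr rfl fun i _ => Finset.sum_congr rfl fun i' _ => ?_
      simp only [e₁, map_mul]; ring
    rw [Finset.mul_sum, Finset.sum_congr rfl h1, Finset.sum_comm]
    rw [Finset.sum_congr rfl fun i _ => show (∑ χ ∈ B, ∑ i' : ZMod p,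
        e₁ i j * ((χ : G → ℂ) (g ^ i.val) * conj ((χ : G → ℂ) (g ^ i'.val)) * conj (e₁ i' k))) =
        e₁ i j * ((p : ℂ) * ∑ v ∈ U, conj (e₁ ((v : ZMod p) * i) k)) by
      rcases eq_or_ne i 0 with rfl | hi
      · simp [he0]
      rw [Finset.sum_comm, ← hinner i hi, Finset.mul_sum]
      exact Finset.sum_congr rfl fun i' _ => by rw [Finset.sum_mul, Finset.mul_sum]]
    simp only [Finset.mul_sum, mul_left_comm (e₁ _ _) (p : ℂ)]
    rw [Finset.sum_comm]
    simp only [← Finset.mul_sum]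
    rw [Finset.sum_congr rfl hfull, Finset.sum_add_distrib, Finset.sum_const, hU,
      Finset.sum_congr rfl fun v _ => show (if j = v * k then (p : ℂ) else 0) =
        if j * k⁻¹ = v then (p : ℂ) else 0 from if_congr mul_inv_eq_iff_eq_mul.symm rfl rfl,
      Finset.sum_ite_eq]
    simp only [U, Finset.mem_filter, Finset.mem_univ, true_and, nsmul_eq_mul, mul_add]
    congr 1
    · split_ifs <;> simp [mul_assoc]
    · ring
  have h2 := mul_left_cancel₀ (mul_ne_zero hp0 hp0) hmain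
  split_ifs at h2 ⊢ <;> exact_mod_cast h2

include D hζ in
/-- The coordinates are orthogonal to the values at `p`-regular elements. -/
theorem sum_coord_regular [Fintype (Cfsg.IrrCharacter G)]
    [DecidablePred fun χ : Cfsg.IrrCharacter G => χ ∈ Cfsg.principalBlock M G]
    (hM : Cfsg.IsPModular p M) (a : Cfsg.IrrCharacter G → ZMod p → ℤ)
    (ha : ∀ χ ∈ Cfsg.principalBlock M G, ∀ j, (p : ℂ) * a χ j =
      ∑ i : ZMod p, (χ : G → ℂ) (g ^ i.val) * (zexp ζ (-(i * j)) - 1))
    (j : ZMod p) {y : G} (hy : ¬ p ∣ orderOf y) :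
    ∑ χ ∈ Finset.univ.filter (fun χ : Cfsg.IrrCharacter G => χ ∈ Cfsg.principalBlock M G),
      (a χ j : ℂ) * (χ : G → ℂ) y = 0 := by
  have hp : p.Prime := Fact.out
  set B := Finset.univ.filter (fun χ : Cfsg.IrrCharacter G => χ ∈ Cfsg.principalBlock M G)
  have hsing : ∀ i : ZMod p, i ≠ 0 → ∑ χ ∈ B, (χ : G → ℂ) (g ^ i.val) * (χ : G → ℂ) y = 0 := by
    intro i hi
    have hd : p ∣ orderOf (g ^ i.val)⁻¹ := by
      rw [orderOf_inv, D.orderOf_pow fun hd => hi (by
        rw [← ZMod.natCast_rightInverse i, (ZMod.natCast_eq_zero_iff _ _).2 hd])]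
    rw [← sum_block_reg_sing hM (intEl_blockIdem hM (isPBlock_principal M G)) hy hd,
      finsum_mem_eq_finite_toFinset_sum _ (Set.toFinite _)]
    refine Finset.sum_congr (by ext; simp [B]) fun χ _ => ?_
    rw [char_inv (irr_isCharacter χ), Complex.conj_conj, mul_comm]
  refine (mul_eq_zero.1 (?_ : (p : ℂ) * _ = 0)).resolve_left (Nat.cast_ne_zero.2 hp.ne_zero)
  rw [Finset.mul_sum, Finset.sum_congr rfl fun χ hχ => by
    rw [← mul_assoc, ha χ (Finset.mem_filter.1 hχ).2 j, Finset.sum_mul], Finset.sum_comm]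
  refine Finset.sum_eq_zero fun i _ => ?_
  rcases eq_or_ne i 0 with rfl | hi
  · simp [zexp_zero]
  rw [Finset.sum_congr rfl fun χ _ => mul_right_comm _ _ _, ← Finset.sum_mul, hsing i hi, zero_mul]

end Cfsg.Agent.Blocks
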