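import Mathlib
import Cfsg.Agent.Lib.Blocks.PrimeValues
import Cfsg.Agent.Lib.Blocks.StableBound

/-!
# The principal block for a Sylow subgroup of order `p`
-/

set_option linter.style.haveILetI false
set_option linter.unusedSectionVars false

namespace Cfsg.Agent.Blocks

open Cfsg.Agent.Characters
open scoped ComplexConjugate

universe u v

/-- An integer vector of squared norm `2` orthogonal to positive weights is `δ_a - δ_b`. -/
theorem exists_eq_delta_sub {ι : Type*} [Fintype ι] [DecidableEq ι] (D : ι → ℤ) (d : ι → ℕ)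
    (hd : ∀ x, 0 < d x) (h2 : ∑ x, D x * D x = 2) (h0 : ∑ x, D x * (d x : ℤ) = 0) :
    ∃ a b : ι, a ≠ b ∧ ∀ x, D x = (if x = a then 1 else 0) - (if x = b then 1 else 0) := by
  have hpos : ∀ x, 0 ≤ D x * D x := fun x => mul_self_nonneg _
  have hle : ∀ x, D x * D x ≤ 2 := fun x => h2 ▸ Finset.single_le_sum (fun y _ => hpos y) (Finset.mem_univ x)
  have hsmall : ∀ x, D x = 0 ∨ D x = 1 ∨ D x = -1 := fun x => by
    have := hle x
    have h1 : D x ≤ 1 := by nlinarith
    have h3 : -1 ≤ D x := by nlinarith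
    omega
  set Pp := Finset.univ.filter fun x => D x = 1
  set Nn := Finset.univ.filter fun x => D x = -1
  have hsq : ∀ x, D x * D x = (if x ∈ Pp then (1 : ℤ) else 0) + if x ∈ Nn then 1 else 0 := fun x => by
    rcases hsmall x with h | h | h <;> simp [Pp, Nn, h]
  have hlin : ∀ x, D x * (d x : ℤ) =
      (if x ∈ Pp then (d x : ℤ) else 0) - if x ∈ Nn then (d x : ℤ) else 0 := fun x => by
    rcases hsmall x with h | h | h <;> simp [Pp, Nn, h]
  rw [Finset.sum_congr rfl fun x _ => hsq x, Finset.sum_add_distrib] at h2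
  simp only [Finset.sum_ite_mem, Finset.univ_inter, Finset.sum_const, nsmul_one] at h2
  rw [Finset.sum_congr rfl fun x _ => hlin x, Finset.sum_sub_distrib] at h0
  simp only [Finset.sum_ite_mem, Finset.univ_inter] at h0
  have hP : Pp.Nonempty := by
    rcases Pp.eq_empty_or_nonempty with h | h
    · exfalso
      rw [h, Finset.sum_empty, zero_sub, neg_eq_zero] at h0
      rw [h, Finset.card_empty, Nat.cast_zero, zero_add] at h2
      have hn : Nn.Nonempty := Finset.card_pos.1 (by omega)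
      exact (Finset.sum_pos (fun x _ => by exact_mod_cast hd x) hn).ne' h0
    · exact h
  have hN : Nn.Nonempty := by
    rcases Nn.eq_empty_or_nonempty with h | h
    · exfalso
      rw [h, Finset.sum_empty, sub_zero] at h0
      exact (Finset.sum_pos (fun x _ => by exact_mod_cast hd x) hP).ne' h0
    · exact h
  have hcP := hP.card_pos
  have hcN := hN.card_pos
  obtain ⟨a, ha⟩ := Finset.card_eq_one.1 (show Pp.card = 1 by omega)
  obtain ⟨b, hb⟩ := Finset.card_eq_one.1 (show Nn.card = 1 by omega)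
  have haD : D a = 1 := (Finset.mem_filter.1 (show a ∈ Pp by simp [ha])).2
  have hbD : D b = -1 := (Finset.mem_filter.1 (show b ∈ Nn by simp [hb])).2
  have hab : a ≠ b := fun e => by rw [e, hbD] at haD; omega
  refine ⟨a, b, hab, fun x => ?_⟩
  rcases hsmall x with h | h | h
  · rw [h, if_neg (fun e => by rw [e, haD] at h; omega), if_neg (fun e => by rw [e, hbD] at h; omega),
      sub_zero]
  · have : x = a := Finset.mem_singleton.1 (ha ▸ Finset.mem_filter.2 ⟨Finset.mem_univ x, h⟩)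
    rw [h, if_pos this, if_neg (this ▸ hab), sub_zero]
  · have : x = b := Finset.mem_singleton.1 (hb ▸ Finset.mem_filter.2 ⟨Finset.mem_univ x, h⟩)
    rw [h, if_pos this, if_neg (this ▸ hab.symm), zero_sub]

/-- At least two vectors with Gram matrix `1 + e` and orthogonal to positive weights form a star. -/
theorem exists_star {ι J : Type*} [Fintype ι] [DecidableEq ι] [Fintype J] [DecidableEq J]
    (V : J → ι → ℤ) (e : ℤ) (hG : ∀ j k, ∑ x, V j x * V k x = (if j = k then 1 else 0) + e)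
    (d : ι → ℕ) (hd : ∀ x, 0 < d x) (h0 : ∀ j, ∑ x, V j x * (d x : ℤ) = 0)
    (hJ : 2 ≤ Fintype.card J) :
    ∃ (θ : J → ι) (c : ι → ℤ) (ε : ℤ), Function.Injective θ ∧ (ε = 1 ∨ ε = -1) ∧
      (∀ j x, V j x = c x + if x = θ j then ε else 0) ∧ (∀ j k, c (θ j) = c (θ k)) ∧
      ∀ j, ∑ x, c x * c x + 2 * ε * c (θ j) = e := by
  obtain ⟨j₀, j₁, hj⟩ := Fintype.exists_pair_of_one_lt_card (α := J) (by omega)
  set D : J → ι → ℤ := fun j x => V j₀ x - V j x with hD
  have hDD : ∀ j k, j ≠ j₀ → k ≠ j₀ → ∑ x, D j x * D k x = 1 + if j = k then 1 else 0 := by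
    intro j k hj hk
    simp only [D, sub_mul, mul_sub, Finset.sum_sub_distrib, hG, if_neg hj, if_neg hk.symm,
      if_true]
    ring
  have hsplit : ∀ j, j ≠ j₀ → ∃ a b : ι, a ≠ b ∧
      ∀ x, D j x = (if x = a then 1 else 0) - if x = b then 1 else 0 := fun j hj =>
    exists_eq_delta_sub _ d hd (by rw [hDD j j hj hj, if_pos rfl]; rfl)
      (by simp only [D, sub_mul, Finset.sum_sub_distrib, h0, sub_self])
  haveI : Nonempty ι := ⟨(hsplit j₁ hj.symm).choose⟩
  choose! A B hAB hDe using hsplit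
  have hpair : ∀ j k, j ≠ j₀ → k ≠ j₀ → j ≠ k →
      (A j = A k ∧ B j ≠ B k) ∨ (A j ≠ A k ∧ B j = B k) := by
    intro j k hj hk hjk
    have h := hDD j k hj hk
    simp only [hDe j hj, hDe k hk, if_neg hjk, sub_mul, mul_sub, Finset.sum_sub_distrib, ite_mul,
      one_mul, zero_mul, Finset.sum_ite_eq', Finset.mem_univ, if_true, add_zero] at h
    have hA := hAB j hj
    have hB := hAB k hk
    split_ifs at h <;> first | omega | exact Or.inl ⟨by assumption, by assumption⟩ |
      exact Or.inr ⟨by assumption, by assumption⟩ | simp_all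
  -- all share the first point or all share the second
  obtain ⟨ε, hε, θ₀, θ', hshare⟩ : ∃ (ε : ℤ) (_ : ε = 1 ∨ ε = -1) (θ₀ : ι) (θ' : J → ι),
      ∀ j, j ≠ j₀ → θ' j ≠ θ₀ ∧
        ∀ x, D j x = (if x = θ₀ then ε else 0) - if x = θ' j then ε else 0 := by
    by_cases hall : ∀ j, j ≠ j₀ → A j = A j₁
    · refine ⟨1, Or.inl rfl, A j₁, B, fun j hj' => ⟨fun e => hAB j hj' ?_, fun x => ?_⟩⟩
      · rw [hall j hj', e]
      · rw [hDe j hj', hall j hj']
    · push Not at hall
      obtain ⟨j₂, hj₂, hne⟩ := hall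
      have h12 : j₂ ≠ j₁ := fun e => hne (by rw [e])
      have hB21 : B j₂ = B j₁ := ((hpair j₂ j₁ hj₂ hj.symm h12).resolve_left fun h => hne h.1).2
      have hall' : ∀ j, j ≠ j₀ → B j = B j₁ := by
        intro j hj'
        rcases eq_or_ne j j₁ with rfl | h1
        · rfl
        rcases eq_or_ne j j₂ with rfl | h2
        · exact hB21
        rcases hpair j j₁ hj' hj.symm h1 with ⟨ha, -⟩ | ⟨-, hb⟩
        · exfalso
          rcases hpair j j₂ hj' hj₂ h2 with ⟨ha', -⟩ | ⟨-, hb'⟩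
          · exact hne (ha'.symm.trans ha)
          · rcases hpair j j₁ hj' hj.symm h1 with ⟨-, hb''⟩ | ⟨ha'', -⟩
            · exact hb'' (hb'.trans hB21)
            · exact ha'' ha
        · exact hb
      refine ⟨-1, Or.inr rfl, B j₁, A, fun j hj' => ⟨fun e => hAB j hj' ?_, fun x => ?_⟩⟩
      · rw [hall' j hj', e]
      · rw [hDe j hj', hall' j hj']; split_ifs <;> ring
  set θ : J → ι := fun j => if j = j₀ then θ₀ else θ' j with hθ
  set c : ι → ℤ := fun x => V j₀ x - if x = θ₀ then ε else 0 with hc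
  have hV : ∀ j x, V j x = c x + if x = θ j then ε else 0 := by
    intro j x
    rcases eq_or_ne j j₀ with rfl | hj'
    · simp [hc, hθ]
    · have := (hshare j hj').2 x
      simp only [D, sub_eq_iff_eq_add] at this
      simp only [hc, hθ, if_neg hj']
      rw [this]; ring
  have hε2 : ε * ε = 1 := by rcases hε with rfl | rfl <;> norm_num
  have hinj : Function.Injective θ := by
    intro j k hjk
    by_contra hne
    have h1 := hG j k
    have h2 := hG j j
    rw [show V k = V j from funext fun x => by rw [hV, hV, hjk], if_neg hne, h2, if_pos rfl] at h1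
    omega
  have hexp : ∀ j k, ∑ x, V j x * V k x =
      ∑ x, c x * c x + ε * c (θ j) + ε * c (θ k) + if j = k then 1 else 0 := by
    intro j k
    have hterm : ∀ x, V j x * V k x = c x * c x + (if x = θ j then ε * c x else 0) +
        (if x = θ k then ε * c x else 0) +
        (if x = θ j then (if θ j = θ k then (1 : ℤ) else 0) else 0) := by
      intro x
      rw [hV, hV]
      by_cases h1 : x = θ j
      · subst h1
        by_cases h2 : θ j = θ k
        · simp only [h2, if_true]; linear_combination hε2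
        · simp only [if_neg h2, if_true]; ring
      · simp only [if_neg h1]
        split_ifs <;> ring
    simp only [Finset.sum_congr rfl fun x _ => hterm x, Finset.sum_add_distrib,
      Finset.sum_ite_eq', Finset.mem_univ, if_true]
    rw [if_congr (hinj.eq_iff (a := j) (b := k)) rfl rfl]
  refine ⟨θ, c, ε, hinj, hε, hV, fun j k => ?_, fun j => ?_⟩
  · rcases eq_or_ne j k with rfl | hjk
    · rfl
    have h1 := hexp j j
    have h2 := hexp j k
    rw [hG, if_pos rfl] at h1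
    rw [hG, if_neg hjk] at h2
    have h3 : ε * (c (θ j) - c (θ k)) = 0 := by linear_combination h1.symm.trans rfl - h2.symm
    rcases mul_eq_zero.1 h3 with h4 | h4
    · rw [h4] at hε2; norm_num at hε2
    · omega
  · have h1 := hexp j j
    rw [hG, if_pos rfl] at h1
    linarith

/-- Values of a character in the ring of the roots of unity of orders dividing `N`. -/
theorem value_mem_cycAlg {G : Type u} [Group G] [Finite G] (χ : Cfsg.IrrCharacter G) {a : G}
    {N : ℕ} [NeZero N] {ξ : ℂ} (hξ : IsPrimitiveRoot ξ N) (ha : orderOf a ∣ N) :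
    (χ : G → ℂ) a ∈ cycAlg ξ := by
  obtain ⟨n, ρ, hρ, hch⟩ := χ.2
  obtain ⟨w, hw, hsum⟩ := exists_rootsOfUnity_sum ρ a
  have h1 := hsum 1
  simp only [pow_one] at h1
  rw [← hch, h1]
  refine sum_mem fun l _ => ?_
  obtain ⟨i, -, hi⟩ := hξ.eq_pow_of_pow_eq_one (ξ := w l) (by
    obtain ⟨d, hd⟩ := ha
    rw [hd, pow_mul, hw, one_pow])
  exact hi ▸ pow_mem (self_mem_cycAlg ξ) i

variable {G : Type u} [Group G] [Finite G] {p : ℕ} [Fact p.Prime] {M : Ideal Cfsg.AlgInt}

set_option maxHeartbeats 1600000 in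
/-- **The principal block for a Sylow subgroup of order `p`.** -/
theorem principal_structure (hM : Cfsg.IsPModular p M) (hodd : p ≠ 2) (P : Sylow p G)
    (hP : Nat.card (P : Subgroup G) = p) (e : ℕ)
    (he : (Subgroup.centralizer ((P : Subgroup G) : Set G)).relIndex
      (Subgroup.normalizer ((P : Subgroup G) : Set G)) = e) :
    ∃ X Y : Set (Cfsg.IrrCharacter G), Cfsg.principalBlock M G = X ∪ Y ∧ Disjoint X Y ∧
      Nat.card X = e ∧ Nat.card Y = (p - 1) / e ∧
      ∃ (εX : Cfsg.IrrCharacter G → ℤ) (ε : ℤ),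
        (∀ χ ∈ X, (εX χ = 1 ∨ εX χ = -1) ∧
          (Cfsg.charDegree (χ : G → ℂ) : ℤ) ≡ εX χ [ZMOD p] ∧
          ∀ x : G, x ∈ (P : Subgroup G) → x ≠ 1 →
            ∀ y : G, y ∈ Subgroup.centralizer ((P : Subgroup G) : Set G) → ¬ p ∣ orderOf y →
              (χ : G → ℂ) (x * y) = (εX χ : ℂ)) ∧
        (ε = 1 ∨ ε = -1) ∧
        (∀ θ ∈ Y, (Cfsg.charDegree (θ : G → ℂ) : ℤ) ≡ ε * (e : ℤ) [ZMOD p]) ∧
        (∀ θ ∈ Y, ∀ θ' ∈ Y, ∀ g : G, ¬ p ∣ orderOf g → (θ : G → ℂ) g = (θ' : G → ℂ) g) ∧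
        ∀ θ ∈ Y, ∀ g : G, ¬ p ∣ orderOf g →
          (ε : ℂ) * (θ : G → ℂ) g = ∑ᶠ χ ∈ X, (εX χ : ℂ) * (χ : G → ℂ) g := by
  classical
  have hp : p.Prime := Fact.out
  haveI := Fintype.ofFinite (Cfsg.IrrCharacter G)
  obtain ⟨g, K, h, u, D⟩ := exists_primeData P hP
  obtain rfl : e = orderOf u := he ▸ D.order_u.symm
  set e := orderOf u with hedef
  have he0 : 0 < e := orderOf_pos u
  have hep : e ∣ p - 1 := ZMod.orderOf_units_dvd_card_sub_one u
  -- the cyclotomic data
  obtain ⟨m₀, hm₀, hcard⟩ : ∃ m₀, ¬ p ∣ m₀ ∧ Nat.card G = p * m₀ := by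
    refine ⟨(P : Subgroup G).index, P.not_dvd_index, ?_⟩
    rw [← (P : Subgroup G).card_mul_index, hP]
  set m := m₀ * (p - 1) * (p * Nat.card G + 1) with hmdef
  have hp2 : 3 ≤ p := by have := hp.two_le; omega
  have hm : ¬ p ∣ m := by
    intro hd
    rcases hp.dvd_mul.1 hd with h' | h'
    · rcases hp.dvd_mul.1 h' with h'' | h''
      · exact hm₀ h''
      · exact absurd (Nat.le_of_dvd (by omega) h'') (by omega)
    · rw [Nat.dvd_add_right (dvd_mul_right _ _), Nat.dvd_one] at h'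
      exact hp.ne_one h'
  have hm0 : 0 < m := Nat.pos_of_ne_zero fun h' => hm (h' ▸ dvd_zero p)
  haveI : NeZero (m * p) := ⟨(Nat.mul_pos hm0 hp.pos).ne'⟩
  haveI : NeZero m := ⟨hm0.ne'⟩
  obtain ⟨ξ, hξ⟩ : ∃ ξ : ℂ, IsPrimitiveRoot ξ (m * p) :=
    ⟨_, Complex.isPrimitiveRoot_exp (m * p) (NeZero.ne _)⟩
  have hξi : IsIntegral ℤ ξ := hξ.isIntegral (Nat.mul_pos hm0 hp.pos)
  set η := ξ ^ p
  have hη : IsPrimitiveRoot η m := hξ.pow (Nat.mul_pos hm0 hp.pos) (mul_comm m p)
  set ζ := ξ ^ m with hζdef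
  have hζ : IsPrimitiveRoot ζ p := hξ.pow (Nat.mul_pos hm0 hp.pos) rfl
  have hord : ∀ a : G, orderOf a ∣ m * p := fun a => (orderOf_dvd_natCard a).trans (by
    rw [hcard, mul_comm]
    exact Nat.mul_dvd_mul_right ((dvd_mul_right _ _).trans (dvd_mul_right _ _)) p)
  have hordreg : ∀ a : G, ¬ p ∣ orderOf a → orderOf a ∣ m := fun a ha =>
    (Nat.Coprime.dvd_of_dvd_mul_right ((hp.coprime_iff_not_dvd.2 ha).symm) (hord a))
  -- the block and the coordinates
  set B₀ := Cfsg.principalBlock M G with hB₀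
  set B := Finset.univ.filter (fun χ : Cfsg.IrrCharacter G => χ ∈ B₀) with hB
  choose a ha0 haval hau hainv using exists_coord D hζ
  have hnd : ∀ {i : ZMod p}, i ≠ 0 → ¬ p ∣ i.val := fun {i} hi hd => hi (by
    rw [← ZMod.natCast_rightInverse i, (ZMod.natCast_eq_zero_iff _ _).2 hd])
  have hval : ∀ χ : Cfsg.IrrCharacter G, ∀ i : ZMod p, i ≠ 0 →
      (χ : G → ℂ) (g ^ i.val) = ∑ j : (ZMod p)ˣ, (a χ j : ℂ) * zexp ζ (i * (j : ZMod p)) := by
    intro χ i hi
    rw [haval χ i hi, ← Finset.add_sum_erase _ _ (Finset.mem_univ (0 : ZMod p)), ha0,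
      Int.cast_zero, zero_mul, zero_add]
    symm
    refine Finset.sum_bij (fun (j : (ZMod p)ˣ) _ => (j : ZMod p)) (by simp)
      (fun a _ b _ e => Units.ext e)
      (fun b hb => ⟨Units.mk0 b (Finset.mem_erase.1 hb).1, Finset.mem_univ _, rfl⟩) fun j _ => rfl
  have hUinv : ∀ (χ : Cfsg.IrrCharacter G) (v j : (ZMod p)ˣ), v ∈ Subgroup.zpowers u →
      a χ ((v * j : (ZMod p)ˣ) : ZMod p) = a χ (j : ZMod p) := by
    intro χ v j hv
    rw [← mem_powers_iff_mem_zpowers] at hv
    obtain ⟨n, rfl⟩ := hv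
    simp only
    induction n with
    | zero => simp
    | succ n ih => rw [pow_succ', mul_assoc, Units.val_mul, hau, ih]
  have hgram := sum_coord_mul D hζ hM a (fun χ _ j => hainv χ j)
  have hreg := fun j {y} hy => sum_coord_regular (y := y) D hζ hM a (fun χ _ j => hainv χ j) j hy
  have hne : ∀ χ ∈ B₀, ∃ j : (ZMod p)ˣ, a χ j ≠ 0 := by
    intro χ hχ
    by_contra hcon
    push Not at hcon
    have hvan : ∀ x : G, orderOf x = p → (χ : G → ℂ) x = 0 := by
      intro x hx
      rcases D.regular_or_conj x with h' | ⟨i, hi, k, hk, hc⟩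
      · exact absurd hx.symm.dvd h'
      obtain ⟨c, hc⟩ := isConj_iff.1 hc
      have hi0 : (i : ZMod p) ≠ 0 := fun h' => hi ((ZMod.natCast_eq_zero_iff _ _).1 h')
      rw [← irr_isClassFunction χ x c, hc, value_mul_K D hM hχ hi hk,
        pow_eq_of_natCast D.order (ZMod.natCast_rightInverse (i : ZMod p)).symm, hval χ _ hi0]
      simp [hcon]
    have h1 := blockDefect_zero_of_vanish hM χ hvan
    rw [← block_eq_blockOf hM (isPBlock_principal M G) hχ, Cfsg.blockDefect,
      D.factorization_card] at h1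
    have h2 : sInf ((fun χ : Cfsg.IrrCharacter G => (Cfsg.charDegree (χ : G → ℂ)).factorization p) ''
        Cfsg.principalBlock M G) ≤ 0 := by
      refine Nat.sInf_le ⟨trivIrr G, trivIrr_mem_principal hM, ?_⟩
      have h3 : Cfsg.charDegree ((trivIrr G : Cfsg.IrrCharacter G) : G → ℂ) = 1 := by
        simp [Cfsg.charDegree]
      show (Cfsg.charDegree _).factorization p = 0
      rw [h3, Nat.factorization_one]; rfl
    omega
  -- degrees
  have hdeg : ∀ χ : Cfsg.IrrCharacter G, (χ : G → ℂ) 1 = (Cfsg.charDegree (χ : G → ℂ) : ℂ) :=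
    fun χ => (charDegree_cast χ).symm
  have hnm : ∀ χ : Cfsg.IrrCharacter G, Cfsg.charDegree (χ : G → ℂ) < m := fun χ => by
    have h1 : Cfsg.charDegree (χ : G → ℂ) ≤ Nat.card G :=
      Nat.le_of_dvd Nat.card_pos (char_degree_dvd_card χ)
    have h2 : p * Nat.card G + 1 ≤ m :=
      Nat.le_mul_of_pos_left _ (Nat.mul_pos (Nat.pos_of_ne_zero fun h' => hm₀ (h' ▸ dvd_zero p))
        (by omega))
    nlinarith
  -- the bound for a Galois orbit
  have hbound : ∀ (r : ℕ) (θ : Fin r → Cfsg.IrrCharacter G) (j₀ : Fin r) (v : ℤ),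
      Function.Injective θ → (∀ j, θ j ∈ B₀) →
      (∀ j, ∀ y, ¬ p ∣ orderOf y → (θ j : G → ℂ) y = (θ j₀ : G → ℂ) y) →
      (∀ j, ∃ w : (ZMod p)ˣ, ∀ i : ZMod p, i ≠ 0 →
        (θ j : G → ℂ) (g ^ i.val) = (θ j₀ : G → ℂ) (g ^ ((w : ZMod p) * i).val)) →
      (∀ i : ZMod p, i ≠ 0 → ∑ j, (θ j : G → ℂ) (g ^ i.val) = v) → |v| ≤ 1 := by
    intro r θ j₀ v hinj hmem hsame hgal hv
    have hθS : ∀ x, (θ j₀ : G → ℂ) x ∈ cycLocal hM hξi := fun x =>
      mem_cycLocal hM _ (value_mem_cycAlg _ hξ (hord x))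
    have hregR : ∀ x, ¬ p ∣ orderOf x → ∀ j, (θ j : G → ℂ) x ∈ cycLocal hM (hξi.pow p) :=
      fun x hx j => mem_cycLocal hM _ (value_mem_cycAlg _ hη (hordreg x hx))
    have hsing : ∀ (j : Fin r) (i : ℕ), ¬ p ∣ i → ∀ k ∈ K,
        (θ j : G → ℂ) (g ^ i * k) = (θ j : G → ℂ) (g ^ (i : ZMod p).val) := fun j i hi k hk => by
      rw [value_mul_K D hM (hmem j) hi hk,
        pow_eq_of_natCast D.order (ZMod.natCast_rightInverse (i : ZMod p)).symm]
    refine abs_sum_conjugates_le_one hM P hP D.g_mem D.g_ne_one D.normal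
      (fun k hk => D.commute_of_mem hk) D.not_dvd D.mem_h
      (u := (u : ZMod p).val) (ZMod.val_coe_unit_coprime u) D.conj_h he0 D.pow_h D.decomp_normalizer
      hm (hep.trans ((dvd_mul_left _ _).trans (dvd_mul_right _ _))) hξ hξi θ hinj j₀
      (n := Cfsg.charDegree (θ j₀ : G → ℂ)) (fun j => by rw [← hdeg, hsame j 1 (by simp [hp.ne_one])])
      (hnm _) hθS (fun x => ?_) (fun j => ?_) v (fun i hi0 hip k hk => ?_)
    · rcases D.regular_or_conj x with hx | ⟨i, hi, k, hk, hc⟩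
      · exact sum_mem fun j _ => hregR x hx j
      · obtain ⟨c, hc⟩ := isConj_iff.1 hc
        rw [Finset.sum_congr rfl fun j _ => show (θ j : G → ℂ) x = (θ j : G → ℂ) (g ^ (i : ZMod p).val) by
          rw [← irr_isClassFunction (θ j) x c, hc, hsing j i hi k hk],
          hv _ fun h' => hi ((ZMod.natCast_eq_zero_iff _ _).1 h')]
        exact intCast_mem _ v
    · obtain ⟨w, hw⟩ := hgal j
      obtain ⟨W, hW1, hW2⟩ := Nat.chineseRemainder
        ((hp.coprime_iff_not_dvd.2 hm).symm) 1 (w : ZMod p).val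
      have hWcop : W.Coprime (m * p) := Nat.Coprime.mul_right
        (show Nat.gcd W m = 1 by rw [hW1.gcd_eq]; exact Nat.gcd_one_left m)
        (show Nat.gcd W p = 1 by rw [hW2.gcd_eq]; exact ZMod.val_coe_unit_coprime w)
      obtain ⟨σ, hσξ, hσc⟩ : ∃ σ : cycLocal hM hξi →+* ℂ,
          σ ⟨ξ, mem_cycLocal hM hξi (self_mem_cycAlg ξ)⟩ = ξ ^ W ∧
            ∀ s : cycLocal hM hξi, Cong M (σ s) (s : ℂ) :=
        exists_sigma hM hm hξ (fun _ => isIntegral_cycAlg hξi) hWcop hW1
      have hσR : ∀ s : cycLocal hM hξi, (s : ℂ) ∈ cycLocal hM (hξi.pow p) → σ s = s := by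
        intro s hs
        obtain ⟨x, hx, y, hy, hyM, hsxy⟩ := hs
        have hle : cycAlg η ≤ cycAlg ξ := Algebra.adjoin_le (Set.singleton_subset_iff.2
          (pow_mem (self_mem_cycAlg ξ) p))
        have hfix : ∀ z (hz : z ∈ cycAlg η), σ ⟨z, mem_cycLocal hM hξi (hle hz)⟩ = z := by
          intro z hz
          induction hz using Algebra.adjoin_induction with
          | mem z hz =>
            obtain rfl := Set.mem_singleton_iff.1 hz
            rw [show (⟨η, _⟩ : cycLocal hM hξi) =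
              (⟨ξ, mem_cycLocal hM hξi (self_mem_cycAlg ξ)⟩ : cycLocal hM hξi) ^ p from
                Subtype.ext (by simp [η]), map_pow]
            rw [hσξ]
            rw [← pow_mul, mul_comm, pow_mul]
            conv_rhs => rw [← pow_one η]
            exact (pow_eq_pow_mod W hη.pow_eq_one).trans
              ((congrArg (η ^ ·) hW1).trans (pow_eq_pow_mod 1 hη.pow_eq_one).symm)
          | algebraMap z =>
            rw [show (⟨algebraMap ℤ ℂ z, _⟩ : cycLocal hM hξi) = (z : cycLocal hM hξi) from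
              Subtype.ext (by simp), map_intCast]
            simp
          | add z z' hz hz' ihz ihz' =>
            rw [show (⟨z + z', _⟩ : cycLocal hM hξi) =
              ⟨z, mem_cycLocal hM hξi (hle hz)⟩ + ⟨z', mem_cycLocal hM hξi (hle hz')⟩ from rfl,
              map_add, ihz, ihz']
          | mul z z' hz hz' ihz ihz' =>
            rw [show (⟨z * z', _⟩ : cycLocal hM hξi) =
              ⟨z, mem_cycLocal hM hξi (hle hz)⟩ * ⟨z', mem_cycLocal hM hξi (hle hz')⟩ from rfl,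
              map_mul, ihz, ihz']
        have hy0 := ne_zero_of_not_ideal hM hyM
        have h1 := congrArg σ (show s * ⟨y, mem_cycLocal hM hξi (hle hy)⟩ =
          ⟨x, mem_cycLocal hM hξi (hle hx)⟩ from Subtype.ext (by
            show (s : ℂ) * y = x
            rw [hsxy, div_mul_cancel₀ x hy0]))
        rw [map_mul, hfix y hy, hfix x hx] at h1
        rw [hsxy, eq_div_iff hy0, h1]
      refine ⟨σ, hσR, hσc, fun x => ?_⟩
      rcases D.regular_or_conj x with hx | ⟨i, hi, k, hk, hc⟩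
      · rw [hσR _ (hregR x hx j₀), hsame j x hx]
      · obtain ⟨c, hc⟩ := isConj_iff.1 hc
        have hi0 : (i : ZMod p) ≠ 0 := fun h' => hi ((ZMod.natCast_eq_zero_iff _ _).1 h')
        have hζmem : ∀ z : ZMod p, zexp ζ z ∈ cycLocal hM hξi := fun z =>
          mem_cycLocal hM _ (pow_mem (pow_mem (self_mem_cycAlg ξ) _) _)
        have hσζ : ∀ z : ZMod p, σ ⟨_, hζmem z⟩ = zexp ζ ((w : ZMod p) * z) := fun z => by
          rw [show (⟨_, hζmem z⟩ : cycLocal hM hξi) =
            (⟨ξ, mem_cycLocal hM hξi (self_mem_cycAlg ξ)⟩ : cycLocal hM hξi) ^ (m * z.val) from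
              Subtype.ext (by simp [zexp, ζ, pow_mul]), map_pow]
          rw [hσξ]
          rw [← pow_mul, show W * (m * z.val) = m * (W * z.val) by ring, pow_mul, ← hζdef, zexp]
          rw [pow_eq_pow_mod _ hζ.pow_eq_one, ZMod.val_mul]
          exact congrArg (ζ ^ ·) (Nat.ModEq.mul_right z.val hW2)
        have hwi : (w : ZMod p) * (i : ZMod p) ≠ 0 := mul_ne_zero w.ne_zero hi0
        rw [← irr_isClassFunction (θ j) x c, hc, hsing j i hi k hk, hw _ hi0, hval _ _ hwi]
        have hx0 : (θ j₀ : G → ℂ) x = ∑ l : (ZMod p)ˣ,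
            (a (θ j₀) l : ℂ) * zexp ζ ((i : ZMod p) * (l : ZMod p)) := by
          rw [← irr_isClassFunction (θ j₀) x c, hc, hsing j₀ i hi k hk, hval _ _ hi0]
        rw [show (⟨_, hθS x⟩ : cycLocal hM hξi) = ∑ l : (ZMod p)ˣ,
          (a (θ j₀) l : cycLocal hM hξi) * ⟨_, hζmem ((i : ZMod p) * (l : ZMod p))⟩ from
            Subtype.ext (by simp [hx0]), map_sum]
        refine Finset.sum_congr rfl fun l _ => ?_
        rw [map_mul, map_intCast, hσζ, mul_assoc]
    · have hi : ¬ p ∣ i := Nat.not_dvd_of_pos_of_lt hi0 hip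
      rw [Finset.sum_congr rfl fun j _ => hsing j i hi k hk,
        hv _ fun h' => hi ((ZMod.natCast_eq_zero_iff _ _).1 h')]
  -- constant coordinates
  have hconst : ∀ χ ∈ B₀, ∀ c : ℤ, (∀ j : (ZMod p)ˣ, a χ j = c) →
      (c = 1 ∨ c = -1) ∧ ∀ i : ZMod p, i ≠ 0 → (χ : G → ℂ) (g ^ i.val) = ((-c : ℤ) : ℂ) := by
    intro χ hχ c hc
    have hv : ∀ i : ZMod p, i ≠ 0 → (χ : G → ℂ) (g ^ i.val) = ((-c : ℤ) : ℂ) := fun i hi => by
      rw [hval χ i hi, Finset.sum_congr rfl fun j _ => by rw [hc j], ← Finset.mul_sum,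
        sum_units_zexp hζ hi]
      push_cast; ring
    refine ⟨?_, hv⟩
    have hb := hbound 1 (fun _ => χ) 0 (-c) (fun i j _ => Subsingleton.elim i j) (fun _ => hχ)
      (fun _ _ _ => rfl) (fun _ => ⟨1, fun i _ => by simp⟩)
      (fun i hi => by simpa using hv i hi)
    have hc0 : c ≠ 0 := fun h' => by
      obtain ⟨j, hj⟩ := hne χ hχ
      exact hj (by rw [hc, h'])
    rw [abs_le] at hb
    omega
  have hone : ((1 : ZMod p)) ≠ 0 := one_ne_zero
  have hdegX : ∀ χ : Cfsg.IrrCharacter G, ∀ s : ℤ, (χ : G → ℂ) g = s →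
      (Cfsg.charDegree (χ : G → ℂ) : ℤ) ≡ s [ZMOD p] := by
    intro χ s hs
    have h1 := char_cong_of_commute hM χ (Commute.one_right g) (k := 1)
      (by rw [pow_one, ← D.order, pow_orderOf_eq_one]) (show ¬ p ∣ orderOf (1 : G) by simp [hp.ne_one])
    rw [mul_one, hs, hdeg] at h1
    rw [Int.modEq_iff_dvd]
    refine (ideal_intCast_iff hM _).1 ?_
    push_cast
    exact h1
  -- the splitting
  suffices hmain : ∃ (Y : Finset (Cfsg.IrrCharacter G)) (ε : ℤ), Y ⊆ B ∧ (B \ Y).card = e ∧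
      Y.card = (p - 1) / e ∧ (ε = 1 ∨ ε = -1) ∧
      (∀ χ ∈ B \ Y, ∃ c : ℤ, ∀ j : (ZMod p)ˣ, a χ j = c) ∧
      (∑ θ ∈ Y, (θ : G → ℂ) g = ((-ε : ℤ) : ℂ)) ∧
      ∀ θ ∈ Y, ∀ θ' ∈ Y, ∀ y : G, ¬ p ∣ orderOf y → (θ : G → ℂ) y = (θ' : G → ℂ) y by
    obtain ⟨Y, ε, hYB, hXc, hYc, hε, hXconst, hsum, hsame⟩ := hmain
    choose! c hc using hXconst
    have hX : ∀ χ ∈ B \ Y, (c χ = 1 ∨ c χ = -1) ∧
        ∀ i : ZMod p, i ≠ 0 → (χ : G → ℂ) (g ^ i.val) = ((-c χ : ℤ) : ℂ) := fun χ hχ =>
      hconst χ (Finset.mem_filter.1 (Finset.mem_sdiff.1 hχ).1).2 _ (hc χ hχ)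
    have hg1 : g ^ (1 : ZMod p).val = g := by rw [ZMod.val_one, pow_one]
    refine ⟨↑(B \ Y), ↑Y, ?_, ?_, ?_, ?_, fun χ => -c χ, ε,
      fun χ hχ => ?_, hε, fun θ hθ => ?_, fun θ hθ θ' hθ' => hsame θ hθ θ' hθ', fun θ hθ y hy => ?_⟩
    · ext χ
      simp only [Set.mem_union, Finset.mem_coe, Finset.mem_sdiff, B, Finset.mem_filter,
        Finset.mem_univ, true_and]
      exact ⟨fun hχ => (em (χ ∈ Y)).elim Or.inr fun hn => Or.inl ⟨hχ, hn⟩,
        fun h' => h'.elim (fun h'' => h''.1) fun h'' => (Finset.mem_filter.1 (hYB h'')).2⟩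
    · rw [Finset.disjoint_coe]; exact Finset.sdiff_disjoint
    · exact (Nat.card_eq_finsetCard _).trans hXc
    · exact (Nat.card_eq_finsetCard _).trans hYc
    · have hχ' : χ ∈ B \ Y := hχ
      obtain ⟨h1, h2⟩ := hX χ hχ'
      refine ⟨by show -c χ = 1 ∨ -c χ = -1; omega, hdegX χ _ (by conv_lhs => rw [← hg1]; exact h2 1 hone), fun x hx hx1 y hy hyr => ?_⟩
      rw [← D.gen, ← mem_powers_iff_mem_zpowers] at hx
      obtain ⟨i, rfl⟩ := hx
      have hi : ¬ p ∣ i := by
        rintro ⟨d, rfl⟩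
        exact hx1 (show g ^ (p * d) = 1 by rw [pow_mul, ← D.order, pow_orderOf_eq_one, one_pow])
      rw [value_mul_K D hM (Finset.mem_filter.1 (Finset.mem_sdiff.1 hχ').1).2 hi
        ((D.mem_iff y).2 ⟨hyr, hy⟩),
        pow_eq_of_natCast D.order (ZMod.natCast_rightInverse (i : ZMod p)).symm,
        h2 _ fun h' => hi ((ZMod.natCast_eq_zero_iff _ _).1 h')]
    · have hdY : ∀ θ' ∈ Y, Cfsg.charDegree (θ' : G → ℂ) = Cfsg.charDegree (θ : G → ℂ) := fun θ' hθ' => by
        refine Nat.cast_injective (R := ℂ) ?_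
        rw [← hdeg, ← hdeg]
        exact hsame θ' hθ' θ hθ 1 (by simp [hp.ne_one])
      have h1 : Cong M ((-ε : ℤ) : ℂ) (((Y.card * Cfsg.charDegree (θ : G → ℂ) : ℕ) : ℂ)) := by
        rw [← hsum, ← smul_eq_mul Y.card, ← Finset.sum_const, Nat.cast_sum]
        refine cong_sum hM fun θ' hθ' => ?_
        rw [← hdY θ' hθ', ← hdeg]
        simpa using char_cong_of_commute hM θ' (Commute.one_right g) (k := 1)
          (by rw [pow_one, ← D.order, pow_orderOf_eq_one])
          (show ¬ p ∣ orderOf (1 : G) by simp [hp.ne_one])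
      have h2 : (p : ℤ) ∣ (-ε - (Y.card * Cfsg.charDegree (θ : G → ℂ) : ℕ)) :=
        (ideal_intCast_iff hM _).1 (by push_cast at h1 ⊢; exact h1)
      have h3 : ((Y.card : ℤ) * e) = (p : ℤ) - 1 := by
        have h4 : Y.card * e = p - 1 := by rw [hYc, Nat.div_mul_cancel hep]
        have h5 := congrArg (fun n : ℕ => (n : ℤ)) h4
        push_cast [Nat.cast_sub hp.one_le] at h5
        exact h5
      rw [Int.modEq_iff_dvd]
      obtain ⟨d, hd⟩ := h2
      refine ⟨-(d * e) - Cfsg.charDegree (θ : G → ℂ), ?_⟩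
      push_cast at hd
      linear_combination -(e : ℤ) * hd + (-(Cfsg.charDegree (θ : G → ℂ) : ℤ)) * h3
    · have hd : p ∣ orderOf g := dvd_of_eq D.order.symm
      have h1 := congrArg conj (sum_block_reg_sing hM (intEl_blockIdem hM (isPBlock_principal M G)) hy hd)
      rw [finsum_mem_eq_finite_toFinset_sum _ (Set.toFinite _),
        show (Set.toFinite B₀).toFinset = B by ext; simp [B], map_sum, map_zero,
        ← Finset.sum_sdiff hYB] at h1
      have h2 : ∑ θ' ∈ Y, conj ((θ' : G → ℂ) y * conj ((θ' : G → ℂ) g)) =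
          conj ((θ : G → ℂ) y) * ((-ε : ℤ) : ℂ) := by
        rw [← hsum, Finset.mul_sum]
        refine Finset.sum_congr rfl fun θ' hθ' => ?_
        rw [map_mul, Complex.conj_conj, hsame θ' hθ' θ hθ y hy]
      rw [h2, Finset.sum_congr rfl fun (χ : Cfsg.IrrCharacter G) hχ => show conj ((χ : G → ℂ) y * conj ((χ : G → ℂ) g)) =
        conj ((χ : G → ℂ) y) * ((-c χ : ℤ) : ℂ) by
          rw [map_mul, Complex.conj_conj]
          congr 1
          conv_lhs => rw [← hg1]
          exact (hX χ hχ).2 1 hone] at h1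
      have h3 := congrArg conj h1
      simp only [map_add, map_sum, map_mul, Complex.conj_conj, map_intCast, map_zero] at h3
      rw [finsum_mem_coe_finset]
      push_cast at h3 ⊢
      rw [Finset.sum_congr rfl fun χ _ => mul_comm (-(c χ : ℂ)) _]
      linear_combination -h3
  -- classes of `(ZMod p)ˣ` modulo the image of the normaliser
  set U := Subgroup.zpowers u with hU
  haveI := Fintype.ofFinite ((ZMod p)ˣ ⧸ U)
  set r := Fintype.card ((ZMod p)ˣ ⧸ U) with hrdef
  have hr : r * e = p - 1 := by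
    rw [hrdef, ← Nat.card_eq_fintype_card, hedef, ← Nat.card_zpowers, ← Subgroup.index,
      Subgroup.index_mul_card, Nat.card_eq_fintype_card, ZMod.card_units]
  have hclass : ∀ (χ : Cfsg.IrrCharacter G) (j k : (ZMod p)ˣ),
      (j : (ZMod p)ˣ ⧸ U) = k → a χ j = a χ k := by
    intro χ j k hjk
    rw [QuotientGroup.eq] at hjk
    rw [show k = (j⁻¹ * k) * j by rw [mul_comm (j⁻¹ * k), mul_inv_cancel_left], hUinv χ _ j hjk]
  set V : (ZMod p)ˣ ⧸ U → Cfsg.IrrCharacter G → ℤ := fun J χ =>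
    if χ ∈ B then a χ (J.out : (ZMod p)ˣ) else 0
  have hsum_if : ∀ F : Cfsg.IrrCharacter G → ℤ,
      ∑ χ, (if χ ∈ B then F χ else 0) = ∑ χ ∈ B, F χ := fun F => by
    rw [Finset.sum_ite_mem, Finset.univ_inter]
  have hVG : ∀ J J', ∑ χ, V J χ * V J' χ = (if J = J' then 1 else 0) + (e : ℤ) := by
    intro J J'
    rw [Finset.sum_congr rfl fun χ _ => show V J χ * V J' χ =
      if χ ∈ B then a χ (J.out : (ZMod p)ˣ) * a χ (J'.out : (ZMod p)ˣ) else 0 by
        simp only [V]; split_ifs <;> simp, hsum_if, hgram]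
    congr 1
    refine if_congr ?_ rfl rfl
    conv_rhs => rw [← QuotientGroup.out_eq' J, ← QuotientGroup.out_eq' J', QuotientGroup.eq]
    rw [← U.inv_mem_iff, mul_inv_rev, inv_inv, mul_comm]
  have hV0 : ∀ J, ∑ χ, V J χ * (Cfsg.charDegree (χ : G → ℂ) : ℤ) = 0 := by
    intro J
    rw [Finset.sum_congr rfl fun χ _ => show V J χ * (Cfsg.charDegree (χ : G → ℂ) : ℤ) =
      if χ ∈ B then a χ (J.out : (ZMod p)ˣ) * (Cfsg.charDegree (χ : G → ℂ) : ℤ) else 0 by
        simp only [V]; split_ifs <;> simp, hsum_if]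
    have h1 := hreg (J.out : (ZMod p)ˣ) (y := (1 : G)) (by simp [hp.ne_one])
    simp only [hdeg] at h1
    exact_mod_cast h1
  have hmkB : ∀ χ, χ ∈ B ↔ χ ∈ B₀ := fun χ => by simp [B]
  rcases Nat.lt_or_ge r 2 with hr1 | hr2
  · -- a single class
    have hr1' : r = 1 := by
      have : r ≠ 0 := fun h' => by rw [h', zero_mul] at hr; omega
      omega
    haveI : Subsingleton ((ZMod p)ˣ ⧸ U) := Fintype.card_le_one_iff_subsingleton.1 (by omega)
    have hcst : ∀ χ ∈ B, ∀ j : (ZMod p)ˣ, a χ j = a χ (1 : (ZMod p)ˣ) := fun χ _ j =>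
      hclass χ _ _ (Subsingleton.elim _ _)
    have hsq : ∀ χ ∈ B, a χ (1 : (ZMod p)ˣ) * a χ (1 : (ZMod p)ˣ) = 1 := fun χ hχ => by
      rcases (hconst χ ((hmkB χ).1 hχ) _ (hcst χ hχ)).1 with h' | h' <;> rw [h'] <;> norm_num
    have hk : (B.card : ℤ) = 1 + e := by
      have h1 := hgram 1 1
      rw [mul_inv_cancel, if_pos U.one_mem, Finset.sum_congr rfl hsq] at h1
      simpa [add_comm] using h1
    have htriv : trivIrr G ∈ B := (hmkB _).2 (trivIrr_mem_principal hM)
    refine ⟨{trivIrr G}, -1, Finset.singleton_subset_iff.2 htriv, ?_, ?_, Or.inr rfl,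
      fun χ hχ => ⟨_, hcst χ (Finset.mem_sdiff.1 hχ).1⟩, by simp, fun θ hθ θ' hθ' y _ => ?_⟩
    · rw [Finset.card_sdiff_of_subset (Finset.singleton_subset_iff.2 htriv), Finset.card_singleton]
      omega
    · rw [Finset.card_singleton, ← hr, hr1', one_mul, Nat.div_self he0]
    · rw [Finset.mem_singleton.1 hθ, Finset.mem_singleton.1 hθ']
  · -- exceptional characters
    obtain ⟨θ, c, ε, hinj, hε, hVe, hcθ, hnorm⟩ := exists_star V (e : ℤ) hVG
      (fun χ => Cfsg.charDegree (χ : G → ℂ)) charDegree_pos hV0 hr2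
    have hθB : ∀ J, θ J ∈ B := by
      intro J
      by_contra hn
      obtain ⟨J', hJ'⟩ := Fintype.exists_ne_of_one_lt_card (show 1 < Fintype.card ((ZMod p)ˣ ⧸ U) by omega) J
      have h1 := hVe J (θ J)
      have h2 := hVe J' (θ J)
      simp only [V, if_neg hn, if_true] at h1 h2
      rw [if_neg fun e => hJ' (hinj e).symm] at h2
      omega
    set J₀ : (ZMod p)ˣ ⧸ U := ((1 : (ZMod p)ˣ) : (ZMod p)ˣ ⧸ U)
    have haθ : ∀ χ ∈ B, ∀ j : (ZMod p)ˣ, a χ j = c χ + if χ = θ (j : (ZMod p)ˣ ⧸ U) then ε else 0 := by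
      intro χ hχ j
      have h1 := hVe (j : (ZMod p)ˣ ⧸ U) χ
      simp only [V, if_pos hχ] at h1
      rw [← h1]
      exact hclass χ _ _ (QuotientGroup.out_eq' _).symm
    set Y := Finset.univ.image θ
    have hYc : Y.card = r := by rw [Finset.card_image_of_injective _ hinj, Finset.card_univ]
    have hYB : Y ⊆ B := Finset.image_subset_iff.2 fun J _ => hθB J
    have hXc : ∀ χ ∈ B \ Y, ∀ j : (ZMod p)ˣ, a χ j = c χ := fun χ hχ j => by
      rw [haθ χ (Finset.mem_sdiff.1 hχ).1 j, if_neg fun e => (Finset.mem_sdiff.1 hχ).2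
        (Finset.mem_image.2 ⟨_, Finset.mem_univ _, e.symm⟩), add_zero]
    set c₀ := c (θ J₀)
    set S : (ZMod p)ˣ ⧸ U → ZMod p → ℂ := fun J i => ∑ j : (ZMod p)ˣ,
      (if (j : (ZMod p)ˣ ⧸ U) = J then (ε : ℂ) else 0) * zexp ζ (i * (j : ZMod p))
    have hθval : ∀ J, ∀ i : ZMod p, i ≠ 0 → (θ J : G → ℂ) (g ^ i.val) = -(c₀ : ℂ) + S J i := by
      intro J i hi
      rw [hval _ i hi, Finset.sum_congr rfl fun j _ => by
        rw [haθ _ (hθB J) j, Int.cast_add, add_mul, hcθ J J₀, apply_ite (fun z : ℤ => (z : ℂ)),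
          Int.cast_zero], Finset.sum_add_distrib, ← Finset.mul_sum, sum_units_zexp hζ hi]
      simp only [S, hinj.eq_iff, eq_comm (a := J)]
      ring
    have hΘ : ∀ i : ZMod p, i ≠ 0 →
        ∑ J, (θ J : G → ℂ) (g ^ i.val) = ((-((r : ℤ) * c₀ + ε) : ℤ) : ℂ) := by
      intro i hi
      rw [Finset.sum_congr rfl fun J _ => hθval J i hi, Finset.sum_add_distrib, Finset.sum_const,
        Finset.card_univ, ← hrdef]
      simp only [S]
      rw [Finset.sum_comm]
      simp only [← Finset.sum_mul, Finset.sum_ite_eq, Finset.mem_univ, if_true, ← Finset.mul_sum,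
        sum_units_zexp hζ hi]
      push_cast; ring
    have hsame : ∀ J J', ∀ y : G, ¬ p ∣ orderOf y → (θ J : G → ℂ) y = (θ J' : G → ℂ) y := by
      intro J J' y hy
      have hz : ∀ J, ∑ χ ∈ B, (c χ : ℂ) * (χ : G → ℂ) y + (ε : ℂ) * (θ J : G → ℂ) y = 0 := by
        intro J
        have h1 := hreg (J.out : (ZMod p)ˣ) hy
        rw [Finset.sum_congr rfl fun χ hχ => by
          rw [haθ χ hχ _, QuotientGroup.out_eq', Int.cast_add, add_mul,
            apply_ite (fun z : ℤ => (z : ℂ)), Int.cast_zero, ite_mul, zero_mul],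
          Finset.sum_add_distrib, Finset.sum_ite_eq', if_pos (hθB J)] at h1
        exact h1
      refine mul_left_cancel₀ (show (ε : ℂ) ≠ 0 by rcases hε with h' | h' <;> simp [h']) ?_
      linear_combination hz J - hz J'
    -- the bound
    have hb : |(r : ℤ) * c₀ + ε| ≤ 1 := by
      rw [← abs_neg]
      set eq := Fintype.equivFin ((ZMod p)ˣ ⧸ U)
      refine hbound r (θ ∘ eq.symm) (eq J₀) _ (hinj.comp eq.symm.injective)
        (fun j => (hmkB _).1 (hθB _)) (fun j y hy => hsame _ _ y hy) (fun j => ?_) fun i hi => ?_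
      · refine ⟨(eq.symm j).out, fun i hi => ?_⟩
        simp only [Function.comp_apply, Equiv.symm_apply_apply]
        set w := (eq.symm j).out
        rw [hθval _ i hi, hθval _ _ (mul_ne_zero w.ne_zero hi)]
        congr 1
        refine (Fintype.sum_equiv (Equiv.mulLeft w) _ _ fun l => ?_).symm
        rw [Equiv.coe_mulLeft, Units.val_mul, show (w : ZMod p) * i * l = i * (w * l) by ring]
        congr 1
        refine if_congr ?_ rfl rfl
        rw [QuotientGroup.mk_mul, show (w : (ZMod p)ˣ ⧸ U) = eq.symm j from QuotientGroup.out_eq' _,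
          mul_eq_left]
        rfl
      · exact (eq.symm.sum_comp fun J => (θ J : G → ℂ) (g ^ i.val)).trans (hΘ i hi)
    have hs0 : (r : ℤ) * c₀ + ε ≠ 0 := by
      intro h'
      have h1 : (r : ℤ) ∣ 1 := by
        rcases hε with h'' | h''
        · exact ⟨-c₀, by rw [h''] at h'; linarith⟩
        · exact ⟨c₀, by rw [h''] at h'; linarith⟩
      have := Int.le_of_dvd one_pos h1
      omega
    set s := (r : ℤ) * c₀ + ε
    have hs : s = 1 ∨ s = -1 := by rw [abs_le] at hb; omega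
    have hrc : (r : ℤ) * (c₀ * c₀) + 2 * ε * c₀ = 0 := by
      have h1 : s * s = 1 := by rcases hs with h' | h' <;> rw [h'] <;> norm_num
      have h2 : ε * ε = 1 := by rcases hε with h' | h' <;> rw [h'] <;> norm_num
      have h3 : (r : ℤ) * ((r : ℤ) * (c₀ * c₀) + 2 * ε * c₀) = 0 := by
        linear_combination h1 - h2
      exact (mul_eq_zero.1 h3).resolve_left (by omega)
    refine ⟨Y, s, hYB, ?_, by rw [hYc, ← hr, Nat.mul_div_cancel _ he0], hs,
      fun χ hχ => ⟨c χ, hXc χ hχ⟩, ?_, ?_⟩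
    · have h1 := hnorm J₀
      have hc0 : ∀ χ, χ ∉ B → c χ = 0 := fun χ hχ => by
        have h' := hVe J₀ χ
        simp only [V, if_neg hχ] at h'
        rw [if_neg fun he' : χ = θ J₀ => hχ (by rw [he']; exact hθB J₀), add_zero] at h'
        exact h'.symm
      rw [← Finset.sum_subset (Finset.subset_univ B) (fun χ _ hχ => by rw [hc0 χ hχ, zero_mul]),
        ← Finset.sum_sdiff hYB,
        Finset.sum_congr rfl (g := fun _ => (1 : ℤ)) (fun χ hχ => by
          rcases (hconst χ ((hmkB χ).1 (Finset.mem_sdiff.1 hχ).1) _ (hXc χ hχ)).1 with h' | h' <;>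
            rw [h'] <;> norm_num),
        Finset.sum_image hinj.injOn, Finset.sum_congr rfl
          fun (J : (ZMod p)ˣ ⧸ U) _ => show c (θ J) * c (θ J) = c₀ * c₀ by rw [hcθ J J₀],
        Finset.sum_const, Finset.sum_const, Finset.card_univ, ← hrdef, nsmul_one, nsmul_eq_mul] at h1
      have h2 : ((B \ Y).card : ℤ) = e := by
        linear_combination h1 - hrc
      exact_mod_cast h2
    · have h1 := hΘ 1 hone
      rw [ZMod.val_one, pow_one] at h1
      rw [Finset.sum_image hinj.injOn, h1]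
    · intro x hx x' hx' y hy
      obtain ⟨J, -, rfl⟩ := Finset.mem_image.1 hx
      obtain ⟨J', -, rfl⟩ := Finset.mem_image.1 hx'
      exact hsame J J' y hy

end Cfsg.Agent.Blocks
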