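import Mathlib
import Cfsg.Prelude.Def_Blocks
import Cfsg.Agent.Lib.Blocks.Inflation

/-!
# Quotients by a normal `p`-subgroup with centraliser of `p`-power index
-/

set_option linter.style.haveILetI false
set_option linter.unusedSectionVars false

namespace Cfsg.Agent.Blocks

open Cfsg.Agent.Characters

universe u

variable {G : Type u} [Group G] [Finite G] {p : ℕ} {M : Ideal Cfsg.AlgInt}
variable {P : Subgroup G} [P.Normal]

theorem regular_lift_unique (hp : p.Prime) (hP : IsPGroup p P)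
    (hC : ∃ k : ℕ, (Subgroup.centralizer (P : Set G)).index = p ^ k) {g g' : G}
    (hg : ¬ p ∣ orderOf g) (hg' : ¬ p ∣ orderOf g') (h : (g : G ⧸ P) = (g' : G ⧸ P)) : g = g' := by
  haveI := Fact.mk hp
  have hu : g⁻¹ * g' ∈ P := QuotientGroup.eq.1 h
  have hgC := mem_of_regular (N := Subgroup.centralizer (P : Set G)) hp hC hg
  have hcomm : Commute (g⁻¹ * g') g := Subgroup.mem_centralizer_iff.1 hgC _ hu
  obtain ⟨j, hj⟩ := IsPGroup.iff_orderOf.1 hP ⟨_, hu⟩
  have h1 : Cfsg.IsPPart p g' (g⁻¹ * g') :=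
    ⟨g, by rw [hcomm.eq, mul_inv_cancel_left], hcomm, ⟨j, by rw [← hj, Subgroup.orderOf_mk]⟩, hg⟩
  have := ppart_unique hp h1 (isPPart_one hp hg')
  exact inv_mul_eq_one.1 this

theorem exists_regular_lift (hp : p.Prime) {k : G ⧸ P} (hk : ¬ p ∣ orderOf k) :
    ∃ g : G, ¬ p ∣ orderOf g ∧ (g : G ⧸ P) = k := by
  obtain ⟨g, rfl⟩ := QuotientGroup.mk_surjective k
  obtain ⟨x, y, rfl, hc, ⟨j, hj⟩, hy⟩ := exists_ppart hp g
  refine ⟨y, hy, ?_⟩
  have h1 : Cfsg.IsPPart p ((x * y : G) : G ⧸ P) (x : G ⧸ P) := by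
    refine ⟨(y : G ⧸ P), (QuotientGroup.mk_mul _ _ _).symm, hc.map (QuotientGroup.mk' P), ?_,
      fun h => hy (h.trans (orderOf_map_dvd (QuotientGroup.mk' P) y))⟩
    obtain ⟨i, -, hi⟩ := (Nat.dvd_prime_pow hp).1
      (hj ▸ orderOf_map_dvd (QuotientGroup.mk' P) x : orderOf (x : G ⧸ P) ∣ p ^ j)
    exact ⟨i, hi⟩
  rw [QuotientGroup.mk_mul, ppart_unique hp h1 (isPPart_one hp hk), one_mul]

theorem singular_of_mk (g : G) (h : p ∣ orderOf (g : G ⧸ P)) : p ∣ orderOf g :=
  h.trans (orderOf_map_dvd (QuotientGroup.mk' P) g)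

open scoped Classical in
theorem coeff_mapEl_regular (hp : p.Prime) (hP : IsPGroup p P)
    (hC : ∃ k : ℕ, (Subgroup.centralizer (P : Set G)).index = p ^ k) {z : MonoidAlgebra ℂ G}
    (hz : ∀ g, p ∣ orderOf g → z.coeff g = 0) {g : G} (hg : ¬ p ∣ orderOf g) :
    (mapEl (QuotientGroup.mk' P) z).coeff (g : G ⧸ P) = z.coeff g := by
  haveI := Fintype.ofFinite G
  rw [coeff_mapEl, Finset.sum_eq_single g]
  · exact if_pos rfl
  · intro b _ hne
    by_cases hb : QuotientGroup.mk' P b = (g : G ⧸ P)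
    · rw [if_pos hb]
      by_contra h0
      exact hne (regular_lift_unique hp hP hC (fun hd => h0 (hz b hd)) hg hb)
    · rw [if_neg hb]
  · simp

theorem coeff_mapEl_singular {z : MonoidAlgebra ℂ G}
    (hz : ∀ g, p ∣ orderOf g → z.coeff g = 0) {k : G ⧸ P} (hk : p ∣ orderOf k) :
    (mapEl (QuotientGroup.mk' P) z).coeff k = 0 := by
  classical
  haveI := Fintype.ofFinite G
  rw [coeff_mapEl]
  refine Finset.sum_eq_zero fun g _ => ?_
  by_cases hg : QuotientGroup.mk' P g = k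
  · rw [if_pos hg, hz g (singular_of_mk g (by subst hg; exact hk))]
  · rw [if_neg hg]

theorem sameBlock_inflate_iff (hM : Cfsg.IsPModular p M) (hP : IsPGroup p P)
    (hC : ∃ k : ℕ, (Subgroup.centralizer (P : Set G)).index = p ^ k)
    (χ ψ : Cfsg.IrrCharacter (G ⧸ P)) :
    Cfsg.SameBlock M (χ : G ⧸ P → ℂ) (ψ : G ⧸ P → ℂ) ↔
      Cfsg.SameBlock M ((χ : G ⧸ P → ℂ) ∘ QuotientGroup.mk)
        ((ψ : G ⧸ P → ℂ) ∘ QuotientGroup.mk) := by
  classical
  refine ⟨fun h => sameBlock_inflate hM (QuotientGroup.mk' P) (QuotientGroup.mk'_surjective P) h,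
    fun h => ?_⟩
  set B := Cfsg.blockOf M (χ : G ⧸ P → ℂ)
  have hB : Cfsg.IsPBlock M B := isPBlock_blockOf M χ
  set z : MonoidAlgebra ℂ G :=
    ofFun fun g => if p ∣ orderOf g then 0 else Cfsg.blockCoeff B (g : G ⧸ P) with hz
  have hzc : IsCentralEl z := central_ofFun fun g c => by
    show (if p ∣ orderOf (c * g * c⁻¹) then (0 : ℂ) else
      Cfsg.blockCoeff B ((c * g * c⁻¹ : G) : G ⧸ P)) = _
    rw [show orderOf (c * g * c⁻¹) = orderOf g from MulEquiv.orderOf_eq (MulAut.conj c) g,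
      QuotientGroup.mk_mul, QuotientGroup.mk_mul, QuotientGroup.mk_inv, ← coeff_blockIdem,
      central_blockIdem B (g : G ⧸ P) (c : G ⧸ P), coeff_blockIdem]
  have hzi : IntEl M z := fun g => by
    rw [hz, coeff_ofFun]; split
    · exact ring_zero hM
    · exact blockCoeff_ring hM hB _
  have hz0 : ∀ g, p ∣ orderOf g → z.coeff g = 0 := fun g hg => by
    rw [hz, coeff_ofFun, if_pos hg]
  have hmap : mapEl (QuotientGroup.mk' P) z = blockIdem B := el_ext fun k => by
    by_cases hk : p ∣ orderOf k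
    · rw [coeff_mapEl_singular hz0 hk, coeff_blockIdem,
        blockCoeff_eq_zero_of_singular hM (intEl_blockIdem hM hB) hk]
    · obtain ⟨g, hg, rfl⟩ := exists_regular_lift hM.1 hk
      rw [coeff_mapEl_regular hM.1 hP hC hz0 hg, hz, coeff_ofFun, if_neg hg, coeff_blockIdem]
  have h1 := (sameBlock_iff_omega hM
    ⟨_, isIrrCharacter_comp_surjective _ (QuotientGroup.mk'_surjective P) χ.2⟩
    ⟨_, isIrrCharacter_comp_surjective _ (QuotientGroup.mk'_surjective P) ψ.2⟩).1 h z hzc hzi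
  rw [omega_mapEl, omega_mapEl, hmap, omega_blockIdem_mem (mem_blockOf_self hM χ)] at h1
  by_contra hne
  rw [omega_blockIdem_notMem (show ψ ∉ B from hne)] at h1
  exact not_cong_zero_one hM (cong_symm hM h1)

theorem exists_inflation_mem (hM : Cfsg.IsPModular p M) (hP : IsPGroup p P)
    (hC : ∃ k : ℕ, (Subgroup.centralizer (P : Set G)).index = p ^ k)
    {B : Set (Cfsg.IrrCharacter G)} (hB : Cfsg.IsPBlock M B) :
    ∃ χ : Cfsg.IrrCharacter (G ⧸ P), ∃ θ ∈ B,
      (θ : G → ℂ) = (χ : G ⧸ P → ℂ) ∘ QuotientGroup.mk := by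
  classical
  have hz0 : ∀ g, p ∣ orderOf g → (blockIdem B).coeff g = 0 := fun g hg => by
    rw [coeff_blockIdem]
    exact blockCoeff_eq_zero_of_singular hM (intEl_blockIdem hM hB) hg
  by_contra hcon
  push Not at hcon
  have hmap : mapEl (QuotientGroup.mk' P) (blockIdem B) = 0 :=
    central_omega_ext (central_mapEl _ (QuotientGroup.mk'_surjective P) (central_blockIdem B))
      central_zero fun χ => by
        set θ : Cfsg.IrrCharacter G :=
          ⟨_, isIrrCharacter_comp_surjective _ (QuotientGroup.mk'_surjective P) χ.2⟩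
        rw [← omega_mapEl, omega_zero]
        exact omega_blockIdem_notMem (ψ := θ) fun h => hcon χ θ h rfl
  obtain ⟨g, hg⟩ := exists_defectClass hM hB
  have h1 := coeff_mapEl_regular hM.1 hP hC hz0 (defectClass_regular hM hB hg)
  rw [hmap, MonoidAlgebra.coeff_zero, Finsupp.zero_apply, coeff_blockIdem] at h1
  exact hg.2.1 (h1 ▸ ideal_zero hM)

end Cfsg.Agent.Blocks
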