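import Mathlib
import Cfsg.Agent.Lib.Blocks.LocalNilpotent
import Cfsg.Agent.Lib.Blocks.OrbitCount
import Cfsg.Agent.Lib.Blocks.MajorSubsection

/-!
# Blocks with a Klein four defect group
-/

set_option linter.style.haveILetI false
set_option linter.unusedSectionVars false

namespace Cfsg.Agent.Blocks.KleinFourBlock

open Cfsg.Agent.Blocks Cfsg.Agent.Characters Cfsg.Agent.BlockCharsA
open Cfsg.Agent.BlockCharsA.BrauerPairs Cfsg.Agent.BlockCharsA.PairStab
open Cfsg.Agent.BlockCharsA.PairMax Cfsg.Agent.BlockCharsA.PairConj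
open Cfsg.Agent.BlockCharsA.PairLocal Cfsg.Agent.BlockCharsA.PairFusion
open Cfsg.Agent.BlockCharsA.PairCorr Cfsg.Agent.BlockCharsA.PairReceptive
open scoped ComplexConjugate

universe u

variable {G : Type u} [Group G] [Finite G] {M : Ideal Cfsg.AlgInt}

/-- Outside `{1, t}` a Klein four group has one element up to multiplication by `t`. -/
theorem eq_or_eq_mul {V : Type*} [Group V] [IsKleinFour V] {t x y : V} (ht : t ≠ 1) (hx : x ≠ 1)
    (hxt : x ≠ t) (hy : y ≠ 1) (hyt : y ≠ t) : y = x ∨ y = t * x := by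
  by_cases h : y = x
  · exact Or.inl h
  · exact Or.inr (IsKleinFour.eq_mul_of_ne_all ht hx (Ne.symm hxt) hy hyt h)

/-- An automorphism of a Klein four group fixing a nontrivial element is an involution. -/
theorem sq_eq_one_of_fix {V : Type*} [Group V] [IsKleinFour V] (α : MulAut V) {t : V} (ht : t ≠ 1)
    (hfix : α t = t) : α ^ 2 = 1 := by
  refine MulEquiv.ext fun s => ?_
  show α (α s) = s
  by_cases hs1 : s = 1
  · subst hs1; simp
  by_cases hst : s = t
  · subst hst; rw [hfix, hfix]
  have h1 : α s ≠ 1 := fun e => hs1 (α.injective (e.trans (map_one α).symm))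
  have h2 : α s ≠ t := fun e => hst (α.injective (e.trans hfix.symm))
  rcases eq_or_eq_mul ht hs1 hst h1 h2 with e | e
  · rw [e, e]
  · rw [e, map_mul, hfix, e, ← mul_assoc, IsKleinFour.mul_self, one_mul]

/-- A free automorphism moves any involution through all three. -/
theorem transitive {V : Type*} [Group V] [IsKleinFour V] {α : MulAut V} {t : V} (ht : t ≠ 1)
    (h1 : α t ≠ t) (h2 : α (α t) ≠ t) {s : V} (hs : s ≠ 1) :
    s = t ∨ s = α t ∨ s = α (α t) := by
  have ht1 : α t ≠ 1 := fun e => ht (α.injective (e.trans (map_one α).symm))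
  have ht2 : α (α t) ≠ 1 := fun e => ht1 (α.injective (e.trans (map_one α).symm))
  by_cases hst : s = t
  · exact Or.inl hst
  rcases eq_or_eq_mul ht ht1 h1 hs hst with e | e
  · exact Or.inr (Or.inl e)
  · refine Or.inr (Or.inr ?_)
    rcases eq_or_eq_mul ht ht1 h1 ht2 h2 with e' | e'
    · exact absurd (α.injective e') h1
    · rw [e, e']

/-- The automorphism group of a Klein four group has order dividing `6`. -/
theorem card_dvd_six {V : Type*} [Group V] [IsKleinFour V] (A : Subgroup (MulAut V)) :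
    Nat.card A ∣ 6 := by
  classical
  haveI : Finite V := Nat.finite_of_card_ne_zero (by rw [IsKleinFour.card_four]; norm_num)
  haveI := Fintype.ofFinite V
  have hbij : ∀ (α : MulAut V) (x : V), α x ≠ 1 ↔ x ≠ 1 := fun α x => by simp
  let φ : MulAut V →* Equiv.Perm {x : V // x ≠ 1} :=
    { toFun := fun α => (α.toEquiv).subtypeEquiv fun x => (hbij α x).symm
      map_one' := Equiv.ext fun x => rfl
      map_mul' := fun a b => Equiv.ext fun x => rfl }
  have hφ : Function.Injective φ := fun a b h => MulEquiv.ext fun x => by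
    by_cases hx : x = 1
    · subst hx; simp
    · exact congrArg Subtype.val (Equiv.congr_fun h ⟨x, hx⟩)
  have h6 : Nat.card (Equiv.Perm {x : V // x ≠ 1}) = 6 := by
    rw [Nat.card_perm]
    have : Nat.card {x : V // x ≠ 1} = 3 := by
      rw [Nat.card_eq_fintype_card, Fintype.card_subtype_compl, Fintype.card_subtype_eq,
        ← Nat.card_eq_fintype_card, IsKleinFour.card_four]
    rw [this]
    rfl
  rw [← h6, Nat.card_congr (A.equivMapOfInjective φ hφ).toEquiv]
  exact Subgroup.card_subgroup_dvd_card _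

variable {B : Set (Cfsg.IrrCharacter G)} {P : Subgroup G}
  {c : Set (Cfsg.IrrCharacter (Subgroup.centralizer (P : Set G)))}

theorem comm_of_klein (hV : IsKleinFour P) : ∀ x ∈ P, ∀ y ∈ P, x * y = y * x := by
  intro x hx y hy
  have h := @IsKleinFour.isMulCommutative P _ hV
  exact congrArg Subtype.val (h.is_comm.comm (⟨x, hx⟩ : P) ⟨y, hy⟩)

/-- A member of the inertial group fixing an involution of `P` centralizes `P`. -/
theorem mem_centralizer_of_fix (hM : Cfsg.IsPModular 2 M)
    (hmax : Cfsg.IsMaximalBrauerPair 2 M B P c) (hV : IsKleinFour P) {w : stab P c} {t : P}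
    (ht : t ≠ 1) (hfix : autHom P c w t = t) : (w : G) ∈ Subgroup.centralizer (P : Set G) := by
  haveI := fact_prime_of_pm hM
  have hS := isBlockFusion_blockSystem hM hmax
  refine PairNilpotent.mem_centralizer_of_autHom ?_
  exact Fusion.Abelian.eq_one_of_pow (k := 1) hmax.1.1.1 (isSaturated hM hS) (comm_of_klein hV)
    ((autGroup_eq hM hS Relation.ReflTransGen.refl).ge ⟨_, rfl⟩)
    (by rw [pow_one]; exact sq_eq_one_of_fix _ ht hfix)

theorem inertial_index (hM : Cfsg.IsPModular 2 M) (hmax : Cfsg.IsMaximalBrauerPair 2 M B P c)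
    (hV : IsKleinFour P) :
    (Subgroup.centralizer (P : Set G)).relIndex (stab P c) = 1 ∨
      (Subgroup.centralizer (P : Set G)).relIndex (stab P c) = 3 := by
  haveI := fact_prime_of_pm hM
  have hS := isBlockFusion_blockSystem hM hmax
  have h1 : (autHom P c).ker = (Subgroup.centralizer (P : Set G)).subgroupOf (stab P c) :=
    SetLike.ext fun t =>
      ⟨fun h => PairNilpotent.mem_centralizer_of_autHom h, fun h => autHom_eq_one h⟩
  have h2 : (Subgroup.centralizer (P : Set G)).relIndex (stab P c) =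
      Nat.card (autHom P c).range := by
    rw [Subgroup.relIndex, ← h1, Subgroup.index_ker]
  have h3 := card_dvd_six (autHom P c).range
  have h4 := Fusion.Abelian.not_dvd_card_autGroup (p := 2) hmax.1.1.1 (isSaturated hM hS)
    (comm_of_klein hV)
  rw [autGroup_eq hM hS (Q := P) (f := c) Relation.ReflTransGen.refl] at h4
  rw [h2]
  have hle := Nat.le_of_dvd (by norm_num) h3
  interval_cases Nat.card (autHom P c).range <;> omega

/-- Four nonzero integers: the only way to write `4` as a sum of at least two squares. -/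
theorem card_eq_four {ι : Type*} (s : Finset ι) (a : ι → ℤ) (h0 : ∀ i ∈ s, a i ≠ 0)
    (hsum : ∑ i ∈ s, a i ^ 2 = 4) (h2 : 2 ≤ s.card) : s.card = 4 := by
  classical
  have hone : ∀ i ∈ s, a i ^ 2 = 1 := by
    intro i hi
    have hne := h0 i hi
    have h1 : 1 ≤ a i ^ 2 := sq_pos_of_ne_zero hne
    have hrest : ((s.erase i).card : ℤ) ≤ ∑ j ∈ s.erase i, a j ^ 2 := by
      have := Finset.sum_le_sum (s := s.erase i) (f := fun _ => (1 : ℤ)) (g := fun j => a j ^ 2)
        fun j hj => by
          have := h0 j (Finset.mem_of_mem_erase hj)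
          show 1 ≤ a j ^ 2
          exact sq_pos_of_ne_zero this
      simpa using this
    have hadd := Finset.add_sum_erase s (fun j => a j ^ 2) hi
    have hc : 1 ≤ (s.erase i).card := by rw [Finset.card_erase_of_mem hi]; omega
    have hlt : a i ^ 2 < 2 ^ 2 := by omega
    have h3 := abs_lt_of_sq_lt_sq hlt (by norm_num)
    rw [abs_lt] at h3
    obtain h4 | h4 : a i = 1 ∨ a i = -1 := by omega
    all_goals simp [h4]
  rw [Finset.sum_congr rfl hone] at hsum
  exact_mod_cast (by simpa using hsum : (s.card : ℤ) = 4)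

/-- The invariants of a block with Klein four defect group. -/
theorem invariants (hM : Cfsg.IsPModular 2 M) (hmax : Cfsg.IsMaximalBrauerPair 2 M B P c)
    (hV : IsKleinFour P) (e : ℕ)
    (he : (Subgroup.centralizer (P : Set G)).relIndex (stab P c) = e) :
    (e = 1 ∨ e = 3) ∧ Nat.card B = 4 ∧ Cfsg.blockRank 2 B = e := by
  classical
  haveI := fact_prime_of_pm hM
  haveI := Fintype.ofFinite G
  haveI := Fintype.ofFinite P
  haveI := Fintype.ofFinite (Cfsg.IrrCharacter G)
  have hD := isDefectGroup_of_maximal hM hmax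
  have hB := hmax.1.2.1
  have hab := comm_of_klein hV
  have hcard : Nat.card P = 4 := hV.card_four
  have hd4 : 2 ^ Cfsg.blockDefect 2 B = 4 := by rw [← card_defectGroup hM hB hD, hcard]
  have he13 := inertial_index hM hmax hV
  rw [he] at he13
  refine ⟨he13, ?_⟩
  rcases he13 with rfl | rfl
  · have hle : stab P c ≤ Subgroup.centralizer (P : Set G) := Subgroup.relIndex_eq_one.1 he
    have hnil := (PairNilpotent.nilpotent_iff_inertial hM hmax hab).2 fun x hxN hxst =>
      hle (mem_stab.2 ⟨hxN, hxst⟩)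
    obtain ⟨h1, h2⟩ := NilpotentAbelian.blockRank_eq_one hM hD hab hnil
    exact ⟨h2.trans hcard, h1⟩
  -- inertial index three
  have hex : ∀ t : P, ∃ f, Cfsg.SubpairLE 2 M (Subgroup.zpowers (t : G)) f P c := fun t => by
    obtain ⟨f, -, hf⟩ :=
      exists_subpair hM _ (Subgroup.zpowers (t : G)) P c rfl hmax.1.1 (Subgroup.zpowers_le.2 t.2)
    exact ⟨f, hf⟩
  choose f hf using hex
  obtain ⟨w, hw, hwC⟩ : ∃ w ∈ stab P c, w ∉ Subgroup.centralizer (P : Set G) := by
    by_contra hcon
    push Not at hcon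
    rw [Subgroup.relIndex_eq_one.2 hcon] at he
    norm_num at he
  obtain ⟨t, ht⟩ : ∃ t : P, t ≠ 1 := by
    haveI : Nontrivial P := Finite.one_lt_card_iff_nontrivial.1 (by omega)
    exact exists_ne 1
  set α := autHom P c ⟨w, hw⟩
  have h1 : α t ≠ t := fun h => hwC (mem_centralizer_of_fix hM hmax hV ht h)
  have h2 : α (α t) ≠ t := by
    intro h
    have h' : autHom P c (⟨w, hw⟩ * ⟨w, hw⟩) t = t := by
      rw [map_mul, MulAut.mul_apply]; exact h
    have hS := isBlockFusion_blockSystem hM hmax
    refine hwC (PairNilpotent.mem_centralizer_of_autHom (t := ⟨w, hw⟩) ?_)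
    refine Fusion.Abelian.eq_one_of_pow (k := 2) hmax.1.1.1 (isSaturated hM hS) hab
      ((autGroup_eq hM hS Relation.ReflTransGen.refl).ge ⟨_, rfl⟩) ?_
    have h3 := sq_eq_one_of_fix _ ht h'
    rw [map_mul, ← pow_two, ← pow_mul] at h3
    exact h3
  -- the orbits
  set R : Finset P := {1, t}
  have hcov : ∀ s : P, ∃ r ∈ R, ∃ w ∈ stab P c, w * (r : G) * w⁻¹ = (s : G) := by
    intro s
    by_cases hs : s = 1
    · exact ⟨1, by simp [R], 1, Subgroup.one_mem _, by simp [hs]⟩
    refine ⟨t, by simp [R], ?_⟩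
    rcases transitive ht h1 h2 hs with rfl | rfl | rfl
    · exact ⟨1, Subgroup.one_mem _, by simp⟩
    · exact ⟨w, hw, (coe_autHom ⟨w, hw⟩ t).symm⟩
    · refine ⟨w * w, Subgroup.mul_mem _ hw hw, ?_⟩
      rw [coe_autHom, coe_autHom]
      group
  have hsep : ∀ r ∈ R, ∀ r' ∈ R, ∀ w ∈ stab P c, w * (r : G) * w⁻¹ = (r' : G) → r = r' := by
    have hb : ∀ {g z : G}, g * z * g⁻¹ = 1 → z = 1 := fun h => conj_eq_one_iff.1 h
    intro r hr r' hr' w _ h
    simp only [R, Finset.mem_insert, Finset.mem_singleton] at hr hr'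
    rcases hr with rfl | rfl <;> rcases hr' with rfl | rfl
    · rfl
    · exact absurd (Subtype.ext (by simpa using h.symm)) ht
    · exact Subtype.ext (hb h)
    · rfl
  have hk := OrbitCount.card_eq_sum_orbit hM hmax hab f hf R hcov hsep
  rw [Finset.sum_insert (by simp [Ne.symm ht]), Finset.sum_singleton] at hk
  -- the local block at the involution
  have hlt : Cfsg.blockRank 2 (f t) = 1 := by
    refine LocalNilpotent.blockRank_eq_one hM hmax hab (hf t) fun x hx hxC => ?_
    refine mem_centralizer_of_fix hM hmax hV (w := ⟨x, hx⟩) ht (Subtype.ext ?_)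
    rw [coe_autHom, ← hxC _ (Subgroup.mem_zpowers _), mul_inv_cancel_right]
  -- the local block at the identity
  have hl1 : Cfsg.blockRank 2 (f 1) = Cfsg.blockRank 2 B := by
    obtain ⟨b, hb, -, hr, -⟩ := NilpotentAbelian.exists_of_pair hM
      ((block_of_subpairLE hM (hf 1)).2 hmax.1) (Subgroup.zpowers_le.2
        (mem_centralizer_zpowers.2 (Subgroup.mem_centralizer_singleton_iff.2 rfl)))
      (LocalBlock.centralizer_eq_zpowers ((1 : P) : G))
    have htop : Subgroup.centralizer ({((1 : P) : G)} : Set G) = ⊤ :=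
      eq_top_iff.2 fun z _ => Subgroup.mem_centralizer_singleton_iff.2 (by simp)
    rw [← hr, ← NilpotentAbelian.pullSet_top hM htop hb, NilpotentAbelian.blockRank_pullSet]
  rw [hlt, hl1] at hk
  -- the column at the involution
  obtain ⟨b, hb, -, hr, hdb⟩ := NilpotentAbelian.exists_of_pair hM
    ((block_of_subpairLE hM (hf t)).2 hmax.1) (Subgroup.zpowers_le.2
      (mem_centralizer_zpowers.2 (Subgroup.mem_centralizer_singleton_iff.2 rfl)))
    (LocalBlock.centralizer_eq_zpowers (t : G))
  have hord : orderOf (t : G) = 2 ^ 1 := by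
    rw [pow_one]
    refine orderOf_eq_prime (hp := ⟨Nat.prime_two⟩) ?_ fun h => ht (Subtype.ext h)
    rw [pow_two]
    exact congrArg Subtype.val (@IsKleinFour.mul_self P _ hV t)
  have hζ : IsPrimitiveRoot (-1 : ℂ) (2 ^ 1) := by
    rw [pow_one]
    exact IsPrimitiveRoot.neg_one 0 two_ne_zero.symm
  have hPC : P ≤ Subgroup.centralizer (Subgroup.zpowers (t : G) : Set G) := fun a ha =>
    mem_centralizer_zpowers.2 (Subgroup.mem_centralizer_singleton_iff.2 (hab a ha t t.2))
  have hDf := InducedPairs.defect_local_of_abelian hM hmax hab (hf t)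
  have hdef : Cfsg.blockDefect 2 b = Cfsg.blockDefect 2 B := by
    have e1 := card_defectGroup hM ((subpairLE_facts hM (hf t)).2 hmax.1.1).2 hDf
    rw [Nat.card_congr (Subgroup.subgroupOfEquivOfLe hPC).toEquiv, card_defectGroup hM hB hD] at e1
    rw [hdb]
    exact (Nat.pow_right_injective le_rfl e1).symm
  obtain ⟨s, v, n, hne, hsum⟩ :=
    MajorSubsection.exists_column hM hb hdef (hr.trans hlt) hord hζ
  set a : Cfsg.IrrCharacter G → ℤ := fun χ => ∑ η ∈ s, (v χ η : ℤ) * (-1) ^ n η
  have hcast : ∀ χ, (a χ : ℂ) = ∑ η ∈ s, (v χ η : ℂ) * (-1) ^ n η := fun χ => by simp [a]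
  have hBc : Nat.card B = (Finset.univ.filter (· ∈ B)).card := by
    rw [Nat.card_eq_fintype_card, ← Set.toFinset_card]
    congr 1
    ext; simp
  have hl := NilpotentAbelian.blockRank_pos hM hB
  have h4 : Nat.card B = 4 := by
    rw [hBc]
    refine card_eq_four _ a (fun χ hχ h0 => hne χ (Finset.mem_filter.1 hχ).2 ?_) ?_ (by omega)
    · rw [← hcast, h0, Int.cast_zero]
    · rw [hd4, ZStar.Principal.finsum_mem_eq_sum_filter] at hsum
      apply Int.cast_injective (α := ℂ)
      push_cast at hsum ⊢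
      rw [← hsum]
      refine Finset.sum_congr rfl fun χ _ => ?_
      rw [hcast, pow_two]
      congr 1
      rw [← hcast, map_intCast]
  exact ⟨h4, by omega⟩

end Cfsg.Agent.Blocks.KleinFourBlock
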