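import Mathlib
import Cfsg.Agent.BlockCharsA.DefectZeroVanish
import Cfsg.Agent.BlockCharsA.PrincipalRestrict
import Cfsg.Agent.Lib.Blocks.Star.Homocyclic
import Cfsg.Agent.Lib.Blocks.Star.PrincipalTable

/-!
# Brauer's theorem on Sylow 2-subgroups of type (2^m, 2^m)

The group has a linear character in its principal block, found from the degree equation which the
class multiplication of an involution by itself gives.
-/

set_option linter.style.haveILetI false
set_option linter.unusedSectionVars false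

namespace Cfsg.Agent.Blocks.BrauerHomocyclic

open Cfsg.Agent.Blocks Cfsg.Agent.Characters Cfsg.Agent.BlockCharsA
open Cfsg.Agent.BlockCharsA.BrauerPairs Cfsg.Agent.BlockCharsA.PairConj
open Cfsg.Agent.BlockCharsA.PairLocal Cfsg.Agent.BlockCharsA.PairFusion
open Cfsg.Agent.BlockCharsA.PairPrincipal Cfsg.Agent.Blocks.Star
open scoped ComplexConjugate

universe u

/-- The degree equation forces a linear character. -/
theorem eq_one_of_equation {P X Y : ℤ} (h16 : (16 : ℤ) ∣ P) (hX : P ∣ X - 1) (hY : P ∣ Y - 1)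
    (hX0 : X ≠ 0) (hY0 : Y ≠ 0) (h : (1 + X + Y) * (X * Y + X + Y) = 9 * (X * Y)) : X = 1 := by
  by_contra hne
  obtain ⟨k, hk⟩ := h16.trans hX
  have hX1 : X + 1 ≠ 0 := by omega
  -- the discriminant of the quadratic in `Y` is a square
  set E := 2 * (X + 1) * Y + (X ^ 2 - 6 * X + 1) with hE
  have h1 : E ^ 2 = (X - 1) ^ 2 * (X ^ 2 - 14 * X + 1) := by
    rw [hE]
    linear_combination 4 * (X + 1) * h
  have hd : (X - 1) ∣ E := by
    rw [← Int.pow_dvd_pow_iff two_ne_zero, h1]
    exact dvd_mul_right _ _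
  obtain ⟨s, hs⟩ := hd
  rw [hs, mul_pow] at h1
  have h2 : s ^ 2 = X ^ 2 - 14 * X + 1 :=
    mul_left_cancel₀ (pow_ne_zero 2 (sub_ne_zero.2 hne)) h1
  have h3 : (X - 7 - s) * (X - 7 + s) = 48 := by linear_combination -h2
  have h4 : (X - 7 - s).natAbs ∣ 48 := Int.natAbs_dvd_natAbs.2 (Dvd.intro _ h3)
  have h5 : (X - 7 + s).natAbs ∣ 48 := Int.natAbs_dvd_natAbs.2 (Dvd.intro_left _ h3)
  have h6 := Nat.le_of_dvd (by norm_num) h4
  have h7 := Nat.le_of_dvd (by norm_num) h5
  have hk1 : -4 ≤ k ∧ k ≤ 3 := by omega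
  have hX' : X = 16 * k + 1 := by linarith
  subst hX'
  obtain ⟨hlo, hhi⟩ := hk1
  have hs0 : 0 ≤ s ^ 2 := sq_nonneg s
  have hsb : -100 ≤ s ∧ s ≤ 100 := by omega
  obtain ⟨hs1, hs2⟩ := hsb
  interval_cases k <;> ring_nf at h3 h2 hs0 hne <;>
    first
      | omega
      | (have : s = 0 ∨ s ≠ 0 := em _; nlinarith [h2])
      | (interval_cases s <;> omega)

variable {G : Type u} [Group G] [Finite G]

/-- The class sum of `j` squared avoids elements that no conjugate of `j` inverts. -/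
theorem classSum_sq_coeff {j x : G} (hj : j * j = 1) (h : ¬ IsConj x x⁻¹) :
    (classSum j * classSum j).coeff x = 0 := by
  classical
  haveI := Fintype.ofFinite G
  rw [coeff_mul']
  refine Finset.sum_eq_zero fun a _ => ?_
  rw [coeff_classSum, coeff_classSum]
  by_cases ha : IsConj j a
  swap
  · rw [if_neg ha, zero_mul]
  by_cases hb : IsConj j (a⁻¹ * x)
  swap
  · rw [if_neg hb, mul_zero]
  exfalso
  obtain ⟨c, rfl⟩ := isConj_iff.1 ha
  obtain ⟨d, hd⟩ := isConj_iff.1 hb
  refine h (isConj_iff.2 ⟨c * j * c⁻¹, ?_⟩)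
  have hinv : ∀ t : G, (t * j * t⁻¹) * (t * j * t⁻¹) = 1 := fun t => by
    rw [show t * j * t⁻¹ * (t * j * t⁻¹) = t * (j * j) * t⁻¹ by group, hj, mul_one, mul_inv_cancel]
  set a := c * j * c⁻¹ with ha'
  set b := d * j * d⁻¹ with hb'
  have hx : x = a * b := by rw [hd, mul_inv_cancel_left]
  have hai : a⁻¹ = a := inv_eq_of_mul_eq_one_right (hinv c)
  have hbi : b⁻¹ = b := inv_eq_of_mul_eq_one_right (hinv d)
  rw [hx, hai, mul_inv_rev, hbi, hai]
  calc a * (a * b) * a = a * a * b * a := by group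
    _ = b * a := by rw [hinv c, one_mul]

variable [Fintype G] [Fintype (Cfsg.IrrCharacter G)]

/-- A function vanishing on a section has all its block parts vanishing there. -/
theorem blockPart_section_zero {p : ℕ} {M : Ideal Cfsg.AlgInt} (hM : Cfsg.IsPModular p M)
    {B : Set (Cfsg.IrrCharacter G)} (hB : Cfsg.IsPBlock M B) [DecidablePred (· ∈ B)] {f : G → ℂ}
    {g x : G} (hg : Cfsg.IsPPart p g x)
    (hf : ∀ h z, Cfsg.IsPPart p h z → IsConj x z → f h = 0) :
    ∑ χ ∈ Finset.univ.filter (fun χ => χ ∈ B),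
      Cfsg.classInner f (χ : G → ℂ) * (χ : G → ℂ) g = 0 := by
  classical
  simp only [classInner_def, Finset.mul_sum, Finset.sum_mul]
  rw [Finset.sum_comm]
  refine Finset.sum_eq_zero fun h _ => ?_
  obtain ⟨z, hz⟩ := exists_ppart hM.1 h
  by_cases hxz : IsConj x z
  · simp [hf h z hz hxz]
  · have h0 := sum_block_mul_conj_eq_zero hM (intEl_blockIdem hM hB) hg hz hxz
    rw [ZStar.Principal.finsum_mem_eq_sum_filter] at h0
    calc _ = (Nat.card G : ℂ)⁻¹ * f h * ∑ χ ∈ Finset.univ.filter (fun χ => χ ∈ B),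
          (χ : G → ℂ) g * conj ((χ : G → ℂ) h) := by
            rw [Finset.mul_sum]
            exact Finset.sum_congr rfl fun χ _ => by ring
      _ = 0 := mul_eq_zero_of_right _ (Eq.trans (by congr!) h0)

omit [Fintype (Cfsg.IrrCharacter G)] in
/-- Burnside: a central Sylow subgroup of its normalizer is everything. -/
theorem eq_sylow_of_burnside (H : Subgroup G) [H.Normal]
    (hO : ∀ N : Subgroup G, N.Normal → Odd (Nat.card N) → N = ⊥) (P : Sylow 2 H)
    (hP : Subgroup.normalizer ((P : Subgroup H) : Set H) ≤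
      Subgroup.centralizer ((P : Subgroup H) : Set H)) : (P : Subgroup H) = ⊤ := by
  haveI : Fact (Nat.Prime 2) := ⟨Nat.prime_two⟩
  set K := (MonoidHom.transferSylow P hP).ker with hK
  have hcompl := MonoidHom.ker_transferSylow_isComplement' P hP
  have hodd : Odd (Nat.card K) := by
    rw [Nat.odd_iff]
    have := MonoidHom.not_dvd_card_ker_transferSylow P hP
    rw [← hK] at this
    omega
  -- membership in `K` is having odd order
  have hmem : ∀ x : H, x ∈ K ↔ Odd (orderOf x) := by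
    intro x
    refine ⟨fun hx => ?_, fun hx => ?_⟩
    · have h := orderOf_dvd_natCard (⟨x, hx⟩ : K)
      rw [Subgroup.orderOf_mk] at h
      exact hodd.of_dvd_nat h
    · rw [hK, MonoidHom.mem_ker]
      set y := MonoidHom.transferSylow P hP x with hy
      obtain ⟨k, hk⟩ := IsPGroup.iff_orderOf.1 P.2 y
      have h1 := orderOf_map_dvd (MonoidHom.transferSylow P hP) x
      rw [← hy, hk] at h1
      have h2 : Odd (2 ^ k) := hx.of_dvd_nat h1
      rcases k with _ | k
      · exact orderOf_eq_one_iff.1 (hk.trans (pow_zero 2))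
      · exact absurd h2 (by simp [Nat.odd_iff, pow_succ])
  have hbot : K.map H.subtype = ⊥ := by
    refine hO _ ⟨?_⟩ (by rwa [Subgroup.card_map_of_injective H.subtype_injective])
    rintro _ ⟨x, hx, rfl⟩ g
    refine ⟨MulAut.conjNormal g x, (hmem _).2 ?_, by simp⟩
    rw [MulEquiv.orderOf_eq]
    exact (hmem x).1 hx
  have hKbot : K = ⊥ := (Subgroup.map_eq_bot_iff_of_injective _ H.subtype_injective).1 hbot
  have := hcompl.card_mul
  rw [← hK, hKbot, Subgroup.card_bot, one_mul] at this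
  exact Subgroup.eq_top_of_card_eq _ this

omit [Fintype (Cfsg.IrrCharacter G)] in
/-- Brauer's theorem. -/
theorem normal_sylow (P : Sylow 2 G) (hab : ∀ x ∈ (P : Subgroup G), ∀ y ∈ (P : Subgroup G),
      x * y = y * x)
    (h3 : Nat.card {t : (P : Subgroup G) // t ^ 2 = 1 ∧ t ≠ 1} = 3)
    (h16 : 16 ∣ Nat.card (P : Subgroup G)) (u : (P : Subgroup G)) (hu2 : u ^ 2 ≠ 1)
    (hu4 : u ^ 4 = 1) (hO : ∀ N : Subgroup G, N.Normal → Odd (Nat.card N) → N = ⊥) :
    (P : Subgroup G).Normal ∧ Subgroup.centralizer (P : Set G) = (P : Subgroup G) ∧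
      ((P : Subgroup G).index = 1 ∨ (P : Subgroup G).index = 3) := by
  classical
  show (P : Subgroup G).Normal ∧
    Subgroup.centralizer ((P : Subgroup G) : Set G) = (P : Subgroup G) ∧ _
  haveI : Fact (Nat.Prime 2) := ⟨Nat.prime_two⟩
  haveI := Fintype.ofFinite (Cfsg.IrrCharacter G)
  obtain ⟨M, hM⟩ := DefectZeroVanish.exists_modular Nat.prime_two
  have hmax := isMaximal_prin hM P
  obtain ⟨hfree, hr⟩ := frees_of_three hM hmax hab h3
  have hPC : (P : Subgroup G) ≤ Subgroup.centralizer ((P : Subgroup G) : Set G) := fun x hx y hy => hab y hy x hx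
  have hstab : stab (P : Subgroup G) (prin M (P : Subgroup G)) =
      Subgroup.normalizer ((P : Subgroup G) : Set G) :=
    le_antisymm stab_le_normalizer fun x hx => mem_stab.2 ⟨hx, stabilizes_prin hM hx⟩
  have hN : (Subgroup.centralizer ((P : Subgroup G) : Set G)).relIndex (Subgroup.normalizer ((P : Subgroup G) : Set G)) =
      Nat.card (inertR (P : Subgroup G) (prin M (P : Subgroup G))) := by
    rw [card_inertR, hstab]
  rcases hr with hr | hr
  · -- a normal complement
    rw [hr, Subgroup.relIndex_eq_one] at hN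
    have htop : ((P.subtype (le_top : (P : Subgroup G) ≤ ⊤)) : Subgroup (⊤ : Subgroup G)) = ⊤ := by
      refine eq_sylow_of_burnside ⊤ hO _ fun x hx => ?_
      have hxN : (x : G) ∈ Subgroup.normalizer ((P : Subgroup G) : Set G) := by
        rw [Subgroup.mem_normalizer_iff]
        intro y
        exact Subgroup.mem_normalizer_iff.1 hx ⟨y, trivial⟩
      intro y hy
      exact Subtype.ext (Subgroup.mem_centralizer_iff.1 (hN hxN) (y : G) hy)
    have hP : (P : Subgroup G) = ⊤ := by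
      rw [eq_top_iff]
      intro x _
      have hx := htop.ge (Subgroup.mem_top (⟨x, trivial⟩ : (⊤ : Subgroup G)))
      exact hx
    refine ⟨by rw [hP]; infer_instance, le_antisymm (fun x _ => by rw [hP]; trivial) hPC, Or.inl ?_⟩
    rw [hP, Subgroup.index_top]
  -- an involution and the given element of order four
  set R := inertR (P : Subgroup G) (prin M (P : Subgroup G)) with hR
  have hu1 : u ≠ 1 := fun h => hu2 (by rw [h, one_pow])
  have hj1 : u ^ 2 ≠ 1 := hu2
  have hjj : (u ^ 2) * (u ^ 2) = 1 := by rw [← pow_add]; exact hu4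
  have hju : ∀ β ∈ R, ∀ γ ∈ R, β (u ^ 2) * γ (u ^ 2) * u ≠ 1 := by
    intro β _ γ _ h
    refine hu2 ?_
    have hsq : ∀ δ : MulAut (P : Subgroup G), δ (u ^ 2) * δ (u ^ 2) = 1 := fun δ => by
      rw [← map_mul, hjj, map_one]
    have h' : u = (β (u ^ 2) * γ (u ^ 2))⁻¹ := eq_inv_of_mul_eq_one_right h
    have hc : Commute (β (u ^ 2)) (γ (u ^ 2)) :=
      Subtype.ext (hab _ (β (u ^ 2)).2 _ (γ (u ^ 2)).2)
    rw [h', inv_pow, hc.mul_pow, sq (β (u ^ 2)), sq (γ (u ^ 2)), hsq, hsq, one_mul, inv_one]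
  obtain ⟨ψ₂, ψ₃, X, Y, hψ, hψne, hX, hY, hXone, -, hX0, hY0, hS⟩ :=
    principal_three hM hmax hab hfree hr (Nat.le_of_dvd Nat.card_pos h16) hj1 hu1 hju
  -- the class multiplication
  have hreal : ∀ h z, Cfsg.IsPPart 2 h z → IsConj (u : G) z → ¬ IsConj h⁻¹ h⁻¹⁻¹ := by
    intro h z hz huz hcon
    rw [inv_inv] at hcon
    obtain ⟨c, hc⟩ := isConj_iff.1 hcon
    obtain ⟨y, hhy, hcom, ⟨a, ha⟩, hy⟩ := id hz
    have hp1 : Cfsg.IsPPart 2 h⁻¹ z⁻¹ :=
      ⟨y⁻¹, by rw [← mul_inv_rev, ← hcom.eq, hhy], hcom.inv_inv, ⟨a, by rw [orderOf_inv, ha]⟩,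
        by rwa [orderOf_inv]⟩
    have hp2 := isPPart_conj hp1 c
    rw [hc] at hp2
    have hzz : c * z⁻¹ * c⁻¹ = z := ppart_unique hM.1 hp2 hz
    obtain ⟨d, hd⟩ := isConj_iff.1 huz
    have huinv : (d⁻¹ * c * d) * (u : G)⁻¹ * (d⁻¹ * c * d)⁻¹ = (u : G) := by
      rw [← hd] at hzz
      calc (d⁻¹ * c * d) * (u : G)⁻¹ * (d⁻¹ * c * d)⁻¹
          = d⁻¹ * (c * (d * (u : G) * d⁻¹)⁻¹ * c⁻¹) * d := by group
        _ = d⁻¹ * (d * (u : G) * d⁻¹) * d := by rw [hzz]
        _ = (u : G) := by group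
    haveI : IsMulCommutative (P : Subgroup G) :=
      ⟨⟨fun a b => Subtype.ext (hab a a.2 b b.2)⟩⟩
    obtain ⟨n, hn, hn'⟩ := P.conj_eq_normalizer_conj_of_mem (u : G)⁻¹ (d⁻¹ * c * d)⁻¹
      (inv_mem u.2) (by rw [inv_inv, huinv]; exact u.2)
    rw [inv_inv, huinv] at hn'
    have hmem : n⁻¹ ∈ stab (P : Subgroup G) (prin M (P : Subgroup G)) :=
      hstab ▸ inv_mem hn
    set β := inertAct (P : Subgroup G) (prin M (P : Subgroup G)) ⟨n⁻¹, hmem⟩ with hβdef
    have hβR : β ∈ R := inertAct_mem hmem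
    have hβu : β u⁻¹ = u := Subtype.ext (by
      show n⁻¹ * ((u⁻¹ : (P : Subgroup G)) : G) * n⁻¹⁻¹ = (u : G)
      rw [inv_inv, Subgroup.coe_inv]
      exact hn'.symm)
    have hβu' : β u = u⁻¹ := by
      conv_rhs => rw [← hβu, map_inv, inv_inv]
    have hβ2 : β * β = 1 := hfree.eq_one (mul_mem hβR hβR) hu1 (by
      rw [MulAut.mul_apply, hβu', hβu])
    have h3' : β ^ 3 = 1 := by
      have h := congrArg Subtype.val (pow_card_eq_one' (x := (⟨β, hβR⟩ : R)))
      rwa [hr] at h
    rw [pow_succ, pow_two, hβ2, one_mul] at h3'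
    rw [h3'] at hβu'
    refine hu2 ?_
    rw [sq]
    nth_rewrite 2 [show u = u⁻¹ from hβu']
    exact mul_inv_cancel u
  let F : G → ℂ := fun g => (classSum ((u ^ 2 : (P : Subgroup G)) : G) *
    classSum ((u ^ 2 : (P : Subgroup G)) : G)).coeff g⁻¹
  have hj : ((u ^ 2 : (P : Subgroup G)) : G) * ((u ^ 2 : (P : Subgroup G)) : G) = 1 := by
    rw [← Subgroup.coe_mul, hjj, Subgroup.coe_one]
  have hF0 : ∀ h z, Cfsg.IsPPart 2 h z → IsConj (u : G) z → F h = 0 := fun h z hz huz =>
    classSum_sq_coeff hj (hreal h z hz huz)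
  set j : G := ((u ^ 2 : (P : Subgroup G)) : G) with hjdef
  have hFexp : ∀ g, F g = ∑ χ : Cfsg.IrrCharacter G, (Nat.card G : ℂ)⁻¹ *
      ((((Subgroup.centralizer ({j} : Set G)).index : ℂ) * (χ : G → ℂ) j) ^ 2 /
        (χ : G → ℂ) 1) * (χ : G → ℂ) g := by
    intro g
    simp only [F]
    conv_lhs => rw [← fourier_omega (central_mul (central_classSum j) (central_classSum j)),
      coeff_fourier, Finset.mul_sum]
    refine Finset.sum_congr rfl fun χ _ => ?_
    rw [omega_mul χ (central_classSum j), omega_classSum (irr_isClassFunction χ), Cfsg.centralChar,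
      char_inv (irr_isCharacter χ), Complex.conj_conj]
    field_simp [irr_one_ne_zero χ.2]
  have hinner : ∀ ψ : Cfsg.IrrCharacter G, Cfsg.classInner F (ψ : G → ℂ) = (Nat.card G : ℂ)⁻¹ *
      ((((Subgroup.centralizer ({j} : Set G)).index : ℂ) * (ψ : G → ℂ) j) ^ 2 /
        (ψ : G → ℂ) 1) := by
    intro ψ
    rw [show F = fun g => ∑ χ : Cfsg.IrrCharacter G, ((Nat.card G : ℂ)⁻¹ *
      ((((Subgroup.centralizer ({j} : Set G)).index : ℂ) * (χ : G → ℂ) j) ^ 2 /
        (χ : G → ℂ) 1)) • (χ : G → ℂ) g from funext fun g => hFexp g,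
      ← Finset.sum_fn, classInner_sum_left, Finset.sum_eq_single ψ]
    · rw [show (fun g => ((Nat.card G : ℂ)⁻¹ *
        ((((Subgroup.centralizer ({j} : Set G)).index : ℂ) * (ψ : G → ℂ) j) ^ 2 /
          (ψ : G → ℂ) 1)) • (ψ : G → ℂ) g) = ((Nat.card G : ℂ)⁻¹ *
        ((((Subgroup.centralizer ({j} : Set G)).index : ℂ) * (ψ : G → ℂ) j) ^ 2 /
          (ψ : G → ℂ) 1)) • (ψ : G → ℂ) from rfl, classInner_smul_left, classInner_irr, if_pos rfl,
        mul_one]
    · intro χ _ hne
      rw [show (fun g => ((Nat.card G : ℂ)⁻¹ *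
        ((((Subgroup.centralizer ({j} : Set G)).index : ℂ) * (χ : G → ℂ) j) ^ 2 /
          (χ : G → ℂ) 1)) • (χ : G → ℂ) g) = ((Nat.card G : ℂ)⁻¹ *
        ((((Subgroup.centralizer ({j} : Set G)).index : ℂ) * (χ : G → ℂ) j) ^ 2 /
          (χ : G → ℂ) 1)) • (χ : G → ℂ) from rfl, classInner_smul_left, classInner_irr,
        if_neg hne, mul_zero]
    · exact fun h => absurd (Finset.mem_univ ψ) h
  have huP : Cfsg.IsPPart 2 (u : G) (u : G) :=
    ⟨1, mul_one _, Commute.one_right _, exists_orderOf_coe hM P.2 u, by simp⟩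
  have hsum := blockPart_section_zero hM (isPBlock_principal M G) huP hF0
  have hS0 : ∑ χ ∈ Finset.univ.filter (fun χ => χ ∈ Cfsg.principalBlock M G),
      (χ : G → ℂ) j ^ 2 * (χ : G → ℂ) (u : G) / (χ : G → ℂ) 1 = 0 := by
    have hne : (Nat.card G : ℂ)⁻¹ * ((Subgroup.centralizer ({j} : Set G)).index : ℂ) ^ 2 ≠ 0 :=
      mul_ne_zero (inv_ne_zero natCard_ne_zero)
        (pow_ne_zero _ (Nat.cast_ne_zero.2 Subgroup.index_ne_zero_of_finite))
    refine mul_left_cancel₀ hne ?_
    rw [mul_zero, ← hsum, Finset.mul_sum]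
    refine Finset.sum_congr rfl fun χ _ => ?_
    rw [hinner, mul_pow]
    ring
  have hX1 : X = 1 := eq_one_of_equation (by exact_mod_cast h16) hX hY hX0 hY0 (hS hS0)
  obtain ⟨hdeg, hPval⟩ := hXone hX1
  -- the kernel
  set lam := linearOfDegreeOne (irr_isCharacter ψ₂) hdeg with hlam
  set H := lam.ker with hH
  have hlamv : ∀ g, (lam g : ℂ) = (ψ₂ : G → ℂ) g := fun g => by
    rw [hlam, linearOfDegreeOne_apply]
  have hPH : (P : Subgroup G) ≤ H := fun x hx => by
    rw [hH, MonoidHom.mem_ker]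
    exact Units.ext (by rw [hlamv, hPval x hx, Units.val_one])
  have hCH : Subgroup.centralizer ((P : Subgroup G) : Set G) ≤ H := by
    intro x hx
    -- its square root of odd order
    obtain ⟨z, hz⟩ := exists_ppart (p := 2) Nat.prime_two x
    obtain ⟨y, hxy, hcom, ⟨a, ha⟩, hy⟩ := id hz
    have hyC : y ∈ Subgroup.centralizer ((P : Subgroup G) : Set G) := by
      have hyx : y ∈ Subgroup.zpowers x := by
        have h1 : x ^ 2 ^ a = y ^ 2 ^ a := by
          rw [← hxy, hcom.mul_pow, ← ha, pow_orderOf_eq_one, one_mul]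
        obtain ⟨b, hb⟩ := exists_pow_eq_self_of_coprime (n := 2 ^ a) (x := y)
          (((Nat.prime_two.coprime_iff_not_dvd).2 hy).pow_left a)
        rw [← hb, ← h1]
        exact Subgroup.pow_mem _ (Subgroup.pow_mem _ (Subgroup.mem_zpowers x) _) _
      exact Subgroup.zpowers_le.2 hx hyx
    have hz1 : lam z = 1 := by
      obtain ⟨Q, hQ⟩ := (IsPGroup.of_card (n := a)
        (by rw [Nat.card_zpowers, ha] : Nat.card (Subgroup.zpowers z) = 2 ^ a)).exists_le_sylow
      obtain ⟨g, hg⟩ := MulAction.exists_smul_eq G P Q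
      have hz' : g⁻¹ * z * g ∈ (P : Subgroup G) := by
        have h := hQ (Subgroup.mem_zpowers z)
        rw [← hg, Sylow.coe_subgroup_smul, Subgroup.mem_pointwise_smul_iff_inv_smul_mem,
          ← map_inv, MulAut.smul_def, MulAut.conj_apply, inv_inv] at h
        exact h
      have := hPH hz'
      rwa [hH, MonoidHom.mem_ker, map_mul, map_mul, map_inv, mul_assoc, mul_comm (lam z),
        inv_mul_cancel_left] at this
    rw [hH, MonoidHom.mem_ker, ← hxy, map_mul, hz1, one_mul]
    refine Units.ext ?_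
    rw [hlamv, Units.val_one]
    have hord : ((ψ₂ : G → ℂ) y) ^ orderOf y = 1 := by
      rw [← hlamv, ← Units.val_pow_eq_pow_val, ← map_pow, pow_orderOf_eq_one, map_one, Units.val_one]
    refine eq_one_of_cong_one hM hy hord ?_
    have hc := PrincipalRestrict.omega_classSum_cong hM hψ y
    rw [omega_classSum (irr_isClassFunction ψ₂), Cfsg.centralChar, hdeg, div_one] at hc
    have hunit := PrincipalRestrict.class_index_unit hM P hyC
    unfold Cong at hc ⊢
    have hmul : ((Subgroup.centralizer ({y} : Set G)).index : ℂ) * ((ψ₂ : G → ℂ) y - 1) =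
        ((Subgroup.centralizer ({y} : Set G)).index : ℂ) * (ψ₂ : G → ℂ) y -
          ((Subgroup.centralizer ({y} : Set G)).index : ℂ) := by ring
    rw [← hmul] at hc
    exact ((ideal_mul_iff hM (ring_natCast hM _)
      (ring_sub hM (ring_of_isIntegral hM (char_value_isIntegral (irr_isCharacter ψ₂) _))
        (ring_one hM))).1 hc).resolve_left hunit
  haveI hHn : H.Normal := MonoidHom.normal_ker _
  have hNH : ¬ Subgroup.normalizer ((P : Subgroup G) : Set G) ≤ H := by
    intro hle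
    refine hψne (Subtype.ext (funext fun g => ?_))
    have htop : Subgroup.normalizer ((P : Subgroup G) : Set G) ⊔ H = ⊤ :=
      Sylow.normalizer_sup_eq_top' P hPH
    rw [sup_eq_right.2 hle] at htop
    have hg : lam g = 1 := MonoidHom.mem_ker.1 (htop.ge (Subgroup.mem_top g))
    show (ψ₂ : G → ℂ) g = 1
    rw [← hlamv, hg, Units.val_one]
  have hNC : Subgroup.normalizer ((P : Subgroup G) : Set G) ⊓ H ≤ Subgroup.centralizer ((P : Subgroup G) : Set G) := by
    have hC : Subgroup.centralizer ((P : Subgroup G) : Set G) ≤ Subgroup.normalizer ((P : Subgroup G) : Set G) ⊓ H :=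
      le_inf (centralizer_le_normalizer' _) hCH
    have hprod := Subgroup.relIndex_mul_relIndex _ _ (Subgroup.normalizer ((P : Subgroup G) : Set G)) hC inf_le_left
    rw [hN, hr] at hprod
    rcases (Nat.dvd_prime Nat.prime_three).1 (Dvd.intro _ hprod) with h | h
    · exact Subgroup.relIndex_eq_one.1 h
    · rw [h] at hprod
      have h1 : (Subgroup.normalizer ((P : Subgroup G) : Set G) ⊓ H).relIndex (Subgroup.normalizer ((P : Subgroup G) : Set G)) = 1 := by
        omega
      exact absurd ((Subgroup.relIndex_eq_one.1 h1).trans inf_le_right) hNH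
  have htop : ((P.subtype hPH) : Subgroup H) = ⊤ := by
    refine eq_sylow_of_burnside H hO _ fun x hx => ?_
    have hxN : (x : G) ∈ Subgroup.normalizer ((P : Subgroup G) : Set G) := by
      rw [Subgroup.mem_normalizer_iff]
      intro y
      constructor
      · intro hy
        exact (Subgroup.mem_normalizer_iff.1 hx ⟨y, hPH hy⟩).1 hy
      · intro hy
        have hyH : y ∈ H := by
          have := H.mul_mem (H.mul_mem (H.inv_mem x.2) (hPH hy)) x.2
          simpa [mul_assoc] using this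
        exact (Subgroup.mem_normalizer_iff.1 hx ⟨y, hyH⟩).2 hy
    intro y hy
    exact Subtype.ext (Subgroup.mem_centralizer_iff.1 (hNC ⟨hxN, x.2⟩) (y : G) hy)
  have hPeq : (P : Subgroup G) = H := le_antisymm hPH fun x hx =>
    htop.ge (Subgroup.mem_top (⟨x, hx⟩ : H))
  have hPn : (P : Subgroup G).Normal := hPeq ▸ hHn
  have hCP : Subgroup.centralizer ((P : Subgroup G) : Set G) = (P : Subgroup G) :=
    le_antisymm (hPeq.symm ▸ hCH) hPC
  refine ⟨hPn, hCP, Or.inr ?_⟩
  haveI := hPn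
  rw [← Subgroup.relIndex_top_right, ← hr, ← hN, hCP, Subgroup.normalizer_eq_top]

end Cfsg.Agent.Blocks.BrauerHomocyclic
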