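import Mathlib

/-!
# Pairing normal chains of `p`-subgroups stabilised by a `p`-element

For a `p`-element `u ≠ 1`, the chains of nontrivial `p`-subgroups, each member normal in the
largest, that are normalised by `u` come in pairs differing by one member, with the exception of
the chain `{⟨u⟩}`; partners have the same stabiliser inside the centralizer of `u`.
-/

set_option linter.style.haveILetI false
set_option linter.unusedSectionVars false

namespace Cfsg.Agent.Blocks.ChainPairing

open scoped Classical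

variable {G : Type*} [Group G] [Finite G] {p : ℕ} [Fact p.Prime]

/-- Nonempty chains of nontrivial `p`-subgroups, each normal in the largest. -/
def IsChain' (p : ℕ) (s : Finset (Subgroup G)) : Prop :=
  s.Nonempty ∧ (∀ Q ∈ s, ∀ R ∈ s, Q ≤ R ∨ R ≤ Q) ∧ (∀ Q ∈ s, Q ≠ ⊥ ∧ IsPGroup p Q) ∧
    ∃ T ∈ s, ∀ Q ∈ s, Q ≤ T ∧ T ≤ Subgroup.normalizer ((Q : Subgroup G) : Set G)

/-- The stabiliser of a chain. -/
def stabChain (s : Finset (Subgroup G)) : Subgroup G :=
  ⨅ Q ∈ s, Subgroup.normalizer ((Q : Subgroup G) : Set G)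

theorem mem_stabChain {s : Finset (Subgroup G)} {g : G} :
    g ∈ stabChain s ↔ ∀ Q ∈ s, g ∈ Subgroup.normalizer ((Q : Subgroup G) : Set G) := by
  simp [stabChain, Subgroup.mem_iInf]

theorem mem_normalizer_iff_map {H : Subgroup G} {g : G} :
    g ∈ Subgroup.normalizer (H : Set G) ↔ H.map (MulAut.conj g).toMonoidHom = H := by
  constructor
  · intro h
    ext y
    rw [Subgroup.mem_map_equiv, MulAut.conj_symm_apply]
    have := Subgroup.mem_normalizer_iff.1 h (g⁻¹ * y * g)
    simpa [mul_assoc] using this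
  · intro h
    rw [Subgroup.mem_normalizer_iff]
    intro y
    conv_rhs => rw [← h, Subgroup.mem_map_equiv, MulAut.conj_symm_apply]
    simp [mul_assoc]

theorem mem_normalizer_sup {A B : Subgroup G} {g : G} (hA : g ∈ Subgroup.normalizer (A : Set G))
    (hB : g ∈ Subgroup.normalizer (B : Set G)) :
    g ∈ Subgroup.normalizer ((A ⊔ B : Subgroup G) : Set G) := by
  rw [mem_normalizer_iff_map] at hA hB ⊢
  rw [Subgroup.map_sup, hA, hB]

/-- A `p`-group normally generated by `u` over a normal subgroup is generated by `u` over it. -/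
theorem eq_sup_zpowers {T Q : Subgroup G} (hT : IsPGroup p T) (hQT : Q ≤ T) {u : G} (hu : u ∈ T)
    (h : T ≤ Q ⊔ Subgroup.closure ((fun t => t * u * t⁻¹) '' (T : Set G))) :
    Q ⊔ Subgroup.zpowers u = T := by
  set K := Q ⊔ Subgroup.zpowers u
  have hKT : K ≤ T := sup_le hQT (Subgroup.zpowers_le.2 hu)
  refine le_antisymm hKT ?_
  rcases eq_top_or_exists_le_coatom (K.subgroupOf T) with h1 | ⟨L, hL, hKL⟩
  · exact Subgroup.subgroupOf_eq_top.1 h1
  · exfalso
    haveI : Group.IsNilpotent T := hT.isNilpotent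
    haveI hLn : L.Normal :=
      Subgroup.NormalizerCondition.normal_of_coatom L Group.normalizerCondition_of_isNilpotent hL
    refine hL.1 (top_le_iff.1 fun t _ => ?_)
    have hle : Q ⊔ Subgroup.closure ((fun t => t * u * t⁻¹) '' (T : Set G)) ≤ L.map T.subtype := by
      refine sup_le (fun q hq => ⟨⟨q, hQT hq⟩, hKL (Subgroup.mem_sup_left hq), rfl⟩) ?_
      rw [Subgroup.closure_le]
      rintro _ ⟨t, ht, rfl⟩
      exact ⟨⟨t, ht⟩ * ⟨u, hu⟩ * ⟨t, ht⟩⁻¹,
        hLn.conj_mem ⟨u, hu⟩ (hKL (Subgroup.mem_sup_right (Subgroup.mem_zpowers u))) _, rfl⟩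
    obtain ⟨l, hl, hlt⟩ := hle (h t.2)
    rwa [← Subtype.ext hlt]

variable (u : G)

/-- The largest member with `u` adjoined. -/
noncomputable def wide (s : Finset (Subgroup G)) : Subgroup G := s.sup id ⊔ Subgroup.zpowers u

/-- The largest member not containing `u`. -/
noncomputable def low (s : Finset (Subgroup G)) : Subgroup G := (s.filter (u ∉ ·)).sup id

/-- The member to be toggled. -/
noncomputable def pivot (s : Finset (Subgroup G)) : Subgroup G :=
  low u s ⊔ Subgroup.closure ((fun t => t * u * t⁻¹) '' (wide u s : Set G))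

/-- The partner of a chain. -/
noncomputable def toggle (s : Finset (Subgroup G)) : Finset (Subgroup G) :=
  if pivot u s ∈ s then s.erase (pivot u s) else insert (pivot u s) s

variable {u}

theorem mem_pivot (s : Finset (Subgroup G)) : u ∈ pivot u s :=
  Subgroup.mem_sup_right (Subgroup.subset_closure ⟨1, one_mem _, by simp⟩)

theorem closure_le_wide (s : Finset (Subgroup G)) :
    Subgroup.closure ((fun t => t * u * t⁻¹) '' (wide u s : Set G)) ≤ wide u s := by
  rw [Subgroup.closure_le]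
  rintro _ ⟨t, ht, rfl⟩
  exact mul_mem (mul_mem ht (Subgroup.mem_sup_right (Subgroup.mem_zpowers u))) (inv_mem ht)

theorem pivot_le_wide (s : Finset (Subgroup G)) : pivot u s ≤ wide u s :=
  sup_le (le_sup_of_le_left (Finset.sup_mono (Finset.filter_subset _ s))) (closure_le_wide s)

/-- The supremum of a chain is its top. -/
theorem sup_eq {s : Finset (Subgroup G)} {T : Subgroup G} (hT : T ∈ s)
    (h : ∀ Q ∈ s, Q ≤ T) : s.sup id = T :=
  le_antisymm (Finset.sup_le h) (Finset.le_sup (f := id) hT)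

theorem exists_max {s : Finset (Subgroup G)} (hne : s.Nonempty)
    (hlin : ∀ Q ∈ s, ∀ R ∈ s, Q ≤ R ∨ R ≤ Q) : ∃ T ∈ s, ∀ Q ∈ s, Q ≤ T := by
  obtain ⟨T, hT, hmax⟩ := s.exists_maximal hne
  exact ⟨T, hT, fun Q hQ => (hlin Q hQ T hT).elim id fun h => hmax hQ h⟩

theorem low_eq_bot_or_mem {s : Finset (Subgroup G)} (hlin : ∀ Q ∈ s, ∀ R ∈ s, Q ≤ R ∨ R ≤ Q) :
    low u s = ⊥ ∨ low u s ∈ s.filter (u ∉ ·) := by
  rcases (s.filter (u ∉ ·)).eq_empty_or_nonempty with h | h
  · left; rw [low, h, Finset.sup_empty]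
  · obtain ⟨T, hT, hmax⟩ := exists_max h fun Q hQ R hR =>
      hlin Q (Finset.mem_filter.1 hQ).1 R (Finset.mem_filter.1 hR).1
    exact Or.inr (by rw [low, sup_eq hT hmax]; exact hT)

/-- What stabilises the chain and centralises `u` normalises the pivot. -/
theorem mem_normalizer_pivot {s : Finset (Subgroup G)} (hs : IsChain' p s) {g : G}
    (hg : g ∈ stabChain s) (hgu : g * u = u * g) :
    g ∈ Subgroup.normalizer ((pivot u s : Subgroup G) : Set G) := by
  obtain ⟨-, hlin, -, T, hT, hTQ⟩ := hs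
  refine mem_normalizer_sup ?_ ?_
  · rcases low_eq_bot_or_mem (u := u) hlin with h | h
    · rw [h, Subgroup.normalizer_eq_top]; trivial
    · exact mem_stabChain.1 hg _ (Finset.mem_filter.1 h).1
  · have hW : g ∈ Subgroup.normalizer ((wide u s : Subgroup G) : Set G) := by
      rw [wide, sup_eq hT fun Q hQ => (hTQ Q hQ).1]
      refine mem_normalizer_sup (mem_stabChain.1 hg T hT) (mem_normalizer_iff_map.2 ?_)
      rw [MonoidHom.map_zpowers]
      congr 1
      simp [hgu]
    rw [mem_normalizer_iff_map] at hW ⊢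
    rw [MonoidHom.map_closure]
    congr 1
    conv_rhs => rw [← hW, Subgroup.coe_map, Set.image_image]
    rw [Set.image_image]
    refine Set.image_congr fun t _ => ?_
    have : g * u * g⁻¹ = u := mul_inv_eq_iff_eq_mul.2 hgu
    calc g * (t * u * t⁻¹) * g⁻¹ = (g * t * g⁻¹) * (g * u * g⁻¹) * (g * t * g⁻¹)⁻¹ := by group
      _ = (g * t * g⁻¹) * u * (g * t * g⁻¹)⁻¹ := by rw [this]

section

variable {s : Finset (Subgroup G)} (hs : IsChain' p s) (hu : ∃ k : ℕ, orderOf u = p ^ k)
  (hus : u ∈ stabChain s)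
include hs hu hus

theorem wide_isPGroup : IsPGroup p (wide u s) := by
  obtain ⟨-, -, hp, T, hT, hTQ⟩ := hs
  rw [wide, sup_eq hT fun Q hQ => (hTQ Q hQ).1]
  refine (hp T hT).2.to_sup_of_normal_left' ?_ (Subgroup.zpowers_le.2 (mem_stabChain.1 hus T hT))
  obtain ⟨k, hk⟩ := hu
  exact IsPGroup.of_card (n := k) (by rw [Nat.card_zpowers, hk])

theorem wide_le_normalizer {Q : Subgroup G} (hQ : Q ∈ s) :
    wide u s ≤ Subgroup.normalizer ((Q : Subgroup G) : Set G) := by
  obtain ⟨-, -, -, T, hT, hTQ⟩ := hs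
  rw [wide, sup_eq hT fun Q hQ => (hTQ Q hQ).1]
  exact sup_le (hTQ Q hQ).2 (Subgroup.zpowers_le.2 (mem_stabChain.1 hus Q hQ))

theorem le_pivot {Q : Subgroup G} (hQ : Q ∈ s) (huQ : u ∉ Q) : Q ≤ pivot u s :=
  le_sup_of_le_left (Finset.le_sup (f := id) (Finset.mem_filter.2 ⟨hQ, huQ⟩))

theorem pivot_le {Q : Subgroup G} (hQ : Q ∈ s) (huQ : u ∈ Q) : pivot u s ≤ Q := by
  refine sup_le (Finset.sup_le fun R hR => ?_) ((Subgroup.closure_le _).2 ?_)
  · obtain ⟨hR, huR⟩ := Finset.mem_filter.1 hR
    rcases hs.2.1 R hR Q hQ with h | h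
    · exact h
    · exact absurd (h huQ) huR
  · rintro _ ⟨t, ht, rfl⟩
    exact (Subgroup.mem_normalizer_iff.1 (wide_le_normalizer hs hu hus hQ ht) u).1 huQ

theorem wide_le_normalizer_pivot :
    wide u s ≤ Subgroup.normalizer ((pivot u s : Subgroup G) : Set G) := by
  intro w hw
  refine mem_normalizer_sup ?_ ?_
  · rcases low_eq_bot_or_mem (u := u) hs.2.1 with h | h
    · rw [h, Subgroup.normalizer_eq_top]; trivial
    · exact wide_le_normalizer hs hu hus (Finset.mem_filter.1 h).1 hw
  · rw [mem_normalizer_iff_map, MonoidHom.map_closure, Set.image_image]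
    congr 1
    refine Set.Subset.antisymm ?_ fun y hy => ?_
    · rintro _ ⟨t, ht, rfl⟩
      exact ⟨w * t, mul_mem hw ht, by simp [mul_assoc]⟩
    · obtain ⟨t, ht, rfl⟩ := hy
      exact ⟨w⁻¹ * t, mul_mem (inv_mem hw) ht, by simp [mul_assoc]⟩

/-- When the pivot is the top, only one member is lost by adjoining `u`. -/
theorem low_sup_eq (hR : pivot u s ∈ s) (htop : ∀ Q ∈ s, Q ≤ pivot u s) :
    low u s ⊔ Subgroup.zpowers u = pivot u s := by
  have hW : wide u s = pivot u s := by
    rw [wide, sup_eq hR htop, sup_eq_left.2 (Subgroup.zpowers_le.2 (mem_pivot s))]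
  refine eq_sup_zpowers (hs.2.2.1 _ hR).2 le_sup_left (mem_pivot s) ?_
  have hle : pivot u s ≤
      low u s ⊔ Subgroup.closure ((fun t => t * u * t⁻¹) '' (wide u s : Set G)) := le_rfl
  rwa [hW] at hle

variable (hu1 : u ≠ 1) (hsne : s ≠ {Subgroup.zpowers u})
include hu1 hsne

theorem erase_nonempty (hR : pivot u s ∈ s) : (s.erase (pivot u s)).Nonempty := by
  by_contra hne
  rw [Finset.not_nonempty_iff_eq_empty] at hne
  have hall : ∀ Q ∈ s, Q = pivot u s := fun Q hQ => by
    by_contra h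
    have : Q ∈ s.erase (pivot u s) := Finset.mem_erase.2 ⟨h, hQ⟩
    rw [hne] at this
    simp at this
  have hlow : low u s = ⊥ := by
    rw [low, Finset.filter_eq_empty_iff.2 fun Q hQ => by
      rw [not_not, hall Q hQ]; exact mem_pivot s, Finset.sup_empty]
  have h := low_sup_eq hs hu hus hR fun Q hQ => (hall Q hQ).le
  rw [hlow, bot_sup_eq] at h
  exact hsne (Finset.eq_singleton_iff_unique_mem.2 ⟨h ▸ hR, fun Q hQ => (hall Q hQ).trans h.symm⟩)

theorem low_toggle : low u (toggle u s) = low u s := by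
  rw [toggle]
  split
  · rw [low, low, Finset.filter_erase, Finset.erase_eq_of_notMem]
    simp [mem_pivot]
  · rw [low, low, Finset.filter_insert, if_neg (not_not.2 (mem_pivot s))]

theorem wide_toggle : wide u (toggle u s) = wide u s := by
  obtain ⟨-, -, -, T, hT, hTQ⟩ := id hs
  rw [toggle]
  split
  next hR =>
    set s' := s.erase (pivot u s) with hs'
    have hmem : ∀ Q ∈ s, Q ≠ pivot u s → Q ≤ s'.sup id := fun Q hQ hne =>
      Finset.le_sup (f := id) (b := Q) (by rw [hs']; exact Finset.mem_erase.2 ⟨hne, hQ⟩)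
    have hle1 : s'.sup id ≤ s.sup id := Finset.sup_mono (Finset.erase_subset _ s)
    have hpiv : pivot u s ≤ s'.sup id ⊔ Subgroup.zpowers u := by
      by_cases hRT : pivot u s = T
      · have htop : ∀ Q ∈ s, Q ≤ pivot u s := fun Q hQ => by rw [hRT]; exact (hTQ Q hQ).1
        have hlow : low u s ≤ s'.sup id := by
          refine Finset.sup_le fun Q hQ => ?_
          have hQ' := Finset.mem_filter.1 hQ
          exact hmem Q hQ'.1 fun h => hQ'.2 (by rw [h]; exact mem_pivot s)
        rw [← low_sup_eq hs hu hus hR htop]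
        exact sup_le_sup_right hlow _
      · exact ((hTQ _ hR).1.trans (hmem T hT (Ne.symm hRT))).trans le_sup_left
    have hle2 : s.sup id ≤ s'.sup id ⊔ Subgroup.zpowers u := by
      refine Finset.sup_le fun Q hQ => ?_
      by_cases hQR : Q = pivot u s
      · rw [hQR]; exact hpiv
      · exact (hmem Q hQ hQR).trans le_sup_left
    exact le_antisymm (sup_le_sup_right hle1 _) (sup_le hle2 le_sup_right)
  next hR =>
    rw [wide, Finset.sup_insert]
    exact le_antisymm (sup_le (sup_le (pivot_le_wide s) le_sup_left) le_sup_right)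
      (sup_le_sup_right le_sup_right _)

theorem pivot_toggle : pivot u (toggle u s) = pivot u s := by
  rw [pivot, pivot, low_toggle hs hu hus hu1 hsne, wide_toggle hs hu hus hu1 hsne]

theorem toggle_toggle : toggle u (toggle u s) = s := by
  conv_lhs => rw [toggle, pivot_toggle hs hu hus hu1 hsne]
  simp only [toggle]
  by_cases h : pivot u s ∈ s
  · simp [h]
  · simp [h]

theorem isChain'_toggle : IsChain' p (toggle u s) := by
  obtain ⟨-, hlin, hp, T, hT, hTQ⟩ := id hs
  rw [toggle]
  split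
  next hR =>
    have hne := erase_nonempty hs hu hus hu1 hsne hR
    refine ⟨hne, fun Q hQ R hR => hlin Q (Finset.mem_of_mem_erase hQ) R (Finset.mem_of_mem_erase hR),
      fun Q hQ => hp Q (Finset.mem_of_mem_erase hQ), ?_⟩
    obtain ⟨T', hT', hmax⟩ := exists_max hne fun Q hQ R hR =>
      hlin Q (Finset.mem_of_mem_erase hQ) R (Finset.mem_of_mem_erase hR)
    exact ⟨T', hT', fun Q hQ => ⟨hmax Q hQ, (hTQ T' (Finset.mem_of_mem_erase hT')).1.trans
      (hTQ Q (Finset.mem_of_mem_erase hQ)).2⟩⟩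
  next hR =>
    have hRp : pivot u s ≠ ⊥ ∧ IsPGroup p (pivot u s) :=
      ⟨fun h => hu1 (Subgroup.mem_bot.1 (h ▸ mem_pivot s)),
        (wide_isPGroup hs hu hus).to_le (pivot_le_wide s)⟩
    have hcmp : ∀ Q ∈ s, Q ≤ pivot u s ∨ pivot u s ≤ Q := fun Q hQ => by
      by_cases h : u ∈ Q
      · exact Or.inr (pivot_le hs hu hus hQ h)
      · exact Or.inl (le_pivot hs hu hus hQ h)
    refine ⟨Finset.insert_nonempty _ _, ?_, ?_, ?_⟩
    · simp only [Finset.forall_mem_insert]
      exact ⟨⟨Or.inl le_rfl, fun Q hQ => (hcmp Q hQ).symm⟩,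
        fun Q hQ => ⟨hcmp Q hQ, hlin Q hQ⟩⟩
    · simp only [Finset.forall_mem_insert]
      exact ⟨hRp, hp⟩
    · rcases hcmp T hT with h | h
      · refine ⟨_, Finset.mem_insert_self _ _, Finset.forall_mem_insert _ _ _ |>.2
          ⟨⟨le_rfl, Subgroup.le_normalizer⟩, fun Q hQ =>
            ⟨(hTQ Q hQ).1.trans h, (pivot_le_wide s).trans (wide_le_normalizer hs hu hus hQ)⟩⟩⟩
      · refine ⟨T, Finset.mem_insert_of_mem hT, Finset.forall_mem_insert _ _ _ |>.2
          ⟨⟨h, ?_⟩, hTQ⟩⟩
        exact le_trans (le_sup_of_le_left (Finset.le_sup (f := id) hT))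
          (wide_le_normalizer_pivot hs hu hus)

theorem stabChain_toggle : stabChain (toggle u s) ⊓ Subgroup.centralizer ({u} : Set G) =
    stabChain s ⊓ Subgroup.centralizer ({u} : Set G) := by
  have hs' := isChain'_toggle hs hu hus hu1 hsne
  have hpiv := pivot_toggle hs hu hus hu1 hsne
  have hdef : toggle u s =
    if pivot u s ∈ s then s.erase (pivot u s) else insert (pivot u s) s := rfl
  ext g
  simp only [Subgroup.mem_inf, Subgroup.mem_centralizer_singleton_iff]
  refine and_congr_left fun hg => ?_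
  constructor
  · intro h
    have h' := mem_normalizer_pivot hs' h hg
    rw [hpiv] at h'
    rw [mem_stabChain] at h ⊢
    intro Q hQ
    by_cases hQR : Q = pivot u s
    · exact hQR ▸ h'
    · refine h Q ?_
      rw [hdef]
      split
      · exact Finset.mem_erase.2 ⟨hQR, hQ⟩
      · exact Finset.mem_insert_of_mem hQ
  · intro h
    have h' := mem_normalizer_pivot (u := u) hs h hg
    rw [mem_stabChain] at h ⊢
    intro Q hQ
    rw [hdef] at hQ
    split at hQ
    · exact h Q (Finset.mem_of_mem_erase hQ)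
    · rcases Finset.mem_insert.1 hQ with rfl | hQ
      · exact h'
      · exact h Q hQ

theorem mem_stab_toggle : u ∈ stabChain (toggle u s) := by
  have h : u ∈ stabChain s ⊓ Subgroup.centralizer ({u} : Set G) :=
    ⟨hus, Subgroup.mem_centralizer_singleton_iff.2 rfl⟩
  rw [← stabChain_toggle hs hu hus hu1 hsne] at h
  exact h.1

theorem toggle_ne : toggle u s ≠ {Subgroup.zpowers u} := by
  intro h
  have h1 := toggle_toggle hs hu hus hu1 hsne
  rw [h] at h1
  have hpv : pivot u ({Subgroup.zpowers u} : Finset (Subgroup G)) = Subgroup.zpowers u := by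
    refine le_antisymm ((pivot_le_wide _).trans (by simp [wide])) ?_
    exact Subgroup.zpowers_le.2 (mem_pivot _)
  rw [toggle, hpv, if_pos (Finset.mem_singleton_self _), Finset.erase_singleton] at h1
  exact hs.1.ne_empty h1.symm

theorem sign_toggle :
    (-1 : ℤ) ^ ((toggle u s).card - 1) = -(-1 : ℤ) ^ (s.card - 1) := by
  rw [toggle]
  split
  next hR =>
    have h2 := (erase_nonempty hs hu hus hu1 hsne hR).card_pos
    rw [Finset.card_erase_of_mem hR] at h2 ⊢
    obtain ⟨n, hn⟩ : ∃ n, s.card = n + 2 := ⟨s.card - 2, by omega⟩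
    rw [hn]
    simp [pow_succ]
  next hR =>
    rw [Finset.card_insert_of_notMem hR]
    obtain ⟨n, hn⟩ : ∃ n, s.card = n + 1 := ⟨s.card - 1, by have := hs.1.card_pos; omega⟩
    rw [hn]
    simp [pow_succ]

end

open scoped Classical in
/-- The alternating sum over the chains normalised by `u` collapses. -/
theorem sum_eq [Fintype (Subgroup G)] {u : G} (hu : ∃ k : ℕ, orderOf u = p ^ k) (hu1 : u ≠ 1)
    (φ : Subgroup G → ℤ) :
    ∑ s ∈ Finset.univ.filter (fun s : Finset (Subgroup G) => IsChain' p s ∧ u ∈ stabChain s),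
      (-1 : ℤ) ^ (s.card - 1) * φ (stabChain s ⊓ Subgroup.centralizer ({u} : Set G)) =
    φ (Subgroup.centralizer ({u} : Set G)) := by
  set F := fun s : Finset (Subgroup G) =>
    (-1 : ℤ) ^ (s.card - 1) * φ (stabChain s ⊓ Subgroup.centralizer ({u} : Set G))
  set S := Finset.univ.filter (fun s : Finset (Subgroup G) => IsChain' p s ∧ u ∈ stabChain s)
  have hz : ({Subgroup.zpowers u} : Finset (Subgroup G)) ∈ S := by
    refine Finset.mem_filter.2 ⟨Finset.mem_univ _, ⟨Finset.singleton_nonempty _, ?_, ?_,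
      _, Finset.mem_singleton_self _, ?_⟩, ?_⟩
    · simp
    · simp only [Finset.mem_singleton, forall_eq, ne_eq, Subgroup.zpowers_eq_bot]
      obtain ⟨k, hk⟩ := hu
      exact ⟨hu1, IsPGroup.of_card (n := k) (by rw [Nat.card_zpowers, hk])⟩
    · simp only [Finset.mem_singleton, forall_eq]
      exact ⟨le_rfl, Subgroup.le_normalizer⟩
    · rw [mem_stabChain]
      simp only [Finset.mem_singleton, forall_eq]
      exact Subgroup.le_normalizer (Subgroup.mem_zpowers u)
  rw [← Finset.add_sum_erase S F hz]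
  have h0 : ∑ s ∈ S.erase {Subgroup.zpowers u}, F s = 0 := by
    have hget : ∀ s ∈ S.erase {Subgroup.zpowers u},
        IsChain' p s ∧ u ∈ stabChain s ∧ s ≠ {Subgroup.zpowers u} := fun s hs =>
      ⟨(Finset.mem_filter.1 (Finset.mem_of_mem_erase hs)).2.1,
        (Finset.mem_filter.1 (Finset.mem_of_mem_erase hs)).2.2, Finset.ne_of_mem_erase hs⟩
    refine Finset.sum_involution (fun s _ => toggle u s) ?_ ?_ ?_ ?_
    · intro s hs
      obtain ⟨h1, h2, h3⟩ := hget s hs
      simp only [F]
      rw [stabChain_toggle h1 hu h2 hu1 h3, sign_toggle h1 hu h2 hu1 h3]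
      ring
    · intro s hs hne he
      obtain ⟨h1, h2, h3⟩ := hget s hs
      have h := sign_toggle h1 hu h2 hu1 h3
      rw [he] at h
      exact pow_ne_zero _ (by norm_num : (-1 : ℤ) ≠ 0) (by linarith)
    · intro s hs
      obtain ⟨h1, h2, h3⟩ := hget s hs
      exact Finset.mem_erase.2 ⟨toggle_ne h1 hu h2 hu1 h3, Finset.mem_filter.2
        ⟨Finset.mem_univ _, isChain'_toggle h1 hu h2 hu1 h3, mem_stab_toggle h1 hu h2 hu1 h3⟩⟩
    · intro s hs
      obtain ⟨h1, h2, h3⟩ := hget s hs
      exact toggle_toggle h1 hu h2 hu1 h3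
  rw [h0, add_zero]
  simp only [F, Finset.card_singleton, Nat.sub_self, pow_zero, one_mul]
  congr 1
  refine le_antisymm inf_le_right (le_inf (fun g hg => ?_) le_rfl)
  rw [mem_stabChain]
  simp only [Finset.mem_singleton, forall_eq]
  refine mem_normalizer_iff_map.2 ?_
  rw [MonoidHom.map_zpowers]
  congr 1
  simp [Subgroup.mem_centralizer_singleton_iff.1 hg]

end Cfsg.Agent.Blocks.ChainPairing
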