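import Mathlib
import Cfsg.Agent.BlockCharsA.Rank
import Cfsg.Agent.BlockCharsA.LocalBlock
import Cfsg.Agent.Lib.Blocks.NilpotentAbelian

/-!
# Characters of a union of blocks as a sum ovr the `p`-elements of the group

For a union of blocks `A` of a group, `|G| k(A) = ∑_u |C(u)| l(A_u)`, the sum ovr all `p`-elements
`u`, where `A_u` is the union of the blocks of `C(u)` inducing blocks in `A`.  For the blocks of a
subgroup `H` inducing a block of `G`, the local sets are again of that kind.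
-/

set_option linter.style.haveILetI false
set_option linter.unusedSectionVars false

namespace Cfsg.Agent.Blocks.SectionSum

open Cfsg.Agent.Characters Cfsg.Agent.BlockCharsA.Transport Cfsg.Agent.BlockCharsA.Rank
open Cfsg.Agent.BlockCharsA.LocalBlock
open scoped ComplexConjugate

universe u

variable {G : Type u} [Group G] [Finite G] {p : ℕ} {M : Ideal Cfsg.AlgInt}

/-- A union of blocks. -/
def IsClosed' (M : Ideal Cfsg.AlgInt) (A : Set (Cfsg.IrrCharacter G)) : Prop :=
  ∀ χ ∈ A, Cfsg.blockOf M (χ : G → ℂ) ⊆ A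

/-- The blocks of `C(x)` inducing blocks inside `A`. -/
def indU (M : Ideal Cfsg.AlgInt) (x : G) (A : Set (Cfsg.IrrCharacter G)) :
    Set (Cfsg.IrrCharacter (Subgroup.centralizer ({x} : Set G))) :=
  {η | ∃ B, B ⊆ A ∧ η ∈ indSet M x B}

theorem intEl_indU (hM : Cfsg.IsPModular p M) (x : G) (A : Set (Cfsg.IrrCharacter G)) :
    IntEl M (blockIdem (indU M x A)) :=
  intEl_blockIdem_of_closed hM fun _ ⟨B, hBA, hθ⟩ _ h => ⟨B, hBA, (indSet_closed hM h).2 hθ⟩

theorem norm_indU (hM : Cfsg.IsPModular p M) {A : Set (Cfsg.IrrCharacter G)}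
    (hA : IsClosed' M A) {x : G} (hx : ∃ k : ℕ, orderOf x = p ^ k)
    {y : Subgroup.centralizer ({x} : Set G)} (hy : ¬ p ∣ orderOf y) :
    ∑ᶠ ζ ∈ A, (ζ : G → ℂ) (x * (y : G)) * conj ((ζ : G → ℂ) (x * (y : G))) =
      (Nat.card (Subgroup.centralizer ({x} : Set G)) : ℂ) *
        blockKernelAt (indU M x A) y y := by
  classical
  haveI := Fintype.ofFinite (Cfsg.IrrCharacter G)
  haveI := Fintype.ofFinite (Cfsg.IrrCharacter (Subgroup.centralizer ({x} : Set G)))
  set T := Finset.univ.filter fun B : Set (Cfsg.IrrCharacter G) => Cfsg.IsPBlock M B ∧ B ⊆ A with hT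
  have hsplit : ∀ f : Cfsg.IrrCharacter G → ℂ, ∑ᶠ ζ ∈ A, f ζ = ∑ B ∈ T, ∑ᶠ ζ ∈ B, f ζ := by
    intro f
    simp only [ZStar.Principal.finsum_mem_eq_sum_filter]
    rw [← Finset.sum_biUnion ?_]
    · refine Finset.sum_congr (Finset.ext fun ζ => ?_) fun _ _ => rfl
      simp only [Finset.mem_filter, Finset.mem_univ, true_and, Finset.mem_biUnion, hT]
      exact ⟨fun h => ⟨_, ⟨isPBlock_blockOf M ζ, hA ζ h⟩, mem_blockOf_self hM ζ⟩,
        fun ⟨B, ⟨_, hBA⟩, hζ⟩ => hBA hζ⟩
    · intro B hB B' hB' hne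
      refine Finset.disjoint_left.2 fun ζ h h' => hne ?_
      exact block_eq_of_mem hM (Finset.mem_filter.1 hB).2.1 (Finset.mem_filter.1 hB').2.1
        (Finset.mem_filter.1 h).2 (Finset.mem_filter.1 h').2
  rw [hsplit, Finset.sum_congr rfl fun B hB =>
    norm_indSet hM hx (Finset.mem_filter.1 hB).2.1 hy, ← Finset.mul_sum]
  congr 1
  simp only [blockKernelAt_eq_sum, ← Finset.mul_sum]
  congr 1
  rw [Finset.sum_comm]
  refine Finset.sum_congr rfl fun η _ => ?_
  by_cases hη : η ∈ indU M x A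
  · rw [if_pos hη]
    obtain ⟨B, hBA, hB⟩ := hη
    rw [Finset.sum_eq_single B, if_pos hB]
    · exact fun B' _ hne => if_neg fun h' => hne (isInduced_unique hM h' hB)
    · exact fun hn => (hn (Finset.mem_filter.2 ⟨Finset.mem_univ _, hB.2.1, hBA⟩)).elim
  · rw [if_neg hη]
    exact Finset.sum_eq_zero fun B hB => if_neg fun h' => hη ⟨B, (Finset.mem_filter.1 hB).2.2, h'⟩

open scoped Classical in
/-- The basic count. -/
theorem card_mul_eq_sum [Fintype G] (hM : Cfsg.IsPModular p M) {A : Set (Cfsg.IrrCharacter G)}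
    (hA : IsClosed' M A) :
    Nat.card G * Nat.card A = ∑ x ∈ Finset.univ.filter (fun x : G => ∃ k : ℕ, orderOf x = p ^ k),
      Nat.card (Subgroup.centralizer ({x} : Set G)) * Cfsg.blockRank p (indU M x A) := by
  haveI := Fintype.ofFinite (Cfsg.IrrCharacter G)
  rw [← Nat.cast_inj (R := ℂ), Nat.cast_mul, Nat.cast_sum]
  set f : G → ℂ := fun g => ∑ᶠ ζ ∈ A, (ζ : G → ℂ) g * conj ((ζ : G → ℂ) g) with hf
  have htot : ∑ g : G, f g = (Nat.card G : ℂ) * (Nat.card A : ℂ) := by
    simp only [f, ZStar.Principal.finsum_mem_eq_sum_filter]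
    rw [Finset.sum_comm]
    rw [Finset.sum_congr rfl (g := fun _ => (Nat.card G : ℂ)) fun ζ _ => by
      have h := classInner_irr ζ ζ
      rw [classInner_def, if_pos rfl, inv_mul_eq_one₀ natCard_ne_zero] at h
      exact h.symm]
    rw [Finset.sum_const, nsmul_eq_mul, mul_comm, Nat.card_eq_fintype_card (α := A),
      ← Fintype.card_subtype]
  rw [← htot]
  set Pel := Finset.univ.filter fun x : G => ∃ k : ℕ, orderOf x = p ^ k with hPel
  have hsec : ∑ g : G, f g =
      ∑ x ∈ Pel, ∑ s ∈ Finset.univ.filter (fun s => Commute x s ∧ ¬ p ∣ orderOf s), f (x * s) := by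
    rw [← ZStar.Sections.sum_section hM.1 Pel (fun x hx => (Finset.mem_filter.1 hx).2) f]
    refine (Finset.sum_congr (Finset.filter_eq_self.2 fun g _ => ?_) fun _ _ => rfl).symm
    obtain ⟨x, hx⟩ := exists_ppart hM.1 g
    obtain ⟨y, -, -, hxo, -⟩ := id hx
    exact ⟨x, Finset.mem_filter.2 ⟨Finset.mem_univ _, hxo⟩, hx⟩
  rw [hsec]
  refine Finset.sum_congr rfl fun x hx => ?_
  rw [Nat.cast_mul, blockRank_eq_trace hM (intEl_indU hM x A), Finset.mul_sum,
    ← Finset.sum_filter_add_sum_filter_not Finset.univ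
      (fun c : Subgroup.centralizer ({x} : Set G) => ¬ p ∣ orderOf c),
    Finset.sum_eq_zero (s := Finset.filter (fun c => ¬¬ p ∣ orderOf c) _) (fun c hc => by
      rw [if_neg (Finset.mem_filter.1 hc).2, mul_zero]), add_zero]
  refine (Finset.sum_bij (fun c _ => ((c : Subgroup.centralizer ({x} : Set G)) : G))
    (fun c hc => ?_) (fun _ _ _ _ e => Subtype.ext e) (fun s hs => ?_) fun c hc => ?_).symm
  · refine Finset.mem_filter.2 ⟨Finset.mem_univ _,
      (Subgroup.mem_centralizer_iff.1 c.2 x rfl), ?_⟩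
    rw [Subgroup.orderOf_coe]
    exact (Finset.mem_filter.1 hc).2
  · obtain ⟨-, hcom, hreg⟩ := Finset.mem_filter.1 hs
    exact ⟨⟨s, Subgroup.mem_centralizer_singleton_iff.2 hcom.symm.eq⟩,
      Finset.mem_filter.2 ⟨Finset.mem_univ _, by rwa [Subgroup.orderOf_mk]⟩, rfl⟩
  · rw [if_pos (Finset.mem_filter.1 hc).2,
      ← norm_indU hM hA (Finset.mem_filter.1 hx).2 (Finset.mem_filter.1 hc).2]

/-- The blocks of `H` inducing `b`. -/
def ovr (M : Ideal Cfsg.AlgInt) (H : Subgroup G) (b : Set (Cfsg.IrrCharacter G)) :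
    Set (Cfsg.IrrCharacter H) :=
  {ψ | ∃ β : Set (Cfsg.IrrCharacter H), ψ ∈ β ∧ Cfsg.IsInducedBlock M H β b}

theorem mem_ovr (hM : Cfsg.IsPModular p M) {H : Subgroup G} {b : Set (Cfsg.IrrCharacter G)}
    {ψ : Cfsg.IrrCharacter H} :
    ψ ∈ ovr M H b ↔ Cfsg.IsInducedBlock M H (Cfsg.blockOf M (ψ : H → ℂ)) b :=
  ⟨fun ⟨β, hψ, hβ⟩ => block_eq_blockOf hM hβ.1 hψ ▸ hβ,
    fun h => ⟨_, mem_blockOf_self hM ψ, h⟩⟩

theorem isClosed_ovr (hM : Cfsg.IsPModular p M) (H : Subgroup G)
    (b : Set (Cfsg.IrrCharacter G)) : IsClosed' M (ovr M H b) := fun ψ hψ φ hφ =>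
  ⟨_, hφ, (mem_ovr hM).1 hψ⟩

/-- The local centralizer, inside `G`. -/
def centEquiv {H : Subgroup G} (x : H) :
    Subgroup.centralizer ({x} : Set H) ≃* (H ⊓ Subgroup.centralizer ({(x : G)} : Set G) :
      Subgroup G) where
  toFun c := ⟨((c : H) : G), (c : H).2, Subgroup.mem_centralizer_singleton_iff.2
    (congrArg Subtype.val (Subgroup.mem_centralizer_singleton_iff.1 c.2))⟩
  invFun y := ⟨⟨(y : G), y.2.1⟩, Subgroup.mem_centralizer_singleton_iff.2
    (Subtype.ext (Subgroup.mem_centralizer_singleton_iff.1 y.2.2))⟩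
  left_inv _ := rfl
  right_inv _ := rfl
  map_mul' _ _ := rfl

theorem indU_ovr (hM : Cfsg.IsPModular p M) {H : Subgroup G} {b : Set (Cfsg.IrrCharacter G)}
    (hb : Cfsg.IsPBlock M b) (x : H) (hx : ∃ k : ℕ, orderOf x = p ^ k) :
    pullSet (centEquiv x) (indU M x (ovr M H b)) =
      ovr M (H ⊓ Subgroup.centralizer ({(x : G)} : Set G)) b := by
  haveI := fact_prime_of_pm hM
  set K := H ⊓ Subgroup.centralizer ({(x : G)} : Set G)
  set C := Subgroup.centralizer ({x} : Set H) with hC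
  obtain ⟨χ, hχ⟩ := block_nonempty hM hb
  ext η'
  set η := irrIso (centEquiv x) η' with hη
  have hP : IsPGroup p (Subgroup.zpowers x) := zpowers_isPGroup hx
  have hPC : Subgroup.zpowers x ≤ C :=
    Subgroup.zpowers_le.2 (Subgroup.mem_centralizer_singleton_iff.2 rfl)
  obtain ⟨B, hB⟩ := inducedBlockDefined_of_brauer hM hP hPC (centralizer_eq_zpowers x).ge
    ((centralizer_eq_zpowers x).le.trans (Subgroup.centralizer_le_normalizer _))
    (isPBlock_blockOf M η)
  obtain ⟨ψ, hψ⟩ := block_nonempty hM hB.2.1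
  have key : ∀ g : G, Cong M (omega (η' : K → ℂ) (restrEl K (classSum g)))
      (omega (ψ : H → ℂ) (restrEl H (classSum g))) := by
    intro g
    rw [omega_iso (centEquiv x) (z := restrEl C (restrEl H (classSum g))) fun c => by
      rw [coeff_restrEl, coeff_restrEl, coeff_restrEl]; rfl]
    exact omega_cong_of_isInduced hM hB (mem_blockOf_self hM η) hψ
      (central_restrEl H (central_classSum g)) (intEl_restrEl H (intEl_classSum hM g))
  constructor
  · rintro ⟨B', hB'A, hB'⟩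
    obtain rfl := isInduced_unique hM hB' hB
    have h1 := (mem_ovr hM).1 (hB'A hψ)
    rw [← block_eq_blockOf hM hB.2.1 hψ] at h1
    refine (mem_ovr hM).2 (isInduced_of_omega hM (isPBlock_blockOf M η') hb
      (mem_blockOf_self hM η') hχ fun g => cong_trans hM (key g) ?_)
    rw [← omega_classSum (irr_isClassFunction χ)]
    exact omega_cong_of_isInduced hM h1 hψ hχ (central_classSum g) (intEl_classSum hM g)
  · intro h
    refine ⟨B, fun φ hφ => ⟨B, hφ, isInduced_of_omega hM hB.2.1 hb hψ hχ fun g => ?_⟩, hB⟩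
    refine cong_trans hM (cong_symm hM (key g)) ?_
    rw [← omega_classSum (irr_isClassFunction χ)]
    exact omega_cong_of_isInduced hM ((mem_ovr hM).1 h) (mem_blockOf_self hM η') hχ
      (central_classSum g) (intEl_classSum hM g)

theorem blockRank_indU_ovr (hM : Cfsg.IsPModular p M) {H : Subgroup G}
    {b : Set (Cfsg.IrrCharacter G)} (hb : Cfsg.IsPBlock M b) (x : H)
    (hx : ∃ k : ℕ, orderOf x = p ^ k) :
    Cfsg.blockRank p (indU M x (ovr M H b)) =
      Cfsg.blockRank p (ovr M (H ⊓ Subgroup.centralizer ({(x : G)} : Set G)) b) := by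
  rw [← indU_ovr hM hb x hx, NilpotentAbelian.blockRank_pullSet]

theorem indU_block (hM : Cfsg.IsPModular p M) {b : Set (Cfsg.IrrCharacter G)}
    (hb : Cfsg.IsPBlock M b) (x : G) :
    indU M x b = ovr M (Subgroup.centralizer ({x} : Set G)) b := by
  ext η
  rw [mem_ovr hM]
  constructor
  · rintro ⟨B, hBb, hB⟩
    obtain ⟨χ, hχ⟩ := block_nonempty hM hB.2.1
    rwa [block_eq_of_mem hM hB.2.1 hb hχ (hBb hχ)] at hB
  · exact fun h => ⟨b, subset_rfl, h⟩

open scoped Classical in
/-- The term of the neutral element. -/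
theorem term_one [Fintype G] (hM : Cfsg.IsPModular p M) {A : Set (Cfsg.IrrCharacter G)}
    (hA : IsClosed' M A) :
    Nat.card (Subgroup.centralizer ({(1 : G)} : Set G)) * Cfsg.blockRank p (indU M 1 A) =
      Nat.card G * Cfsg.blockRank p A := by
  haveI := Fintype.ofFinite (Cfsg.IrrCharacter G)
  rw [← Nat.cast_inj (R := ℂ), Nat.cast_mul, Nat.cast_mul,
    blockRank_eq_trace hM (intEl_indU hM 1 A),
    blockRank_eq_trace hM (intEl_blockIdem_of_closed hM fun θ hθ θ' h => hA θ hθ h),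
    Finset.mul_sum, Finset.mul_sum]
  refine Fintype.sum_bijective
    (fun c : Subgroup.centralizer ({(1 : G)} : Set G) => (c : G))
    ⟨Subtype.coe_injective,
      fun g => ⟨⟨g, Subgroup.mem_centralizer_singleton_iff.2 (by simp)⟩, rfl⟩⟩ _ _ fun c => ?_
  rw [Subgroup.orderOf_coe]
  by_cases hc : p ∣ orderOf c
  · simp [hc]
  · rw [if_pos hc, if_pos hc, ← norm_indU hM hA ⟨0, by simp⟩ hc, blockKernelAt_eq_sum,
      ← mul_assoc, mul_inv_cancel₀ natCard_ne_zero, one_mul,
      ZStar.Principal.finsum_mem_eq_sum_filter, Finset.sum_filter]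
    simp only [one_mul]

open scoped Classical in
/-- Characters less Brauer characters, over the nontrivial `p`-elements. -/
theorem card_sub_rank_eq [Fintype G] (hM : Cfsg.IsPModular p M) {A : Set (Cfsg.IrrCharacter G)}
    (hA : IsClosed' M A) :
    (Nat.card G : ℤ) * ((Nat.card A : ℤ) - Cfsg.blockRank p A) =
      ∑ x ∈ Finset.univ.filter (fun x : G => (∃ k : ℕ, orderOf x = p ^ k) ∧ x ≠ 1),
        (Nat.card (Subgroup.centralizer ({x} : Set G)) * Cfsg.blockRank p (indU M x A) : ℤ) := by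
  have h := card_mul_eq_sum hM hA
  have h1 : (1 : G) ∈ Finset.univ.filter (fun x : G => ∃ k : ℕ, orderOf x = p ^ k) :=
    Finset.mem_filter.2 ⟨Finset.mem_univ _, 0, by simp⟩
  rw [← Finset.add_sum_erase _ _ h1, term_one hM hA] at h
  have h' := congrArg (Nat.cast (R := ℤ)) h
  push_cast at h'
  rw [mul_sub, h', add_sub_cancel_left]
  exact Finset.sum_congr (Finset.ext fun x => by simp [and_comm]) fun x _ => rfl

end Cfsg.Agent.Blocks.SectionSum
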