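import Mathlib
import Cfsg.Agent.Lib.Blocks.SectionSum
import Cfsg.Agent.Lib.Blocks.ChainPairing

/-!
# The alternating sum of `k - l` over normal chains of `p`-subgroups
-/

set_option linter.style.haveILetI false
set_option linter.unusedSectionVars false

namespace Cfsg.Agent.Blocks.AlternatingChains

open Cfsg.Agent.Blocks.SectionSum Cfsg.Agent.Blocks.ChainPairing

universe u

variable {G : Type u} [Group G] [Finite G] {p : ℕ} {M : Ideal Cfsg.AlgInt}

/-- The weight of a subgroup. -/
noncomputable def weightOf (p : ℕ) (M : Ideal Cfsg.AlgInt) (b : Set (Cfsg.IrrCharacter G))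
    (K : Subgroup G) : ℤ :=
  (Nat.card K : ℤ) * Cfsg.blockRank p (ovr M K b)

open scoped Classical in
theorem card_sub_rank_subgroup [Fintype G] (hM : Cfsg.IsPModular p M) (H : Subgroup G)
    {b : Set (Cfsg.IrrCharacter G)} (hb : Cfsg.IsPBlock M b) :
    (Nat.card H : ℤ) * ((Nat.card (ovr M H b) : ℤ) - Cfsg.blockRank p (ovr M H b)) =
      ∑ x ∈ Finset.univ.filter (fun x : G => ((∃ k : ℕ, orderOf x = p ^ k) ∧ x ≠ 1) ∧ x ∈ H),
        weightOf p M b (H ⊓ Subgroup.centralizer ({x} : Set G)) := by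
  rw [card_sub_rank_eq hM (isClosed_ovr hM H b)]
  refine Finset.sum_bij (fun x _ => (x : G)) (fun x hx => ?_) (fun _ _ _ _ e => Subtype.ext e)
    (fun g hg => ?_) fun x hx => ?_
  · simp only [Finset.mem_filter, Finset.mem_univ, true_and] at hx ⊢
    obtain ⟨⟨k, hk⟩, hne⟩ := hx
    exact ⟨⟨⟨k, by rwa [Subgroup.orderOf_coe]⟩, fun h => hne (Subtype.ext h)⟩, x.2⟩
  · simp only [Finset.mem_filter, Finset.mem_univ, true_and] at hg
    obtain ⟨⟨⟨k, hk⟩, hne⟩, hgH⟩ := hg
    refine ⟨⟨g, hgH⟩, ?_, rfl⟩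
    simp only [Finset.mem_filter, Finset.mem_univ, true_and]
    exact ⟨⟨k, by rwa [Subgroup.orderOf_mk]⟩, fun h => hne (congrArg Subtype.val h)⟩
  · simp only [Finset.mem_filter, Finset.mem_univ, true_and] at hx
    rw [weightOf, blockRank_indU_ovr hM hb x hx.1, Nat.card_congr (centEquiv x).toEquiv]

open scoped Classical in
/-- The identity of Knörr and Robinson. -/
theorem sum_eq [Fintype G] [Fintype (Subgroup G)] (hM : Cfsg.IsPModular p M)
    {b : Set (Cfsg.IrrCharacter G)} (hb : Cfsg.IsPBlock M b) :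
    (Nat.card G : ℤ) * ((Nat.card b : ℤ) - Cfsg.blockRank p b) =
      ∑ s ∈ Finset.univ.filter (fun s : Finset (Subgroup G) => IsChain' p s),
        (-1 : ℤ) ^ (s.card - 1) * (Nat.card (stabChain s) : ℤ) *
          ((Nat.card (ovr M (stabChain s) b) : ℤ) -
            Cfsg.blockRank p (ovr M (stabChain s) b)) := by
  haveI := fact_prime_of_pm hM
  rw [card_sub_rank_eq hM (fun χ hχ => (block_eq_blockOf hM hb hχ).ge)]
  symm
  rw [Finset.sum_congr rfl fun s _ => by
    rw [mul_assoc, card_sub_rank_subgroup hM (stabChain s) hb, Finset.mul_sum,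
      ← Finset.filter_filter, Finset.sum_filter]]
  rw [Finset.sum_comm]
  refine Finset.sum_congr rfl fun u hu => ?_
  rw [← Finset.sum_filter, Finset.filter_filter,
    ChainPairing.sum_eq (Finset.mem_filter.1 hu).2.1 (Finset.mem_filter.1 hu).2.2
      (weightOf p M b), weightOf, indU_block hM hb]

end Cfsg.Agent.Blocks.AlternatingChains
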