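import Mathlib
import Cfsg.Agent.Lib.Blocks.CentralDefect
import Cfsg.Agent.Lib.Characters.CentralIndex

/-!
# Blocks whose defect group is central
-/

set_option linter.style.haveILetI false
set_option linter.unusedSectionVars false

namespace Cfsg.Agent.Blocks

open Cfsg.Agent.Characters
open scoped ComplexConjugate

universe u

variable {G : Type u} [Group G] [Finite G] {p : ℕ} {M : Ideal Cfsg.AlgInt}

open scoped Classical in
/-- A sum over the elements whose `p`-part lies in `D`, sorted by their two parts, when `D`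
commutes with the `p`-regular elements. -/
theorem sum_eq_sum_parts [Fintype G] (hp : p.Prime) {D : Subgroup G} [Fintype D]
    (hD : IsPGroup p D) (hcomm : ∀ x ∈ D, ∀ y : G, ¬ p ∣ orderOf y → Commute x y) {f : G → ℂ}
    (hf : ∀ g x : G, Cfsg.IsPPart p g x → x ∉ D → f g = 0) :
    ∑ g : G, f g = ∑ x : D, ∑ y : G, (if ¬ p ∣ orderOf y then f (y * x) else 0) := by
  haveI := Fact.mk hp
  have hpp : ∀ (g : G) (x : D), ¬ p ∣ orderOf (g * (x : G)⁻¹) → Cfsg.IsPPart p g x := by
    intro g x h
    refine ⟨g * (x : G)⁻¹, ?_, hcomm _ x.2 _ h, ?_, h⟩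
    · rw [(hcomm _ x.2 _ h).eq, inv_mul_cancel_right]
    · obtain ⟨k, hk⟩ := IsPGroup.iff_orderOf.1 hD x
      exact ⟨k, by rw [Subgroup.orderOf_coe, hk]⟩
  calc ∑ g : G, f g
      = ∑ g : G, ∑ x : D, (if ¬ p ∣ orderOf (g * (x : G)⁻¹) then f g else 0) := by
        refine Finset.sum_congr rfl fun g _ => ?_
        obtain ⟨x, hx⟩ := exists_ppart hp g
        by_cases hxD : x ∈ D
        · obtain ⟨y, hxy, hc, -, hy⟩ := id hx
          rw [Finset.sum_eq_single (⟨x, hxD⟩ : D)
            (fun z _ hne => if_neg fun h =>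
              hne (Subtype.ext (ppart_unique hp (hpp g z h) hx))) (by simp), if_pos]
          rwa [← hxy, hc.eq, mul_inv_cancel_right]
        · simp [hf g x hx hxD]
    _ = ∑ x : D, ∑ g : G, (if ¬ p ∣ orderOf (g * (x : G)⁻¹) then f g else 0) := Finset.sum_comm
    _ = _ := Finset.sum_congr rfl fun x _ => by
        rw [← Equiv.sum_comp (Equiv.mulRight (x : G))]
        exact Finset.sum_congr rfl fun g _ => by simp

variable {D : Subgroup G}

/-- The scalar by which a central element acts. -/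
noncomputable def centralRatio (χ : G → ℂ) (t : G) : ℂ := χ t / χ 1

theorem centralRatio_spec (χ : Cfsg.IrrCharacter G) {t : G} (ht : t ∈ Subgroup.center G) :
    centralRatio (χ : G → ℂ) t * conj (centralRatio (χ : G → ℂ) t) = 1 ∧
      ∀ g, (χ : G → ℂ) (g * t) = centralRatio (χ : G → ℂ) t * (χ : G → ℂ) g := by
  obtain ⟨c, hc, hm⟩ := exists_central_scalar χ ht
  have : centralRatio (χ : G → ℂ) t = c := by
    rw [centralRatio, ← one_mul t, hm, mul_div_assoc, div_self (irr_one_ne_zero χ.2), mul_one]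
  rw [this]
  exact ⟨hc, hm⟩

section Central

variable (hM : Cfsg.IsPModular p M) (hD : IsPGroup p D) (hDZ : D ≤ Subgroup.center G)
  {B : Set (Cfsg.IrrCharacter G)} (hB : Cfsg.IsPBlock M B) (hBD : Cfsg.IsDefectGroup p M B D)
include hM hD hDZ hB hBD

theorem degree_eq_index_of_central {χ : Cfsg.IrrCharacter G} (hχ : χ ∈ B) :
    (Cfsg.charDegree (χ : G → ℂ)).factorization p = D.index.factorization p := by
  refine le_antisymm ?_ ?_
  · obtain ⟨n, hn, hdvd⟩ := irr_degree_dvd_center_index χ.2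
    have hdvd' := hdvd.trans (Subgroup.index_dvd_of_le hDZ)
    rw [show Cfsg.charDegree (χ : G → ℂ) = n from
      Nat.cast_injective ((charDegree_cast χ).trans hn)]
    exact (Nat.factorization_le_iff_dvd (ne_zero_of_dvd_ne_zero D.index_ne_zero_of_finite hdvd')
      D.index_ne_zero_of_finite).2 hdvd' p
  · have h1 := degree_factorization_eq hM hB hχ
    have h2 := factorization_index_add D p
    rw [card_defectGroup hM hB hBD, hM.1.factorization_pow, Finsupp.single_eq_same] at h2
    omega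

/-- In a block with central defect group a character is determined by its scalars on the defect
group. -/
theorem eq_of_centralRatio_eq {χ χ' : Cfsg.IrrCharacter G} (hχ : χ ∈ B) (hχ' : χ' ∈ B)
    (h : ∀ t ∈ D, centralRatio (χ : G → ℂ) t = centralRatio (χ' : G → ℂ) t) : χ = χ' := by
  classical
  by_contra hne
  haveI := Fintype.ofFinite G
  haveI := Fintype.ofFinite D
  have hdeg := degree_eq_index_of_central hM hD hDZ hB hBD hχ
  have hsum : ∀ ψ : Cfsg.IrrCharacter G, ψ ∈ B →
      (∀ t ∈ D, centralRatio (χ : G → ℂ) t = centralRatio (ψ : G → ℂ) t) →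
      ∑ g : G, conj ((χ : G → ℂ) g) * (ψ : G → ℂ) g = (Nat.card D : ℂ) *
        ∑ y : G, (if ¬ p ∣ orderOf y then conj ((χ : G → ℂ) y) * (ψ : G → ℂ) y else 0) := by
    intro ψ _ hψ
    rw [sum_eq_sum_parts hM.1 hD
      (fun x hx y _ => (Subgroup.mem_center_iff.1 (hDZ hx) y).symm)
      (f := fun g => conj ((χ : G → ℂ) g) * (ψ : G → ℂ) g)
      (fun g x hx hxD => by
        rw [eq_zero_of_full_degree hM hD hDZ χ hdeg hx hxD, map_zero, zero_mul]),
      Nat.card_eq_fintype_card, ← Finset.card_univ, ← nsmul_eq_mul, ← Finset.sum_const]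
    refine Finset.sum_congr rfl fun x _ => Finset.sum_congr rfl fun y _ => ?_
    congr 1
    rw [(centralRatio_spec χ (hDZ x.2)).2, (centralRatio_spec ψ (hDZ x.2)).2, ← hψ x x.2, map_mul]
    linear_combination (conj ((χ : G → ℂ) y) * (ψ : G → ℂ) y) *
      (centralRatio_spec χ (hDZ x.2)).1
  set k : ℂ := (Cfsg.charDegree (χ : G → ℂ) : ℂ) / (D.index : ℂ) with hk
  set z : MonoidAlgebra ℂ G :=
    ofFun fun g => if ¬ p ∣ orderOf g then k * conj ((χ : G → ℂ) g) else 0 with hz
  have hzc : IsCentralEl z := central_ofFun fun g a => by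
    simp only [irr_isClassFunction χ g a,
      show orderOf (a * g * a⁻¹) = orderOf g from (MulAut.conj a).orderOf_eq g]
  have hzi : IntEl M z := fun g => by
    rw [hz, coeff_ofFun]
    split
    · exact ring_mul hM (ring_natCast_div hM D.index_ne_zero_of_finite hdeg.ge)
        (irr_conj_ring hM χ g)
    · exact ring_zero hM
  have heval : ∀ ψ : Cfsg.IrrCharacter G, ψ ∈ B →
      (∀ t ∈ D, centralRatio (χ : G → ℂ) t = centralRatio (ψ : G → ℂ) t) →
      omega (ψ : G → ℂ) z * (Nat.card D : ℂ) =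
        k / (ψ : G → ℂ) 1 * if χ = ψ then (Nat.card G : ℂ) else 0 := by
    intro ψ hψB hψ
    rw [← sum_conj_mul, hsum ψ hψB hψ, omega, evalChar_eq_sum, Finset.sum_congr rfl
      (g := fun y => k * if ¬ p ∣ orderOf y then conj ((χ : G → ℂ) y) * (ψ : G → ℂ) y else 0)
      (fun g _ => by simp only [hz, coeff_ofFun]; split <;> ring), ← Finset.mul_sum]
    ring
  have h1 := heval χ hχ fun _ _ => rfl
  have h2 := heval χ' hχ' h
  rw [if_pos rfl] at h1
  rw [if_neg hne, mul_zero] at h2
  have hD0 : (Nat.card D : ℂ) ≠ 0 := natCard_ne_zero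
  have hχ1 : omega (χ : G → ℂ) z = 1 := by
    apply mul_right_cancel₀ hD0
    rw [h1, hk, charDegree_cast χ, ← D.index_mul_card, Nat.cast_mul, one_mul]
    field_simp [irr_one_ne_zero χ.2,
      (Nat.cast_ne_zero.2 D.index_ne_zero_of_finite : (D.index : ℂ) ≠ 0)]
  have hχ'0 : omega (χ' : G → ℂ) z = 0 := (mul_eq_zero.1 h2).resolve_right hD0
  have hsame : Cfsg.SameBlock M (χ' : G → ℂ) (χ : G → ℂ) := by
    have := block_eq_blockOf hM hB hχ'
    rw [this] at hχ
    exact hχ
  have h3 := (sameBlock_iff_omega hM χ' χ).1 hsame z hzc hzi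
  rw [hχ1, hχ'0] at h3
  exact not_cong_zero_one hM h3

/-- In a block with central defect group all characters have the same degree and agree on the
`p`-regular elements. -/
theorem regular_values_eq {χ χ' : Cfsg.IrrCharacter G} (hχ : χ ∈ B) (hχ' : χ' ∈ B) :
    (χ : G → ℂ) 1 = (χ' : G → ℂ) 1 ∧
      ∀ y, ¬ p ∣ orderOf y → (χ : G → ℂ) y = (χ' : G → ℂ) y := by
  classical
  haveI := Fintype.ofFinite G
  haveI := Fintype.ofFinite D
  haveI := Fintype.ofFinite (Cfsg.IrrCharacter G)
  haveI := fact_prime_of_pm hM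
  have key : ∀ χ : Cfsg.IrrCharacter G, χ ∈ B → ∀ y, ¬ p ∣ orderOf y →
      (Nat.card G : ℂ) * Cfsg.blockCoeff B y =
        (Nat.card D : ℂ) * ((χ : G → ℂ) 1 * conj ((χ : G → ℂ) y)) := by
    intro χ hχ y hy
    set c := fun (ψ : Cfsg.IrrCharacter G) (t : D) => centralRatio (ψ : G → ℂ) t
    have hzero : ∀ t : D, t ≠ 1 → Cfsg.blockCoeff B (y * t) = 0 := fun t ht => by
      refine blockCoeff_eq_zero_of_singular hM (intEl_blockIdem hM hB) ?_
      obtain ⟨k, hk⟩ := IsPGroup.iff_orderOf.1 hD t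
      have hk0 : k ≠ 0 := fun e => ht (orderOf_eq_one_iff.1 (by rw [hk, e, pow_zero]))
      have hc : Commute y (t : G) := Subgroup.mem_center_iff.1 (hDZ t.2) y
      rw [hc.orderOf_mul_eq_mul_orderOf_of_coprime, Subgroup.orderOf_coe, hk]
      · exact Dvd.dvd.mul_left (dvd_pow_self p hk0) _
      · rw [Subgroup.orderOf_coe, hk]
        exact (hM.1.coprime_iff_not_dvd.2 hy).symm.pow_right k
    have horth : ∀ ψ ∈ B, ∑ t : D, c χ t * conj (c ψ t) =
        if χ = ψ then (Nat.card D : ℂ) else 0 := by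
      intro ψ hψ
      split_ifs with he
      · subst he
        simp [c, (centralRatio_spec χ (hDZ (Subtype.mem _))).1, Nat.card_eq_fintype_card]
      · obtain ⟨t0, ht0, hne⟩ : ∃ t ∈ D,
            centralRatio (χ : G → ℂ) t ≠ centralRatio (ψ : G → ℂ) t := by
          by_contra hcon
          push Not at hcon
          exact he (eq_of_centralRatio_eq hM hD hDZ hB hBD hχ hψ hcon)
        have hmul : ∀ (θ : Cfsg.IrrCharacter G) (t : D),
            c θ (t * ⟨t0, ht0⟩) = c θ t * c θ ⟨t0, ht0⟩ := fun θ t => by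
          simp only [c, Subgroup.coe_mul, centralRatio]
          rw [(centralRatio_spec θ (hDZ ht0)).2, centralRatio]
          ring
        have hS : (∑ t : D, c χ t * conj (c ψ t)) *
            (c χ ⟨t0, ht0⟩ * conj (c ψ ⟨t0, ht0⟩)) = ∑ t : D, c χ t * conj (c ψ t) := by
          conv_rhs => rw [← Equiv.sum_comp (Equiv.mulRight (⟨t0, ht0⟩ : D))]
          rw [Finset.sum_mul]
          refine Finset.sum_congr rfl fun t _ => ?_
          rw [Equiv.coe_mulRight, hmul, hmul, map_mul]
          ring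
        refine (mul_right_eq_self₀.1 hS).resolve_left fun h => hne ?_
        linear_combination centralRatio (ψ : G → ℂ) t0 * h -
          centralRatio (χ : G → ℂ) t0 * (centralRatio_spec ψ (hDZ ht0)).1
    have hG : (Nat.card G : ℂ) ≠ 0 := natCard_ne_zero
    calc (Nat.card G : ℂ) * Cfsg.blockCoeff B y
        = ∑ t : D, c χ t * ((Nat.card G : ℂ) * Cfsg.blockCoeff B (y * t)) := by
          rw [Finset.sum_eq_single (1 : D) (fun t _ ht => by rw [hzero t ht]; simp) (by simp)]
          simp [c, centralRatio, irr_one_ne_zero χ.2]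
      _ = ∑ ψ : Cfsg.IrrCharacter G, if ψ ∈ B then (∑ t : D, c χ t * conj (c ψ t)) *
            ((ψ : G → ℂ) 1 * conj ((ψ : G → ℂ) y)) else 0 := by
          simp only [blockCoeff_eq_sum, mul_inv_cancel_left₀ hG, Finset.mul_sum]
          rw [Finset.sum_comm]
          refine Finset.sum_congr rfl fun ψ _ => ?_
          split
          · rw [Finset.sum_mul]
            refine Finset.sum_congr rfl fun t _ => ?_
            rw [(centralRatio_spec ψ (hDZ t.2)).2, map_mul]
            ring
          · simp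
      _ = _ := by
          rw [Finset.sum_eq_single χ, if_pos hχ, horth χ hχ, if_pos rfl]
          · intro ψ _ hne
            split
            · rw [horth ψ ‹_›, if_neg (Ne.symm hne), zero_mul]
            · rfl
          · simp
  have hD0 : (Nat.card D : ℂ) ≠ 0 := natCard_ne_zero
  have hone := (key χ hχ 1 (by simp [hM.1.ne_one])).symm.trans
    (key χ' hχ' 1 (by simp [hM.1.ne_one]))
  obtain ⟨n, hn0, hn⟩ := irr_one_pos χ.2
  obtain ⟨n', hn0', hn'⟩ := irr_one_pos χ'.2
  have heq : (χ : G → ℂ) 1 = (χ' : G → ℂ) 1 := by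
    have h := mul_left_cancel₀ hD0 hone
    rw [hn, hn', Complex.conj_natCast, Complex.conj_natCast, ← Nat.cast_mul, ← Nat.cast_mul,
      Nat.cast_inj] at h
    rw [hn, hn', Nat.mul_self_inj.1 h]
  refine ⟨heq, fun y hy => ?_⟩
  have h := mul_left_cancel₀ hD0 ((key χ hχ y hy).symm.trans (key χ' hχ' y hy))
  rw [heq] at h
  exact (starRingEnd ℂ).injective (mul_left_cancel₀ (irr_one_ne_zero χ'.2) h)

end Central

end Cfsg.Agent.Blocks
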