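import Mathlib
import Cfsg.Agent.Lib.Blocks.CentralBlock
import Cfsg.Agent.Lib.Blocks.SectionNorm
import Cfsg.Agent.Lib.Blocks.PQuotient
import Cfsg.Agent.BlockCharsA.NormalSupport
import Cfsg.Agent.Lib.CharTheory.Clifford

/-!
# Blocks with defect group `P` when `G = P C(P)`
-/

set_option linter.style.haveILetI false
set_option linter.unusedSectionVars false

namespace Cfsg.Agent.Blocks

open Cfsg.Agent.Characters
open scoped ComplexConjugate

universe u

variable {G : Type u} [Group G] [Finite G] {p : ℕ} {M : Ideal Cfsg.AlgInt} {P : Subgroup G}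
  (hG : P ⊔ Subgroup.centralizer (P : Set G) = ⊤)
include hG

omit [Finite G] in
theorem normal_of_full : P.Normal := by
  rw [← Subgroup.normalizer_eq_top_iff]
  refine top_le_iff.1 (hG ▸ sup_le Subgroup.le_normalizer fun c hc => ?_)
  rw [Subgroup.mem_normalizer_iff]
  intro x
  refine ⟨fun hx => ?_, fun hx => ?_⟩
  · rwa [← Subgroup.mem_centralizer_iff.1 hc x hx, mul_inv_cancel_right]
  · have h := Subgroup.mem_centralizer_iff.1 hc _ hx
    rw [inv_mul_cancel_right] at h
    rwa [← mul_left_cancel h] at hx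

omit [Finite G] in
theorem exists_mul_of_full (g : G) :
    ∃ x ∈ P, ∃ c ∈ Subgroup.centralizer (P : Set G), x * c = g := by
  haveI := normal_of_full hG
  have h : g ∈ ((P ⊔ Subgroup.centralizer (P : Set G) : Subgroup G) : Set G) := by
    rw [hG]; trivial
  rw [Subgroup.normal_mul] at h
  exact Set.mem_mul.1 h

theorem index_centralizer_pow_of_full (hp : p.Prime) (hP : IsPGroup p P) :
    ∃ k : ℕ, (Subgroup.centralizer (P : Set G)).index = p ^ k := by
  haveI := Fact.mk hp
  haveI := normal_of_full hG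
  exact (hP.of_surjective ((QuotientGroup.mk' (Subgroup.centralizer (P : Set G))).comp P.subtype)
    fun q => by
      obtain ⟨g, rfl⟩ := QuotientGroup.mk_surjective q
      obtain ⟨x, hx, c, hc, rfl⟩ := exists_mul_of_full hG g
      exact ⟨⟨x, hx⟩, (QuotientGroup.mk_mul_of_mem x hc).symm⟩).exists_card_eq

theorem mem_centralizer_of_regular (hp : p.Prime) (hP : IsPGroup p P) {y : G}
    (hy : ¬ p ∣ orderOf y) : y ∈ Subgroup.centralizer (P : Set G) := by
  haveI := normal_of_full hG
  obtain ⟨k, hk⟩ := index_centralizer_pow_of_full hG hp hP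
  obtain ⟨m, hm⟩ := exists_pow_eq_self_of_coprime
    (show (p ^ k).Coprime (orderOf y) from Nat.Coprime.pow_left k (hp.coprime_iff_not_dvd.2 hy))
  rw [← hm, ← hk]
  exact Subgroup.pow_mem _ (Subgroup.pow_index_mem _ y) m

/-- The characters of a block with defect group `P` when `G = P C(P)`. -/
theorem exists_canonical (hM : Cfsg.IsPModular p M) (hP : IsPGroup p P)
    {B : Set (Cfsg.IrrCharacter G)} (hB : Cfsg.IsPBlock M B)
    (hBD : Cfsg.IsDefectGroup p M B P) :
    ∃ θ ∈ B, (∀ g, ∀ t ∈ P, (θ : G → ℂ) (g * t) = (θ : G → ℂ) g) ∧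
      (Cfsg.charDegree (θ : G → ℂ)).factorization p = P.index.factorization p ∧
      ∀ χ ∈ B, (∀ g x, Cfsg.IsPPart p g x → x ∉ P → (χ : G → ℂ) g = 0) ∧
        ∀ x ∈ P, ∀ y, ¬ p ∣ orderOf y →
          (χ : G → ℂ) (x * y) * (θ : G → ℂ) 1 = (χ : G → ℂ) x * (θ : G → ℂ) y := by
  classical
  haveI := fact_prime_of_pm hM
  haveI hPn := normal_of_full hG
  haveI := Fintype.ofFinite G
  set C := Subgroup.centralizer (P : Set G)
  haveI := Fintype.ofFinite C
  obtain ⟨θq, θ, hθB, hθ⟩ :=
    exists_inflation_mem hM hP (index_centralizer_pow_of_full hG hM.1 hP) hB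
  have hinv : ∀ g, ∀ t ∈ P, (θ : G → ℂ) (g * t) = (θ : G → ℂ) g := fun g t ht => by
    rw [hθ, Function.comp_apply, Function.comp_apply, QuotientGroup.mk_mul_of_mem g ht]
  have hdeg : (Cfsg.charDegree (θ : G → ℂ)).factorization p = P.index.factorization p := by
    refine le_antisymm ?_ ?_
    · have he : Cfsg.charDegree (θ : G → ℂ) = Cfsg.charDegree (θq : G ⧸ P → ℂ) := by
        simp only [Cfsg.charDegree, hθ, Function.comp_apply, QuotientGroup.mk_one]
      rw [he]
      exact (Nat.factorization_le_iff_dvd (charDegree_pos θq).ne' P.index_ne_zero_of_finite).2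
        (P.index_eq_card ▸ char_degree_dvd_card θq) p
    · have h1 := degree_factorization_eq hM hB hθB
      have h2 := factorization_index_add P p
      rw [card_defectGroup hM hB hBD, hM.1.factorization_pow, Finsupp.single_eq_same] at h2
      omega
  refine ⟨θ, hθB, hinv, hdeg, fun χ hχ => ⟨fun g x hx hxP => ?_, ?_⟩⟩
  · refine char_eq_zero_of_notMem_defect hM hB hχ hx fun E hE => ?_
    obtain ⟨a, ha⟩ := exists_defectGroup_conj_eq hM hB hBD hE
    intro hxE
    rw [ha, mem_map_conj_iff] at hxE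
    exact hxP (by simpa [mul_assoc] using hPn.conj_mem _ hxE a)
  -- the central case inside `C`
  set Z := P.subgroupOf C
  have hZc : Z ≤ Subgroup.center C := fun z hz => Subgroup.mem_center_iff.2 fun n =>
    Subtype.ext (Subgroup.mem_centralizer_iff.1 n.2 z hz).symm
  have hZp : IsPGroup p Z := hP.comap_of_injective _ C.subtype_injective
  have hθC : Cfsg.IsIrrCharacter C (fun n : C => (θ : G → ℂ) n) := by
    have hs : Function.Surjective ((QuotientGroup.mk' P).comp C.subtype) := fun q => by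
      obtain ⟨g, rfl⟩ := QuotientGroup.mk_surjective q
      obtain ⟨x, hx, c, hc, rfl⟩ := exists_mul_of_full hG g
      refine ⟨⟨c, hc⟩, (QuotientGroup.eq.2 ?_ : (c : G ⧸ P) = (x * c : G))⟩
      simpa [← mul_assoc] using hPn.conj_mem x hx c⁻¹
    have h := isIrrCharacter_comp_surjective _ hs θq.2
    rwa [show (fun n : C => (θ : G → ℂ) n) = (θq : G ⧸ P → ℂ) ∘ ((QuotientGroup.mk' P).comp
      C.subtype) from funext fun n => by rw [hθ]; rfl]
  let θC : Cfsg.IrrCharacter C := ⟨_, hθC⟩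
  have hdegC : (Cfsg.charDegree (θC : C → ℂ)).factorization p = Z.index.factorization p := by
    rw [show Z.index = P.index by
      rw [← Subgroup.relIndex_top_right (H := P), ← hG, sup_comm, Subgroup.relIndex_sup_right]
      rfl]
    exact hdeg
  have hbdef := isDefectGroup_of_full_degree hM hZp hZc θC hdegC
  set b := Cfsg.blockOf M (θC : C → ℂ) with hb
  have hbB : Cfsg.IsPBlock M b := isPBlock_blockOf M θC
  -- `G` acts on `C` by inner automorphisms of `C`
  have hact : ∀ a : G, ∃ c : C, ∀ n : C, a * n * a⁻¹ = c * n * (c : G)⁻¹ := fun a => by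
    obtain ⟨x, hx, c, hc, rfl⟩ := exists_mul_of_full hG a
    refine ⟨⟨c, hc⟩, fun n => ?_⟩
    have hm : (c * n * c⁻¹ : G) ∈ C := mul_mem (mul_mem hc n.2) (inv_mem hc)
    have h2 := Subgroup.mem_centralizer_iff.1 hm x hx
    calc x * c * (n : G) * (x * c)⁻¹ = x * (c * n * c⁻¹) * x⁻¹ := by group
      _ = _ := by rw [h2]; group
  have hcentral : ∀ e : MonoidAlgebra ℂ C, IsCentralEl e → IsCentralEl (inclEl C e) := by
    intro e he g a
    by_cases hg : g ∈ C
    · obtain ⟨c, hc⟩ := hact a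
      have hm : a * g * a⁻¹ ∈ C := (inferInstance : C.Normal).conj_mem g hg a
      rw [coeff_inclEl_mem C e ⟨_, hm⟩, coeff_inclEl_mem C e ⟨g, hg⟩,
        show (⟨a * g * a⁻¹, hm⟩ : C) = c * ⟨g, hg⟩ * c⁻¹ from Subtype.ext (hc ⟨g, hg⟩)]
      exact he _ _
    · rw [coeff_inclEl_notMem C e hg, coeff_inclEl_notMem C e fun h => hg ?_]
      simpa [mul_assoc] using (inferInstance : C.Normal).conj_mem _ h a⁻¹
  obtain ⟨η, hη⟩ := BlockCharsA.NormalSupport.exists_under (N := C) χ
  have hinvη : ∀ a : G, CharTheory.Clifford.conjBy C a (η : C → ℂ) = η := fun a => funext fun n => by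
    obtain ⟨c, hc⟩ := hact a
    rw [CharTheory.Clifford.conjBy_apply, ← irr_isClassFunction η n c]
    exact congrArg _ (Subtype.ext (hc n))
  have hres := CharTheory.Clifford.restrict_eq_smul_of_invariant C χ.2 η.2 hη hinvη
  set m := Cfsg.classInner (fun n : C => (χ : G → ℂ) n) (η : C → ℂ)
  have hres' : ∀ n : C, (χ : G → ℂ) n = m * (η : C → ℂ) n := fun n => congrFun hres n
  have homega : ∀ (ψ : Cfsg.IrrCharacter G) (ν : Cfsg.IrrCharacter C) (a : ℂ), a ≠ 0 →
      (∀ n : C, (ψ : G → ℂ) n = a * (ν : C → ℂ) n) → ∀ e : MonoidAlgebra ℂ C,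
      omega (ψ : G → ℂ) (inclEl C e) = omega (ν : C → ℂ) e := by
    intro ψ ν a ha hψ e
    rw [omega, omega, show (ψ : G → ℂ) 1 = a * (ν : C → ℂ) 1 from hψ 1,
      show evalChar (ψ : G → ℂ) (inclEl C e) = a * evalChar (ν : C → ℂ) e by
        conv_lhs => rw [eq_sum_single e]
        rw [map_sum, evalChar_sum, evalChar_eq_sum, Finset.mul_sum]
        refine Finset.sum_congr rfl fun n _ => ?_
        rw [inclEl_single, evalChar_single, hψ]
        ring,
      mul_div_mul_left _ _ ha]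
  have hηb : η ∈ b := by
    by_contra hne
    have hsame : Cfsg.SameBlock M (θ : G → ℂ) (χ : G → ℂ) := by
      have := block_eq_blockOf hM hB hθB
      rw [this] at hχ; exact hχ
    have h := (sameBlock_iff_omega hM θ χ).1 hsame _ (hcentral _ (central_blockIdem b))
      (intEl_inclEl hM C (intEl_blockIdem hM hbB))
    rw [homega θ θC 1 one_ne_zero (fun n => (one_mul _).symm), homega χ η m hη hres',
      omega_blockIdem_mem (mem_blockOf_self hM θC), omega_blockIdem_notMem hne] at h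
    exact not_cong_zero_one hM (cong_symm hM h)
  obtain ⟨h1, hreg⟩ := regular_values_eq hM hZp hZc hbB hbdef hηb (mem_blockOf_self hM θC)
  intro x hx y hy
  have hyC : y ∈ C := mem_centralizer_of_regular hG hM.1 hP hy
  -- the class function `w ↦ χ (x w)` on `C` is a multiple of `η`
  set F : C → ℂ := fun w => (χ : G → ℂ) (x * w) with hF
  have hFcl : Cfsg.IsClassFunction C F := fun w a => by
    show (χ : G → ℂ) (x * ((a : G) * w * (a : G)⁻¹)) = (χ : G → ℂ) (x * w)
    rw [← irr_isClassFunction χ (x * w) (a : G),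
      show (a : G) * (x * w) * (a : G)⁻¹ = x * ((a : G) * w * (a : G)⁻¹) by
        rw [← mul_assoc (a : G) x, ← Subgroup.mem_centralizer_iff.1 a.2 x hx]; group]
  have hFeq : ∀ w : C, F w = Cfsg.classInner F (η : C → ℂ) * (η : C → ℂ) w := by
    intro w
    have h := blockPart_eq_sum ({η} : Set (Cfsg.IrrCharacter C)) hFcl w
    rw [Cfsg.blockPart, finsum_mem_singleton] at h
    have hz := hcentral _ (central_blockIdem ({η} : Set (Cfsg.IrrCharacter C)))
    have h2 := evalChar_central_mul χ hz (MonoidAlgebra.single (x * (w : G)) 1)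
    rw [homega χ η m hη hres', omega_blockIdem_mem (Set.mem_singleton η), one_mul,
      evalChar_single, one_mul, evalChar_inclEl_mul_single] at h2
    show (χ : G → ℂ) (x * w) = _
    rw [← h2]
    convert h.symm using 1
    · refine finsum_congr fun k => ?_
      rw [coeff_blockIdem]
      show _ = _ * (χ : G → ℂ) (x * ((k : G) * w))
      rw [← mul_assoc (k : G), ← Subgroup.mem_centralizer_iff.1 k.2 x hx, mul_assoc]
    · convert rfl
  have hF1 := hFeq 1
  have hFy := hFeq ⟨y, hyC⟩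
  simp only [hF] at hF1 hFy
  simp only [OneMemClass.coe_one, mul_one] at hF1
  have e1 : (η : C → ℂ) 1 = (θ : G → ℂ) 1 := h1
  have e2 : (η : C → ℂ) ⟨y, hyC⟩ = (θ : G → ℂ) y :=
    hreg _ (by rwa [← Subgroup.orderOf_coe])
  rw [hF1, hFy, e1, e2]
  ring

/-- Values of a member of the block of a full centraliser, in terms of the canonical one. -/
theorem block_coeff_proportional (hM : Cfsg.IsPModular p M)
    {B : Set (Cfsg.IrrCharacter G)} {θ : Cfsg.IrrCharacter G} (hθB : θ ∈ B)
    (hval : ∀ χ ∈ B, ∀ x ∈ P, ∀ y, ¬ p ∣ orderOf y →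
      (χ : G → ℂ) (x * y) * (θ : G → ℂ) 1 = (χ : G → ℂ) x * (θ : G → ℂ) y) :
    ∃ s : ℂ, s ≠ 0 ∧
      ∀ y, ¬ p ∣ orderOf y → Cfsg.blockCoeff B y = s * conj ((θ : G → ℂ) y) := by
  classical
  haveI := Fintype.ofFinite G
  haveI := Fintype.ofFinite (Cfsg.IrrCharacter G)
  obtain ⟨n, hn0, hn⟩ := irr_one_pos θ.2
  set S : ℕ := ∑ χ : Cfsg.IrrCharacter G, if χ ∈ B then Cfsg.charDegree (χ : G → ℂ) ^ 2 else 0
  have hS : 0 < S := Finset.sum_pos' (fun _ _ => Nat.zero_le _) ⟨θ, Finset.mem_univ _, by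
    rw [if_pos hθB]; exact pow_pos (charDegree_pos θ) 2⟩
  refine ⟨(Nat.card G : ℂ)⁻¹ * (S : ℂ) / (θ : G → ℂ) 1, div_ne_zero (mul_ne_zero
    (inv_ne_zero natCard_ne_zero) (Nat.cast_ne_zero.2 hS.ne')) (irr_one_ne_zero θ.2), fun y hy => ?_⟩
  rw [blockCoeff_eq_sum, mul_div_assoc, mul_assoc]
  congr 1
  simp only [S, Nat.cast_sum]
  rw [div_mul_eq_mul_div, eq_div_iff (irr_one_ne_zero θ.2), Finset.sum_mul, Finset.sum_mul]
  refine Finset.sum_congr rfl fun χ _ => ?_
  split_ifs with hχ
  · have h := congrArg conj (hval χ hχ 1 (one_mem P) y hy)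
    rw [one_mul, map_mul, map_mul, hn, Complex.conj_natCast] at h
    obtain ⟨k, -, hk⟩ := irr_one_pos χ.2
    rw [hk, Complex.conj_natCast] at h
    rw [Nat.cast_pow, charDegree_cast χ, hn, hk]
    linear_combination (k : ℂ) * h
  · simp

/-- The block has as many characters as `P` has classes, and one of them is trivial on `P`. -/
theorem full_centralizer_block (hM : Cfsg.IsPModular p M) (hP : IsPGroup p P)
    {B : Set (Cfsg.IrrCharacter G)} (hB : Cfsg.IsPBlock M B)
    (hBD : Cfsg.IsDefectGroup p M B P) :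
    (∃! θ : Cfsg.IrrCharacter G, θ ∈ B ∧ ∀ x ∈ P, (θ : G → ℂ) x = (θ : G → ℂ) 1) ∧
      (∀ θ ∈ B, (∀ x ∈ P, (θ : G → ℂ) x = (θ : G → ℂ) 1) →
        (Cfsg.charDegree (θ : G → ℂ)).factorization p = P.index.factorization p) ∧
      Nat.card B = Nat.card (ConjClasses P) := by
  classical
  haveI := fact_prime_of_pm hM
  haveI hPn := normal_of_full hG
  haveI := Fintype.ofFinite G
  haveI := Fintype.ofFinite P
  haveI := Fintype.ofFinite (Cfsg.IrrCharacter G)
  haveI := Fintype.ofFinite B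
  haveI := Fintype.ofFinite (ConjClasses P)
  obtain ⟨θ, hθB, hinv, hdeg, hall⟩ := exists_canonical hG hM hP hB hBD
  have hval := fun χ hχ => (hall χ hχ).2
  have hθ1 : (θ : G → ℂ) 1 ≠ 0 := irr_one_ne_zero θ.2
  have hθx : ∀ x ∈ P, (θ : G → ℂ) x = (θ : G → ℂ) 1 := fun x hx => by
    rw [← one_mul x]; exact hinv 1 x hx
  have huniq : ∀ χ ∈ B, (∀ x ∈ P, (χ : G → ℂ) x = (χ : G → ℂ) 1) → χ = θ := by
    intro χ hχ htriv
    by_contra hne
    have heq : ∀ g, (χ : G → ℂ) g * (θ : G → ℂ) 1 = (χ : G → ℂ) 1 * (θ : G → ℂ) g := fun g => by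
      obtain ⟨x, hx⟩ := exists_ppart hM.1 g
      by_cases hxP : x ∈ P
      · obtain ⟨y, rfl, hc, -, hy⟩ := id hx
        rw [hval χ hχ x hxP y hy, htriv x hxP, hc.eq, hinv y x hxP]
      · rw [(hall χ hχ).1 g x hx hxP, (hall θ hθB).1 g x hx hxP, zero_mul, mul_zero]
    have h1 := classInner_irr χ θ
    rw [if_neg hne] at h1
    rw [show (χ : G → ℂ) = ((χ : G → ℂ) 1 / (θ : G → ℂ) 1) • (θ : G → ℂ) from funext fun g => by
      rw [Pi.smul_apply, smul_eq_mul, div_mul_eq_mul_div, eq_div_iff hθ1, heq],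
      classInner_smul_left, classInner_irr, if_pos rfl, mul_one] at h1
    exact div_ne_zero (irr_one_ne_zero χ.2) hθ1 h1
  refine ⟨⟨θ, ⟨hθB, hθx⟩, fun χ hχ => huniq χ hχ.1 hχ.2⟩,
    fun χ hχ h => by rw [huniq χ hχ h]; exact hdeg, ?_⟩
  -- restriction to `P` identifies the span of the block with the class functions of `P`
  let L : (B → ℂ) →ₗ[ℂ] (ConjClasses P → ℂ) :=
    { toFun := fun a C => ∑ χ : B, a χ * ((χ : Cfsg.IrrCharacter G) : G → ℂ) (Quotient.out C : P)
      map_add' := fun a b => funext fun C => by simp [add_mul, Finset.sum_add_distrib]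
      map_smul' := fun c a => funext fun C => by simp [Finset.mul_sum, mul_assoc] }
  suffices hb : Function.Bijective L by
    have h := (LinearEquiv.ofBijective L hb).finrank_eq
    rwa [Module.finrank_fintype_fun_eq_card, Module.finrank_fintype_fun_eq_card,
      ← Nat.card_eq_fintype_card, ← Nat.card_eq_fintype_card] at h
  refine ⟨?_, ?_⟩
  · refine (injective_iff_map_eq_zero L).2 fun a ha => ?_
    have hP0 : ∀ x ∈ P, ∑ χ : B, a χ * ((χ : Cfsg.IrrCharacter G) : G → ℂ) x = 0 := by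
      intro x hx
      have hcj : IsConj (Quotient.out (ConjClasses.mk (⟨x, hx⟩ : P)) : P) ⟨x, hx⟩ :=
        ConjClasses.mk_eq_mk_iff_isConj.1 (Quotient.out_eq _)
      obtain ⟨c, hc⟩ := isConj_iff.1 hcj
      have h0 : ∑ χ : B, a χ * ((χ : Cfsg.IrrCharacter G) : G → ℂ)
          (Quotient.out (ConjClasses.mk (⟨x, hx⟩ : P)) : P) = 0 :=
        congrFun ha (ConjClasses.mk ⟨x, hx⟩)
      rw [← h0]
      refine Finset.sum_congr rfl fun χ _ => ?_
      exact congrArg (a χ * ·) ((congrArg ((χ : Cfsg.IrrCharacter G) : G → ℂ)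
        (congrArg Subtype.val hc).symm).trans (irr_isClassFunction (χ : Cfsg.IrrCharacter G) _ c))
    have hall0 : ∑ χ : B, a χ • ((χ : Cfsg.IrrCharacter G) : G → ℂ) = 0 := funext fun g => by
      rw [Finset.sum_apply, Pi.zero_apply]
      obtain ⟨x, hx⟩ := exists_ppart hM.1 g
      by_cases hxP : x ∈ P
      · obtain ⟨y, rfl, -, -, hy⟩ := id hx
        apply (mul_eq_zero.1 ?_).resolve_right hθ1
        rw [Finset.sum_mul, Finset.sum_congr rfl (g := fun χ : B =>
          a χ * ((χ : Cfsg.IrrCharacter G) : G → ℂ) x * (θ : G → ℂ) y) fun χ _ => by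
          rw [Pi.smul_apply, smul_eq_mul, mul_assoc, hval χ χ.2 x hxP y hy, mul_assoc],
          ← Finset.sum_mul, hP0 x hxP, zero_mul]
      · exact Finset.sum_eq_zero fun χ _ => by
          rw [Pi.smul_apply, (hall χ χ.2).1 g x hx hxP, smul_zero]
    exact funext (Fintype.linearIndependent_iff.1
      (linearIndependent_irr.comp _ Subtype.val_injective) a hall0)
  intro v
  -- the class function with prescribed values on `P`
  set Fe : G → ℂ := fun x => if h : x ∈ P then v (ConjClasses.mk ⟨x, h⟩) else 0 with hFe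
  have hFe' : ∀ x a : G, Fe (a * x * a⁻¹) = Fe x := by
    intro x a
    by_cases hx : x ∈ P
    · simp only [hFe]
      rw [dif_pos (hPn.conj_mem x hx a), dif_pos hx]
      congr 1
      obtain ⟨t, ht, c, hc, rfl⟩ := exists_mul_of_full hG a
      rw [ConjClasses.mk_eq_mk_iff_isConj]
      refine (isConj_iff.2 ⟨⟨t, ht⟩, Subtype.ext ?_⟩).symm
      show t * x * t⁻¹ = t * c * x * (t * c)⁻¹
      rw [mul_assoc t c x, ← Subgroup.mem_centralizer_iff.1 hc x hx]
      group
    · simp only [hFe]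
      rw [dif_neg hx, dif_neg fun h => hx (by simpa [mul_assoc] using hPn.conj_mem _ h a⁻¹)]
  choose pp hpp using fun g : G => exists_ppart hM.1 g
  set ψ : G → ℂ := fun g => Fe (pp g) * (θ : G → ℂ) g / (θ : G → ℂ) 1 with hψdef
  have hψcl : Cfsg.IsClassFunction G ψ := fun g a => by
    have he : pp (a * g * a⁻¹) = a * pp g * a⁻¹ := by
      refine ppart_unique hM.1 (hpp _) ?_
      obtain ⟨y, hy1, hy2, ⟨k, hk⟩, hy4⟩ := hpp g
      refine ⟨a * y * a⁻¹, ?_, hy2.map (MulAut.conj a : G →* G), ⟨k, ?_⟩, ?_⟩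
      · rw [show a * pp g * a⁻¹ * (a * y * a⁻¹) = a * (pp g * y) * a⁻¹ by group, hy1]
      · rw [← hk]; exact (MulAut.conj a).orderOf_eq _
      · rwa [show orderOf (a * y * a⁻¹) = orderOf y from (MulAut.conj a).orderOf_eq _]
    simp only [hψdef, he, hFe', irr_isClassFunction θ g a]
  obtain ⟨s, hs0, hs⟩ := block_coeff_proportional hG hM hθB hval
  have hperp : ∀ χ : Cfsg.IrrCharacter G, χ ∉ B → Cfsg.classInner ψ (χ : G → ℂ) = 0 := by
    intro χ hχ
    rw [classInner_def, sum_eq_sum_parts hM.1 hP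
      (fun x hx y hy => Subgroup.mem_centralizer_iff.1 (mem_centralizer_of_regular hG hM.1 hP hy)
        x hx)
      (f := fun g => ψ g * conj ((χ : G → ℂ) g))
      (fun g x hx hxP => by
        simp only [hψdef]
        rw [(hall θ hθB).1 g x hx hxP, mul_zero, zero_div, zero_mul])]
    rw [Finset.sum_eq_zero fun x _ => ?_, mul_zero]
    have h := blockPart_irr B χ (x : G)
    rw [if_neg hχ, blockPart_eq_sum B (irr_isClassFunction χ), finsum_eq_sum_of_fintype] at h
    have h' := congrArg conj h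
    rw [map_sum, map_zero] at h'
    rw [Finset.sum_congr rfl (g := fun y : G => Fe x / ((θ : G → ℂ) 1 * conj s) *
      conj (Cfsg.blockCoeff B y * (χ : G → ℂ) (y * x))) fun y _ => ?_, ← Finset.mul_sum, h',
      mul_zero]
    by_cases hy : p ∣ orderOf y
    swap
    · rw [if_pos hy]
      have hpx : Cfsg.IsPPart p (y * (x : G)) x := by
        obtain ⟨k, hk⟩ := IsPGroup.iff_orderOf.1 hP x
        have hc : Commute (x : G) y := Subgroup.mem_centralizer_iff.1
          (mem_centralizer_of_regular hG hM.1 hP hy) x x.2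
        exact ⟨y, hc.eq, hc, ⟨k, by rw [Subgroup.orderOf_coe, hk]⟩, hy⟩
      simp only [hψdef]
      rw [ppart_unique hM.1 (hpp _) hpx, hinv y x x.2, hs y hy, map_mul, map_mul,
        Complex.conj_conj]
      field_simp [hθ1, (map_ne_zero (starRingEnd ℂ)).2 hs0]
    · rw [if_neg (not_not.2 hy), blockCoeff_eq_zero_of_singular hM (intEl_blockIdem hM hB) hy,
        zero_mul, map_zero, mul_zero]
  refine ⟨fun χ => Cfsg.classInner ψ ((χ : Cfsg.IrrCharacter G) : G → ℂ), funext fun C => ?_⟩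
  show ∑ χ : B, Cfsg.classInner ψ ((χ : Cfsg.IrrCharacter G) : G → ℂ) *
    ((χ : Cfsg.IrrCharacter G) : G → ℂ) (Quotient.out C : P) = v C
  set x : P := Quotient.out C with hx
  have h := congrFun (classFun_eq_sum hψcl) (x : G)
  simp only [Finset.sum_apply, Pi.smul_apply, smul_eq_mul] at h
  rw [← Finset.sum_subset (Finset.subset_univ (Finset.univ.filter fun χ => χ ∈ B))
    (fun χ _ hn => by rw [hperp χ (by simpa using hn), zero_mul]),
    Finset.sum_subtype (p := fun χ => χ ∈ B) _ (by simp)] at h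
  have hψx : ψ (x : G) = v C := by
    have hpx : Cfsg.IsPPart p (x : G) x := by
      obtain ⟨k, hk⟩ := IsPGroup.iff_orderOf.1 hP x
      exact ⟨1, mul_one _, Commute.one_right _, ⟨k, by rw [Subgroup.orderOf_coe, hk]⟩,
        by simp [hM.1.ne_one]⟩
    simp only [hψdef]
    rw [ppart_unique hM.1 (hpp _) hpx, hθx x x.2, mul_div_assoc, div_self hθ1, mul_one]
    simp only [hFe]
    rw [dif_pos x.2]
    exact congrArg v (Quotient.out_eq C)
  rw [← hψx]
  exact h.symm

end Cfsg.Agent.Blocks
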