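import Mathlib
import Cfsg.Agent.Lib.Blocks.FullCentralizer
import Cfsg.Agent.Lib.Blocks.Covering
import Cfsg.Agent.Lib.CharTheory.Ito

/-!
# Heights in a block with normal defect group
-/

set_option linter.style.haveILetI false
set_option linter.unusedSectionVars false

namespace Cfsg.Agent.Blocks

open Cfsg.Agent.Characters Cfsg.Agent.CharTheory Cfsg.Agent.BlockCharsA.NormalSupport
open scoped ComplexConjugate

universe u

variable {G : Type u} [Group G] [Finite G] {p : ℕ} {M : Ideal Cfsg.AlgInt}

/-- An abelian normal defect group gives height zero throughout. -/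
theorem height_zero_of_comm_normal_defect (hM : Cfsg.IsPModular p M)
    {B : Set (Cfsg.IrrCharacter G)} (hB : Cfsg.IsPBlock M B) {P : Subgroup G} [P.Normal]
    (hP : Cfsg.IsDefectGroup p M B P) (hab : ∀ a ∈ P, ∀ c ∈ P, a * c = c * a)
    {χ : Cfsg.IrrCharacter G} (hχ : χ ∈ B) : Cfsg.blockHeight p B (χ : G → ℂ) = 0 := by
  obtain ⟨d, hd, hdvd⟩ := Ito.degree_dvd_index_abelian P hab χ.2
  have hd' : Cfsg.charDegree (χ : G → ℂ) = d := Nat.cast_injective ((charDegree_cast χ).trans hd)
  rw [← hd'] at hdvd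
  have h1 := (Nat.factorization_le_iff_dvd (charDegree_pos χ).ne' P.index_ne_zero_of_finite).2 hdvd p
  have h2 := degree_factorization_eq hM hB hχ
  have h3 := factorization_index_add P p
  rw [card_defectGroup hM hB hP, hM.1.factorization_pow, Finsupp.single_eq_same] at h3
  omega

section Full

variable {P : Subgroup G} (hG : P ⊔ Subgroup.centralizer (P : Set G) = ⊤)
include hG

/-- In the case of a full centraliser, all heights vanish only for abelian defect groups. -/
theorem comm_of_degrees_of_full (hM : Cfsg.IsPModular p M) {B : Set (Cfsg.IrrCharacter G)}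
    (hB : Cfsg.IsPBlock M B) (hBD : Cfsg.IsDefectGroup p M B P)
    (hall : ∀ ψ ∈ B,
      (Cfsg.charDegree (ψ : G → ℂ)).factorization p ≤ P.index.factorization p) :
    ∀ a ∈ P, ∀ c ∈ P, a * c = c * a := by
  classical
  haveI := fact_prime_of_pm hM
  haveI hPn := normal_of_full hG
  haveI := Fintype.ofFinite G
  haveI := Fintype.ofFinite P
  haveI := Fintype.ofFinite (Cfsg.IrrCharacter G)
  have hP := isPGroup_defect hBD
  obtain ⟨θ, hθB, hinv, hdeg, hcan⟩ := exists_canonical hG hM hP hB hBD
  have hθ1 : (θ : G → ℂ) 1 ≠ 0 := irr_one_ne_zero θ.2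
  set R : ℂ := ∑ y : G, if ¬ p ∣ orderOf y then (θ : G → ℂ) y * conj ((θ : G → ℂ) y) else 0
  obtain ⟨n, hn0, hn⟩ := irr_one_pos θ.2
  -- the norm of a member in terms of its restriction to `P`
  have hnorm : ∀ ψ ∈ B, (∑ x : P, (ψ : G → ℂ) x * conj ((ψ : G → ℂ) x)) * R =
      (θ : G → ℂ) 1 * (θ : G → ℂ) 1 * Nat.card G := by
    intro ψ hψ
    have h := classInner_isIrr_self ψ.2
    rw [classInner_def, inv_mul_eq_iff_eq_mul₀ natCard_ne_zero, mul_one,
      sum_eq_sum_parts hM.1 hP (fun x hx y hy => Subgroup.mem_centralizer_iff.1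
          (mem_centralizer_of_regular hG hM.1 hP hy) x hx)
        (f := fun g => (ψ : G → ℂ) g * conj ((ψ : G → ℂ) g))
        (fun g x hx hxP => by rw [(hcan ψ hψ).1 g x hx hxP, zero_mul])] at h
    rw [← h, Finset.sum_mul, Finset.mul_sum]
    refine Finset.sum_congr rfl fun x _ => ?_
    rw [Finset.mul_sum, Finset.mul_sum]
    refine Finset.sum_congr rfl fun y _ => ?_
    by_cases hy : p ∣ orderOf y
    swap
    · rw [if_pos hy, if_pos hy]
      have hc : Commute (x : G) y := Subgroup.mem_centralizer_iff.1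
        (mem_centralizer_of_regular hG hM.1 hP hy) x x.2
      have hv := (hcan ψ hψ).2 x x.2 y hy
      rw [hc.eq] at hv
      have hv' := congrArg conj hv
      rw [map_mul, map_mul, hn, Complex.conj_natCast] at hv'
      rw [hn] at hv ⊢
      linear_combination (-(n : ℂ) * conj ((ψ : G → ℂ) (y * x))) * hv -
        ((ψ : G → ℂ) x * (θ : G → ℂ) y) * hv'
    · simp [hy]
  have hθsum : (∑ x : P, (θ : G → ℂ) x * conj ((θ : G → ℂ) x)) =
      (Nat.card P : ℂ) * ((θ : G → ℂ) 1 * (θ : G → ℂ) 1) := by
    rw [Finset.sum_congr rfl (g := fun _ => (θ : G → ℂ) 1 * (θ : G → ℂ) 1) fun x _ => ?_,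
      Finset.sum_const, Finset.card_univ, nsmul_eq_mul, Nat.card_eq_fintype_card]
    rw [show (θ : G → ℂ) x = (θ : G → ℂ) 1 by rw [← one_mul (x : G)]; exact hinv 1 x x.2, hn,
      Complex.conj_natCast]
  have hR : R ≠ 0 := fun h => by
    have := hnorm θ hθB
    rw [h, mul_zero] at this
    exact mul_ne_zero (mul_ne_zero hθ1 hθ1) natCard_ne_zero this.symm
  -- every member restricts to a multiple of a linear character
  have hlin : ∀ ψ ∈ B, ∃ ζ : Cfsg.IrrCharacter P, (ζ : P → ℂ) 1 = 1 ∧
      ∀ x : P, (ψ : G → ℂ) x = (θ : G → ℂ) 1 * (ζ : P → ℂ) x := by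
    intro ψ hψ
    obtain ⟨ζ, hζ⟩ := exists_under (N := P) ψ
    have hinvζ : ∀ a : G, Clifford.conjBy P a (ζ : P → ℂ) = ζ := fun a => funext fun x => by
      obtain ⟨t, ht, c, hc, rfl⟩ := exists_mul_of_full hG a
      rw [Clifford.conjBy_apply, ← irr_isClassFunction ζ x ⟨t, ht⟩]
      refine congrArg _ (Subtype.ext ?_)
      show t * c * (x : G) * (t * c)⁻¹ = t * x * t⁻¹
      rw [mul_assoc t c (x : G), ← Subgroup.mem_centralizer_iff.1 hc x x.2]
      group
    have hres := Clifford.restrict_eq_smul_of_invariant P ψ.2 ζ.2 hζ hinvζ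
    obtain ⟨m, hm⟩ := classInner_char_nat (isCharacter_restrict P (irr_isCharacter ψ))
      (irr_isCharacter ζ)
    rw [hm] at hres hζ
    have hres' : ∀ x : P, (ψ : G → ℂ) x = (m : ℂ) * (ζ : P → ℂ) x := fun x => congrFun hres x
    have hsq : (m : ℂ) * m = (θ : G → ℂ) 1 * (θ : G → ℂ) 1 := by
      have h1 := hnorm θ hθB
      have h2 := hnorm ψ hψ
      rw [hθsum] at h1
      have h3 := classInner_isIrr_self ζ.2
      rw [classInner_def, inv_mul_eq_iff_eq_mul₀ natCard_ne_zero, mul_one] at h3
      rw [Finset.sum_congr rfl (g := fun x : P => (m : ℂ) * m * ((ζ : P → ℂ) x * conj ((ζ : P → ℂ) x)))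
        (fun x _ => by rw [hres', map_mul, Complex.conj_natCast]; ring), ← Finset.mul_sum, h3] at h2
      have h4 := mul_right_cancel₀ hR (h2.trans h1.symm)
      rw [mul_comm (Nat.card P : ℂ)] at h4
      exact mul_right_cancel₀ natCard_ne_zero h4
    have hmn : m = n := by
      rw [hn, ← Nat.cast_mul, ← Nat.cast_mul, Nat.cast_inj] at hsq
      exact Nat.mul_self_inj.1 hsq
    rw [hmn, ← hn] at hres'
    refine ⟨ζ, ?_, hres'⟩
    have h1 : Cfsg.charDegree (ψ : G → ℂ) =
        Cfsg.charDegree (θ : G → ℂ) * Cfsg.charDegree (ζ : P → ℂ) := by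
      have := hres' 1
      rw [OneMemClass.coe_one, ← charDegree_cast ψ, ← charDegree_cast θ, ← charDegree_cast ζ,
        ← Nat.cast_mul, Nat.cast_inj] at this
      exact this
    have h2 := hall ψ hψ
    rw [h1, Nat.factorization_mul (charDegree_pos θ).ne' (charDegree_pos ζ).ne', Finsupp.add_apply,
      hdeg] at h2
    obtain ⟨k, hk⟩ := hP.exists_card_eq
    obtain ⟨j, -, hj⟩ := (Nat.dvd_prime_pow hM.1).1 (hk ▸ char_degree_dvd_card ζ)
    rw [hj, hM.1.factorization_pow, Finsupp.single_eq_same] at h2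
    rw [← charDegree_cast ζ, hj, show j = 0 by omega, pow_zero, Nat.cast_one]
  intro a ha c hc
  by_contra hne
  set x : P := ⟨a, ha⟩ * ⟨c, hc⟩ * (⟨a, ha⟩ : P)⁻¹ * (⟨c, hc⟩ : P)⁻¹ with hx
  have hx1 : (x : G) ≠ 1 := fun h => hne (by
    have h' : a * c * a⁻¹ * c⁻¹ = 1 := h
    rw [mul_inv_eq_one, mul_inv_eq_iff_eq_mul] at h'
    exact h')
  have hxo : p ∣ orderOf (x : G) := by
    obtain ⟨k, hk⟩ := IsPGroup.iff_orderOf.1 hP x
    have hk0 : k ≠ 0 := fun e => hx1 (by
      rw [e, pow_zero, orderOf_eq_one_iff] at hk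
      rw [hk, OneMemClass.coe_one])
    rw [Subgroup.orderOf_coe, hk]
    exact dvd_pow_self p hk0
  have hzero : Cfsg.blockCoeff B (x : G) = 0 :=
    blockCoeff_eq_zero_of_singular hM (intEl_blockIdem hM hB) hxo
  rw [blockCoeff_eq_sum, mul_eq_zero, or_iff_right (inv_ne_zero natCard_ne_zero)] at hzero
  have hterm : ∀ ψ : Cfsg.IrrCharacter G,
      (if ψ ∈ B then (ψ : G → ℂ) 1 * conj ((ψ : G → ℂ) x) else 0) =
        ((if ψ ∈ B then Cfsg.charDegree (ψ : G → ℂ) ^ 2 else 0 : ℕ) : ℂ) := by
    intro ψ
    split_ifs with hψ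
    · obtain ⟨ζ, hζ1, hζ⟩ := hlin ψ hψ
      have hmul := char_mul_of_degree_one (irr_isCharacter ζ) hζ1
      have hne0 : ∀ u : P, (ζ : P → ℂ) u ≠ 0 := fun u h => by
        have := hmul u u⁻¹
        rw [mul_inv_cancel, hζ1, h, zero_mul] at this
        exact one_ne_zero this
      have hinv' : ∀ u : P, (ζ : P → ℂ) u * (ζ : P → ℂ) u⁻¹ = 1 := fun u => by
        rw [← hmul, mul_inv_cancel, hζ1]
      have hζx : (ζ : P → ℂ) x = 1 := by
        rw [hx, hmul, hmul, hmul]
        linear_combination ((ζ : P → ℂ) (⟨c, hc⟩ : P) * (ζ : P → ℂ) (⟨c, hc⟩ : P)⁻¹) *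
          hinv' ⟨a, ha⟩ + hinv' ⟨c, hc⟩
      have h1 := hζ 1
      rw [OneMemClass.coe_one, hζ1, mul_one] at h1
      rw [hζ x, hζx, mul_one, ← h1, Nat.cast_pow, ← charDegree_cast ψ, Complex.conj_natCast, sq]
    · simp
  rw [Finset.sum_congr rfl fun ψ _ => hterm ψ, ← Nat.cast_sum, Nat.cast_eq_zero] at hzero
  have := Finset.sum_eq_zero_iff.1 hzero θ (Finset.mem_univ _)
  rw [if_pos hθB] at this
  exact (pow_pos (charDegree_pos θ) 2).ne' this

end Full

/-- A `p`-element stabilising a covered block of a block with normal defect group `P` lies in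
`P C(P)`. -/
theorem mem_of_stabilizes (hM : Cfsg.IsPModular p M) {B : Set (Cfsg.IrrCharacter G)}
    {P : Subgroup G} [P.Normal] (hP : Cfsg.IsDefectGroup p M B P)
    {H : Subgroup G} [H.Normal] [Fintype H] (hPH : P ≤ H)
    (hCH : Subgroup.centralizer (P : Set G) ≤ H)
    {χ : Cfsg.IrrCharacter G} (hχ : χ ∈ B) {θ : Cfsg.IrrCharacter H}
    (hne : Cfsg.classInner (fun n : H => (χ : G → ℂ) n) (θ : H → ℂ) ≠ 0)
    {t : G} {k : ℕ} (ht : t ^ p ^ k = 1)
    (hst : Cfsg.SameBlock M (θ : H → ℂ) (conjIrr t θ : H → ℂ)) : t ∈ H := by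
  classical
  by_contra htH
  haveI := fact_prime_of_pm hM
  obtain ⟨g, hg, hs⟩ := isDefectGroup_iff.1 hP
  have hgH : g ∈ H := hCH (isSylCent_mem hs)
  apply hg.2.2 χ hχ
  have h0 := omega_push_eq χ θ hne (isInvEl_res (central_classSum g))
  rw [show g = (((⟨g, hgH⟩ : H) : H) : G) from rfl, push_res_classSum,
    omega_classSum (irr_isClassFunction χ), show (((⟨g, hgH⟩ : H) : H) : G) = g from rfl] at h0
  rw [h0]
  haveI := Fintype.ofFinite (ConjClasses H)
  rw [central_eq_sum (show IsCentralEl (res H (classSum g)) from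
    central_of_isInvEl (isInvEl_res (central_classSum g))), omega_sum]
  -- the action of `⟨t⟩` on the classes of `H`
  let act : Subgroup.zpowers t → ConjClasses H → ConjClasses H := fun u C =>
    ConjClasses.map (MulAut.conjNormal (u : G) : H ≃* H).toMonoidHom C
  letI : MulAction (Subgroup.zpowers t) (ConjClasses H) :=
    { smul := act
      one_smul := fun C => by
        obtain ⟨y, rfl⟩ := ConjClasses.mk_surjective C
        exact congrArg ConjClasses.mk (Subtype.ext (by simp))
      mul_smul := fun u w C => by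
        obtain ⟨y, rfl⟩ := ConjClasses.mk_surjective C
        exact congrArg ConjClasses.mk (Subtype.ext (by simp [mul_assoc])) }
  have hpg : IsPGroup p (Subgroup.zpowers t) := by
    obtain ⟨j, -, hj⟩ := (Nat.dvd_prime_pow hM.1).1 (orderOf_dvd_of_pow_eq_one ht)
    exact IsPGroup.of_card (n := j) (by rw [Nat.card_zpowers, hj])
  have hcl : IsCentralEl (res H (classSum g)) :=
    central_of_isInvEl (isInvEl_res (central_classSum g))
  let S : Subgroup G :=
    { carrier := {a | Cfsg.SameBlock M (θ : H → ℂ) (conjIrr a θ : H → ℂ)}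
      one_mem' := by
        show Cfsg.SameBlock M (θ : H → ℂ) (conjIrr 1 θ : H → ℂ)
        rw [conjIrr_one]; exact sameBlock_refl hM _
      mul_mem' := fun {a b} ha hb => by
        show Cfsg.SameBlock M (θ : H → ℂ) (conjIrr (a * b) θ : H → ℂ)
        have h := sameBlock_conjIrr b ha
        rw [conjIrr_conjIrr] at h
        exact sameBlock_trans hM hb h
      inv_mem' := fun {a} ha => by
        show Cfsg.SameBlock M (θ : H → ℂ) (conjIrr a⁻¹ θ : H → ℂ)
        have h := sameBlock_conjIrr a⁻¹ ha
        rw [conjIrr_conjIrr, mul_inv_cancel, conjIrr_one] at h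
        exact sameBlock_symm hM h }
  have hS : Subgroup.zpowers t ≤ S := Subgroup.zpowers_le.2 hst
  set f : ConjClasses H → ℂ := fun C => (res H (classSum g)).coeff (Quotient.out C) *
    Cfsg.centralChar (θ : H → ℂ) (Quotient.out C) with hf
  have hcc : ∀ a b : H, IsConj a b →
      Cfsg.centralChar (θ : H → ℂ) a = Cfsg.centralChar (θ : H → ℂ) b := by
    intro a b hab
    rw [← omega_classSum (irr_isClassFunction θ), ← omega_classSum (irr_isClassFunction θ)]
    refine congrArg _ (el_ext fun y => ?_)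
    simp only [coeff_classSum]
    congr 1
    exact propext ⟨fun h => hab.symm.trans h, fun h => hab.trans h⟩
  -- `θ` and its conjugate give congruent values
  have hfix : ∀ (u : Subgroup.zpowers t) (C : ConjClasses H), Cong M (f (u • C)) (f C) := by
    intro u C
    set y : H := Quotient.out C
    have hy : u • C = ConjClasses.mk ((MulAut.conjNormal (u : G) : H ≃* H) y) := by
      conv_lhs => rw [show C = ConjClasses.mk y from (Quotient.out_eq C).symm]
      rfl
    have hconj : IsConj (Quotient.out (u • C)) ((MulAut.conjNormal (u : G) : H ≃* H) y) :=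
      ConjClasses.mk_eq_mk_iff_isConj.1 ((Quotient.out_eq (u • C)).trans hy)
    simp only [hf]
    rw [central_isConj hcl hconj, hcc _ _ hconj,
      show (res H (classSum g)).coeff ((MulAut.conjNormal (u : G) : H ≃* H) y) =
        (res H (classSum g)).coeff y from isInvEl_res (central_classSum g) (u : G) y]
    refine cong_mul_left hM (intEl_res (intEl_classSum hM g) y) ?_
    have h := hS u.2
    have h2 : Cong M (Cfsg.centralChar (θ : H → ℂ) y)
        (Cfsg.centralChar (conjIrr (u : G) θ : H → ℂ) y) := h y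
    rw [coe_conjIrr, Clifford.conjBy_eq_comp] at h2
    rw [← centralChar_comp_mulEquiv]
    exact cong_symm hM h2
  -- orbit representatives
  let r : ConjClasses H → ℂ := fun C =>
    f (Quotient.out (Quotient.mk (MulAction.orbitRel (Subgroup.zpowers t) (ConjClasses H)) C))
  have hr : ∀ C, Cong M (f C) (r C) := fun C => by
    obtain ⟨u, hu⟩ := Quotient.mk_out (s := MulAction.orbitRel (Subgroup.zpowers t) (ConjClasses H)) C
    refine cong_symm hM ?_
    show Cong M (f _) (f C)
    rw [← hu]
    exact hfix u C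
  have hfr : ∀ C, Cfsg.MemLocalRing M (f C) := fun C =>
    ring_mul hM (intEl_res (intEl_classSum hM g) _) (centralChar_ring hM θ _)
  set X : Finset (ConjClasses H) :=
    Finset.univ.filter fun C => ∀ u : Subgroup.zpowers t, u • C = C
  rw [Finset.sum_congr rfl (g := f) (fun C _ => by
    rw [omega_smul, omega_classSum (irr_isClassFunction θ)]), ← cong_zero_iff]
  refine cong_trans hM (cong_sum hM fun C _ => hr C) (cong_trans hM
    (cong_sum_fixed hM hpg r (fun C => hfr _) (fun u C => ?_) X (fun C => by simp [X])) ?_)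
  · simp only [r]
    rw [show Quotient.mk (MulAction.orbitRel (Subgroup.zpowers t) (ConjClasses H)) (u • C) =
      Quotient.mk _ C from Quotient.sound ⟨u, rfl⟩]
  refine cong_trans hM (cong_sum hM fun C _ => cong_symm hM (hr C)) ?_
  rw [cong_zero_iff]
  refine ideal_sum hM fun C hC => ?_
  -- a fixed class avoids the class of `g`
  simp only [hf, coeff_res, coeff_classSum]
  split_ifs with hcg
  swap
  · rw [zero_mul]; exact ideal_zero hM
  exfalso
  set y : H := Quotient.out C
  have hfixC := (Finset.mem_filter.1 hC).2 ⟨t, Subgroup.mem_zpowers t⟩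
  have hy : IsConj ((MulAut.conjNormal t : H ≃* H) y) y := by
    rw [← ConjClasses.mk_eq_mk_iff_isConj]
    refine Eq.trans ?_ (hfixC.trans (Quotient.out_eq C).symm)
    conv_rhs => rw [show C = ConjClasses.mk y from (Quotient.out_eq C).symm]
    rfl
  obtain ⟨h, hh⟩ := isConj_iff.1 hy
  have hh' : (h : G) * (t * (y : G) * t⁻¹) * (h : G)⁻¹ = y := congrArg Subtype.val hh
  set c : G := (h : G) * t
  have hc : c ∈ Subgroup.centralizer ({(y : G)} : Set G) := by
    rw [Subgroup.mem_centralizer_singleton_iff]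
    calc c * (y : G) = ((h : G) * (t * (y : G) * t⁻¹) * (h : G)⁻¹) * c := by
          simp only [c]; group
      _ = (y : G) * c := by rw [hh']
  have hsy : IsSylCent p (y : G) P := by
    obtain ⟨a, ha⟩ := isConj_iff.1 hcg
    have hPa : P.map (MulAut.conj a).toMonoidHom = P := by
      ext z
      rw [mem_map_conj_iff]
      exact ⟨fun hz => by simpa [mul_assoc] using (inferInstance : P.Normal).conj_mem _ hz a,
        fun hz => by simpa using (inferInstance : P.Normal).conj_mem _ hz a⁻¹⟩
    have hsa := isSylCent_conj hs a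
    rwa [ha, hPa] at hsa
  set C' := Subgroup.centralizer ({(y : G)} : Set G)
  have hidx : ¬ p ∣ (H.subgroupOf C').index := by
    intro hd
    have h1 : (H.subgroupOf C').index ∣ (P.subgroupOf C').index :=
      Subgroup.index_dvd_of_le fun z hz => Subgroup.mem_subgroupOf.2
        (hPH (Subgroup.mem_subgroupOf.1 hz))
    have h2 := (P.subgroupOf C').index_mul_card
    rw [Nat.card_congr (Subgroup.subgroupOfEquivOfLe (isSylCent_iff.1 hsy).1).toEquiv,
      (isSylCent_iff.1 hsy).2] at h2
    have h3 : p ^ ((Nat.card C').factorization p + 1) ∣ Nat.card C' := by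
      rw [pow_succ']
      exact (Nat.mul_dvd_mul_right (hd.trans h1) _).trans (dvd_of_eq h2)
    have := (hM.1.pow_dvd_iff_le_factorization Nat.card_pos.ne').1 h3
    omega
  have hcH1 : (c : G ⧸ H) = (t : G ⧸ H) := by
    simp only [c]
    rw [QuotientGroup.mk_mul, (QuotientGroup.eq_one_iff _).2 h.2, one_mul]
  have hd1 : orderOf (c : G ⧸ H) ∣ p ^ k := by
    rw [hcH1]
    exact orderOf_dvd_of_pow_eq_one (by rw [← QuotientGroup.mk_pow, ht, QuotientGroup.mk_one])
  have hd2 : orderOf (c : G ⧸ H) ∣ (H.subgroupOf C').index :=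
    orderOf_dvd_of_pow_eq_one (by
      rw [← QuotientGroup.mk_pow, QuotientGroup.eq_one_iff]
      exact Subgroup.mem_subgroupOf.1 ((H.subgroupOf C').pow_index_mem ⟨c, hc⟩))
  have h1 : orderOf (c : G ⧸ H) = 1 := Nat.eq_one_of_dvd_coprimes
    (Nat.Coprime.pow_left k (hM.1.coprime_iff_not_dvd.2 hidx)) hd1 hd2
  rw [orderOf_eq_one_iff, hcH1, QuotientGroup.eq_one_iff] at h1
  exact htH h1

/-- A block with normal defect group all of whose heights vanish has abelian defect group. -/
theorem comm_of_height_zero (hM : Cfsg.IsPModular p M) {B : Set (Cfsg.IrrCharacter G)}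
    (hB : Cfsg.IsPBlock M B) {P : Subgroup G} [P.Normal] (hP : Cfsg.IsDefectGroup p M B P)
    (h0 : ∀ χ ∈ B, Cfsg.blockHeight p B (χ : G → ℂ) = 0) :
    ∀ a ∈ P, ∀ c ∈ P, a * c = c * a := by
  classical
  haveI := fact_prime_of_pm hM
  haveI := Fintype.ofFinite G
  set H := P ⊔ Subgroup.centralizer (P : Set G) with hH
  haveI : H.Normal := Subgroup.sup_normal _ _
  haveI := Fintype.ofFinite H
  have hPH : P ≤ H := le_sup_left
  have hCH : Subgroup.centralizer (P : Set G) ≤ H := le_sup_right
  have hPp := isPGroup_defect hP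
  obtain ⟨χ₀, hχ₀⟩ := block_nonempty hM hB
  obtain ⟨θ₀, hθ₀⟩ := exists_under (N := H) χ₀
  set b := Cfsg.blockOf M (θ₀ : H → ℂ) with hb
  have hbB := isPBlock_blockOf M θ₀
  have hind : Cfsg.IsInducedBlock M H b B :=
    isInduced_of_covers hM hPp hCH hbB hB hχ₀ (mem_blockOf_self hM θ₀) hθ₀
  set P' := P.subgroupOf H with hP'
  haveI : P'.Normal := Subgroup.Normal.subgroupOf ‹P.Normal› H
  have hbdef : Cfsg.IsDefectGroup p M b P' := by
    obtain ⟨D, hD⟩ := exists_defectGroup hM hbB
    have hle : P' ≤ D := normal_le_defect hM (isPGroup_subgroupOf hPp hPH) hbB hD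
    obtain ⟨E, hE, hDE⟩ := exists_defect_le_of_induced hM hind hD
    obtain ⟨x, rfl⟩ := exists_defectGroup_conj_eq hM hB hP hE
    rwa [eq_of_le_of_card_le hle (by
      rw [← Subgroup.card_map_of_injective H.subtype_injective,
        Nat.card_congr (Subgroup.subgroupOfEquivOfLe hPH).toEquiv, ← card_map_conj P x]
      exact Subgroup.card_le_of_le hDE)]
  have hfull : P' ⊔ Subgroup.centralizer (P' : Set H) = ⊤ := by
    apply Subgroup.map_injective H.subtype_injective
    rw [Subgroup.map_sup, hP', map_subgroupOf_eq hPH, ← MonoidHom.range_eq_map,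
      Subgroup.range_subtype, show (Subgroup.centralizer ((P.subgroupOf H : Subgroup H) : Set H)).map
        H.subtype = Subgroup.centralizer (P : Set G) from ?_]
    ext z
    constructor
    · rintro ⟨w, hw, rfl⟩
      exact (mem_centralizer_subgroupOf hPH).1 hw
    · intro hz
      exact ⟨⟨z, hCH hz⟩, (mem_centralizer_subgroupOf hPH).2 hz, rfl⟩
  have hidxP : P'.index.factorization p + H.index.factorization p = P.index.factorization p := by
    rw [← Subgroup.relIndex_mul_index hPH,
      show P.relIndex H = P'.index from rfl,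
      Nat.factorization_mul P'.index_ne_zero_of_finite H.index_ne_zero_of_finite]
    rfl
  have hall : ∀ η ∈ b,
      (Cfsg.charDegree (η : H → ℂ)).factorization p ≤ P'.index.factorization p := by
    intro η hη
    obtain ⟨χ, hχη⟩ := exists_over (G := G) η
    have hχB : χ ∈ B := by
      have h := isInduced_of_covers hM hPp hCH hbB (isPBlock_blockOf M χ) (mem_blockOf_self hM χ)
        hη hχη
      rw [isInduced_unique hM hind h]
      exact mem_blockOf_self hM χ
    let T : Subgroup G :=
      { carrier := {g | Clifford.conjBy H g (η : H → ℂ) = η}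
        one_mem' := Clifford.conjBy_one H _
        mul_mem' := fun {a b} ha hb => by
          show Clifford.conjBy H (a * b) _ = _
          rw [← Clifford.conjBy_conjBy H b a, ha, hb]
        inv_mem' := fun {a} ha => by
          show Clifford.conjBy H a⁻¹ _ = _
          apply Clifford.conjBy_injective H a
          rw [Clifford.conjBy_conjBy, inv_mul_cancel, Clifford.conjBy_one, ha] }
    have hHT : H ≤ T := fun a ha => funext fun n => by
      rw [Clifford.conjBy_apply, ← irr_isClassFunction η n ⟨a, ha⟩]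
      exact congrArg _ (Subtype.ext rfl)
    have hnd : ¬ p ∣ H.relIndex T := by
      obtain ⟨S⟩ : Nonempty (Sylow p T) := inferInstance
      have hSH : (S : Subgroup T) ≤ H.subgroupOf T := fun s hs => by
        obtain ⟨k, hk⟩ := IsPGroup.iff_orderOf.1 S.isPGroup' ⟨s, hs⟩
        rw [Subgroup.orderOf_mk] at hk
        refine Subgroup.mem_subgroupOf.2 (mem_of_stabilizes hM hP hPH hCH hχB hχη (k := k)
          (by rw [← hk, ← Subgroup.orderOf_coe, pow_orderOf_eq_one]) ?_)
        rw [show conjIrr (s : G) η = η from Subtype.ext s.2]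
        exact sameBlock_refl hM _
      exact fun h => S.not_dvd_index (h.trans (Subgroup.index_dvd_of_le hSH))
    obtain ⟨m, hm⟩ := classInner_char_nat (isCharacter_restrict H (irr_isCharacter χ))
      (irr_isCharacter η)
    have hm0 : m ≠ 0 := fun h => hχη (by rw [hm, h, Nat.cast_zero])
    have hform := Clifford.card_mul_degree H χ.2 η.2 hχη T fun g => Iff.rfl
    rw [hm, ← charDegree_cast χ, ← charDegree_cast η, ← Nat.cast_mul, ← Nat.cast_mul,
      ← Nat.cast_mul, Nat.cast_inj] at hform
    have hTcard : H.relIndex T * Nat.card H = Nat.card T := by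
      rw [← Nat.card_congr (Subgroup.subgroupOfEquivOfLe hHT).toEquiv]
      exact (H.subgroupOf T).index_mul_card
    rw [← hTcard, ← H.index_mul_card] at hform
    have hform2 : H.relIndex T * Cfsg.charDegree (χ : G → ℂ) =
        m * H.index * Cfsg.charDegree (η : H → ℂ) :=
      Nat.eq_of_mul_eq_mul_right (Nat.card_pos (α := H)) (by linear_combination hform)
    have hv := congrArg (fun k => Nat.factorization k p) hform2
    rw [Nat.factorization_mul (fun h => hnd (by rw [h]; exact dvd_zero p)) (charDegree_pos χ).ne',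
      Nat.factorization_mul (mul_ne_zero hm0 H.index_ne_zero_of_finite) (charDegree_pos η).ne',
      Nat.factorization_mul hm0 H.index_ne_zero_of_finite, Finsupp.add_apply, Finsupp.add_apply,
      Finsupp.add_apply, Nat.factorization_eq_zero_of_not_dvd hnd, zero_add] at hv
    have h1 := degree_factorization_eq hM hB hχB
    rw [h0 χ hχB] at h1
    have h2 := factorization_index_add P p
    rw [card_defectGroup hM hB hP, hM.1.factorization_pow, Finsupp.single_eq_same] at h2
    omega
  intro a ha c hc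
  exact congrArg Subtype.val (comm_of_degrees_of_full hfull hM hbB hbdef hall ⟨a, hPH ha⟩
    (Subgroup.mem_subgroupOf.2 ha) ⟨c, hPH hc⟩ (Subgroup.mem_subgroupOf.2 hc))

end Cfsg.Agent.Blocks
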