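import Mathlib
import Cfsg.Prelude.Def_Blocks
import Cfsg.Agent.Lib.Blocks.FullCentralizer
import Cfsg.Agent.Lib.Blocks.NormalDefect
import Cfsg.Agent.Lib.Blocks.Covering

/-!
# The number of blocks with a given normal defect group as the rank of a matrix over `ZMod p`

The matrix counts pairs of elements in the classes of defect `D` with quotient in a fixed Sylow
subgroup.  Modulo the local ideal it factors through the central characters of the blocks with
defect group `D`, the middle factor being `e_B(1) / p^(a-d)`, which is a unit.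
-/

set_option linter.style.haveILetI false
set_option linter.unusedSectionVars false

namespace Cfsg.Agent.Blocks.DefectCount

open Cfsg.Agent.Characters Cfsg.Agent.BlockCharsA.NormalSupport
open Cfsg.Agent.CharTheory Cfsg.Agent.Blocks
open scoped ComplexConjugate

universe u

variable {G : Type u} [Group G] [Finite G] {p : ℕ} {M : Ideal Cfsg.AlgInt}

theorem map_conj_self {D : Subgroup G} [D.Normal] (g : G) :
    D.map (MulAut.conj g).toMonoidHom = D :=
  Subgroup.Normal.map_conj_eq D g

theorem classSum_congr {a c : G} (h : IsConj a c) : classSum a = classSum c := by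
  classical
  refine el_ext fun y => ?_
  simp only [coeff_classSum]
  exact if_congr ⟨fun e => h.symm.trans e, fun e => h.trans e⟩ rfl rfl

/-- The value at the identity of the idempotent of a block of `D C(D)` with defect group `D`. -/
theorem blockCoeff_one_full (hM : Cfsg.IsPModular p M) {D : Subgroup G}
    (hG : D ⊔ Subgroup.centralizer (D : Set G) = ⊤) {b : Set (Cfsg.IrrCharacter G)}
    (hb : Cfsg.IsPBlock M b) (hbD : Cfsg.IsDefectGroup p M b D) :
    ∃ t : ℕ, 0 < t ∧ t.factorization p = D.index.factorization p ∧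
      Cfsg.blockCoeff b 1 = ((Nat.card D * t ^ 2 : ℕ) : ℂ) / (Nat.card G : ℂ) := by
  classical
  haveI hDn := normal_of_full hG
  haveI := Fintype.ofFinite G
  haveI := Fintype.ofFinite D
  haveI := Fintype.ofFinite (Cfsg.IrrCharacter G)
  have hDp := isPGroup_defect hbD
  obtain ⟨⟨θ, ⟨hθb, hθD⟩, huniq⟩, hdeg, -⟩ := full_centralizer_block hG hM hDp hb hbD
  refine ⟨Cfsg.charDegree (θ : G → ℂ), charDegree_pos θ, hdeg θ hθb hθD, ?_⟩
  obtain ⟨n, -, hn⟩ := irr_one_pos θ.2
  -- only the canonical member has a constant constituent on `D`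
  have hsum : ∀ χ ∈ b, χ ≠ θ → ∑ x : D, (χ : G → ℂ) x = 0 := by
    intro χ hχ hne
    by_contra h0
    refine hne (huniq χ ⟨hχ, (constituent_trivIrr_iff (N := D) χ).1 ?_⟩)
    rw [classInner_def]
    refine mul_ne_zero (inv_ne_zero natCard_ne_zero) ?_
    simpa [trivIrr] using h0
  -- the coefficients vanish at the nontrivial elements of `D`
  have hzero : ∀ x : D, x ≠ 1 → Cfsg.blockCoeff b (x : G) = 0 := by
    intro x hx
    refine blockCoeff_eq_zero_of_singular hM (intEl_blockIdem hM hb) ?_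
    rw [Subgroup.orderOf_coe]
    haveI := fact_prime_of_pm hM
    obtain ⟨k, hk⟩ := IsPGroup.iff_orderOf.1 hDp x
    rw [hk]
    refine dvd_pow_self p fun h => hx ?_
    rwa [h, pow_zero, orderOf_eq_one_iff] at hk
  have h1 : Cfsg.blockCoeff b 1 = ∑ x : D, Cfsg.blockCoeff b (x : G) := by
    rw [Finset.sum_eq_single (1 : D) (fun x _ hx => hzero x hx) (by simp), OneMemClass.coe_one]
  have hcd : (Cfsg.charDegree (θ : G → ℂ) : ℂ) = (θ : G → ℂ) 1 := charDegree_cast θ
  rw [h1]
  simp only [blockCoeff_eq_sum]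
  rw [← Finset.mul_sum, Finset.sum_comm, Finset.sum_eq_single θ, Finset.sum_congr rfl
    (g := fun _ : D => (θ : G → ℂ) 1 * (θ : G → ℂ) 1) fun x _ => ?_]
  · rw [Finset.sum_const, Finset.card_univ, nsmul_eq_mul, ← Nat.card_eq_fintype_card, ← hcd]
    push_cast
    ring
  · rw [if_pos hθb, hθD x x.2, hn, Complex.conj_natCast]
  · intro χ _ hne
    split_ifs with hχ
    · rw [← Finset.mul_sum, ← map_sum, hsum χ hχ hne, map_zero, mul_zero]
    · exact Finset.sum_const_zero
  · simp

/-- `e_B(1) / p^(a-d)` is a unit for a block with normal defect group. -/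
theorem unit_blockCoeff_one (hM : Cfsg.IsPModular p M) {D : Subgroup G} [D.Normal]
    {B : Set (Cfsg.IrrCharacter G)} (hB : Cfsg.IsPBlock M B)
    (hBD : Cfsg.IsDefectGroup p M B D) :
    ¬ Cfsg.MemLocalIdeal M (Cfsg.blockCoeff B 1 *
      ((p ^ (Nat.card D).factorization p : ℕ) : ℂ) /
        ((p ^ (Nat.card G).factorization p : ℕ) : ℂ)) := by
  classical
  haveI := fact_prime_of_pm hM
  haveI := Fintype.ofFinite G
  have hDp := isPGroup_defect hBD
  obtain ⟨H, hH⟩ : ∃ H, H = D ⊔ Subgroup.centralizer (D : Set G) := ⟨_, rfl⟩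
  have hDH : D ≤ H := hH ▸ le_sup_left
  have hCH : Subgroup.centralizer (D : Set G) ≤ H := hH ▸ le_sup_right
  haveI : H.Normal := hH ▸ inferInstance
  haveI := Fintype.ofFinite H
  obtain ⟨χ, hχ⟩ := block_nonempty hM hB
  obtain ⟨θ, hθ⟩ := exists_under (N := H) χ
  set b := Cfsg.blockOf M (θ : H → ℂ)
  have hb : Cfsg.IsPBlock M b := isPBlock_blockOf M θ
  have hθb : θ ∈ b := mem_blockOf_self hM θ
  have hind : Cfsg.IsInducedBlock M H b B := isInduced_of_covers hM hDp hCH hb hB hχ hθb hθ
  -- the defect group of `b`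
  haveI hD₁ : (D.subgroupOf H).Normal := inferInstance
  have hbD : Cfsg.IsDefectGroup p M b (D.subgroupOf H) := by
    obtain ⟨Db, hDb⟩ := exists_defectGroup hM hb
    obtain ⟨E, hE, hle⟩ := exists_defect_le_of_induced hM hind hDb
    obtain ⟨x, hx⟩ := exists_defectGroup_conj_eq hM hB hBD hE
    have hDn : D.map (MulAut.conj x).toMonoidHom = D := map_conj_self x
    rw [hx, hDn] at hle
    suffices D.subgroupOf H = Db by rwa [this]
    refine le_antisymm (normal_le_defect hM (isPGroup_subgroupOf hDp hDH) hb hDb) fun y hy => ?_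
    exact Subgroup.mem_subgroupOf.2 (hle ⟨y, hy, rfl⟩)
  -- the stabiliser of `b`
  have himg : ∀ a c : G, conjIrr a '' (conjIrr c '' b) = conjIrr (c * a) '' b := fun a c => by
    rw [Set.image_image]
    exact Set.image_congr fun η _ => conjIrr_conjIrr a c η
  have himg1 : conjIrr (1 : G) '' b = b := by
    simp [conjIrr_one]
  let T : Subgroup G :=
    { carrier := {g | conjIrr g '' b = b}
      one_mem' := himg1
      mul_mem' := fun {a c} ha hc => by
        show conjIrr (a * c) '' b = b
        rw [← himg c a, show conjIrr a '' b = b from ha]; exact hc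
      inv_mem' := fun {a} ha => by
        show conjIrr a⁻¹ '' b = b
        conv_lhs => rw [← show conjIrr a '' b = b from ha]
        rw [himg, mul_inv_cancel, himg1] }
  have hT : ∀ g, g ∈ T ↔ conjIrr g '' b = b := fun _ => Iff.rfl
  have hblock : ∀ g, conjIrr g '' b = Cfsg.blockOf M (conjIrr g θ : H → ℂ) := by
    intro g
    ext η
    constructor
    · rintro ⟨η₀, hη₀, rfl⟩
      exact sameBlock_conjIrr g (mem_blockOf.1 hη₀)
    · intro hη
      refine ⟨conjIrr g⁻¹ η, ?_, by rw [conjIrr_conjIrr, inv_mul_cancel, conjIrr_one]⟩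
      have := sameBlock_conjIrr g⁻¹ (mem_blockOf.1 hη)
      rwa [conjIrr_conjIrr, mul_inv_cancel, conjIrr_one] at this
  have hHT : H ≤ T := fun g hg => by
    rw [hT]
    refine (Set.image_congr fun η _ => ?_).trans (Set.image_id b)
    refine Subtype.ext (funext fun n => ?_)
    rw [coe_conjIrr, Clifford.conjBy_apply]
    exact irr_isClassFunction η n ⟨g, hg⟩
  have hTH : (T.index).factorization p = H.index.factorization p := by
    have h0 : ¬ p ∣ H.relIndex T := by
      intro hd
      obtain ⟨q, hq⟩ := exists_prime_orderOf_dvd_card' (G := T ⧸ H.subgroupOf T) p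
        (by rwa [← Subgroup.index_eq_card])
      obtain ⟨t₀, rfl⟩ := QuotientGroup.mk_surjective q
      obtain ⟨k, r, hr, hkr⟩ := Nat.exists_eq_pow_mul_and_not_dvd (orderOf_pos t₀).ne' p
        hM.1.ne_one
      have hnot : (t₀ : G) ^ r ∉ H := by
        intro h
        have h1 : (QuotientGroup.mk t₀ : T ⧸ H.subgroupOf T) ^ r = 1 := by
          rw [← QuotientGroup.mk_pow, QuotientGroup.eq_one_iff, Subgroup.mem_subgroupOf,
            Subgroup.coe_pow]
          exact h
        rw [← orderOf_dvd_iff_pow_eq_one, hq] at h1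
        exact hr h1
      have hpow : ((t₀ : G) ^ r) ^ p ^ k = 1 := by
        rw [← pow_mul, mul_comm, ← hkr, ← Subgroup.coe_pow, pow_orderOf_eq_one,
          OneMemClass.coe_one]
      refine hnot (mem_of_stabilizes hM hBD hDH hCH hχ hθ hpow ?_)
      have hmem : conjIrr ((t₀ : G) ^ r) θ ∈ b := by
        have h := (hT _).1 (T.pow_mem t₀.2 r)
        rw [← h]; exact ⟨θ, hθb, rfl⟩
      exact hmem
    rw [← Subgroup.relIndex_mul_index hHT, Nat.factorization_mul
      (fun h => h0 (by rw [h]; exact dvd_zero p)) T.index_ne_zero_of_finite, Finsupp.add_apply,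
      Nat.factorization_eq_zero_of_not_dvd h0, zero_add]
  -- the orbit and its idempotent
  haveI := Fintype.ofFinite (G ⧸ T)
  set f : G ⧸ T → Set (Cfsg.IrrCharacter H) := fun q => conjIrr q.out⁻¹ '' b
  set A : Set (Cfsg.IrrCharacter H) := ⋃ q, f q
  have hmemA : ∀ η, η ∈ A ↔ ∃ g : G, η ∈ conjIrr g '' b := by
    intro η
    constructor
    · intro h
      obtain ⟨q, hq⟩ := Set.mem_iUnion.1 h
      exact ⟨_, hq⟩
    · rintro ⟨g, hg⟩
      refine Set.mem_iUnion.2 ⟨(g⁻¹ : G), ?_⟩
      obtain ⟨t, ht⟩ : ∃ t : T, (((g⁻¹ : G) : G ⧸ T).out : G) = g⁻¹ * t :=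
        QuotientGroup.mk_out_eq_mul T g⁻¹
      show η ∈ conjIrr _ '' b
      rwa [ht, mul_inv_rev, inv_inv, ← himg, show conjIrr ((t : G)⁻¹) '' b = b from T.inv_mem t.2]
  have hinvA : IsInvEl (blockIdem A) := isInvEl_blockIdem fun a η hη => by
    obtain ⟨g, η₀, hη₀, rfl⟩ := (hmemA η).1 hη
    exact (hmemA _).2 ⟨g * a, η₀, hη₀, (conjIrr_conjIrr a g η₀).symm⟩
  have hE : push H (blockIdem A) = blockIdem B := by
    refine central_omega_ext (central_push hinvA) (central_blockIdem B) fun ψ => ?_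
    obtain ⟨η, hη⟩ := exists_under (N := H) ψ
    have hiff : η ∈ A ↔ ψ ∈ B := by
      rw [hmemA]
      constructor
      · rintro ⟨g, η₀, hη₀, rfl⟩
        have hne : Cfsg.classInner (fun n : H => (ψ : G → ℂ) n) (η₀ : H → ℂ) ≠ 0 := by
          rwa [constituent_conjIrr] at hη
        have h2 := isInduced_of_covers hM hDp hCH hb (isPBlock_blockOf M ψ)
          (mem_blockOf_self hM ψ) hη₀ hne
        rw [isInduced_unique hM hind h2]
        exact mem_blockOf_self hM ψ
      · intro hψ
        obtain ⟨g, hg⟩ := constituents_conj_block hM (sameBlock_of_mem hM hB hχ hψ) hθ hη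
        exact ⟨g, hblock g ▸ hg⟩
    rw [omega_push_eq ψ η hη hinvA, omega_blockIdem, omega_blockIdem]
    exact if_congr hiff rfl rfl
  have hdisj : Pairwise (Function.onFun Disjoint f) := by
    intro q q' hne
    refine Set.disjoint_left.2 fun η h h' => hne ?_
    have e : f q = f q' := by
      refine block_eq_of_mem hM ?_ ?_ h h'
      · show Cfsg.IsPBlock M (conjIrr q.out⁻¹ '' b)
        rw [hblock]; exact isPBlock_blockOf M _
      · show Cfsg.IsPBlock M (conjIrr q'.out⁻¹ '' b)
        rw [hblock]; exact isPBlock_blockOf M _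
    rw [← QuotientGroup.out_eq' q, ← QuotientGroup.out_eq' q', QuotientGroup.eq]
    show conjIrr (q.out⁻¹ * q'.out) '' b = b
    rw [← himg, show conjIrr q.out⁻¹ '' b = conjIrr q'.out⁻¹ '' b from e, himg, inv_mul_cancel,
      himg1]
  have hA1 : Cfsg.blockCoeff A 1 = (T.index : ℂ) * Cfsg.blockCoeff b 1 := by
    have hq : ∀ q, Cfsg.blockCoeff (f q) 1 = Cfsg.blockCoeff b 1 := by
      intro q
      rw [Cfsg.blockCoeff, Cfsg.blockCoeff, finsum_mem_image]
      · congr 1
        refine finsum_mem_congr rfl fun η _ => ?_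
        rw [coe_conjIrr, Clifford.conjBy_at_one]
      · exact fun a _ c _ e => Subtype.ext (Clifford.conjBy_injective H _ (congrArg Subtype.val e))
    have hsum : Cfsg.blockCoeff A 1 = ∑ q, Cfsg.blockCoeff (f q) 1 := by
      simp only [Cfsg.blockCoeff]
      rw [finsum_mem_iUnion hdisj fun q => Set.toFinite _, finsum_eq_sum_of_fintype,
        Finset.mul_sum]
    rw [hsum, Finset.sum_congr rfl fun q _ => hq q, Finset.sum_const, nsmul_eq_mul,
      Finset.card_univ, ← Nat.card_eq_fintype_card, Subgroup.index_eq_card]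
  have hB1 : Cfsg.blockCoeff B 1 = (T.index : ℂ) * Cfsg.blockCoeff b 1 := by
    rw [← hA1, ← coeff_blockIdem B, ← hE,
      show (1 : G) = ((1 : H) : G) from rfl, coeff_push_coe, coeff_blockIdem]
  -- the valuation
  have hfull : D.subgroupOf H ⊔ Subgroup.centralizer ((D.subgroupOf H : Subgroup H) : Set H) = ⊤ := by
    refine eq_top_iff.2 fun x _ => ?_
    have hx : (x : G) ∈ ((D ⊔ Subgroup.centralizer (D : Set G) : Subgroup G) : Set G) := hH ▸ x.2
    rw [Subgroup.normal_mul] at hx
    obtain ⟨d, hd, c, hc, hdc⟩ := Set.mem_mul.1 hx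
    rw [show x = (⟨d, hDH hd⟩ : H) * ⟨c, hCH hc⟩ from Subtype.ext hdc.symm]
    exact mul_mem (Subgroup.mem_sup_left (Subgroup.mem_subgroupOf.2 hd))
      (Subgroup.mem_sup_right ((mem_centralizer_subgroupOf hDH).2 hc))
  obtain ⟨t, ht0, ht, hb1⟩ := blockCoeff_one_full hM hfull hb hbD
  have hcardD : Nat.card (D.subgroupOf H) = Nat.card D :=
    Nat.card_congr (Subgroup.subgroupOfEquivOfLe hDH).toEquiv
  rw [hB1, hb1, hcardD]
  set a := (Nat.card G).factorization p
  set d := (Nat.card D).factorization p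
  have e : (T.index : ℂ) * (((Nat.card D * t ^ 2 : ℕ) : ℂ) / (Nat.card H : ℂ)) * ((p ^ d : ℕ) : ℂ) /
      ((p ^ a : ℕ) : ℂ) =
      ((T.index * (Nat.card D * t ^ 2) * p ^ d : ℕ) : ℂ) / ((Nat.card H * p ^ a : ℕ) : ℂ) := by
    simp only [Nat.cast_mul]
    field_simp
  rw [e]
  refine not_ideal_natCast_div hM (mul_ne_zero (mul_ne_zero T.index_ne_zero_of_finite
    (mul_ne_zero Nat.card_pos.ne' (pow_ne_zero _ ht0.ne'))) (pow_ne_zero _ hM.1.ne_zero))
    (mul_ne_zero Nat.card_pos.ne' (pow_ne_zero _ hM.1.ne_zero)) ?_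
  have h1 := factorization_index_add (D.subgroupOf H) p
  have h2 := factorization_index_add H p
  rw [hcardD] at h1
  simp only [Nat.factorization_mul Nat.card_pos.ne' (pow_ne_zero _ hM.1.ne_zero),
    Nat.factorization_mul (mul_ne_zero T.index_ne_zero_of_finite
      (mul_ne_zero (Nat.card_pos (α := D)).ne' (pow_ne_zero 2 ht0.ne'))) (pow_ne_zero d hM.1.ne_zero),
    Nat.factorization_mul T.index_ne_zero_of_finite
      (mul_ne_zero (Nat.card_pos (α := D)).ne' (pow_ne_zero 2 ht0.ne')),
    Nat.factorization_mul (Nat.card_pos (α := D)).ne' (pow_ne_zero 2 ht0.ne'),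
    Nat.factorization_pow, Finsupp.add_apply, Finsupp.smul_apply, smul_eq_mul,
    Nat.Prime.factorization_self hM.1, mul_one, hTH, ht]
  omega

section Rank

/-- A matrix over a subfield has the rank of its image. -/
theorem rank_map_field {K L : Type*} [Field K] [Field L] (f : K →+* L) {ι : Type*} [Fintype ι]
    [DecidableEq ι] (A : Matrix ι ι K) : (A.map f).rank = A.rank := by
  classical
  obtain ⟨V, U, e, hV, hU, h⟩ := A.exists_rank_normal_form
  have h' := congrArg (fun B : Matrix ι ι K => B.map f) h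
  simp only [Matrix.map_mul] at h'
  have hN : ((Matrix.fromBlocks (1 : Matrix (Fin A.rank) (Fin A.rank) K) 0 0
      (0 : Matrix (Fin (Fintype.card ι - A.rank)) (Fin (Fintype.card ι - A.rank)) K)).submatrix
        e e).map f =
      Matrix.diagonal (fun i => Sum.elim (fun _ => (1 : L)) (fun _ => 0) (e i)) := by
    rw [← Matrix.diagonal_one, ← Matrix.diagonal_zero, Matrix.fromBlocks_diagonal,
      Matrix.submatrix_diagonal_equiv, Matrix.diagonal_map (map_zero f)]
    congr 1
    funext i
    simp only [Function.comp_apply]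
    cases e i <;> simp
  have hr := congrArg Matrix.rank h'
  rw [hN, Matrix.rank_diagonal,
    Matrix.rank_mul_eq_left_of_isUnit_det (U.map f) _ ((Matrix.isUnit_iff_isUnit_det _).1
      (hU.map f.mapMatrix)),
    Matrix.rank_mul_eq_right_of_isUnit_det (V.map f) _ ((Matrix.isUnit_iff_isUnit_det _).1
      (hV.map f.mapMatrix))] at hr
  rw [hr]
  conv_rhs => rw [← Fintype.card_fin A.rank]
  refine Fintype.card_congr ((e.subtypeEquiv (q := fun x => x.isLeft = true) fun i => ?_).trans
    { toFun := fun x => x.1.getLeft x.2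
      invFun := fun j => ⟨Sum.inl j, rfl⟩
      left_inv := fun x => Subtype.ext (Sum.inl_getLeft _ _)
      right_inv := fun j => rfl })
  cases e i <;> simp

/-- A product through a middle space with one-sided inverses has the rank of that space. -/
theorem rank_mul_of_inverses {K : Type*} [Field K] {ι β : Type*} [Fintype ι] [Fintype β]
    [DecidableEq β] [DecidableEq ι] (U : Matrix ι β K) (V : Matrix β ι K) (E : Matrix β ι K)
    (F : Matrix ι β K) (h1 : E * U = 1) (h2 : V * F = 1) :
    (U * V).rank = Fintype.card β := by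
  refine le_antisymm ((Matrix.rank_mul_le_left U V).trans (Matrix.rank_le_card_width U)) ?_
  have h := (Matrix.rank_mul_le_left (E * (U * V)) F).trans (Matrix.rank_mul_le_right E (U * V))
  rwa [show E * (U * V) * F = 1 by
    rw [← Matrix.mul_assoc E, h1, Matrix.one_mul, h2], Matrix.rank_one] at h

end Rank

/-! ## The counting formula -/

/-- The factor attached to a character. -/
noncomputable def weight (p : ℕ) (S : Subgroup G) [Fintype S] (d : ℕ) (χ : G → ℂ) : ℂ :=
  Cfsg.classInner (fun _ : S => (1 : ℂ)) (fun s : S => χ s) * χ 1 *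
    ((p ^ d : ℕ) : ℂ) / (Nat.card G : ℂ)

theorem isConj_inv_inv {x y : G} (h : IsConj x y) : IsConj x⁻¹ y⁻¹ := by
  obtain ⟨c, hc⟩ := isConj_iff.1 h
  exact isConj_iff.2 ⟨c, by rw [← hc]; group⟩

theorem count_eq_sum [Fintype G] [Fintype (Cfsg.IrrCharacter G)] (S : Subgroup G) [Fintype S]
    (x y : G) :
    (Nat.card {yz : G × G // IsConj x yz.1 ∧ IsConj y yz.2 ∧ yz.2 * yz.1⁻¹ ∈ S} : ℂ) =
      ∑ χ : Cfsg.IrrCharacter G, Cfsg.classInner (fun _ : S => (1 : ℂ)) (fun s : S => (χ : G → ℂ) s) *
        (χ : G → ℂ) 1 * (Nat.card S : ℂ) / (Nat.card G : ℂ) *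
          (Cfsg.centralChar (χ : G → ℂ) y * Cfsg.centralChar (χ : G → ℂ) x⁻¹) := by
  classical
  set z := classSum y * classSum x⁻¹ with hz
  have hleft : (Nat.card {yz : G × G // IsConj x yz.1 ∧ IsConj y yz.2 ∧ yz.2 * yz.1⁻¹ ∈ S} : ℂ) =
      ∑ s : S, z.coeff (s : G) := by
    simp only [hz, coeff_mul', coeff_classSum, mul_ite, mul_one, mul_zero, ← ite_and]
    rw [Finset.sum_congr rfl (g := fun s : S =>
      ((Nat.card {h : G // IsConj x⁻¹ (h⁻¹ * (s : G)) ∧ IsConj y h} : ℕ) : ℂ)) fun s _ => by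
        rw [Nat.card_eq_fintype_card, Fintype.card_subtype, ← Finset.sum_boole]
        exact Finset.sum_congr rfl fun _ _ => by congr,
      ← Nat.cast_sum, ← Nat.card_sigma, Nat.cast_inj]
    refine Nat.card_congr
      { toFun := fun w => ⟨⟨w.1.2 * w.1.1⁻¹, w.2.2.2⟩, w.1.2, ?_, w.2.2.1⟩
        invFun := fun w => ⟨((w.2.1⁻¹ * (w.1 : G))⁻¹, w.2.1), ?_, w.2.2.2, ?_⟩
        left_inv := fun w => Subtype.ext (Prod.ext (by simp) rfl)
        right_inv := fun w => ?_ }
    · simp only [inv_mul_cancel_left]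
      exact isConj_inv_inv w.2.1
    · simpa using isConj_inv_inv w.2.2.1
    · simp
    · obtain ⟨⟨s, hs⟩, h, hh⟩ := w
      refine Sigma.ext (Subtype.ext (by simp)) ?_
      refine (Subtype.heq_iff_coe_eq fun a => ?_).2 rfl
      simp
  have hzc : IsCentralEl z := central_mul (central_classSum y) (central_classSum x⁻¹)
  rw [hleft]
  simp only [show ∀ s : S, z.coeff (s : G) =
    (Nat.card G : ℂ)⁻¹ * ∑ χ : Cfsg.IrrCharacter G,
      omega (χ : G → ℂ) z * (χ : G → ℂ) 1 * conj ((χ : G → ℂ) (s : G)) from fun s => by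
    conv_lhs => rw [← fourier_omega hzc]
    rw [coeff_fourier]]
  simp only [Finset.mul_sum]
  rw [Finset.sum_comm]
  refine Finset.sum_congr rfl fun χ _ => ?_
  rw [hz, omega_mul χ (central_classSum y), omega_classSum (irr_isClassFunction χ),
    omega_classSum (irr_isClassFunction χ), classInner_def]
  simp only [one_mul, Finset.mul_sum, Finset.sum_mul, Finset.sum_div]
  refine Finset.sum_congr rfl fun s _ => ?_
  field_simp

theorem inv_centralizer (x : G) :
    Subgroup.centralizer ({x⁻¹} : Set G) = Subgroup.centralizer ({x} : Set G) := by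
  ext c
  simp only [Subgroup.mem_centralizer_singleton_iff]
  exact ⟨fun h => (inv_inv x) ▸ (Commute.inv_right (show Commute c x⁻¹ from h)).eq,
    fun h => (Commute.inv_right (show Commute c x from h)).eq⟩

theorem dvd_count [Fact p.Prime] {D : Subgroup G} (S : Sylow p G) {x : G}
    (hDp : IsPGroup p D) [D.Normal] (hx : IsSylCent p x D) (P : G × G → Prop)
    (hP1 : ∀ w, P w → IsConj x w.1)
    (hPS : ∀ w, ∀ s ∈ (S : Subgroup G), P w → P (s * w.1 * s⁻¹, s * w.2 * s⁻¹)) :
    p ^ ((Nat.card G).factorization p - (Nat.card D).factorization p) ∣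
      Nat.card {w : G × G // P w} := by
  classical
  have hp : p.Prime := Fact.out
  letI act : MulAction (S : Subgroup G) {w : G × G // P w} :=
    { smul := fun s w => ⟨((s : G) * w.1.1 * (s : G)⁻¹, (s : G) * w.1.2 * (s : G)⁻¹),
        hPS _ _ s.2 w.2⟩
      one_smul := fun w => Subtype.ext (Prod.ext
        (show ((1 : (S : Subgroup G)) : G) * w.1.1 * ((1 : (S : Subgroup G)) : G)⁻¹ = w.1.1 by simp)
        (show ((1 : (S : Subgroup G)) : G) * w.1.2 * ((1 : (S : Subgroup G)) : G)⁻¹ = w.1.2 by simp))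
      mul_smul := fun s t w => Subtype.ext (Prod.ext
        (show ((s * t : (S : Subgroup G)) : G) * w.1.1 * ((s * t : (S : Subgroup G)) : G)⁻¹ =
          (s : G) * ((t : G) * w.1.1 * (t : G)⁻¹) * (s : G)⁻¹ by simp [mul_assoc])
        (show ((s * t : (S : Subgroup G)) : G) * w.1.2 * ((s * t : (S : Subgroup G)) : G)⁻¹ =
          (s : G) * ((t : G) * w.1.2 * (t : G)⁻¹) * (s : G)⁻¹ by simp [mul_assoc])) }
  haveI := Fintype.ofFinite (MulAction.orbitRel.Quotient (S : Subgroup G) {w : G × G // P w})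
  rw [Nat.card_congr (MulAction.selfEquivSigmaOrbits (S : Subgroup G) {w : G × G // P w}),
    Nat.card_sigma]
  refine Finset.dvd_sum fun ω _ => ?_
  set w := ω.out
  rw [Nat.card_congr (MulAction.orbitEquivQuotientStabilizer (S : Subgroup G) w),
    ← Subgroup.index_eq_card]
  -- the stabiliser lies in `D`
  obtain ⟨c, hc⟩ := isConj_iff.1 (hP1 _ w.2)
  have hsyl : IsSylCent p w.1.1 D := by
    have := isSylCent_conj hx c
    rw [hc] at this
    rwa [map_conj_self] at this
  set St := MulAction.stabilizer (S : Subgroup G) w with hSt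
  have hle : St.map (S : Subgroup G).subtype ≤ D := by
    set Q := St.map (S : Subgroup G).subtype with hQ
    have hQC : Q ≤ Subgroup.centralizer ({w.1.1} : Set G) := by
      rintro _ ⟨s, hs, rfl⟩
      have h := congrArg (fun v : {w : G × G // P w} => v.1.1) (MulAction.mem_stabilizer_iff.1 hs)
      change (s : G) * w.1.1 * (s : G)⁻¹ = w.1.1 at h
      rw [Subgroup.mem_centralizer_singleton_iff]
      exact mul_inv_eq_iff_eq_mul.1 h
    have hQp : IsPGroup p Q := (S.isPGroup'.to_subgroup St).map _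
    have hQD : IsPGroup p (Q ⊔ D : Subgroup G) := hQp.to_sup_of_normal_right hDp
    exact (isSylCent_max hsyl hQD le_sup_right (sup_le hQC (isSylCent_le hsyl))) ▸ le_sup_left
  have h1 : Nat.card St ∣ Nat.card D := by
    rw [← Subgroup.card_map_of_injective (S : Subgroup G).subtype_injective]
    exact Subgroup.card_dvd_of_le hle
  have h2 := St.card_mul_index
  obtain ⟨k, hk⟩ := S.isPGroup'.exists_card_eq
  obtain ⟨j, -, hj⟩ := (Nat.dvd_prime_pow hp).1 (hk ▸ St.index_dvd_card)
  rw [hj]
  refine pow_dvd_pow p ?_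
  have h3 : (Nat.card St).factorization p + j = (Nat.card G).factorization p := by
    have h := congrArg (fun n => Nat.factorization n p) h2
    rw [Nat.factorization_mul Nat.card_pos.ne' St.index_ne_zero_of_finite, Finsupp.add_apply, hj,
      hp.factorization_pow, Finsupp.single_eq_same,
      show Nat.card (S : Subgroup G) = p ^ (Nat.card G).factorization p from S.card_eq_multiplicity,
      hp.factorization_pow, Finsupp.single_eq_same] at h
    exact h
  have h4 := (Nat.factorization_le_iff_dvd Nat.card_pos.ne' Nat.card_pos.ne').2 h1 p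
  omega

set_option maxHeartbeats 800000 in
/-- **Brauer.** -/
theorem card_blocks_eq_rank (hM : Cfsg.IsPModular p M) [Fact p.Prime] (D : Subgroup G) [D.Normal]
    (hD : IsPGroup p D) (S : Sylow p G) {ι : Type*} [Fintype ι] [DecidableEq ι]
    (K : ι → ConjClasses G) (hKinj : Function.Injective K)
    (hK : ∀ C : ConjClasses G, (∃ i, K i = C) ↔ ∃ x ∈ C.carrier, ¬ p ∣ orderOf x ∧
      IsSylCent p x D) :
    Nat.card {B : Set (Cfsg.IrrCharacter G) // Cfsg.IsPBlock M B ∧ Cfsg.IsDefectGroup p M B D} =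
      (Matrix.of fun i j : ι =>
        ((Nat.card {yz : G × G // yz.1 ∈ (K i).carrier ∧ yz.2 ∈ (K j).carrier ∧
          yz.2 * yz.1⁻¹ ∈ (S : Subgroup G)} /
            p ^ ((Nat.card G).factorization p - (Nat.card D).factorization p) : ℕ) : ZMod p)).rank := by
  classical
  have hp : p.Prime := Fact.out
  haveI := Fintype.ofFinite G
  haveI := Fintype.ofFinite (S : Subgroup G)
  haveI := Fintype.ofFinite (Cfsg.IrrCharacter G)
  haveI := Fintype.ofFinite (ConjClasses G)
  set β := {B : Set (Cfsg.IrrCharacter G) // Cfsg.IsPBlock M B ∧ Cfsg.IsDefectGroup p M B D}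
  haveI := Fintype.ofFinite β
  set a := (Nat.card G).factorization p
  set d := (Nat.card D).factorization p
  -- representatives
  have hrep : ∀ i, ∃ x : G, ConjClasses.mk x = K i ∧ ¬ p ∣ orderOf x ∧ IsSylCent p x D := by
    intro i
    obtain ⟨x, hx, h1, h2⟩ := (hK (K i)).1 ⟨i, rfl⟩
    exact ⟨x, ConjClasses.mem_carrier_iff_mk_eq.1 hx, h1, h2⟩
  choose x hxK hxreg hxD using hrep
  have hmem : ∀ i y, y ∈ (K i).carrier ↔ IsConj (x i) y := fun i y => by
    rw [ConjClasses.mem_carrier_iff_mk_eq, ← hxK i, ConjClasses.mk_eq_mk_iff_isConj, isConj_comm]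
  have hcl : ∀ i, (Nat.card (Subgroup.centralizer ({x i} : Set G))).factorization p = d := by
    intro i
    have h := card_sylCent_eq (hxD i)
    show _ = (Nat.card D).factorization p
    rw [h, hp.factorization_pow, Finsupp.single_eq_same]
  have hda : d ≤ a := (Nat.factorization_le_iff_dvd Nat.card_pos.ne' Nat.card_pos.ne').2
    D.card_subgroup_dvd_card p
  have hSa : Nat.card (S : Subgroup G) = p ^ a := S.card_eq_multiplicity
  set Q : Cfsg.IrrCharacter G → ℂ := fun χ =>
    Cfsg.classInner (fun _ : (S : Subgroup G) => (1 : ℂ)) (fun s : (S : Subgroup G) => (χ : G → ℂ) s)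
  have hQ : ∀ χ, Cfsg.MemLocalRing M (Q χ) := fun χ => by
    obtain ⟨n, hn⟩ := classInner_char_nat (isCharacter_one (G := (S : Subgroup G)))
      (isCharacter_restrict (S : Subgroup G) (irr_isCharacter χ))
    show Cfsg.MemLocalRing M (Cfsg.classInner _ _)
    rw [hn]; exact ring_natCast hM n
  set w : Cfsg.IrrCharacter G → ℂ := fun χ => weight p (S : Subgroup G) d (χ : G → ℂ)
  -- a class with unit central character in a block with defect group `D`
  have hin : ∀ (B : β) (χ : Cfsg.IrrCharacter G), χ ∈ B.1 → ∀ y,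
      ¬ Cfsg.MemLocalIdeal M (Cfsg.centralChar (χ : G → ℂ) y) →
      y ∈ Subgroup.centralizer (D : Set G) := by
    intro B χ hχ y hy
    obtain ⟨c, hc, hcD⟩ := meets_defect_of_omega hM B.2.1 B.2.2 hχ hy
    obtain ⟨g, rfl⟩ := isConj_iff.1 hc
    have h := (inferInstance : (Subgroup.centralizer (D : Set G)).Normal).conj_mem _ hcD g⁻¹
    simpa [mul_assoc] using h
  -- a class with unit products is one of the given ones
  have hsupp : ∀ (B B' : β) (χ : Cfsg.IrrCharacter G), χ ∈ B'.1 → ∀ y,
      ¬ Cfsg.MemLocalIdeal M (Cfsg.blockCoeff B.1 y * Cfsg.centralChar (χ : G → ℂ) y) →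
      ¬ p ∣ orderOf y ∧ IsSylCent p y D := by
    intro B B' χ hχ y hy
    have h1 : ¬ Cfsg.MemLocalIdeal M (Cfsg.blockCoeff B.1 y) := fun h =>
      hy (ideal_mul_right hM h (centralChar_ring hM χ y))
    have h2 : ¬ Cfsg.MemLocalIdeal M (Cfsg.centralChar (χ : G → ℂ) y) := fun h =>
      hy (ideal_mul_left hM (blockCoeff_ring hM B.2.1 y) h)
    refine ⟨fun hs => h1 (blockCoeff_eq_zero_of_singular hM (intEl_blockIdem hM B.2.1) hs ▸
      ideal_zero hM), ?_⟩
    refine isSylCent_of_max hD (le_centralizer_iff_mem.2 (hin B' χ hχ y h2))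
      fun R hR hDR hRC => ?_
    obtain ⟨g, hg⟩ := le_defect_of_coeff hM B.2.1 B.2.2 h1 hR (le_centralizer_iff_mem.1 hRC)
    rw [map_conj_self] at hg
    exact le_antisymm hg hDR
  -- in a block with another defect group the central characters at the inverse classes vanish
  have hout : ∀ (χ : Cfsg.IrrCharacter G) i,
      ¬ Cfsg.IsDefectGroup p M (Cfsg.blockOf M (χ : G → ℂ)) D →
      Cfsg.MemLocalIdeal M (Cfsg.centralChar (χ : G → ℂ) (x i)⁻¹) := by
    intro χ i hnot
    by_contra hy
    have hB := isPBlock_blockOf M χ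
    obtain ⟨E, hE⟩ := exists_defectGroup hM hB
    obtain ⟨c, hc, hcE⟩ := meets_defect_of_omega hM hB hE (mem_blockOf_self hM χ) hy
    obtain ⟨g, hg⟩ := isConj_iff.1 (isConj_inv_inv hc)
    rw [inv_inv] at hg
    have hsyl := isSylCent_conj (hxD i) g
    rw [hg, map_conj_self] at hsyl
    apply hnot
    rw [← isSylCent_max hsyl (isPGroup_defect hE) (normal_le_defect hM hD hB hE)
      (le_centralizer_iff_mem.2 (inv_mem hcE))]
    exact hE
  -- the integrality
  have hbr : ∀ (χ : Cfsg.IrrCharacter G) j,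
      Cfsg.MemLocalRing M (w χ * Cfsg.centralChar (χ : G → ℂ) (x j)) := by
    intro χ j
    have h0 : (Subgroup.centralizer ({x j} : Set G)).index *
        Nat.card (Subgroup.centralizer ({x j} : Set G)) = Nat.card G :=
      Subgroup.index_mul_card _
    have hC : (Nat.card (Subgroup.centralizer ({x j} : Set G)) : ℂ) ≠ 0 :=
      Nat.cast_ne_zero.2 Nat.card_pos.ne'
    have hi : ((Subgroup.centralizer ({x j} : Set G)).index : ℂ) ≠ 0 :=
      Nat.cast_ne_zero.2 Subgroup.index_ne_zero_of_finite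
    have h1 : (χ : G → ℂ) 1 ≠ 0 := irr_one_ne_zero χ.2
    have he : w χ * Cfsg.centralChar (χ : G → ℂ) (x j) = Q χ * (χ : G → ℂ) (x j) *
        (((p ^ d : ℕ) : ℂ) / (Nat.card (Subgroup.centralizer ({x j} : Set G)) : ℂ)) := by
      simp only [w, weight, Q, Cfsg.centralChar]
      rw [← h0, Nat.cast_mul]
      field_simp
    rw [he]
    refine ring_mul hM (ring_mul hM (hQ χ) (irr_value_ring hM χ _))
      (ring_natCast_div hM Nat.card_pos.ne' ?_)
    rw [hcl j, hp.factorization_pow, Finsupp.single_eq_same]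
  have hwr : ∀ (B : β) (χ : Cfsg.IrrCharacter G), χ ∈ B.1 → Cfsg.MemLocalRing M (w χ) := by
    intro B χ hχ
    simp only [w, weight]
    rw [← charDegree_cast χ, mul_assoc, mul_div_assoc, ← Nat.cast_mul]
    refine ring_mul hM (hQ χ) (ring_natCast_div hM Nat.card_pos.ne' ?_)
    rw [Nat.factorization_mul (charDegree_pos χ).ne' (pow_ne_zero _ hp.ne_zero), Finsupp.add_apply,
      hp.factorization_pow, Finsupp.single_eq_same]
    have h := degree_factorization_eq hM B.2.1 hχ
    have h2 : Cfsg.blockDefect p B.1 = d := by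
      show _ = (Nat.card D).factorization p
      rw [card_defectGroup hM B.2.1 B.2.2, hp.factorization_pow, Finsupp.single_eq_same]
    omega
  -- the middle factor
  set C : β → ℂ := fun B => ∑ χ : Cfsg.IrrCharacter G, if χ ∈ B.1 then w χ else 0
  have hCr : ∀ B, Cfsg.MemLocalRing M (C B) := fun B => ring_sum hM fun χ _ => by
    split
    · exact hwr B χ ‹_›
    · exact ring_zero hM
  have hCu : ∀ B, ¬ Cfsg.MemLocalIdeal M (C B) := by
    intro B
    suffices h : C B = Cfsg.blockCoeff B.1 1 * ((p ^ d : ℕ) : ℂ) / ((p ^ a : ℕ) : ℂ) by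
      rw [h]; exact unit_blockCoeff_one hM B.2.1 B.2.2
    have hz : Cfsg.blockCoeff B.1 1 = ∑ s : (S : Subgroup G), Cfsg.blockCoeff B.1 (s : G) := by
      rw [Finset.sum_eq_single (1 : (S : Subgroup G)) ?_ (by simp), OneMemClass.coe_one]
      intro s _ hs
      refine blockCoeff_eq_zero_of_singular hM (intEl_blockIdem hM B.2.1) ?_
      rw [Subgroup.orderOf_coe]
      obtain ⟨k, hk⟩ := IsPGroup.iff_orderOf.1 S.isPGroup' s
      rw [hk]
      refine dvd_pow_self p fun h => hs ?_
      rwa [h, pow_zero, orderOf_eq_one_iff] at hk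
    rw [hz, ← hSa]
    simp only [C, w, weight, blockCoeff_eq_sum]
    rw [← Finset.mul_sum, Finset.sum_comm, Finset.mul_sum, Finset.sum_mul, Finset.sum_div]
    refine Finset.sum_congr rfl fun χ _ => ?_
    split_ifs with h
    · rw [classInner_def]
      simp only [one_mul]
      rw [← Finset.mul_sum]
      field_simp
    · simp
  have hpick : ∀ B : β, ∃ χ, χ ∈ B.1 := fun B => block_nonempty hM B.2.1
  choose ψ hψ using hpick
  -- the factorisation modulo the ideal
  have key : ∀ i j, Cong M
      ((Nat.card {yz : G × G // yz.1 ∈ (K i).carrier ∧ yz.2 ∈ (K j).carrier ∧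
        yz.2 * yz.1⁻¹ ∈ (S : Subgroup G)} / p ^ (a - d) : ℕ) : ℂ)
      (∑ B : β, C B * Cfsg.centralChar (ψ B : G → ℂ) (x i)⁻¹ *
        Cfsg.centralChar (ψ B : G → ℂ) (x j)) := by
    intro i j
    have hdvd := dvd_count S hD (hxD i)
      (fun yz => IsConj (x i) yz.1 ∧ IsConj (x j) yz.2 ∧ yz.2 * yz.1⁻¹ ∈ (S : Subgroup G))
      (fun _ h => h.1) (fun yz s hs h => ⟨h.1.trans (isConj_iff.2 ⟨s, rfl⟩),
        h.2.1.trans (isConj_iff.2 ⟨s, rfl⟩), by
          have := mul_mem (mul_mem hs h.2.2) (inv_mem hs)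
          convert this using 1
          group⟩)
    simp only [hmem]
    rw [Nat.cast_div hdvd (Nat.cast_ne_zero.2 (pow_ne_zero _ hp.ne_zero)),
      count_eq_sum (S : Subgroup G) (x i) (x j)]
    have hpw : (Nat.card (S : Subgroup G) : ℂ) = ((p ^ (a - d) : ℕ) : ℂ) * ((p ^ d : ℕ) : ℂ) := by
      rw [hSa, ← Nat.cast_mul, ← pow_add, Nat.sub_add_cancel hda]
    rw [Finset.sum_div, Finset.sum_congr rfl (g := fun χ : Cfsg.IrrCharacter G =>
      w χ * Cfsg.centralChar (χ : G → ℂ) (x j) * Cfsg.centralChar (χ : G → ℂ) (x i)⁻¹) fun χ _ => by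
        simp only [w, weight]
        rw [hpw]
        have : ((p ^ (a - d) : ℕ) : ℂ) ≠ 0 := Nat.cast_ne_zero.2 (pow_ne_zero _ hp.ne_zero)
        field_simp
        simp only [a, d]
        ring]
    -- only the characters of blocks with defect group `D` matter
    have hsplit : ∀ χ : Cfsg.IrrCharacter G, Cong M
        (w χ * Cfsg.centralChar (χ : G → ℂ) (x j) * Cfsg.centralChar (χ : G → ℂ) (x i)⁻¹)
        (∑ B : β, if χ ∈ B.1 then w χ * Cfsg.centralChar (ψ B : G → ℂ) (x i)⁻¹ *
          Cfsg.centralChar (ψ B : G → ℂ) (x j) else 0) := by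
      intro χ
      by_cases hχ : Cfsg.IsDefectGroup p M (Cfsg.blockOf M (χ : G → ℂ)) D
      · rw [Finset.sum_eq_single (⟨_, isPBlock_blockOf M χ, hχ⟩ : β)]
        · set B : β := ⟨_, isPBlock_blockOf M χ, hχ⟩
          have hmemB : χ ∈ B.1 := mem_blockOf_self hM χ
          rw [if_pos hmemB, mul_right_comm (w χ) (Cfsg.centralChar (ψ B : G → ℂ) (x i)⁻¹)]
          have hs : ∀ y, Cong M (Cfsg.centralChar (χ : G → ℂ) y)
              (Cfsg.centralChar (ψ B : G → ℂ) y) :=
            fun y => sameBlock_of_mem hM B.2.1 hmemB (hψ B) y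
          have hw := hwr B χ hmemB
          exact cong_mul hM (cong_mul_left hM hw (hs _)) (hs _)
            (ring_mul hM hw (centralChar_ring hM _ _)) (centralChar_ring hM _ _)
        · exact fun B _ hne => if_neg fun h =>
            hne (Subtype.ext (block_eq_blockOf hM B.2.1 h))
        · simp
      · rw [Finset.sum_eq_zero fun (B : β) (_ : B ∈ Finset.univ) => if_neg fun h : χ ∈ B.1 =>
          hχ (block_eq_blockOf hM B.2.1 h ▸ B.2.2), cong_zero_iff]
        exact ideal_mul_left hM (hbr χ j) (hout χ i hχ)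
    refine cong_trans hM (cong_sum hM fun χ _ => hsplit χ) (cong_of_eq hM ?_)
    rw [Finset.sum_comm]
    refine Finset.sum_congr rfl fun B _ => ?_
    simp only [C, Finset.sum_mul]
    exact Finset.sum_congr rfl fun χ _ => by split <;> simp
  -- orthogonality over the given classes
  have hortho : ∀ B B' : β, Cong M (∑ i, Cfsg.blockCoeff B.1 (x i) *
      Cfsg.centralChar (ψ B' : G → ℂ) (x i)) (if B = B' then 1 else 0) := by
    intro B B'
    have h : omega (ψ B' : G → ℂ) (blockIdem B.1) = if B = B' then 1 else 0 := by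
      split_ifs with h
      · exact omega_blockIdem_mem (h ▸ hψ B')
      · exact omega_blockIdem_notMem fun hm => h (Subtype.ext
          (block_eq_of_mem hM B.2.1 B'.2.1 hm (hψ B')))
    rw [← h]
    conv => arg 3; rw [central_eq_sum (central_blockIdem B.1), omega_sum]
    simp only [omega_smul, omega_classSum (irr_isClassFunction (ψ B')), coeff_blockIdem]
    set F : ConjClasses G → ℂ := fun Cl => Cfsg.blockCoeff B.1 (Quotient.out Cl) *
      Cfsg.centralChar (ψ B' : G → ℂ) (Quotient.out Cl)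
    have hF : ∀ i, Cfsg.blockCoeff B.1 (x i) * Cfsg.centralChar (ψ B' : G → ℂ) (x i) = F (K i) := by
      intro i
      have hc : IsConj (Quotient.out (K i)) (x i) :=
        ConjClasses.mk_eq_mk_iff_isConj.1 ((Quotient.out_eq (K i)).trans (hxK i).symm)
      have e1 : classSum (Quotient.out (K i)) = classSum (x i) := classSum_congr hc
      simp only [F]
      rw [← omega_classSum (irr_isClassFunction (ψ B')), ← omega_classSum
        (irr_isClassFunction (ψ B')), e1, ← coeff_blockIdem, ← coeff_blockIdem,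
        central_isConj (central_blockIdem B.1) hc]
    rw [Finset.sum_congr rfl fun i _ => hF i, ← Finset.sum_image (f := F) (fun a _ c _ e => hKinj e),
      ← Finset.sum_add_sum_compl (Finset.univ.image K) F]
    unfold Cong
    rw [sub_add_cancel_left]
    refine ideal_neg hM (ideal_sum hM fun Cl hCl => ?_)
    by_contra hne
    obtain ⟨h1, h2⟩ := hsupp B B' _ (hψ B') _ hne
    obtain ⟨i, hi⟩ := (hK Cl).2 ⟨Quotient.out Cl,
      ConjClasses.mem_carrier_iff_mk_eq.2 (Quotient.out_eq Cl), h1, h2⟩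
    exact Finset.mem_compl.1 hCl (Finset.mem_image.2 ⟨i, Finset.mem_univ _, hi⟩)
  -- inversion permutes the classes
  have hinv : ∀ i, ∃ j, IsConj (x i)⁻¹ (x j) := by
    intro i
    obtain ⟨j, hj⟩ := (hK (ConjClasses.mk (x i)⁻¹)).2 ⟨(x i)⁻¹, ConjClasses.mem_carrier_mk,
      by rw [orderOf_inv]; exact hxreg i, by
        have := hxD i
        unfold IsSylCent at this ⊢
        rw [inv_centralizer]; exact this⟩
    exact ⟨j, ConjClasses.mk_eq_mk_iff_isConj.1 (hj.symm.trans (hxK j).symm)⟩
  choose τ hτ using hinv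
  have hτinj : Function.Injective τ := by
    intro i i' h
    apply hKinj
    rw [← hxK, ← hxK, ConjClasses.mk_eq_mk_iff_isConj]
    have h2 : IsConj (x i)⁻¹ (x i')⁻¹ := (hτ i).trans (h ▸ (hτ i').symm)
    simpa using isConj_inv_inv h2
  set τe := Equiv.ofBijective τ (Finite.injective_iff_bijective.1 hτinj)
  have hortho' : ∀ B B' : β, Cong M (∑ i, Cfsg.blockCoeff B.1 (x i)⁻¹ *
      Cfsg.centralChar (ψ B' : G → ℂ) (x i)⁻¹) (if B = B' then 1 else 0) := by
    intro B B'
    refine cong_trans hM (cong_of_eq hM (Fintype.sum_equiv τe _ _ fun i => ?_)) (hortho B B')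
    have hc := hτ i
    show _ = Cfsg.blockCoeff B.1 (x (τ i)) * Cfsg.centralChar (ψ B' : G → ℂ) (x (τ i))
    rw [← omega_classSum (irr_isClassFunction (ψ B')), ← omega_classSum
      (irr_isClassFunction (ψ B')), ← coeff_blockIdem, ← coeff_blockIdem,
      central_isConj (central_blockIdem B.1) hc, classSum_congr hc]
  -- the residue field
  haveI hmax : (locIdeal hM).IsMaximal := by
    rw [Ideal.isMaximal_iff]
    refine ⟨fun h => not_ideal_one hM h, fun J z hle hz hzJ => ?_⟩
    have hu : (⟨(z : ℂ)⁻¹, ring_inv hM z.2 hz⟩ : locSubring hM) * z = 1 :=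
      Subtype.ext (inv_mul_cancel₀ (ne_zero_of_not_ideal hM hz))
    exact hu ▸ J.mul_mem_left _ hzJ
  letI := Ideal.Quotient.field (locIdeal hM)
  set π := Ideal.Quotient.mk (locIdeal hM)
  haveI : CharP (locSubring hM ⧸ locIdeal hM) p := by
    refine (CharP.charP_iff_prime_eq_zero hp).2 ?_
    rw [← map_natCast π p, Ideal.Quotient.eq_zero_iff_mem]
    exact ideal_p hM
  set φ : ZMod p →+* locSubring hM ⧸ locIdeal hM := ZMod.castHom dvd_rfl _
  rw [← rank_map_field φ, Nat.card_eq_fintype_card]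
  let U : Matrix ι β (locSubring hM ⧸ locIdeal hM) := Matrix.of fun i B =>
    π ⟨C B * Cfsg.centralChar (ψ B : G → ℂ) (x i)⁻¹,
      ring_mul hM (hCr B) (centralChar_ring hM _ _)⟩
  let V : Matrix β ι (locSubring hM ⧸ locIdeal hM) := Matrix.of fun B j =>
    π ⟨Cfsg.centralChar (ψ B : G → ℂ) (x j), centralChar_ring hM _ _⟩
  let E : Matrix β ι (locSubring hM ⧸ locIdeal hM) := Matrix.of fun B i =>
    π ⟨Cfsg.blockCoeff B.1 (x i)⁻¹ * (C B)⁻¹,
      ring_mul hM (blockCoeff_ring hM B.2.1 _) (ring_inv hM (hCr B) (hCu B))⟩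
  let F : Matrix ι β (locSubring hM ⧸ locIdeal hM) := Matrix.of fun i B =>
    π ⟨Cfsg.blockCoeff B.1 (x i), blockCoeff_ring hM B.2.1 _⟩
  have hEU : E * U = 1 := by
    ext B B'
    simp only [Matrix.mul_apply, E, U, Matrix.of_apply, ← map_mul, ← map_sum, Matrix.one_apply]
    by_cases h : B = B'
    · subst h
      rw [if_pos rfl, ← map_one π]
      refine (residue_eq_iff hM).2 ?_
      simp only [AddSubmonoidClass.coe_finsetSum, MulMemClass.coe_mul, OneMemClass.coe_one]
      have hB := hortho' B B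
      rw [if_pos rfl] at hB
      refine cong_trans hM (cong_of_eq hM (Finset.sum_congr rfl fun i _ => ?_)) hB
      field_simp [ne_zero_of_not_ideal hM (hCu B)]
    · rw [if_neg h, ← map_zero π]
      refine (residue_eq_iff hM).2 ?_
      simp only [AddSubmonoidClass.coe_finsetSum, MulMemClass.coe_mul, ZeroMemClass.coe_zero]
      have hB := hortho' B B'
      rw [if_neg h] at hB
      rw [cong_zero_iff] at hB ⊢
      rw [Finset.sum_congr rfl (g := fun i => (C B)⁻¹ * C B' *
        (Cfsg.blockCoeff B.1 (x i)⁻¹ * Cfsg.centralChar (ψ B' : G → ℂ) (x i)⁻¹))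
        (fun i _ => by ring), ← Finset.mul_sum]
      exact ideal_mul_left hM (ring_mul hM (ring_inv hM (hCr B) (hCu B)) (hCr B')) hB
  have hVF : V * F = 1 := by
    ext B B'
    simp only [Matrix.mul_apply, V, F, Matrix.of_apply, ← map_mul, ← map_sum, Matrix.one_apply]
    have hB := hortho B' B
    rw [show (if B = B' then (1 : locSubring hM ⧸ locIdeal hM) else 0) =
      π (if B = B' then 1 else 0) by split <;> simp]
    refine (residue_eq_iff hM).2 ?_
    simp only [AddSubmonoidClass.coe_finsetSum, MulMemClass.coe_mul]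
    refine cong_trans hM (cong_of_eq hM (Finset.sum_congr rfl fun i _ => mul_comm _ _))
      (cong_trans hM hB (cong_of_eq hM ?_))
    rcases eq_or_ne B B' with h | h
    · simp [h]
    · simp [h, h.symm]
  rw [← rank_mul_of_inverses U V E F hEU hVF]
  congr 1
  ext i j
  rw [Matrix.map_apply, Matrix.of_apply, map_natCast, ← map_natCast π]
  simp only [Matrix.mul_apply, U, V, Matrix.of_apply, ← map_mul, ← map_sum]
  refine (residue_eq_iff hM).2 ?_
  simp only [AddSubmonoidClass.coe_finsetSum, MulMemClass.coe_mul, SubringClass.coe_natCast]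
  exact cong_symm hM (key i j)

end Cfsg.Agent.Blocks.DefectCount
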