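import Mathlib
import Cfsg.Agent.Lib.Blocks.Inflation
import Cfsg.Agent.Lib.Blocks.MaximalCovering

/-!
# Defect groups of blocks of quotients
-/

set_option linter.style.haveILetI false
set_option linter.unusedSectionVars false

namespace Cfsg.Agent.Blocks

open Cfsg.Agent.Characters

universe u

variable {G : Type u} [Group G] [Finite G] {p : ℕ} {M : Ideal Cfsg.AlgInt}
  {N : Subgroup G} [N.Normal]

/-- The inflation of an irreducible character of a quotient. -/
noncomputable def inflIrr (χ : Cfsg.IrrCharacter (G ⧸ N)) : Cfsg.IrrCharacter G :=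
  ⟨(χ : G ⧸ N → ℂ) ∘ QuotientGroup.mk,
    isIrrCharacter_comp_surjective (QuotientGroup.mk' N) (QuotientGroup.mk'_surjective N) χ.2⟩

theorem inflIrr_closed (hM : Cfsg.IsPModular p M) {B : Set (Cfsg.IrrCharacter G)}
    (hB : Cfsg.IsPBlock M B) :
    ∀ χ ∈ {χ : Cfsg.IrrCharacter (G ⧸ N) | inflIrr χ ∈ B}, ∀ ψ : Cfsg.IrrCharacter (G ⧸ N),
      Cfsg.SameBlock M (χ : G ⧸ N → ℂ) (ψ : G ⧸ N → ℂ) →
        ψ ∈ {χ : Cfsg.IrrCharacter (G ⧸ N) | inflIrr χ ∈ B} := by
  intro χ hχ ψ h
  show inflIrr ψ ∈ B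
  have h2 := sameBlock_inflate hM (QuotientGroup.mk' N) (QuotientGroup.mk'_surjective N) h
  rw [block_eq_blockOf hM hB hχ]
  exact h2

theorem mapEl_blockIdem {B : Set (Cfsg.IrrCharacter G)} :
    mapEl (QuotientGroup.mk' N) (blockIdem B) =
      blockIdem {χ : Cfsg.IrrCharacter (G ⧸ N) | inflIrr χ ∈ B} := by
  classical
  refine central_omega_ext (central_mapEl _ (QuotientGroup.mk'_surjective N) (central_blockIdem B))
    (central_blockIdem _) fun χ => ?_
  rw [← omega_mapEl, omega_blockIdem]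
  show omega (inflIrr χ : G → ℂ) (blockIdem B) = _
  rw [omega_blockIdem]
  rfl

/-- A defect group of a block of a quotient is contained in the image of one of the block above. -/
theorem exists_defect_map_ge (hM : Cfsg.IsPModular p M) {B : Set (Cfsg.IrrCharacter G)}
    (hB : Cfsg.IsPBlock M B) {Bbar : Set (Cfsg.IrrCharacter (G ⧸ N))}
    (hBbar : Cfsg.IsPBlock M Bbar) (hsub : ∀ χ ∈ Bbar, inflIrr χ ∈ B)
    {Dbar : Subgroup (G ⧸ N)} (hDbar : Cfsg.IsDefectGroup p M Bbar Dbar) :
    ∃ P : Subgroup G, Cfsg.IsDefectGroup p M B P ∧ Dbar ≤ P.map (QuotientGroup.mk' N) := by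
  classical
  haveI := fact_prime_of_pm hM
  haveI := Fintype.ofFinite G
  set f := QuotientGroup.mk' N with hf
  have hfs := QuotientGroup.mk'_surjective N
  set z := mapEl f (blockIdem B) with hz
  have hzc : IsCentralEl z := central_mapEl f hfs (central_blockIdem B)
  have hzi : IntEl M z := intEl_mapEl hM f (intEl_blockIdem hM hB)
  obtain ⟨χ, hχ⟩ := block_nonempty hM hBbar
  obtain ⟨k, hk1, hk2⟩ := exists_coeff_omega_notIdeal hM χ hzc hzi (by
    rw [hz, mapEl_blockIdem, omega_blockIdem_mem (show χ ∈ _ from hsub χ hχ)]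
    exact not_ideal_one hM)
  obtain ⟨c, hkc, hcD⟩ := meets_defect_of_omega hM hBbar hDbar hχ hk2
  rw [central_isConj hzc hkc] at hk1
  -- a `p`-subgroup mapping onto the defect group
  obtain ⟨S⟩ : Nonempty (Sylow p (Dbar.comap f)) := inferInstance
  set g := f.subgroupComap Dbar
  have hgs : Function.Surjective g := f.subgroupComap_surjective_of_surjective Dbar hfs
  have htop : ((S : Subgroup (Dbar.comap f)).map g) = ⊤ := by
    have h := (S.mapSurjective hgs).is_maximal'
      (Q := ⊤) ((isPGroup_defect hDbar).of_equiv Subgroup.topEquiv.symm) le_top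
    rw [Sylow.coe_mapSurjective] at h
    exact h.symm
  set Q : Subgroup G := (S : Subgroup (Dbar.comap f)).map (Dbar.comap f).subtype
  have hQp : IsPGroup p Q := S.isPGroup'.map _
  have hQmap : Dbar ≤ Q.map f := by
    intro d hd
    obtain ⟨s, hs, hsd⟩ := htop.ge (Subgroup.mem_top (⟨d, hd⟩ : Dbar))
    exact ⟨s, ⟨s, hs, rfl⟩, congrArg Subtype.val hsd⟩
  have hQc : ∀ u : Q, f (u : G) * c = c * f (u : G) := by
    rintro ⟨_, s, -, rfl⟩
    exact Subgroup.mem_centralizer_iff.1 hcD _ s.2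
  -- the fibre of `c`
  let X := {x : G // f x = c}
  letI : MulAction Q X :=
    { smul := fun u x => ⟨(u : G) * x.1 * (u : G)⁻¹, by
        rw [map_mul, map_mul, x.2, map_inv, hQc u, mul_inv_cancel_right]⟩
      one_smul := fun x => Subtype.ext (by show ((1 : Q) : G) * x.1 * ((1 : Q) : G)⁻¹ = x.1; simp)
      mul_smul := fun u w x => Subtype.ext (by
        show ((u * w : Q) : G) * x.1 * ((u * w : Q) : G)⁻¹ =
          (u : G) * ((w : G) * x.1 * (w : G)⁻¹) * (u : G)⁻¹
        simp [mul_assoc]) }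
  have hcoeff : z.coeff c = ∑ x : X, (blockIdem B).coeff x.1 := by
    rw [hz, coeff_mapEl, ← Finset.sum_filter,
      Finset.sum_subtype (Finset.univ.filter fun g : G => f g = c) (p := fun g => f g = c) (by simp)]
  set s := Finset.univ.filter fun x : X => (x.1 : G) ∈ Subgroup.centralizer (Q : Set G)
  have hcong := cong_sum_fixed hM hQp (fun x : X => (blockIdem B).coeff x.1)
    (fun x => intEl_blockIdem hM hB x.1) (fun u x => central_blockIdem B x.1 (u : G)) s
    (fun x => by
      simp only [s, Finset.mem_filter, Finset.mem_univ, true_and, ← conj_fixed_iff]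
      exact ⟨fun h u => Subtype.ext (h u), fun h u => congrArg Subtype.val (h u)⟩)
  rw [← hcoeff] at hcong
  obtain ⟨x, hxs, hx⟩ : ∃ x ∈ s, ¬ Cfsg.MemLocalIdeal M ((blockIdem B).coeff x.1) := by
    by_contra hcon
    push Not at hcon
    exact hk1 ((ideal_iff_of_cong hM hcong).2 (ideal_sum hM hcon))
  obtain ⟨D₀, hD₀⟩ := exists_defectGroup hM hB
  obtain ⟨y, hy⟩ := le_defect_of_coeff hM hB hD₀ (by rwa [← coeff_blockIdem]) hQp
    (Finset.mem_filter.1 hxs).2
  exact ⟨_, defectGroup_conj hM hD₀ y, hQmap.trans (Subgroup.map_mono hy)⟩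

/-- Over a normal `p`-subgroup some block of the quotient has the images of the defect groups. -/
theorem exists_block_quotient (hM : Cfsg.IsPModular p M) (hN : IsPGroup p N)
    {B : Set (Cfsg.IrrCharacter G)} (hB : Cfsg.IsPBlock M B) :
    ∃ Bbar : Set (Cfsg.IrrCharacter (G ⧸ N)), Cfsg.IsPBlock M Bbar ∧
      (∀ χ ∈ Bbar, inflIrr χ ∈ B) ∧
      ∀ Dbar : Subgroup (G ⧸ N), Cfsg.IsDefectGroup p M Bbar Dbar ↔
        ∃ P : Subgroup G, Cfsg.IsDefectGroup p M B P ∧ Dbar = P.map (QuotientGroup.mk' N) := by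
  classical
  haveI := fact_prime_of_pm hM
  haveI := Fintype.ofFinite G
  set f := QuotientGroup.mk' N with hf
  have hfs := QuotientGroup.mk'_surjective N
  obtain ⟨g, hg⟩ := exists_defectClass hM hB
  obtain ⟨P, hs⟩ := exists_isSylCent p g
  have hP : Cfsg.IsDefectGroup p M B P := isDefectGroup_iff.2 ⟨g, hg, hs⟩
  have hreg := defectClass_regular hM hB hg
  have hgN : g ∈ Subgroup.centralizer (N : Set G) := mem_centralizer_of_blockCoeff hM hN hB hg.2.1
  have hfib : ∀ x, f x = f g → ¬ p ∣ orderOf x → x = g := by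
    intro x hx hxr
    have hn : g⁻¹ * x ∈ N := QuotientGroup.eq.1 hx.symm
    set n := g⁻¹ * x
    have hxe : x = g * n := by simp [n]
    by_contra hne
    have hn1 : n ≠ 1 := fun h => hne (by rw [hxe, h, mul_one])
    have hc : Commute g n := (Subgroup.mem_centralizer_iff.1 hgN n hn).symm
    obtain ⟨j, hj⟩ := IsPGroup.iff_orderOf.1 hN ⟨n, hn⟩
    rw [Subgroup.orderOf_mk] at hj
    have hj0 : j ≠ 0 := fun e => hn1 (orderOf_eq_one_iff.1 (by rw [hj, e, pow_zero]))
    apply hxr
    rw [hxe, hc.orderOf_mul_eq_mul_orderOf_of_coprime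
      (by rw [hj]; exact (hM.1.coprime_iff_not_dvd.2 hreg).symm.pow_right j), hj]
    exact Dvd.dvd.mul_left (dvd_pow_self p hj0) _
  have hcoeff : Cfsg.blockCoeff {χ : Cfsg.IrrCharacter (G ⧸ N) | inflIrr χ ∈ B} (f g) =
      Cfsg.blockCoeff B g := by
    rw [← coeff_blockIdem, ← mapEl_blockIdem, ← hf, coeff_mapEl,
      Finset.sum_eq_single g (fun x _ hne => ?_) (by simp), if_pos rfl, coeff_blockIdem]
    split_ifs with hx
    · rw [coeff_blockIdem]
      refine blockCoeff_eq_zero_of_singular hM (intEl_blockIdem hM hB) ?_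
      by_contra hr
      exact hne (hfib x hx hr)
    · rfl
  obtain ⟨Bbar, hBbar, hsub, hunit⟩ := exists_block_coeff_unit hM (inflIrr_closed hM hB)
    (by rw [hcoeff]; exact hg.2.1)
  set C := Subgroup.centralizer ({g} : Set G)
  have hNC : N ≤ C := le_centralizer_iff_mem.2 hgN
  have hCmap : Subgroup.centralizer ({f g} : Set (G ⧸ N)) = C.map f := by
    ext q
    obtain ⟨x, rfl⟩ := hfs q
    constructor
    · intro h
      rw [Subgroup.mem_centralizer_singleton_iff] at h
      refine ⟨x, Subgroup.mem_centralizer_singleton_iff.2 ?_, rfl⟩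
      have he : x * g * x⁻¹ = g := hfib _
        (by rw [map_mul, map_mul, map_inv, h, mul_inv_cancel_right])
        (by rwa [show orderOf (x * g * x⁻¹) = orderOf g from MulEquiv.orderOf_eq (MulAut.conj x) g])
      exact mul_inv_eq_iff_eq_mul.1 he
    · rintro ⟨y, hy, hyx⟩
      rw [← hyx, Subgroup.mem_centralizer_singleton_iff, ← map_mul, ← map_mul,
        Subgroup.mem_centralizer_singleton_iff.1 hy]
  have hidx : (Subgroup.centralizer ({f g} : Set (G ⧸ N))).index = C.index := by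
    rw [hCmap]
    exact Subgroup.index_map_eq C hfs (by rw [QuotientGroup.ker_mk']; exact hNC)
  have hω : ∀ χ : Cfsg.IrrCharacter (G ⧸ N), Cfsg.centralChar (χ : G ⧸ N → ℂ) (f g) =
      Cfsg.centralChar (inflIrr χ : G → ℂ) g := fun χ => by
    rw [Cfsg.centralChar, Cfsg.centralChar, hidx]
    show _ = _ * (χ : G ⧸ N → ℂ) (g : G ⧸ N) / (χ : G ⧸ N → ℂ) ((1 : G) : G ⧸ N)
    rw [QuotientGroup.mk_one]
    rfl
  have hdc : Cfsg.IsDefectClass M Bbar (f g) := ⟨by
      rw [← coeff_blockIdem]; exact intEl_blockIdem hM hBbar _,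
    hunit, fun χ hχ => by rw [hω]; exact hg.2.2 _ (hsub hχ)⟩
  have hNP : N ≤ P := normal_le_defect hM hN hB hP
  have hcard : ∀ H : Subgroup G, N ≤ H → Nat.card (H.map f) * Nat.card N = Nat.card H := by
    intro H hH
    have h1 := (H.map f).card_mul_index
    rw [Subgroup.index_map_eq H hfs (by rw [QuotientGroup.ker_mk']; exact hH)] at h1
    have h2 := H.card_mul_index
    have h3 : Nat.card (G ⧸ N) * Nat.card N = Nat.card G :=
      (Subgroup.card_eq_card_quotient_mul_card_subgroup N).symm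
    refine Nat.eq_of_mul_eq_mul_right (Nat.pos_of_ne_zero H.index_ne_zero_of_finite) ?_
    rw [h2, mul_right_comm, h1, h3]
  have hDb : Cfsg.IsDefectGroup p M Bbar (P.map f) := by
    refine isDefectGroup_iff.2 ⟨f g, hdc, isSylCent_iff.2 ⟨?_, ?_⟩⟩
    · rw [hCmap]
      exact Subgroup.map_mono (isSylCent_iff.1 hs).1
    · obtain ⟨a, ha⟩ := ((isPGroup_defect hP).map f).exists_card_eq
      obtain ⟨b, hb⟩ := hN.exists_card_eq
      have h1 := hcard P hNP
      rw [ha, hb, card_sylCent_eq hs, ← pow_add] at h1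
      have h2 : a + b = (Nat.card C).factorization p := Nat.pow_right_injective hM.1.two_le h1
      have h3 : (Nat.card (C.map f) * Nat.card N).factorization p = (Nat.card C).factorization p :=
        congrArg (fun k => k.factorization p) (hcard C hNC)
      rw [Nat.factorization_mul Nat.card_pos.ne' Nat.card_pos.ne', Finsupp.add_apply, hb,
        hM.1.factorization_pow, Finsupp.single_eq_same] at h3
      rw [ha, hCmap]
      exact congrArg (p ^ ·) (by omega)
  refine ⟨Bbar, hBbar, fun χ hχ => hsub hχ, fun Dbar => ⟨fun h => ?_, ?_⟩⟩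
  · obtain ⟨q, rfl⟩ := exists_defectGroup_conj_eq hM hBbar hDb h
    obtain ⟨x, rfl⟩ := hfs q
    refine ⟨_, defectGroup_conj hM hP x, ?_⟩
    ext y
    obtain ⟨w, rfl⟩ := hfs y
    constructor
    · rintro ⟨_, ⟨v, hv, rfl⟩, hy⟩
      exact ⟨x * v * x⁻¹, ⟨v, hv, rfl⟩, by rw [map_mul, map_mul, map_inv]; exact hy⟩
    · rintro ⟨_, ⟨v, hv, rfl⟩, hy⟩
      refine ⟨f v, ⟨v, hv, rfl⟩, ?_⟩
      rw [← hy]
      show f x * f v * (f x)⁻¹ = f (x * v * x⁻¹)
      rw [map_mul, map_mul, map_inv]
  · rintro ⟨P', hP', rfl⟩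
    obtain ⟨x, rfl⟩ := exists_defectGroup_conj_eq hM hB hP hP'
    have h := defectGroup_conj hM hDb (f x)
    rw [Subgroup.map_map] at h ⊢
    convert h using 2
    ext v
    simp

end Cfsg.Agent.Blocks
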