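import Cfsg.Agent.BlockCharsA.CoverOver
import Cfsg.Agent.Lib.CharTheory.ExtendChar
import Cfsg.Agent.Lib.Transfer.NormalPComplement
import Cfsg.Agent.Lib.Blocks.Inflation
import Cfsg.Agent.OddChar.PowTwist
import Cfsg.Agent.S4550

/-!
# Odd degree characters of the principal `2`-block fixed by a power map
-/

set_option linter.style.haveILetI false
set_option linter.unusedSectionVars false

namespace Cfsg.Agent.Blocks.FixedOddDegree

open scoped ComplexConjugate
open Cfsg.Agent.Characters Cfsg.Agent.CharTheory Cfsg.Agent.Blocks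

universe u

variable {G : Type u} [Group G] [Finite G] {M : Ideal Cfsg.AlgInt}

/-- `O^2` has no linear character of `2`-power order. -/
theorem hom_eq_one_of_pow_two {i : ℕ} {f : ↥(Cfsg.pResidual 2 G) →* ℂˣ}
    (h : ∀ n, f n ^ (2 ^ i) = 1) : f = 1 := by
  have hle : Cfsg.pResidual 2 G ≤ f.ker.map (Cfsg.pResidual 2 G).subtype := by
    refine (Subgroup.closure_le _).2 fun g (hg : (orderOf g).Coprime 2) => ?_
    have hgN : g ∈ Cfsg.pResidual 2 G := Subgroup.subset_closure hg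
    refine ⟨⟨g, hgN⟩, MonoidHom.mem_ker.2 (ExtendChar.eq_one_of_pow_coprime
      (m := orderOf g) (n := 2 ^ i) ?_ (h _) (hg.pow_right i)), rfl⟩
    rw [← map_pow, show (⟨g, hgN⟩ : ↥(Cfsg.pResidual 2 G)) ^ orderOf g = 1 from
      Subtype.ext (by simp [pow_orderOf_eq_one]), map_one]
  ext n
  obtain ⟨m, hm, he⟩ := hle n.2
  obtain rfl : m = n := Subtype.ext he
  simp [MonoidHom.mem_ker.1 hm]

/-- Every linear character of `O^2` has odd order. -/
theorem odd_orderOf_linear {lam : ↥(Cfsg.pResidual 2 G) → ℂ}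
    (hc : Cfsg.IsCharacter ↥(Cfsg.pResidual 2 G) lam) (h1 : lam 1 = 1) :
    Odd (orderOf lam) := by
  obtain ⟨f, hf⟩ := ExtendChar.exists_hom hc h1
  obtain rfl : (fun g => (f g : ℂ)) = lam := funext hf
  have hpos := (ExtendChar.isOfFinOrder_linear f).orderOf_pos
  obtain ⟨a, m, hm, he⟩ := Nat.exists_eq_pow_mul_and_not_dvd hpos.ne' 2 (by norm_num)
  have h : f ^ m = 1 := hom_eq_one_of_pow_two (i := a) fun n => Units.ext (by
    rw [MonoidHom.pow_apply, ← pow_mul, mul_comm, ← he, Units.val_pow_eq_pow_val,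
      ExtendChar.linear_pow_orderOf (fun g => (f g : ℂ)), Units.val_one])
  have hdvd : orderOf (fun g => (f g : ℂ)) ∣ m := orderOf_dvd_of_pow_eq_one (funext fun n => by
    rw [Pi.pow_apply, ← Units.val_pow_eq_pow_val, ← MonoidHom.pow_apply, h, Pi.one_apply]
    rfl)
  exact (Nat.odd_iff.2 (by omega : m % 2 = 1)).of_dvd_nat hdvd

theorem detChar_comp_pow {Γ : Type u} [Group Γ] [Finite Γ] {χ : Γ → ℂ}
    (hχ : Cfsg.IsCharacter Γ χ) {k : ℕ} (hψ : Cfsg.IsCharacter Γ (fun g => χ (g ^ k))) :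
    Cfsg.detChar (fun g => χ (g ^ k)) = Cfsg.detChar χ ^ k := by
  funext z
  obtain ⟨f, hf⟩ := ExtendChar.exists_hom (ExtendChar.detChar_isLinear hχ).1
    (ExtendChar.detChar_isLinear hχ).2
  let m : Subgroup.zpowers z →* Γ :=
    { toFun := fun w => (w : Γ) ^ k
      map_one' := one_pow k
      map_mul' := fun a b => by
        obtain ⟨i, hi⟩ := a.2
        obtain ⟨j, hj⟩ := b.2
        simp only at hi hj
        show ((a : Γ) * b) ^ k = _
        refine Commute.mul_pow ?_ k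
        rw [← hi, ← hj]
        exact Commute.zpow_zpow_self z i j }
  have h1 := congrFun (ExtendChar.detChar_comp (Subgroup.zpowers z).subtype hψ)
    ⟨z, Subgroup.mem_zpowers z⟩
  have h2 := congrFun (ExtendChar.detChar_comp m hχ) ⟨z, Subgroup.mem_zpowers z⟩
  rw [show (fun g => χ (g ^ k)) ∘ (Subgroup.zpowers z).subtype = χ ∘ m from rfl, h2] at h1
  refine Eq.trans (show _ = Cfsg.detChar χ (z ^ k) from h1.symm) ?_
  rw [Pi.pow_apply, ← hf, ← hf, map_pow, Units.val_pow_eq_pow_val]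

/-- An invariant character fixed by a power map has an extension fixed by it, if degree and
determinantal order are prime to the index. -/
theorem exists_fixed_extension (N : Subgroup G) [N.Normal] (η : Cfsg.IrrCharacter N)
    (hinv : ∀ g : G, Clifford.conjBy N g (η : N → ℂ) = (η : N → ℂ))
    (hdeg : N.index.Coprime (Cfsg.charDegree (η : N → ℂ)))
    (hdet : N.index.Coprime (orderOf (Cfsg.detChar (η : N → ℂ))))
    {k : ℕ} (hk : k.Coprime (Nat.card G))
    (hfix : ∀ n : N, (η : N → ℂ) (n ^ k) = (η : N → ℂ) n) :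
    ∃ χ : Cfsg.IrrCharacter G, (∀ n : N, (χ : G → ℂ) n = (η : N → ℂ) n) ∧
      ∀ g : G, (χ : G → ℂ) (g ^ k) = (χ : G → ℂ) g := by
  classical
  haveI := Fintype.ofFinite G
  haveI := Fintype.ofFinite N
  have hlin := ExtendChar.detChar_isLinear (irr_isCharacter η)
  have hlinv : ∀ (g : G) (n : N), Cfsg.detChar (η : N → ℂ)
      ⟨g * n * g⁻¹, (inferInstance : N.Normal).conj_mem (n : G) n.2 g⟩ =
      Cfsg.detChar (η : N → ℂ) n := fun g n => by
    have h := congrFun (ExtendChar.detChar_comp (MulAut.conjNormal g : N ≃* N).toMonoidHom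
      (irr_isCharacter η)) n
    rw [← Clifford.conjBy_eq_comp, hinv g] at h
    refine (congrArg _ (Subtype.ext ?_)).trans h.symm
    simp
  obtain ⟨μ, hμN, hμo⟩ := ExtendChar.exists_linear_extension_coprime N hlin hlinv hdet
  obtain ⟨hμc, hμ1⟩ := ExtendChar.hom_isLinear μ
  obtain ⟨ξ, hξ, hξN⟩ := ExtendChar.exists_extension_det N η.2 hinv (charDegree_cast η).symm hdeg μ hμN
  obtain ⟨e, ⟨he, heN, hedet⟩, huniq⟩ := ExtendChar.existsUnique_extension_det N η.2
    (charDegree_cast η).symm hdeg hξ hξN hμc hμ1 hμN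
  refine ⟨⟨e, he⟩, heN, fun g => ?_⟩
  have hψ := OddChar.PowTwist.isIrr_comp_pow he hk
  have hψc := isCharacter_of_isIrr hψ
  have hd := detChar_comp_pow (k := k) (isCharacter_of_isIrr he) hψc
  rw [hedet] at hd
  have hψN : ∀ n : N, e ((n : G) ^ k) = (η : N → ℂ) n := fun n => by
    rw [← Subgroup.coe_pow, heN, hfix]
  refine congrFun (huniq (fun g => e (g ^ k)) ⟨hψ, hψN, ?_⟩) g
  refine ExtendChar.linear_extension_unique N hμc hμ1
    (ExtendChar.detChar_isLinear hψc).1 (ExtendChar.detChar_isLinear hψc).2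
    (fun n => (ExtendChar.detChar_restrict N hψc hψN n).trans (hμN n).symm) (hμo ▸ hdet) ?_
  rw [hd]
  exact Nat.Coprime.coprime_dvd_right (orderOf_pow_dvd k) (hμo ▸ hdet)

/-- The inverse of a member of the principal block lies in the principal block. -/
theorem mem_principal_inv {H : Type u} [Group H] [Finite H] {p : ℕ}
    (hM : Cfsg.IsPModular p M) {η η' : Cfsg.IrrCharacter H}
    (he : ∀ x, (η' : H → ℂ) x = (η : H → ℂ) x⁻¹) (h : η ∈ Cfsg.principalBlock M H) :
    η' ∈ Cfsg.principalBlock M H := by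
  intro x
  have h1 := h x⁻¹
  have hc : Subgroup.centralizer ({x⁻¹} : Set H) = Subgroup.centralizer ({x} : Set H) := by
    ext y
    simp only [Subgroup.mem_centralizer_singleton_iff]
    exact Commute.inv_right_iff (a := y) (b := x)
  simp only [Cfsg.centralChar, hc] at h1 ⊢
  simpa [he] using h1

/-- If `O^2(G)` has even order, some nonlinear character of the principal `2`-block of odd degree
is fixed by `g ↦ g ^ k`. -/
theorem exists_nonlinear (hM : Cfsg.IsPModular 2 M) (k : ℕ)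
    (hk : k.Coprime (Nat.card G))
    (hk₁ : ∀ g : G, (∃ j : ℕ, orderOf g = 2 ^ j) → g ^ k = g ^ 3)
    (hk₂ : ∀ g : G, Odd (orderOf g) → g ^ k = g)
    (hev : Even (Nat.card (Cfsg.pResidual 2 G))) :
    ∃ χ ∈ Cfsg.principalBlock M G, Odd (Cfsg.charDegree (χ : G → ℂ)) ∧
      (∀ g : G, (χ : G → ℂ) (g ^ k) = (χ : G → ℂ) g) ∧ Cfsg.charDegree (χ : G → ℂ) ≠ 1 := by
  classical
  haveI := Fact.mk Nat.prime_two
  haveI := Fintype.ofFinite G
  set N := Cfsg.pResidual 2 G with hN
  haveI := Fintype.ofFinite N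
  haveI := Fintype.ofFinite (Cfsg.IrrCharacter N)
  have hcnt := Cfsg.Agent.S4550.result (G := N) M hM hev k
    (fun g ⟨j, hj⟩ => Subtype.ext (by simpa using hk₁ g ⟨j, by rwa [Subgroup.orderOf_coe]⟩))
    (fun g hg => Subtype.ext (by simpa using hk₂ g (by rwa [Subgroup.orderOf_coe])))
  let Φ : Cfsg.IrrCharacter N → Prop := fun η => η ∈ Cfsg.principalBlock M N ∧
    Odd (Cfsg.charDegree (η : N → ℂ)) ∧ ∀ n : N, (η : N → ℂ) (n ^ k) = (η : N → ℂ) n
  change Even (Nat.card {η // Φ η}) at hcnt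
  obtain ⟨P⟩ := (inferInstance : Nonempty (Sylow 2 G))
  have hΦ : ∀ (g : G) η, Φ η → Φ (conjIrr g η) := by
    rintro g η ⟨hB, hodd, hfix⟩
    refine ⟨BlockCharsA.CoverOver.principal_inv hM g hB, ?_, fun n => ?_⟩
    · have : Cfsg.charDegree (conjIrr g η : N → ℂ) = Cfsg.charDegree (η : N → ℂ) := by
        unfold Cfsg.charDegree
        rw [coe_conjIrr, Clifford.conjBy_at_one]
      rwa [this]
    · rw [coe_conjIrr, Clifford.conjBy_eq_comp]
      show (η : N → ℂ) _ = (η : N → ℂ) _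
      rw [map_pow, hfix]
  letI : MulAction (P : Subgroup G) {η // Φ η} :=
    { smul := fun x η => ⟨conjIrr (x : G)⁻¹ η.1, hΦ _ _ η.2⟩
      one_smul := fun η => Subtype.ext (by
        show conjIrr (((1 : (P : Subgroup G)) : G))⁻¹ η.1 = η.1
        rw [OneMemClass.coe_one, inv_one, conjIrr_one])
      mul_smul := fun x y η => Subtype.ext (by
        show conjIrr (((x * y : (P : Subgroup G)) : G))⁻¹ η.1 =
          conjIrr (x : G)⁻¹ (conjIrr (y : G)⁻¹ η.1)
        rw [conjIrr_conjIrr, Subgroup.coe_mul, mul_inv_rev]) }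
  have hmod := P.2.card_modEq_card_fixedPoints (α := {η // Φ η})
  -- the fixed points are the invariant members
  let Ψ : Cfsg.IrrCharacter N → Prop := fun η => Φ η ∧ ∀ g : G, conjIrr g η = η
  have hfixed : Nat.card (MulAction.fixedPoints (P : Subgroup G) {η // Φ η}) =
      Nat.card {η // Ψ η} := by
    refine Nat.card_congr ⟨fun η => ⟨η.1.1, η.1.2, fun g => ?_⟩,
      fun η => ⟨⟨η.1, η.2.1⟩, fun x => Subtype.ext (η.2.2 _)⟩, fun _ => rfl, fun _ => rfl⟩
    obtain ⟨n, hn, x, hx, rfl⟩ := Subgroup.mem_sup_of_normal_left.1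
      (Transfer.NormalPComplement.pResidual_sup_sylow P ▸ Subgroup.mem_top g :
        g ∈ N ⊔ (P : Subgroup G))
    have h1 : conjIrr n η.1.1 = η.1.1 := Subtype.ext (funext fun m => by
      rw [coe_conjIrr, Clifford.conjBy_apply]
      exact (congrArg _ (Subtype.ext (by simp))).trans
        (irr_isClassFunction η.1.1 m ⟨n, hn⟩))
    have h2 : conjIrr x η.1.1 = η.1.1 := by
      have := congrArg Subtype.val (η.2 (⟨x, hx⟩⁻¹ : (P : Subgroup G)))
      change conjIrr ((((⟨x, hx⟩ : (P : Subgroup G))⁻¹ : (P : Subgroup G)) : G))⁻¹ η.1.1 = _ at this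
      simpa using this
    rw [← conjIrr_conjIrr, h1, h2]
  have hΨeven : Even (Nat.card {η // Ψ η}) := by
    rw [← hfixed]
    rw [Nat.even_iff] at hcnt ⊢
    unfold Nat.ModEq at hmod
    omega
  -- the linear ones are odd in number
  let Λ : Type u := {η : Cfsg.IrrCharacter N // Ψ η ∧ (η : N → ℂ) 1 = 1}
  have hinvΛ : ∀ η : Λ, ∃ η' : Λ, ∀ x, (η'.1 : N → ℂ) x = (η.1 : N → ℂ) x⁻¹ := by
    rintro ⟨η, ⟨⟨hB, hodd, hfix⟩, hginv⟩, h1⟩
    obtain ⟨f, hf⟩ := ExtendChar.exists_hom (irr_isCharacter η) h1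
    let η' : Cfsg.IrrCharacter N := ⟨_, isIrrCharacter_linear f⁻¹⟩
    have he : ∀ x, (η' : N → ℂ) x = (η : N → ℂ) x⁻¹ := fun x => by
      show ((f⁻¹ x : ℂˣ) : ℂ) = _
      rw [MonoidHom.inv_apply, ← map_inv, hf]
    have h1' : (η' : N → ℂ) 1 = 1 := by rw [he, inv_one, h1]
    refine ⟨⟨η', ⟨⟨mem_principal_inv hM he hB, ?_, fun n => ?_⟩, fun g => ?_⟩, h1'⟩, he⟩
    · have : Cfsg.charDegree (η' : N → ℂ) = 1 := by
        have := charDegree_cast η'
        rw [h1'] at this
        exact_mod_cast this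
      rw [this]; exact odd_one
    · rw [he, he, ← inv_pow, hfix]
    · refine Subtype.ext (funext fun n => ?_)
      rw [coe_conjIrr, Clifford.conjBy_eq_comp]
      show (η' : N → ℂ) _ = _
      rw [he, he, ← map_inv]
      have := congrFun (congrArg Subtype.val (hginv g)) n⁻¹
      rwa [coe_conjIrr, Clifford.conjBy_eq_comp] at this
  choose inv hinv using hinvΛ
  let f : Function.End Λ := inv
  have hf2 : f ^ 2 ^ 1 = 1 := by
    rw [pow_one, pow_two]
    refine funext fun η => Subtype.ext (Subtype.ext (funext fun x => ?_))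
    show ((inv (inv η)).1 : N → ℂ) x = (η.1 : N → ℂ) x
    rw [hinv, hinv, inv_inv]
  haveI : Fintype Λ := Fintype.ofFinite Λ
  have hmodΛ := Equiv.Perm.card_fixedPoints_modEq hf2
  have hΛfix : Fintype.card (Function.fixedPoints f) = 1 := by
    refine Fintype.card_eq_one_iff.2 ⟨⟨⟨trivIrr N, ⟨⟨trivIrr_mem_principal hM, ?_, fun _ => rfl⟩,
      fun g => Subtype.ext (funext fun _ => rfl)⟩, rfl⟩, ?_⟩, fun η => ?_⟩
    · rw [show Cfsg.charDegree (trivIrr N : N → ℂ) = 1 by simp [Cfsg.charDegree, trivIrr]]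
      exact odd_one
    · refine Subtype.ext (Subtype.ext (funext fun x => ?_))
      exact (hinv _ x).trans rfl
    · obtain ⟨⟨η, hΨ, h1⟩, hη⟩ := η
      obtain ⟨f₁, hf₁⟩ := ExtendChar.exists_hom (irr_isCharacter η) h1
      have hsym : ∀ x, (η : N → ℂ) x⁻¹ = (η : N → ℂ) x := fun x => by
        rw [← hinv ⟨η, hΨ, h1⟩ x]
        exact congrFun (congrArg (fun z : Λ => (z.1 : N → ℂ)) hη) x
      have : f₁ = 1 := hom_eq_one_of_pow_two (i := 1) fun n => by
        rw [pow_one, pow_two]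
        refine Units.ext ?_
        rw [Units.val_mul]
        conv_lhs => arg 1; rw [hf₁, ← hsym, ← hf₁, map_inv]
        rw [Units.inv_mul, Units.val_one]
      refine Subtype.ext (Subtype.ext (Subtype.ext (funext fun x => ?_)))
      show (η : N → ℂ) x = 1
      rw [← hf₁, this]
      rfl
  have hΛodd : Odd (Nat.card Λ) := by
    rw [Nat.card_eq_fintype_card, Nat.odd_iff]
    rw [hΛfix] at hmodΛ
    exact (hmodΛ :)
  -- hence a nonlinear invariant one
  obtain ⟨η, hη, hne⟩ : ∃ η, Ψ η ∧ (η : N → ℂ) 1 ≠ 1 := by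
    by_contra hc
    push Not at hc
    have : Nat.card {η // Ψ η} = Nat.card Λ :=
      Nat.card_congr (Equiv.subtypeEquivRight fun η => ⟨fun h => ⟨h, hc η h⟩, fun h => h.1⟩)
    rw [this] at hΨeven
    exact (Nat.not_even_iff_odd.2 hΛodd) hΨeven
  obtain ⟨⟨hB, hodd, hfix⟩, hginv⟩ := hη
  obtain ⟨j, hj⟩ := Transfer.NormalPComplement.index_pResidual (p := 2) (G := G)
  have hcop : ∀ m : ℕ, Odd m → N.index.Coprime m := fun m hm => by
    rw [hN, hj]; exact (Nat.coprime_two_left.2 hm).pow_left j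
  have hlin := ExtendChar.detChar_isLinear (irr_isCharacter η)
  obtain ⟨χ, hχN, hχfix⟩ := exists_fixed_extension N η
    (fun g => congrArg Subtype.val (hginv g)) (hcop _ hodd)
    (hcop _ (odd_orderOf_linear hlin.1 hlin.2)) hk hfix
  have hdeg : Cfsg.charDegree (χ : G → ℂ) = Cfsg.charDegree (η : N → ℂ) := by
    have h1 := charDegree_cast χ
    have h2 := charDegree_cast η
    rw [← OneMemClass.coe_one N, hχN, ← h2] at h1
    exact_mod_cast h1
  refine ⟨χ, ?_, hdeg ▸ hodd, hχfix, fun h => hne ?_⟩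
  · refine mem_of_sameBlock hM (isPBlock_principal M G) (trivIrr_mem_principal hM) ?_
    refine sameBlock_of_covers_same hM ⟨j, hj⟩ (χ := trivIrr G) (χ' := χ)
      (θ := trivIrr N) (θ' := η) ?_ ?_
      (sameBlock_of_mem hM (isPBlock_principal M N) (trivIrr_mem_principal hM) hB)
    · exact (constituent_trivIrr_iff (trivIrr G)).2 fun _ _ => rfl
    · rw [funext hχN, classInner_irr, if_pos rfl]; exact one_ne_zero
  · rw [← charDegree_cast, ← hdeg, h, Nat.cast_one]

end Cfsg.Agent.Blocks.FixedOddDegree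

namespace Cfsg.Agent.Blocks.FixedOddDegree

open Cfsg.Agent.Characters Cfsg.Agent.Blocks

universe v

variable {G : Type v} [Group G] [Finite G] {M : Ideal Cfsg.AlgInt}

theorem coprime_of_twist {k : ℕ}
    (hk₁ : ∀ g : G, (∃ j : ℕ, orderOf g = 2 ^ j) → g ^ k = g ^ 3)
    (hk₂ : ∀ g : G, Odd (orderOf g) → g ^ k = g) : k.Coprime (Nat.card G) := by
  refine Nat.coprime_of_dvd fun q hq hqk hqG => ?_
  haveI := Fact.mk hq
  obtain ⟨g, hg⟩ := exists_prime_orderOf_dvd_card' (G := G) q hqG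
  have h1 : g ^ k = 1 := orderOf_dvd_iff_pow_eq_one.1 (hg ▸ hqk)
  have hne : g ≠ 1 := fun e => hq.ne_one (by rw [← hg, e, orderOf_one])
  rcases hq.eq_two_or_odd' with rfl | ho
  · rw [hk₁ g ⟨1, by rw [hg, pow_one]⟩] at h1
    have := orderOf_dvd_of_pow_eq_one h1
    rw [hg] at this
    omega
  · rw [hk₂ g (hg ▸ ho)] at h1
    exact hne h1

/-- With a normal `2`-complement the members of odd degree of the principal block are linear. -/
theorem degree_one_of_complement (hM : Cfsg.IsPModular 2 M)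
    (h : Cfsg.HasNormalPComplement 2 G) {χ : Cfsg.IrrCharacter G}
    (hχ : χ ∈ Cfsg.principalBlock M G) (hodd : Odd (Cfsg.charDegree (χ : G → ℂ))) :
    Cfsg.charDegree (χ : G → ℂ) = 1 := by
  haveI := Fact.mk Nat.prime_two
  obtain ⟨N, hN, hcop, k, hk⟩ :=
    Transfer.NormalPComplement.hasNormalPComplement_iff_exists.1 h
  have hker := (sameBlock_one_iff hM
    ((Nat.prime_two.coprime_iff_not_dvd).1 hcop.symm) ⟨k, hk⟩ χ).1 hχ
  obtain ⟨ψ, -, he, hψ⟩ := exists_deflate_quotient N (irr_isCharacter χ) hker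
  haveI := Fintype.ofFinite (G ⧸ N)
  obtain ⟨n, hn, -, hdvd⟩ := irr_degree_dvd_card (hψ χ.2)
  have he1 : (χ : G → ℂ) 1 = (n : ℂ) := by rw [← hn, ← QuotientGroup.mk_one, ← he 1]
  rw [← charDegree_cast, Nat.cast_inj] at he1
  rw [he1] at hodd ⊢
  exact Nat.eq_one_of_dvd_coprimes ((Nat.coprime_two_left.2 hodd).pow_left k)
    (hk ▸ hdvd) dvd_rfl

/-- A normal `2`-complement is detected by the fixed members of odd degree. -/
theorem hasNormalPComplement_iff (hM : Cfsg.IsPModular 2 M) (k : ℕ)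
    (hk₁ : ∀ g : G, (∃ j : ℕ, orderOf g = 2 ^ j) → g ^ k = g ^ 3)
    (hk₂ : ∀ g : G, Odd (orderOf g) → g ^ k = g) :
    Cfsg.HasNormalPComplement 2 G ↔ ∀ χ ∈ Cfsg.principalBlock M G,
      Odd (Cfsg.charDegree (χ : G → ℂ)) → (∀ g : G, (χ : G → ℂ) (g ^ k) = (χ : G → ℂ) g) →
        Cfsg.charDegree (χ : G → ℂ) = 1 := by
  haveI := Fact.mk Nat.prime_two
  refine ⟨fun h χ hχ ho _ => degree_one_of_complement hM h hχ ho, fun h => ?_⟩
  rw [Transfer.NormalPComplement.hasNormalPComplement_iff_pResidual]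
  by_contra hc
  obtain ⟨χ, hχ, ho, hf, hne⟩ := exists_nonlinear hM k (coprime_of_twist hk₁ hk₂) hk₁ hk₂
    (Nat.not_odd_iff_even.1 fun hodd => hc (Nat.coprime_two_right.2 hodd))
  exact hne (h χ hχ ho hf)

end Cfsg.Agent.Blocks.FixedOddDegree
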