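import Mathlib
import Cfsg.Prelude.Def_Blocks
import Cfsg.Agent.Lib.Blocks.InducedChars

/-!
# Height zero characters above a height zero character of an inducing block of equal defect
-/

set_option linter.style.haveILetI false
set_option linter.unusedSectionVars false

namespace Cfsg.Agent.Blocks

open Cfsg.Agent.Characters Cfsg.Agent.BlockCharsA.RegularPart
open scoped ComplexConjugate

universe u

variable {G : Type u} [Group G] [Finite G] {p : ℕ} {M : Ideal Cfsg.AlgInt}

theorem exists_height_zero_above [Fintype G] (hM : Cfsg.IsPModular p M) {H : Subgroup G}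
    {b : Set (Cfsg.IrrCharacter H)} {B : Set (Cfsg.IrrCharacter G)}
    (hind : Cfsg.IsInducedBlock M H b B) (hdef : Cfsg.blockDefect p b = Cfsg.blockDefect p B)
    {ζ : Cfsg.IrrCharacter H} (hζ : ζ ∈ b) (hζ0 : Cfsg.blockHeight p b (ζ : H → ℂ) = 0) :
    ∃ χ ∈ B, Cfsg.blockHeight p B (χ : G → ℂ) = 0 ∧ ∃ a : ℕ,
      Cfsg.classInner (Cfsg.indFun H (ζ : H → ℂ)) (χ : G → ℂ) = (a : ℂ) ∧ ¬ p ∣ a := by
  classical
  haveI := Fintype.ofFinite H
  haveI := Fintype.ofFinite (Cfsg.IrrCharacter G)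
  obtain ⟨χ, hχ, hχ0⟩ := exists_height_zero hM hind.2.1
  set Z := Cfsg.indFun H (ζ : H → ℂ)
  have hZ : Cfsg.IsCharacter G Z := isCharacter_indFun H (irr_isCharacter ζ)
  choose a ha using fun η : Cfsg.IrrCharacter G => classInner_char_nat hZ (irr_isCharacter η)
  have hu : ¬ Cfsg.MemLocalIdeal M (omega (ζ : H → ℂ) (regEl p fun h : H => (χ : G → ℂ) h)) := by
    rw [← restrEl_regEl, ideal_iff_of_cong hM (omega_cong_of_isInduced hM hind hζ hχ
      (central_regEl (irr_isClassFunction χ)) (intEl_regEl hM (irr_isCharacter χ)))]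
    exact omega_regEl_unit hM hind.2.1 hχ hχ hχ0
  have hz0 : (ζ : H → ℂ) 1 ≠ 0 := irr_one_ne_zero ζ.2
  have hG : (Nat.card G : ℂ) ≠ 0 := natCard_ne_zero
  have hexp : omega (ζ : H → ℂ) (regEl p fun h : H => (χ : G → ℂ) h) =
      ∑ η : Cfsg.IrrCharacter G, (a η : ℂ) *
        ((Cfsg.charDegree (η : G → ℂ) : ℂ) * (Nat.card H : ℂ) /
          ((Cfsg.charDegree (ζ : H → ℂ) : ℂ) * (Nat.card G : ℂ))) *
        omega (η : G → ℂ) (regEl p (χ : G → ℂ)) := by
    have h1 : Cfsg.classInner (hat p 1 (fun h : H => (χ : G → ℂ) h)) (ζ : H → ℂ) =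
        Cfsg.classInner (hat p 1 (χ : G → ℂ)) Z := by
      rw [frobenius_reciprocity' H _ (hat_isClassFunction (irr_isClassFunction χ))]
      congr 1
      funext h
      simp [hat]
    rw [classInner_hat, classFun_eq_sum (char_isClassFunction hZ), classInner_sum_right] at h1
    simp only [classInner_smul_right, classInner_hat, ha, map_natCast, ← charDegree_cast] at h1
    have hH : (Nat.card H : ℂ) ≠ 0 := natCard_ne_zero
    have hd : (Cfsg.charDegree (ζ : H → ℂ) : ℂ) ≠ 0 :=
      Nat.cast_ne_zero.2 (charDegree_pos ζ).ne'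
    calc _ = (Nat.card H : ℂ) / (Cfsg.charDegree (ζ : H → ℂ) : ℂ) *
          (1 / (Nat.card H : ℂ) * ((Cfsg.charDegree (ζ : H → ℂ) : ℂ) *
            omega (ζ : H → ℂ) (regEl p fun h : H => (χ : G → ℂ) h))) := by field_simp
      _ = _ := by
        rw [h1, Finset.mul_sum]
        refine Finset.sum_congr rfl fun η _ => ?_
        field_simp
  obtain ⟨η, -, hη⟩ : ∃ η ∈ Finset.univ, ¬ Cfsg.MemLocalIdeal M ((a η : ℂ) *
        ((Cfsg.charDegree (η : G → ℂ) : ℂ) * (Nat.card H : ℂ) /
          ((Cfsg.charDegree (ζ : H → ℂ) : ℂ) * (Nat.card G : ℂ))) *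
        omega (η : G → ℂ) (regEl p (χ : G → ℂ))) := by
    by_contra hcon
    push Not at hcon
    exact hu (hexp ▸ ideal_sum hM hcon)
  have hηB : η ∈ B := by
    by_contra hne
    refine hη ?_
    rw [omega_regEl_eq_zero hM fun e => hne (mem_of_sameBlock hM hind.2.1 hχ e), mul_zero]
    exact ideal_zero hM
  have hr := omega_ring hM η (central_regEl (p := p) (irr_isClassFunction χ))
    (intEl_regEl hM (irr_isCharacter χ))
  have hfη := degree_factorization_eq hM hind.2.1 hηB
  have hfζ := degree_factorization_eq hM hind.1 hζ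
  have hz := (charDegree_pos ζ).ne'
  have he := (charDegree_pos η).ne'
  have hcG : Nat.card G ≠ 0 := Nat.card_pos.ne'
  have hcH : Nat.card H ≠ 0 := Nat.card_pos.ne'
  have hdG := blockDefect_le p B
  have hdH := blockDefect_le p b
  have hnum : (Cfsg.charDegree (η : G → ℂ) * Nat.card H).factorization p =
      (Cfsg.charDegree (η : G → ℂ)).factorization p + (Nat.card H).factorization p := by
    rw [Nat.factorization_mul he hcH, Finsupp.add_apply]
  have hden : (Cfsg.charDegree (ζ : H → ℂ) * Nat.card G).factorization p =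
      (Cfsg.charDegree (ζ : H → ℂ)).factorization p + (Nat.card G).factorization p := by
    rw [Nat.factorization_mul hz hcG, Finsupp.add_apply]
  rw [← Nat.cast_mul (Cfsg.charDegree (η : G → ℂ)), ← Nat.cast_mul (Cfsg.charDegree (ζ : H → ℂ))]
    at hη
  have hcoef : Cfsg.MemLocalRing M (((Cfsg.charDegree (η : G → ℂ) * Nat.card H : ℕ) : ℂ) /
      ((Cfsg.charDegree (ζ : H → ℂ) * Nat.card G : ℕ) : ℂ)) :=
    ring_natCast_div hM (mul_ne_zero hz hcG) (by omega)
  refine ⟨η, hηB, ?_, a η, ha η, fun h => hη (ideal_mul_right hM (ideal_mul_right hM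
    ((ideal_natCast_iff hM _).2 h) hcoef) hr)⟩
  by_contra hh
  exact hη (ideal_mul_right hM (ideal_mul_left hM (ring_natCast hM _)
    (ideal_natCast_div hM (mul_ne_zero hz hcG) (by omega))) hr)

end Cfsg.Agent.Blocks
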