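import Mathlib
import Cfsg.Prelude.Def_Blocks
import Cfsg.Agent.Lib.Blocks.NormalDefect
import Cfsg.Agent.Lib.Blocks.Correspondents

/-!
# Inertial index: blocks of `P C(P)` inducing blocks with defect group `P`
-/

set_option linter.style.haveILetI false
set_option linter.unusedSectionVars false

namespace Cfsg.Agent.Blocks.InertialIndex

open Cfsg.Agent.Characters Cfsg.Agent.BlockCharsA.NormalSupport
open Cfsg.Agent.CharTheory Cfsg.Agent.Blocks

universe u

variable {G : Type u} [Group G] [Finite G] {p : ℕ} {M : Ideal Cfsg.AlgInt}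

/-- A bound on the defect of a covering block through the inertia subgroups. -/
theorem blockDefect_covering_le (hM : Cfsg.IsPModular p M) {K : Subgroup G} [K.Normal] [Fintype K]
    {θ : Cfsg.IrrCharacter K} {χ : Cfsg.IrrCharacter G}
    (hne : Cfsg.classInner (fun n : K => (χ : G → ℂ) n) (θ : K → ℂ) ≠ 0) (T : Subgroup G)
    (hKT : K ≤ T)
    (hstab : ∀ η : Cfsg.IrrCharacter K, Cfsg.SameBlock M (θ : K → ℂ) (η : K → ℂ) →
      ∀ g : G, Clifford.conjBy K g (η : K → ℂ) = η → g ∈ T)
    (hidx : ¬ p ∣ K.relIndex T) {d : ℕ}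
    (hd : ∀ η : Cfsg.IrrCharacter K, Cfsg.SameBlock M (θ : K → ℂ) (η : K → ℂ) →
      (Nat.card K).factorization p ≤ (Cfsg.charDegree (η : K → ℂ)).factorization p + d) :
    Cfsg.blockDefect p (Cfsg.blockOf M (χ : G → ℂ)) ≤ d := by
  classical
  haveI := Fintype.ofFinite G
  have hB := isPBlock_blockOf M χ
  obtain ⟨ψ, hψ, hψ0⟩ := exists_height_zero hM hB
  obtain ⟨η₀, hη₀⟩ := exists_under (N := K) ψ
  obtain ⟨g, hg⟩ := constituents_conj_block hM (mem_blockOf.1 hψ) hne hη₀
  set η := conjIrr g⁻¹ η₀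
  have hηne : Cfsg.classInner (fun n : K => (ψ : G → ℂ) n) (η : K → ℂ) ≠ 0 := by
    rwa [constituent_conjIrr]
  have hsame : Cfsg.SameBlock M (θ : K → ℂ) (η : K → ℂ) := by
    have h := sameBlock_conjIrr g⁻¹ hg
    rwa [conjIrr_conjIrr, mul_inv_cancel, conjIrr_one] at h
  let I : Subgroup G :=
    { carrier := {g | Clifford.conjBy K g (η : K → ℂ) = η}
      one_mem' := Clifford.conjBy_one K _
      mul_mem' := fun {a c} ha hc => by
        show Clifford.conjBy K (a * c) (η : K → ℂ) = η
        rw [← Clifford.conjBy_conjBy, show Clifford.conjBy K a (η : K → ℂ) = η from ha]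
        exact hc
      inv_mem' := fun {a} ha => by
        show Clifford.conjBy K a⁻¹ (η : K → ℂ) = η
        conv_lhs => rw [← show Clifford.conjBy K a (η : K → ℂ) = η from ha]
        rw [Clifford.conjBy_conjBy, mul_inv_cancel, Clifford.conjBy_one] }
  have hI : ∀ g : G, g ∈ I ↔ Clifford.conjBy K g (η : K → ℂ) = η := fun _ => Iff.rfl
  have hIT : I ≤ T := fun g hg => hstab η hsame g hg
  obtain ⟨m, hm⟩ := classInner_char_nat (isCharacter_restrict K (irr_isCharacter ψ))
    (irr_isCharacter η)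
  have hm0 : m ≠ 0 := fun h => hηne (by rw [hm, h, Nat.cast_zero])
  have hdeg := Clifford.card_mul_degree K ψ.2 η.2 hηne I hI
  rw [hm, ← charDegree_cast ψ, ← charDegree_cast η, ← Nat.cast_mul, ← Nat.cast_mul, ← Nat.cast_mul,
    Nat.cast_inj] at hdeg
  have hv := congrArg (fun k => Nat.factorization k p) hdeg
  simp only [Nat.factorization_mul Nat.card_pos.ne' (charDegree_pos ψ).ne',
    Nat.factorization_mul hm0 (mul_ne_zero Nat.card_pos.ne' (charDegree_pos η).ne'),
    Nat.factorization_mul Nat.card_pos.ne' (charDegree_pos η).ne', Finsupp.add_apply] at hv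
  have hTK : (Nat.card T).factorization p = (Nat.card K).factorization p := by
    have h := (K.subgroupOf T).card_mul_index
    rw [Nat.card_congr (Subgroup.subgroupOfEquivOfLe hKT).toEquiv] at h
    rw [← h, Nat.factorization_mul Nat.card_pos.ne' (K.subgroupOf T).index_ne_zero_of_finite,
      Finsupp.add_apply, Nat.factorization_eq_zero_of_not_dvd (n := (K.subgroupOf T).index) hidx,
      add_zero]
  have hIle : (Nat.card I).factorization p ≤ (Nat.card T).factorization p :=
    (Nat.factorization_le_iff_dvd Nat.card_pos.ne' Nat.card_pos.ne').2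
      (Subgroup.card_dvd_of_le hIT) p
  have h0 := degree_factorization_eq hM hB hψ
  rw [hψ0, add_zero] at h0
  have hd' := hd η hsame
  omega

theorem defectGroup_iff_index [Fintype G] (hM : Cfsg.IsPModular p M) {P H : Subgroup G}
    (hP : IsPGroup p P) [Fintype H] (hH : H = P ⊔ Subgroup.centralizer (P : Set G))
    {b : Set (Cfsg.IrrCharacter H)} (hbP : Cfsg.IsDefectGroup p M b (P.subgroupOf H))
    {B : Set (Cfsg.IrrCharacter G)} (hind : Cfsg.IsInducedBlock M H b B) {T : Subgroup G}
    (hT : ∀ g : G, g ∈ T ↔ (g ∈ Subgroup.normalizer (P : Set G) ∧ ∀ θ ∈ b,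
      ∀ θ' : Cfsg.IrrCharacter H, (∀ h h' : H, (h' : G) = g * h * g⁻¹ →
        (θ' : H → ℂ) h' = (θ : H → ℂ) h) → θ' ∈ b)) :
    Cfsg.IsDefectGroup p M B P ↔ ¬ p ∣ H.relIndex T := by
  classical
  haveI := fact_prime_of_pm hM
  have hPH : P ≤ H := hH ▸ le_sup_left
  have hCG : Subgroup.centralizer (P : Set G) ≤ H := hH ▸ le_sup_right
  have hHN : H ≤ Subgroup.normalizer (P : Set G) :=
    hH ▸ sup_le Subgroup.le_normalizer (centralizer_le_normalizer' P)
  have hconj : ∀ n ∈ Subgroup.normalizer (P : Set G), ∀ x ∈ H, n * x * n⁻¹ ∈ H := by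
    subst hH
    exact fun n hn x hx => sup_centralizer_conj hn hx
  set e := Subgroup.subgroupOfEquivOfLe hHN
  haveI hKn : (H.subgroupOf (Subgroup.normalizer (P : Set G))).Normal :=
    ⟨fun x hx n => Subgroup.mem_subgroupOf.2 (hconj n n.2 x hx)⟩
  haveI hQ := normal_subgroupOf (H := Subgroup.normalizer (P : Set G)) (P := P) le_rfl
  haveI := Fintype.ofFinite (H.subgroupOf (Subgroup.normalizer (P : Set G)))
  haveI := Fintype.ofFinite (Subgroup.normalizer (P : Set G))
  have hCH : Subgroup.centralizer ((P.subgroupOf (Subgroup.normalizer (P : Set G)) :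
      Subgroup (Subgroup.normalizer (P : Set G))) : Set (Subgroup.normalizer (P : Set G))) ≤
      H.subgroupOf (Subgroup.normalizer (P : Set G)) :=
    fun x hx => Subgroup.mem_subgroupOf.2
      (hCG ((mem_centralizer_subgroupOf Subgroup.le_normalizer).1 hx))
  have hP₁ := isPGroup_subgroupOf hP (Subgroup.le_normalizer (H := P))
  -- a covering block of the normaliser
  obtain ⟨θ₀, hθ₀⟩ := block_nonempty hM hind.1
  set θ : Cfsg.IrrCharacter (H.subgroupOf (Subgroup.normalizer (P : Set G))) :=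
    ⟨_, (isIrrCharacter_comp_mulEquiv e).2 θ₀.2⟩
  obtain ⟨ψ, hψ⟩ := exists_over (G := Subgroup.normalizer (P : Set G)) θ
  obtain ⟨χ, hχ⟩ := block_nonempty hM hind.2.1
  have hψB : Cfsg.IsInducedBlock M (Subgroup.normalizer (P : Set G))
      (Cfsg.blockOf M (ψ : Subgroup.normalizer (P : Set G) → ℂ)) B := by
    refine isInduced_of_omega hM (isPBlock_blockOf M ψ) hind.2.1 (mem_blockOf_self hM ψ) hχ
      fun g => ?_
    have hwc := central_brEl (P := P) (H := Subgroup.normalizer (P : Set G)) le_rfl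
      (central_classSum g)
    refine cong_trans hM (omega_restr_cong_brEl hM hP Subgroup.le_normalizer le_rfl ψ
      (central_classSum g) (intEl_classSum hM g)) ?_
    refine cong_trans hM (omega_cong_res hM hP₁ hCH ψ
      hwc (intEl_brEl hM P _ (intEl_classSum hM g))) ?_
    rw [omega_push_eq ψ θ hψ (isInvEl_res hwc), res_eq_restrEl,
      show (θ : H.subgroupOf (Subgroup.normalizer (P : Set G)) → ℂ) = (θ₀ : H → ℂ) ∘ e from rfl,
      omega_comp_equiv_brEl hHN, ← omega_classSum (irr_isClassFunction χ)]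
    exact omega_brEl_of_induced hM hP hPH hHN hind hθ₀ hχ (central_classSum g)
      (intEl_classSum hM g)
  -- transport of members of `b`
  have hdown : ∀ η : Cfsg.IrrCharacter (H.subgroupOf (Subgroup.normalizer (P : Set G))),
      Cfsg.SameBlock M θ.1 η.1 → ∃ η₀ ∈ b, η.1 = (η₀ : H → ℂ) ∘ e := by
    intro η hη
    refine ⟨⟨η.1 ∘ e.symm, (isIrrCharacter_comp_mulEquiv e.symm).2 η.2⟩,
      mem_of_sameBlock hM hind.1 hθ₀ ?_, funext fun x => by simp⟩
    have h := sameBlock_comp_mulEquiv e.symm hη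
    rwa [show θ.1 ∘ e.symm = (θ₀ : H → ℂ) from funext fun x =>
      congrArg (θ₀ : H → ℂ) (e.apply_symm_apply x)] at h
  have hup : ∀ η₀ ∈ b, Cfsg.SameBlock M θ.1 ((η₀ : H → ℂ) ∘ e) := fun η₀ hη₀ =>
    sameBlock_comp_mulEquiv e (sameBlock_of_mem hM hind.1 hθ₀ hη₀)
  constructor
  · intro hBP hdvd
    obtain ⟨D, hD⟩ := exists_defectGroup hM hψB.1
    rw [defectGroup_of_induced_normalizer hM hψB hBP hD] at hD
    haveI hHTn : (H.subgroupOf T).Normal :=
      ⟨fun x hx t => Subgroup.mem_subgroupOf.2 (hconj t ((hT t).1 t.2).1 x hx)⟩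
    obtain ⟨q, hq⟩ := exists_prime_orderOf_dvd_card' (G := T ⧸ H.subgroupOf T) p
      (by rwa [← Subgroup.index_eq_card])
    obtain ⟨t₀, rfl⟩ := QuotientGroup.mk_surjective q
    obtain ⟨a, r, hr, har⟩ := Nat.exists_eq_pow_mul_and_not_dvd (orderOf_pos t₀).ne' p
      hM.1.ne_one
    set t := t₀ ^ r with ht
    have htT := (hT t).1 t.2
    have hnot : (t : G) ∉ H := by
      intro h
      have h1 : (QuotientGroup.mk t₀ : T ⧸ H.subgroupOf T) ^ r = 1 := by
        rw [← QuotientGroup.mk_pow, QuotientGroup.eq_one_iff]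
        exact Subgroup.mem_subgroupOf.2 h
      rw [← orderOf_dvd_iff_pow_eq_one, hq] at h1
      exact hr h1
    apply hnot
    have hpow : (⟨(t : G), htT.1⟩ : Subgroup.normalizer (P : Set G)) ^ p ^ a = 1 := by
      refine Subtype.ext ?_
      show ((t : T) : G) ^ p ^ a = 1
      rw [← SubgroupClass.coe_pow, ht, ← pow_mul, mul_comm, ← har, pow_orderOf_eq_one]
      exact OneMemClass.coe_one T
    refine Subgroup.mem_subgroupOf.1 (mem_of_stabilizes hM hD
      (H := H.subgroupOf (Subgroup.normalizer (P : Set G)))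
      (fun x hx => Subgroup.mem_subgroupOf.2 (hPH (Subgroup.mem_subgroupOf.1 hx))) hCH
      (mem_blockOf_self hM ψ) hψ hpow ?_)
    set η := conjIrr (⟨(t : G), htT.1⟩ : Subgroup.normalizer (P : Set G)) θ with hη
    have htinv := ((hT (t : G)⁻¹).1 (T.inv_mem t.2)).2 θ₀ hθ₀
      ⟨η.1 ∘ e.symm, (isIrrCharacter_comp_mulEquiv e.symm).2 η.2⟩ fun h h' hh => by
        show η.1 (e.symm h') = (θ₀ : H → ℂ) h
        rw [hη, coe_conjIrr, Clifford.conjBy_apply]
        refine congrArg (θ₀ : H → ℂ) (Subtype.ext ?_)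
        show (t : G) * (h' : G) * (t : G)⁻¹ = h
        rw [hh]
        group
    have h := hup _ htinv
    rwa [show (η.1 ∘ e.symm) ∘ e = η.1 from funext fun x => by simp] at h
  · intro hidx
    have hTN : T ≤ Subgroup.normalizer (P : Set G) := fun g hg => ((hT g).1 hg).1
    have hHT : H ≤ T := fun g hg => (hT g).2 ⟨hHN hg, fun η₀ hη₀ θ' h => by
      have : θ' = η₀ := Subtype.ext (funext fun x => by
        have h1 := h (⟨g, hg⟩⁻¹ * x * ⟨g, hg⟩) x (by simp [mul_assoc])
        rw [h1]
        simpa using irr_isClassFunction η₀ x (⟨g, hg⟩ : H)⁻¹)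
      exact this ▸ hη₀⟩
    have hrel : (H.subgroupOf (Subgroup.normalizer (P : Set G))).relIndex
        (T.subgroupOf (Subgroup.normalizer (P : Set G))) = H.relIndex T :=
      Subgroup.relIndex_subgroupOf hTN
    have hle := blockDefect_covering_le hM hψ (T.subgroupOf (Subgroup.normalizer (P : Set G)))
      (Subgroup.comap_mono hHT) (fun η hη g hg => ?_) (hrel ▸ hidx)
      (d := Cfsg.blockDefect p b) (fun η hη => ?_)
    · obtain ⟨D, hD⟩ := exists_defectGroup hM hψB.1
      have hPD := normal_le_defect hM hP₁ hψB.1 hD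
      have hcard : Nat.card D ≤ Nat.card P := by
        rw [card_defectGroup hM hψB.1 hD,
          ← Nat.card_congr (Subgroup.subgroupOfEquivOfLe hPH).toEquiv,
          card_defectGroup hM hind.1 hbP]
        exact Nat.pow_le_pow_right hM.1.pos hle
      rw [← Nat.card_congr (Subgroup.subgroupOfEquivOfLe (Subgroup.le_normalizer (H := P))).toEquiv]
        at hcard
      rw [← eq_of_le_of_card_le hPD hcard] at hD
      obtain ⟨B₂, hB₂, hi₂⟩ := exists_induced_defect hM hP hψB.1 hD
      rwa [isInduced_unique hM hψB hi₂]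
    · obtain ⟨η₁, hη₁, e₁⟩ := hdown η hη
      refine Subgroup.mem_subgroupOf.2 ((hT g).2 ⟨g.2, fun η₀ hη₀ θ' h => ?_⟩)
      have hinv : Clifford.conjBy (H.subgroupOf (Subgroup.normalizer (P : Set G))) g⁻¹ η.1 =
          η.1 := by
        conv_lhs => rw [← hg, Clifford.conjBy_conjBy, mul_inv_cancel, Clifford.conjBy_one]
      set η' : Cfsg.IrrCharacter (H.subgroupOf (Subgroup.normalizer (P : Set G))) :=
        ⟨_, (isIrrCharacter_comp_mulEquiv e).2 η₀.2⟩
      have h3 := sameBlock_conjIrr g⁻¹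
        (sameBlock_trans hM (sameBlock_symm hM hη) (hup η₀ hη₀) :
          Cfsg.SameBlock M η.1 η'.1)
      rw [coe_conjIrr, hinv] at h3
      have h4 : (θ' : H → ℂ) ∘ e = (conjIrr g⁻¹ η').1 := funext fun x => by
        rw [coe_conjIrr, Clifford.conjBy_apply]
        exact h _ (e x) (by simp [e, mul_assoc])
      rw [← h4, e₁] at h3
      refine mem_of_sameBlock hM hind.1 hη₁ ?_
      have h5 := sameBlock_comp_mulEquiv e.symm h3
      simpa [Function.comp_def] using h5
    · obtain ⟨η₁, hη₁, e₁⟩ := hdown η hη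
      have h := degree_factorization_eq hM hind.1 hη₁
      have h1 : Cfsg.charDegree η.1 = Cfsg.charDegree (η₁ : H → ℂ) := by
        simp [Cfsg.charDegree, e₁]
      rw [h1, Nat.card_congr e.toEquiv]
      omega

end Cfsg.Agent.Blocks.InertialIndex
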