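import Mathlib
import Cfsg.Agent.BlockCharsA.PairLocal
import Cfsg.Agent.Lib.Blocks.Covering
import Cfsg.Agent.Lib.CharTheory.Basics

/-!
# Nilpotent blocks and extensions by a p-group
-/

set_option linter.style.haveILetI false
set_option linter.unusedSectionVars false

namespace Cfsg.Agent.Blocks.NilpotentPExtension

open Cfsg.Agent.Characters Cfsg.Agent.BlockCharsA.BrauerPairs Cfsg.Agent.BlockCharsA.PairStab
open Cfsg.Agent.BlockCharsA.PairConj Cfsg.Agent.BlockCharsA.PairLocal
open Cfsg.Agent.CharTheory Cfsg.Agent.BlockCharsA.Transport Cfsg.Agent.BlockCharsA.NormalSupport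

universe u

/-- A restriction of an automorphism to an invariant subgroup. -/
def resAut {K : Type u} [Group K] {L : Subgroup K} (σ : K ≃* K) (h : ∀ k, σ k ∈ L ↔ k ∈ L) :
    L ≃* L where
  toFun l := ⟨σ l, (h l).2 l.2⟩
  invFun l := ⟨σ.symm l, (h _).1 (by simp)⟩
  left_inv l := Subtype.ext (by simp)
  right_inv l := Subtype.ext (by simp)
  map_mul' a b := Subtype.ext (by simp)

theorem coe_resAut {K : Type u} [Group K] {L : Subgroup K} (σ : K ≃* K)
    (h : ∀ k, σ k ∈ L ↔ k ∈ L) (l : L) : (resAut σ h l : K) = σ l := rfl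

/-- Two automorphisms with images of a character in the same block move its block equally. -/
theorem blockCoeff_comp_eq {L : Type u} [Group L] [Finite L] {p : ℕ} {M : Ideal Cfsg.AlgInt}
    (hM : Cfsg.IsPModular p M) (θ : Cfsg.IrrCharacter L) (τ₁ τ₂ : L ≃* L)
    (h : Cfsg.SameBlock M ((θ : L → ℂ) ∘ τ₁) ((θ : L → ℂ) ∘ τ₂))
    {f : Set (Cfsg.IrrCharacter L)} (hf : Cfsg.IsPBlock M f) (hθ : θ ∈ f) (l : L) :
    Cfsg.blockCoeff f (τ₁ l) = Cfsg.blockCoeff f (τ₂ l) := by
  have hmem : ∀ τ : L ≃* L, irrIso τ θ ∈ pullSet τ.symm f := fun τ => by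
    show irrIso τ.symm (irrIso τ θ) ∈ f
    rwa [show irrIso τ.symm (irrIso τ θ) = θ from
      Subtype.ext (funext fun k => by simp [irrIso_apply])]
  have heq : pullSet τ₁.symm f = pullSet τ₂.symm f :=
    block_eq_of_mem hM (isPBlock_pullSet hM _ hf) (isPBlock_pullSet hM _ hf) (hmem τ₁)
      (mem_of_sameBlock hM (isPBlock_pullSet hM _ hf) (hmem τ₂) (sameBlock_symm hM h))
  calc Cfsg.blockCoeff f (τ₁ l) = Cfsg.blockCoeff (pullSet τ₁.symm f) l := by
        rw [← blockCoeff_pullSet τ₁.symm f (τ₁ l), MulEquiv.symm_apply_apply]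
    _ = Cfsg.blockCoeff (pullSet τ₂.symm f) l := by rw [heq]
    _ = Cfsg.blockCoeff f (τ₂ l) := by
        rw [← blockCoeff_pullSet τ₂.symm f (τ₂ l), MulEquiv.symm_apply_apply]

variable {G : Type u} [Group G]

/-- The stabiliser of a function under conjugation. -/
def funStab (F : G → ℂ) : Subgroup G where
  carrier := {u | ∀ g, F (u * g * u⁻¹) = F g}
  one_mem' := fun g => by simp
  mul_mem' := fun {a b} ha hb g => by
    rw [show a * b * g * (a * b)⁻¹ = a * (b * g * b⁻¹) * a⁻¹ by group, ha, hb]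
  inv_mem' := fun {a} ha g => by
    rw [← ha (a⁻¹ * g * a⁻¹⁻¹)]
    congr 1
    group

theorem mem_funStab {F : G → ℂ} {u : G} : u ∈ funStab F ↔ ∀ g, F (u * g * u⁻¹) = F g := Iff.rfl

/-- An element of order prime to `p` acting like an element of a group, which it centralises
modulo the stabiliser and in which that stabiliser has `p`-power index, stabilises. -/
theorem mem_funStab_of_eq [Finite G] {p : ℕ} (hp : p.Prime) {F : G → ℂ} {N K : Subgroup G}
    [N.Normal] (hN : ∃ m : ℕ, N.index = p ^ m)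
    (hF : K ⊓ N ≤ funStab F) {x k : G} (hxN : x ∈ N) (hxK : x ∈ Subgroup.normalizer (K : Set G))
    (hk : k ∈ K) (hreg : ¬ p ∣ orderOf x)
    (h : ∀ g, F (x * g * x⁻¹) = F (k * g * k⁻¹)) : x ∈ funStab F := by
  obtain ⟨m, hm⟩ := hN
  have key : ∀ n : ℕ, ∀ g, F (x ^ n * g * (x ^ n)⁻¹) = F (k ^ n * g * (k ^ n)⁻¹) := by
    intro n
    induction n with
    | zero => simp
    | succ n ih =>
      intro g
      have hl : k * x ^ n * k⁻¹ * (x ^ n)⁻¹ ∈ funStab F := by
        refine hF ⟨?_, ?_⟩
        · have h1 := (Subgroup.mem_normalizer_iff.1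
            ((Subgroup.normalizer (K : Set G)).pow_mem hxK n) k⁻¹).1 (K.inv_mem hk)
          have h2 := K.mul_mem hk h1
          simpa [mul_assoc] using h2
        · exact N.mul_mem ((inferInstance : N.Normal).conj_mem _ (N.pow_mem hxN n) k)
            (N.inv_mem (N.pow_mem hxN n))
      calc F (x ^ (n + 1) * g * (x ^ (n + 1))⁻¹)
          = F (x * (x ^ n * g * (x ^ n)⁻¹) * x⁻¹) := by rw [pow_succ']; group
        _ = F (k * (x ^ n * g * (x ^ n)⁻¹) * k⁻¹) := h _
        _ = F ((k * x ^ n * k⁻¹ * (x ^ n)⁻¹) * (x ^ n * (k * g * k⁻¹) * (x ^ n)⁻¹) *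
              (k * x ^ n * k⁻¹ * (x ^ n)⁻¹)⁻¹) := by group
        _ = F (x ^ n * (k * g * k⁻¹) * (x ^ n)⁻¹) := mem_funStab.1 hl _
        _ = F (k ^ n * (k * g * k⁻¹) * (k ^ n)⁻¹) := ih _
        _ = F (k ^ (n + 1) * g * (k ^ (n + 1))⁻¹) := by rw [pow_succ]; group
  have hn : k ^ orderOf x ∈ funStab F := fun g => by
    rw [← key (orderOf x) g, pow_orderOf_eq_one]
    simp
  have hpm : k ^ p ^ m ∈ funStab F := hF ⟨K.pow_mem hk _, hm ▸ N.pow_index_mem k⟩
  have hco : Nat.gcd (orderOf x) (p ^ m) = 1 :=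
    Nat.Coprime.pow_right m ((hp.coprime_iff_not_dvd.2 hreg).symm)
  have hkF : k ∈ funStab F := by
    have h1 : (k ^ (Nat.gcd (orderOf x) (p ^ m) : ℤ)) ∈ funStab F := by
      rw [Nat.gcd_eq_gcd_ab, zpow_add, zpow_mul, zpow_mul, zpow_natCast, zpow_natCast]
      exact mul_mem (zpow_mem hn _) (zpow_mem hpm _)
    simpa [hco] using h1
  exact fun g => (h g).trans (hkF g)

variable [Finite G] {p : ℕ} {M : Ideal Cfsg.AlgInt} {N : Subgroup G} [hNn : N.Normal]

/-- The centraliser inside `N` as a subgroup of the centraliser. -/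
def downEq (R : Subgroup N) : Subgroup.centralizer (R : Set N) ≃*
    N.subgroupOf (Subgroup.centralizer (R.map N.subtype : Set G)) where
  toFun n := ⟨⟨((n : N) : G), by
    rintro _ ⟨r, hr, rfl⟩
    exact congrArg Subtype.val (n.2 r hr)⟩, (n : N).2⟩
  invFun l := ⟨⟨((l : Subgroup.centralizer (R.map N.subtype : Set G)) : G), l.2⟩,
    fun r hr => Subtype.ext (l.1.2 r ⟨r, hr, rfl⟩)⟩
  left_inv _ := rfl
  right_inv _ := rfl
  map_mul' _ _ := rfl

theorem coe_downEq (R : Subgroup N) (n : Subgroup.centralizer (R : Set N)) :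
    (((downEq R n : N.subgroupOf (Subgroup.centralizer (R.map N.subtype : Set G))) :
      Subgroup.centralizer (R.map N.subtype : Set G)) : G) = ((n : N) : G) := rfl

theorem index_pow (hp : p.Prime) (hN : ∃ k : ℕ, N.index = p ^ k) (K : Subgroup G) :
    ∃ k : ℕ, (N.subgroupOf K).index = p ^ k := by
  obtain ⟨k, hk⟩ := hN
  have h : (N.subgroupOf K).index ∣ p ^ k := hk ▸ Subgroup.relIndex_dvd_index_of_normal N K
  obtain ⟨i, -, hi⟩ := (Nat.dvd_prime_pow hp).1 h
  exact ⟨i, hi⟩

variable {c : Set (Cfsg.IrrCharacter N)} {B : Set (Cfsg.IrrCharacter G)}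

/-- The Brauer image of `B` at a character over `θ` is that of `c` at `θ`. -/
theorem omega_pair (hBc : ∀ g : G, Cfsg.blockCoeff B g = Cfsg.subgroupBlockCoeff N c g)
    (R : Subgroup N) [Fintype (N.subgroupOf (Subgroup.centralizer (R.map N.subtype : Set G)))]
    (χ : Cfsg.IrrCharacter (Subgroup.centralizer (R.map N.subtype : Set G)))
    (θ : Cfsg.IrrCharacter (N.subgroupOf (Subgroup.centralizer (R.map N.subtype : Set G))))
    (h : Cfsg.classInner (fun l : N.subgroupOf (Subgroup.centralizer (R.map N.subtype : Set G)) =>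
      (χ : Subgroup.centralizer (R.map N.subtype : Set G) → ℂ) l)
      (θ : _ → ℂ) ≠ 0) :
    Cfsg.brauerOmega (R.map N.subtype) (Cfsg.blockCoeff B)
        (χ : Subgroup.centralizer (R.map N.subtype : Set G) → ℂ) =
      Cfsg.brauerOmega R (Cfsg.blockCoeff c)
        (irrIso (downEq R) θ : Subgroup.centralizer (R : Set N) → ℂ) := by
  classical
  rw [brauerOmega_block, brauerOmega_block]
  set z := br (R.map N.subtype) (blockIdem B) with hz
  have hzc : IsCentralEl z := central_br (invBy_blockIdem _ _)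
  have hsupp : push _ (res (N.subgroupOf (Subgroup.centralizer (R.map N.subtype : Set G))) z) = z :=
    push_res fun g hg => by
      rw [hz, br, coeff_restrEl, coeff_blockIdem, hBc, Cfsg.subgroupBlockCoeff, dif_neg]
      exact fun h' => hg h'
  rw [← hsupp, omega_push_eq χ θ h (isInvEl_res hzc),
    omega_iso (downEq R) (z := br R (blockIdem c)) fun n => ?_]
  · rfl
  · rw [coeff_res, hz, br, br, coeff_restrEl, coeff_restrEl, coeff_blockIdem, coeff_blockIdem,
      coe_downEq, hBc, Cfsg.subgroupBlockCoeff, dif_pos (n : N).2]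

section Local

variable (R : Subgroup N) {x : G}
  (hx : x ∈ Subgroup.normalizer ((R.map N.subtype : Subgroup G) : Set G))

/-- Conjugation on the centraliser, restricted to its intersection with `N`. -/
def tauX : N.subgroupOf (Subgroup.centralizer (R.map N.subtype : Set G)) ≃*
    N.subgroupOf (Subgroup.centralizer (R.map N.subtype : Set G)) :=
  resAut (conjK (normalizer_le_normalizer_centralizer _ hx)) fun k => by
    show x * (k : G) * x⁻¹ ∈ N ↔ (k : G) ∈ N
    refine ⟨fun h => ?_, fun h => hNn.conj_mem _ h x⟩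
    simpa [mul_assoc] using hNn.conj_mem _ h x⁻¹

theorem coe_tauX (l : N.subgroupOf (Subgroup.centralizer (R.map N.subtype : Set G))) :
    ((tauX R hx l : Subgroup.centralizer (R.map N.subtype : Set G)) : G) =
      x * ((l : Subgroup.centralizer (R.map N.subtype : Set G)) : G) * x⁻¹ := rfl

include hx in
theorem under_twist [Fintype (N.subgroupOf (Subgroup.centralizer (R.map N.subtype : Set G)))]
    (χ : Cfsg.IrrCharacter (Subgroup.centralizer (R.map N.subtype : Set G)))
    (θ : Cfsg.IrrCharacter (N.subgroupOf (Subgroup.centralizer (R.map N.subtype : Set G))))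
    (h : Cfsg.classInner (fun l : N.subgroupOf (Subgroup.centralizer (R.map N.subtype : Set G)) =>
      (χ : Subgroup.centralizer (R.map N.subtype : Set G) → ℂ) l)
      (θ : _ → ℂ) ≠ 0) :
    Cfsg.classInner (fun l : N.subgroupOf (Subgroup.centralizer (R.map N.subtype : Set G)) =>
      (irrIso (conjK (normalizer_le_normalizer_centralizer _ hx)) χ :
        Subgroup.centralizer (R.map N.subtype : Set G) → ℂ) l)
      (irrIso (tauX R hx) θ : _ → ℂ) ≠ 0 := by
  rw [← CharTheory.Basics.classInner_comp_equiv (tauX R hx)] at h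
  exact h

end Local

/-- The function on `G` of a set of characters of a centraliser in `N`. -/
noncomputable def coeffUp (R : Subgroup N)
    (e' : Set (Cfsg.IrrCharacter (Subgroup.centralizer (R : Set N)))) : G → ℂ :=
  fun g => (push N (elF (Subgroup.centralizer (R : Set N)) e')).coeff g

theorem coeffUp_eq (R : Subgroup N)
    (e' : Set (Cfsg.IrrCharacter (Subgroup.centralizer (R : Set N))))
    (l : N.subgroupOf (Subgroup.centralizer (R.map N.subtype : Set G))) :
    coeffUp R e' ((l : Subgroup.centralizer (R.map N.subtype : Set G)) : G) =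
      Cfsg.blockCoeff (pullSet (downEq R) e') l := by
  obtain ⟨n, rfl⟩ := (downEq R).surjective l
  rw [blockCoeff_pullSet, coe_downEq, coeffUp, coeff_push_coe, elF, coeff_inclEl_mem,
    coeff_blockIdem]

theorem coeffUp_eq_zero (R : Subgroup N)
    (e' : Set (Cfsg.IrrCharacter (Subgroup.centralizer (R : Set N)))) {g : G}
    (hg : g ∉ Subgroup.centralizer (R.map N.subtype : Set G) ⊓ N) : coeffUp R e' g = 0 := by
  by_cases h : g ∈ N
  · rw [coeffUp, coeff_push_mem _ h, elF, coeff_inclEl_notMem]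
    intro hc
    refine hg ⟨?_, h⟩
    rintro _ ⟨r, hr, rfl⟩
    exact congrArg Subtype.val (hc r hr)
  · rw [coeffUp, coeff_push_notMem _ h]

theorem inf_le_funStab (R : Subgroup N)
    (e' : Set (Cfsg.IrrCharacter (Subgroup.centralizer (R : Set N)))) :
    Subgroup.centralizer (R.map N.subtype : Set G) ⊓ N ≤ funStab (coeffUp R e') := by
  intro l hl g
  by_cases hg : g ∈ N
  · simp only [coeffUp]
    rw [coeff_push_mem _ (hNn.conj_mem g hg l), coeff_push_mem _ hg]
    have hlC : (⟨l, hl.2⟩ : N) ∈ Subgroup.centralizer (R : Set N) :=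
      fun r hr => Subtype.ext (hl.1 r ⟨r, hr, rfl⟩)
    exact invBy_elF_self e' ⟨l, hl.2⟩ hlC ⟨g, hg⟩
  · simp only [coeffUp]
    rw [coeff_push_notMem _ hg, coeff_push_notMem]
    intro h
    exact hg (by simpa [mul_assoc] using hNn.conj_mem _ h l⁻¹)

/-- A pair of `B` at a subgroup of `N` gives a pair of `c` with the same stabilising elements
of order prime to `p`. -/
theorem exists_pair_down (hM : Cfsg.IsPModular p M) (hN : ∃ k : ℕ, N.index = p ^ k)
    (hc : Cfsg.IsPBlock M c) (hBc : ∀ g : G, Cfsg.blockCoeff B g = Cfsg.subgroupBlockCoeff N c g)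
    (R : Subgroup N) {e : Set (Cfsg.IrrCharacter (Subgroup.centralizer (R.map N.subtype : Set G)))}
    (he : Cfsg.IsBrauerPairOf p M B (R.map N.subtype) e) {x : N}
    (hxR : (x : G) ∈ Subgroup.normalizer ((R.map N.subtype : Subgroup G) : Set G))
    (hst : Cfsg.StabilizesBlock (Subgroup.centralizer (R.map N.subtype : Set G)) e (x : G))
    (hreg : ¬ p ∣ orderOf (x : G)) :
    ∃ e' : Set (Cfsg.IrrCharacter (Subgroup.centralizer (R : Set N))),
      Cfsg.IsBrauerPairOf p M c R e' ∧ x ∈ Subgroup.normalizer (R : Set N) ∧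
        Cfsg.StabilizesBlock (Subgroup.centralizer (R : Set N)) e' x := by
  classical
  haveI := Fintype.ofFinite (N.subgroupOf (Subgroup.centralizer (R.map N.subtype : Set G)))
  have hxR' : x ∈ Subgroup.normalizer (R : Set N) := by
    rw [Subgroup.mem_normalizer_iff]
    intro r
    have h := Subgroup.mem_normalizer_iff.1 hxR (r : G)
    have hmem : ∀ s : N, (s : G) ∈ R.map N.subtype ↔ s ∈ R := fun s =>
      Subgroup.mem_map_iff_mem N.subtype_injective
    rw [hmem] at h
    rw [h, show (x : G) * (r : G) * (x : G)⁻¹ = ((x * r * x⁻¹ : N) : G) from rfl, hmem]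
  obtain ⟨χ, hχ⟩ := block_nonempty hM he.1.2
  obtain ⟨θ, hθ⟩ := exists_under
    (N := N.subgroupOf (Subgroup.centralizer (R.map N.subtype : Set G))) χ
  set θ' := irrIso (downEq R) θ with hθ'
  set e' := Cfsg.blockOf M (θ' : Subgroup.centralizer (R : Set N) → ℂ) with he'
  have he'b : Cfsg.IsPBlock M e' := isPBlock_blockOf M θ'
  have hR : IsPGroup p R := by
    refine he.1.1.of_equiv (R.equivMapOfInjective N.subtype N.subtype_injective).symm
  have hpair : Cfsg.IsBrauerPairOf p M c R e' := by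
    refine ⟨⟨hR, he'b⟩, hc, fun ξ hξ => ?_⟩
    have h1 := he.2.2 χ hχ
    rw [omega_pair hBc R χ θ hθ] at h1
    rw [brauerOmega_block] at h1 ⊢
    exact cong_at_member hM he'b (mem_blockOf_self hM θ') hξ (intEl_blockIdem hM hc)
      (invBy_blockIdem _ _) h1
  refine ⟨e', hpair, hxR', (stabilizes_iff_coeff
    (normalizer_le_normalizer_centralizer R hxR')).2 fun g => ?_⟩
  have hσ := (stabilizes_iff (normalizer_le_normalizer_centralizer _ hxR) e).1 hst
  have hχx : irrIso (conjK (normalizer_le_normalizer_centralizer _ hxR)) χ ∈ e := by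
    rw [← hσ] at hχ
    exact hχ
  obtain ⟨k, hk⟩ := constituents_conj_block hM (sameBlock_of_mem hM he.1.2 hχ hχx) hθ
    (under_twist R hxR χ θ hθ)
  have hf : Cfsg.IsPBlock M (pullSet (downEq R) e') := isPBlock_pullSet hM _ he'b
  have hθf : θ ∈ pullSet (downEq R) e' := mem_blockOf_self hM θ'
  rw [coe_conjIrr, Clifford.conjBy_eq_comp] at hk
  have hkey := blockCoeff_comp_eq hM θ _ (tauX R hxR) hk hf hθf
  have hmain : (x : G) ∈ funStab (coeffUp R e') := by
    refine mem_funStab_of_eq hM.1 hN (inf_le_funStab R e') x.2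
      (normalizer_le_normalizer_centralizer _ hxR) k.2 hreg fun g => ?_
    have hnK : ∀ u ∈ Subgroup.normalizer
        ((Subgroup.centralizer (R.map N.subtype : Set G) : Subgroup G) : Set G),
        g ∉ Subgroup.centralizer (R.map N.subtype : Set G) ⊓ N →
        u * g * u⁻¹ ∉ Subgroup.centralizer (R.map N.subtype : Set G) ⊓ N := fun u hu hg h =>
      hg ⟨(Subgroup.mem_normalizer_iff.1 hu g).2 h.1,
        by simpa [mul_assoc] using hNn.conj_mem _ h.2 u⁻¹⟩
    by_cases hg : g ∈ Subgroup.centralizer (R.map N.subtype : Set G) ⊓ N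
    · have := hkey ⟨⟨g, hg.1⟩, hg.2⟩
      rw [← coeffUp_eq R e', ← coeffUp_eq R e'] at this
      exact this.symm
    · rw [coeffUp_eq_zero _ _ (hnK _ (normalizer_le_normalizer_centralizer _ hxR) hg),
        coeffUp_eq_zero _ _ (hnK _ (Subgroup.le_normalizer k.2) hg)]
  have h2 := mem_funStab.1 hmain (g : G)
  simp only [coeffUp] at h2
  rw [show (x : G) * (g : G) * (x : G)⁻¹ = ((x * g * x⁻¹ : N) : G) from rfl,
    coeff_push_coe, coeff_push_coe] at h2
  exact h2

/-- A pair of `c` gives a pair of `B` with the same stabilising elements of `N`. -/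
theorem exists_pair_up (hM : Cfsg.IsPModular p M) (hN : ∃ k : ℕ, N.index = p ^ k)
    (hB : Cfsg.IsPBlock M B) (hBc : ∀ g : G, Cfsg.blockCoeff B g = Cfsg.subgroupBlockCoeff N c g)
    (R : Subgroup N) {e' : Set (Cfsg.IrrCharacter (Subgroup.centralizer (R : Set N)))}
    (he : Cfsg.IsBrauerPairOf p M c R e') {x : N} (hxR : x ∈ Subgroup.normalizer (R : Set N))
    (hst : Cfsg.StabilizesBlock (Subgroup.centralizer (R : Set N)) e' x) :
    ∃ e : Set (Cfsg.IrrCharacter (Subgroup.centralizer (R.map N.subtype : Set G))),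
      Cfsg.IsBrauerPairOf p M B (R.map N.subtype) e ∧
        (x : G) ∈ Subgroup.normalizer ((R.map N.subtype : Subgroup G) : Set G) ∧
        Cfsg.StabilizesBlock (Subgroup.centralizer (R.map N.subtype : Set G)) e (x : G) := by
  classical
  haveI := Fintype.ofFinite (N.subgroupOf (Subgroup.centralizer (R.map N.subtype : Set G)))
  haveI := Fintype.ofFinite (Subgroup.centralizer (R.map N.subtype : Set G))
  have hxR' : (x : G) ∈ Subgroup.normalizer ((R.map N.subtype : Subgroup G) : Set G) := by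
    rw [Subgroup.mem_normalizer_iff]
    intro y
    constructor
    · rintro ⟨r, hr, rfl⟩
      exact ⟨x * r * x⁻¹, (Subgroup.mem_normalizer_iff.1 hxR r).1 hr, rfl⟩
    · rintro ⟨r, hr, hry⟩
      refine ⟨x⁻¹ * r * x, ?_, ?_⟩
      · rw [SetLike.mem_coe, Subgroup.mem_normalizer_iff.1 hxR]
        simpa [mul_assoc] using hr
      · simp only [Subgroup.coe_subtype] at hry
        simp [hry, mul_assoc]
  obtain ⟨θ', hθ'⟩ := block_nonempty hM he.1.2
  set θ := (irrIso (downEq R)).symm θ' with hθdef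
  obtain ⟨χ, hχ⟩ := exists_over (G := Subgroup.centralizer (R.map N.subtype : Set G))
    (N := N.subgroupOf (Subgroup.centralizer (R.map N.subtype : Set G))) θ
  set e := Cfsg.blockOf M (χ : Subgroup.centralizer (R.map N.subtype : Set G) → ℂ) with he_def
  have heb : Cfsg.IsPBlock M e := isPBlock_blockOf M χ
  have hpair : Cfsg.IsBrauerPairOf p M B (R.map N.subtype) e := by
    refine ⟨⟨he.1.1.map _, heb⟩, hB, fun ξ hξ => ?_⟩
    have h1 := he.2.2 θ' hθ'
    rw [show θ' = irrIso (downEq R) θ from (Equiv.apply_symm_apply _ _).symm,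
      ← omega_pair hBc R χ θ hχ] at h1
    rw [brauerOmega_block] at h1 ⊢
    exact cong_at_member hM heb (mem_blockOf_self hM χ) hξ (intEl_blockIdem hM hB)
      (invBy_blockIdem _ _) h1
  refine ⟨e, hpair, hxR', ?_⟩
  rw [stabilizes_iff (normalizer_le_normalizer_centralizer _ hxR')]
  set σ := conjK (normalizer_le_normalizer_centralizer _ hxR') with hσdef
  refine block_eq_of_mem hM (isPBlock_moveSet hM σ heb) heb ?_ (mem_blockOf_self hM χ)
  refine mem_of_sameBlock hM heb (mem_blockOf_self hM χ)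
    (sameBlock_of_covers_same hM (index_pow hM.1 hN _) hχ (under_twist R hxR' χ θ hχ) ?_)
  have hst' := (stabilizes_iff (normalizer_le_normalizer_centralizer R hxR) e').1 hst
  have hθx : irrAutEquiv (conjK (normalizer_le_normalizer_centralizer R hxR)) θ' ∈ e' := by
    have := hθ'
    rw [← hst'] at this
    exact this
  refine sameBlock_of_iso (downEq R) ?_
  have h2 := sameBlock_of_mem hM he.1.2 hθ' hθx
  convert h2 using 1
  · funext n
    simp only [hθdef, Function.comp_apply, irrIso_symm_apply, MulEquiv.symm_apply_apply]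
  · funext n
    show (θ : N.subgroupOf (Subgroup.centralizer (R.map N.subtype : Set G)) → ℂ)
        (tauX R hxR' (downEq R n)) =
      (θ' : Subgroup.centralizer (R : Set N) → ℂ) (conjK (normalizer_le_normalizer_centralizer R hxR) n)
    rw [hθdef, irrIso_symm_apply]
    exact congrArg (θ' : Subgroup.centralizer (R : Set N) → ℂ) ((MulEquiv.symm_apply_eq _).2 (Subtype.ext (Subtype.ext rfl)))

/-- A stable block of a normal subgroup of `p`-power index is nilpotent iff the block above is. -/
theorem isNilpotent_iff (hM : Cfsg.IsPModular p M) (hN : ∃ k : ℕ, N.index = p ^ k)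
    (hc : Cfsg.IsPBlock M c) (hB : Cfsg.IsPBlock M B)
    (hBc : ∀ g : G, Cfsg.blockCoeff B g = Cfsg.subgroupBlockCoeff N c g) :
    Cfsg.IsNilpotentBlock p M c ↔ Cfsg.IsNilpotentBlock p M B := by
  haveI := fact_prime_of_pm hM
  constructor
  · rintro ⟨-, hnil⟩
    refine ⟨hB, fun Q e hQe x hxQ hst hreg => ?_⟩
    have hxN : x ∈ N := mem_of_regular hM.1 hN hreg
    set R := Q.subgroupOf N with hR
    have hmap : R.map N.subtype = Q ⊓ N := Subgroup.subgroupOf_map_subtype Q N
    have hRQ : R.map N.subtype ≤ Q := hmap.trans_le inf_le_left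
    have hQR : Q ≤ Subgroup.normalizer ((R.map N.subtype : Subgroup G) : Set G) := by
      intro q hq
      rw [hmap, Subgroup.mem_normalizer_iff]
      refine fun y => ⟨fun hy => ⟨Q.mul_mem (Q.mul_mem hq hy.1) (Q.inv_mem hq),
        hNn.conj_mem y hy.2 q⟩, fun hy => ⟨?_, ?_⟩⟩
      · simpa [mul_assoc] using Q.mul_mem (Q.mul_mem (Q.inv_mem hq) hy.1) hq
      · simpa [mul_assoc] using hNn.conj_mem _ hy.2 q⁻¹
    have hxR : x ∈ Subgroup.normalizer ((R.map N.subtype : Subgroup G) : Set G) := by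
      rw [hmap, Subgroup.mem_normalizer_iff]
      refine fun y => ⟨fun hy => ⟨(Subgroup.mem_normalizer_iff.1 hxQ y).1 hy.1,
        hNn.conj_mem y hy.2 x⟩, fun hy => ⟨(Subgroup.mem_normalizer_iff.1 hxQ y).2 hy.1, ?_⟩⟩
      simpa [mul_assoc] using hNn.conj_mem _ hy.2 x⁻¹
    obtain ⟨f, hf, hfu⟩ := existsUnique_normalSubpair hM hQe.1 hRQ hQR
    have hfB : Cfsg.IsBrauerPairOf p M B (R.map N.subtype) f :=
      (block_of_subpairLE hM (a := (⟨_, f⟩ : Cfsg.BrauerPairIdx G)) (b := ⟨Q, e⟩)
        (Relation.ReflTransGen.single hf)).2 hQe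
    have hfst : Cfsg.StabilizesBlock (Subgroup.centralizer (R.map N.subtype : Set G)) f x := by
      have hb : cjPair x (⟨Q, e⟩ : Cfsg.BrauerPairIdx G) = ⟨Q, e⟩ := by
        refine idx_ext ?_ fun g => ?_
        · ext y
          show y ∈ cj Q x ↔ y ∈ Q
          rw [mem_map_conj_iff]
          have := Subgroup.mem_normalizer_iff.1 (inv_mem hxQ) y
          rw [inv_inv] at this
          exact this.symm
        · simp only [cjPair]
          rw [coeff_conjBlock', ← (stabilizes_iff_coeff
            (normalizer_le_normalizer_centralizer Q hxQ)).1 hst (x⁻¹ * g * x)]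
          congr 1
          group
      have hR2 : cj (R.map N.subtype) x = R.map N.subtype := by
        ext y
        rw [mem_map_conj_iff]
        have := Subgroup.mem_normalizer_iff.1 (inv_mem hxR) y
        rw [inv_inv] at this
        exact this.symm
      have hrel : Cfsg.NormalSubpairRel p M (cjPair x ⟨R.map N.subtype, f⟩) (cjPair x ⟨Q, e⟩) :=
        normalSubpair_conj hM x hf
      rw [hb] at hrel
      have ha : cjPair x (⟨R.map N.subtype, f⟩ : Cfsg.BrauerPairIdx G) = ⟨R.map N.subtype, f⟩ := by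
        have key : ∀ a : Cfsg.BrauerPairIdx G, a.1 = R.map N.subtype →
            Cfsg.NormalSubpairRel p M a ⟨Q, e⟩ → a = ⟨R.map N.subtype, f⟩ := by
          rintro ⟨A, a⟩ hA h
          simp only at hA
          subst hA
          rw [hfu a h]
        exact key _ hR2 hrel
      refine (stabilizes_iff_coeff (normalizer_le_normalizer_centralizer _ hxR)).2 fun g => ?_
      have h := congrArg (fun a : Cfsg.BrauerPairIdx G =>
        (elF (Subgroup.centralizer (a.1 : Set G)) a.2).coeff (x * g * x⁻¹)) ha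
      simp only [cjPair] at h
      rw [coeff_conjBlock] at h
      exact h.symm
    obtain ⟨e', he', hxR', hst'⟩ := exists_pair_down hM hN hc hBc R hfB (x := ⟨x, hxN⟩) hxR hfst hreg
    have hxC := hnil R e' he' ⟨x, hxN⟩ hxR' hst' (by
      show ¬ p ∣ orderOf (⟨x, hxN⟩ : N)
      rwa [← Subgroup.orderOf_coe])
    intro q hq
    set r := x * q * x⁻¹ * q⁻¹ with hr
    have hrQ : r ∈ Q := Q.mul_mem ((Subgroup.mem_normalizer_iff.1 hxQ q).1 hq) (Q.inv_mem hq)
    have hrN : r ∈ N := by
      have := N.mul_mem hxN (hNn.conj_mem _ (N.inv_mem hxN) q)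
      simpa [hr, mul_assoc] using this
    have hxr : x * r = r * x :=
      (congrArg Subtype.val (hxC ⟨r, hrN⟩ (show (⟨r, hrN⟩ : N) ∈ R from hrQ))).symm
    have hpow : ∀ n : ℕ, x ^ n * q * (x ^ n)⁻¹ = r ^ n * q := by
      intro n
      induction n with
      | zero => simp
      | succ n ih =>
        have hc' : x * r ^ n = r ^ n * x := (Commute.pow_right hxr n).eq
        calc x ^ (n + 1) * q * (x ^ (n + 1))⁻¹ = x * (x ^ n * q * (x ^ n)⁻¹) * x⁻¹ := by
              rw [pow_succ']; group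
          _ = x * r ^ n * q * x⁻¹ := by rw [ih]; group
          _ = r ^ n * (x * q * x⁻¹ * q⁻¹) * q := by rw [hc']; group
          _ = r ^ (n + 1) * q := by rw [← hr, pow_succ]
    have h1 : r ^ orderOf x = 1 := by
      have := hpow (orderOf x)
      rw [pow_orderOf_eq_one] at this
      simpa using this
    obtain ⟨k, hk⟩ := IsPGroup.iff_orderOf.1 hQe.1.1 ⟨r, hrQ⟩
    have h2 : orderOf r = p ^ k := by rw [← hk, Subgroup.orderOf_mk]
    have h3 : orderOf r = 1 := Nat.eq_one_of_dvd_coprimes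
      (Nat.Coprime.pow_left k (hM.1.coprime_iff_not_dvd.2 hreg)) (h2 ▸ dvd_rfl)
      (orderOf_dvd_of_pow_eq_one h1)
    have h4 : r = 1 := orderOf_eq_one_iff.1 h3
    rw [hr, mul_inv_eq_one, mul_inv_eq_iff_eq_mul] at h4
    exact h4.symm
  · rintro ⟨-, hnil⟩
    refine ⟨hc, fun R e' he x hxR hst hreg => ?_⟩
    obtain ⟨e, he', hxR', hst'⟩ := exists_pair_up hM hN hB hBc R he hxR hst
    have hxC := hnil _ e he' (x : G) hxR' hst' (by
      show ¬ p ∣ orderOf (x : G)
      rwa [Subgroup.orderOf_coe])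
    exact fun r hr => Subtype.ext (hxC r ⟨r, hr, rfl⟩)

end Cfsg.Agent.Blocks.NilpotentPExtension
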