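import Mathlib
import Cfsg.Prelude.Def_Blocks
import Cfsg.Agent.Lib.Blocks.Covering
import Cfsg.Agent.BlockCharsA.RegularPart

/-!
# A height zero character whose orbit under the stabiliser of the block has size prime to `p`
-/

set_option linter.style.haveILetI false
set_option linter.unusedSectionVars false

namespace Cfsg.Agent.Blocks.OrbitHeightZero

open Cfsg.Agent.Blocks Cfsg.Agent.Characters Cfsg.Agent.CharTheory
open Cfsg.Agent.BlockCharsA.RegularPart
open scoped ComplexConjugate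

universe u

variable {G : Type u} [Group G] [Finite G] {p : ℕ} {M : Ideal Cfsg.AlgInt}

/-- The multiplicity of the trivial character on a Sylow subgroup. -/
noncomputable def sylAvg [Fact p.Prime] (P : Sylow p G) (θ : G → ℂ) : ℂ :=
  (Nat.card (P : Subgroup G) : ℂ)⁻¹ * ∑ᶠ t : (P : Subgroup G), θ t

theorem sylAvg_comp [Fact p.Prime] (σ : G ≃* G) (P : Sylow p G) {θ : G → ℂ}
    (hθ : Cfsg.IsClassFunction G θ) : sylAvg P (θ ∘ σ) = sylAvg P θ := by
  classical
  obtain ⟨x, hx⟩ := MulAction.exists_smul_eq G P (P.comapOfInjective σ.toMonoidHom σ.injective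
    fun y _ => ⟨σ.symm y, σ.apply_symm_apply y⟩)
  have hmem : ∀ t : G, x * t * x⁻¹ ∈ ((x • P : Sylow p G) : Subgroup G) ↔ t ∈ (P : Subgroup G) :=
    fun t => by rw [Sylow.coe_subgroup_smul]; exact Subgroup.smul_mem_pointwise_smul_iff (a := MulAut.conj x)
  have hmem' : ∀ t : G, t ∈ (P : Subgroup G) ↔ σ (x * t * x⁻¹) ∈ (P : Subgroup G) := fun t => by
    rw [← hmem, hx]; rfl
  unfold sylAvg
  congr 1
  have e : (P : Subgroup G) ≃ (P : Subgroup G) :=
    { toFun := fun t => ⟨σ (x * t * x⁻¹), (hmem' t).1 t.2⟩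
      invFun := fun t => ⟨x⁻¹ * σ.symm t * x, (hmem' _).2 (by simp [mul_assoc])⟩
      left_inv := fun t => Subtype.ext (by simp [mul_assoc])
      right_inv := fun t => Subtype.ext (by simp [mul_assoc]) }
  haveI := Fintype.ofFinite (P : Subgroup G)
  rw [finsum_eq_sum_of_fintype, finsum_eq_sum_of_fintype]
  symm
  refine (Fintype.sum_bijective (fun t : (P : Subgroup G) =>
    (⟨σ (x * t * x⁻¹), (hmem' t).1 t.2⟩ : (P : Subgroup G))) ?_ _ _ fun t => ?_).symm
  · exact Finite.injective_iff_bijective.1 fun a b h =>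
      Subtype.ext (by simpa using congrArg Subtype.val h)
  · have := hθ (σ t) (σ x)
    simpa using this.symm

theorem exists_weight (hM : Cfsg.IsPModular p M) {B : Set (Cfsg.IrrCharacter G)}
    (hB : Cfsg.IsPBlock M B) :
    ∃ w : Cfsg.IrrCharacter G → ℕ, ¬ p ∣ ∑ᶠ θ ∈ B, w θ ∧
      (∀ (σ : G ≃* G) (θ θ' : Cfsg.IrrCharacter G), (θ' : G → ℂ) = (θ : G → ℂ) ∘ σ →
        w θ' = w θ) ∧
      ∀ θ ∈ B, ¬ p ∣ w θ → Cfsg.blockHeight p B (θ : G → ℂ) = 0 := by
  classical
  haveI := fact_prime_of_pm hM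
  haveI := Fintype.ofFinite G
  haveI := Fintype.ofFinite (Cfsg.IrrCharacter G)
  obtain ⟨P⟩ : Nonempty (Sylow p G) := inferInstance
  haveI : Fintype (P : Subgroup G) := Fintype.ofFinite _
  have hm : ∀ θ : Cfsg.IrrCharacter G, ∃ m : ℕ, sylAvg P (θ : G → ℂ) = m := fun θ => by
    obtain ⟨m, hm⟩ := classInner_char_nat (isCharacter_restrict (P : Subgroup G) (irr_isCharacter θ))
      (irr_isCharacter (trivIrr (P : Subgroup G)))
    refine ⟨m, ?_⟩
    rw [← hm, classInner_def, sylAvg, finsum_eq_sum_of_fintype]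
    simp [trivIrr]
  choose m hm using hm
  set a := (Nat.card G).factorization p with ha
  set d := Cfsg.blockDefect p B with hd
  have hdvd : ∀ θ ∈ B, p ^ (a - d) ∣ Cfsg.charDegree (θ : G → ℂ) := fun θ hθ =>
    (hM.1.pow_dvd_iff_le_factorization (charDegree_pos θ).ne').2 (by
      have := degree_factorization_eq hM hB hθ
      omega)
  set w : Cfsg.IrrCharacter G → ℕ := fun θ =>
    Cfsg.charDegree (θ : G → ℂ) / p ^ (a - d) * m θ with hw
  refine ⟨w, ?_, ?_, ?_⟩
  · obtain ⟨χ, hχ, hh⟩ := exists_height_zero hM hB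
    intro hdiv
    have hsum : ∑ᶠ θ ∈ B, w θ = ∑ θ, if θ ∈ B then w θ else 0 := by
      rw [finsum_mem_def, finsum_eq_sum_of_fintype]
      simp [Set.indicator_apply]
    rw [hsum] at hdiv
    have hp0 : ((p ^ (a - d) : ℕ) : ℂ) ≠ 0 := natCast_p_pow_ne_zero hM _
    have hexp : ((p ^ a : ℕ) : ℂ) * (χ : G → ℂ) 1 / (Nat.card (P : Subgroup G) : ℂ) =
        ∑ θ : Cfsg.IrrCharacter G, if θ ∈ B then ratio p (χ : G → ℂ) (θ : G → ℂ) *
          ((Cfsg.charDegree (θ : G → ℂ) : ℂ) * (m θ : ℂ)) else 0 := by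
      have h1 : ∀ t : G, hat p ((p ^ a : ℕ) : ℂ) (χ : G → ℂ) t =
          ∑ θ : Cfsg.IrrCharacter G, if θ ∈ B then ratio p (χ : G → ℂ) (θ : G → ℂ) *
            ((Cfsg.charDegree (θ : G → ℂ) : ℂ) * (θ : G → ℂ) t) else 0 := fun t => by
        rw [congrFun (classFun_eq_sum (hat_isClassFunction (p := p) (c := ((p ^ a : ℕ) : ℂ))
          (irr_isClassFunction χ))) t]
        simp only [Finset.sum_apply, Pi.smul_apply, smul_eq_mul]
        refine Finset.sum_congr rfl fun θ _ => ?_
        by_cases hθ : θ ∈ B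
        · rw [if_pos hθ, ha, classInner_hat, ratio, charDegree_cast]; ring
        · rw [if_neg hθ, ha, ratio_eq_zero hM fun e => hθ (mem_of_sameBlock hM hB hχ e)]; simp
      have h2 : ∑ t : (P : Subgroup G), hat p ((p ^ a : ℕ) : ℂ) (χ : G → ℂ) t =
          ((p ^ a : ℕ) : ℂ) * (χ : G → ℂ) 1 := by
        rw [Finset.sum_eq_single (1 : (P : Subgroup G))]
        · simp [hat, hM.1.ne_one]
        · intro t _ ht
          obtain ⟨i, hi⟩ := IsPGroup.iff_orderOf.1 P.2 t
          have : p ∣ orderOf (t : G) := by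
            rw [Subgroup.orderOf_coe, hi]
            rcases Nat.eq_zero_or_pos i with rfl | hpos
            · exact absurd (orderOf_eq_one_iff.1 (by rw [hi, pow_zero])) ht
            · exact dvd_pow_self p hpos.ne'
          simp only [hat, if_pos this]
        · simp
      rw [← h2, div_eq_inv_mul]
      simp only [h1]
      rw [Finset.sum_comm, Finset.mul_sum]
      refine Finset.sum_congr rfl fun θ _ => ?_
      by_cases hθ : θ ∈ B
      · simp only [if_pos hθ, ← hm θ, sylAvg, finsum_eq_sum_of_fintype, Finset.mul_sum]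
        exact Finset.sum_congr rfl fun t _ => by ring
      · simp [if_neg hθ]
    rw [P.card_eq_multiplicity, ← ha, mul_div_cancel_left₀ _ (natCast_p_pow_ne_zero hM a)] at hexp
    have hu : Cong M ((χ : G → ℂ) 1 / ((p ^ (a - d) : ℕ) : ℂ))
        (ratio p (χ : G → ℂ) (χ : G → ℂ) *
          ((∑ θ, if θ ∈ B then w θ else 0 : ℕ) : ℂ)) := by
      rw [hexp, Finset.sum_div, Nat.cast_sum, Finset.mul_sum]
      refine cong_sum hM fun θ _ => ?_
      by_cases hθ : θ ∈ B
      · simp only [if_pos hθ, hw]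
        rw [Nat.cast_mul, Nat.cast_div (hdvd θ hθ) hp0, mul_div_assoc, div_mul_eq_mul_div]
        rw [mul_comm (ratio p (χ : G → ℂ) (θ : G → ℂ)), mul_comm (ratio p (χ : G → ℂ) (χ : G → ℂ))]
        refine cong_mul_left hM ?_ (ratio_cong hM hB χ hθ hχ)
        rw [mul_comm, mul_div_assoc]
        exact ring_mul hM (ring_natCast hM _)
          (ring_natCast_div hM (pow_ne_zero _ hM.1.ne_zero) (by
            rw [hM.1.factorization_pow, Finsupp.single_eq_same]
            have := degree_factorization_eq hM hB hθ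
            omega))
      · simp only [if_neg hθ, zero_div, Nat.cast_zero, mul_zero]
        exact cong_refl hM 0
    have hi := (ideal_iff_of_cong hM hu).2
      (ideal_mul_left hM (ratio_ring hM χ χ) ((ideal_natCast_iff hM _).2 hdiv))
    rw [← charDegree_cast χ] at hi
    refine not_ideal_natCast_div hM (charDegree_pos χ).ne' (pow_ne_zero _ hM.1.ne_zero) ?_ hi
    rw [hM.1.factorization_pow, Finsupp.single_eq_same]
    have := degree_factorization_eq hM hB hχ
    omega
  · intro σ θ θ' he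
    have h1 : Cfsg.charDegree (θ' : G → ℂ) = Cfsg.charDegree (θ : G → ℂ) := by
      simp [Cfsg.charDegree, he]
    have h2 : m θ' = m θ := by
      have : sylAvg P (θ' : G → ℂ) = sylAvg P (θ : G → ℂ) := by
        rw [he, sylAvg_comp σ P (irr_isClassFunction θ)]
      rw [hm, hm] at this
      exact_mod_cast this
    simp only [hw, h1, h2]
  · intro θ hθ hnd
    by_contra hh
    refine hnd (dvd_mul_of_dvd_left (Nat.dvd_div_of_mul_dvd ?_) _)
    rw [← pow_succ]
    refine (hM.1.pow_dvd_iff_le_factorization (charDegree_pos θ).ne').2 ?_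
    have := degree_factorization_eq hM hB hθ
    have := blockDefect_le p B
    omega

/-- A block has a height zero character whose orbit under the stabiliser has size prime to `p`. -/
theorem exists_orbit_prime (hM : Cfsg.IsPModular p M) {H : Subgroup G} [H.Normal]
    {b : Set (Cfsg.IrrCharacter H)} (hb : Cfsg.IsPBlock M b) {T : Subgroup G}
    (hT : ∀ g ∈ T, ∀ θ ∈ b, conjIrr g θ ∈ b) :
    ∃ θ ∈ b, Cfsg.blockHeight p b (θ : H → ℂ) = 0 ∧ ∃ S : Subgroup G, S ≤ T ∧
      (∀ g, g ∈ S ↔ g ∈ T ∧ conjIrr g θ = θ) ∧ ¬ p ∣ S.relIndex T := by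
  classical
  haveI := Fintype.ofFinite (Cfsg.IrrCharacter H)
  obtain ⟨w, hw, hinv, hht⟩ := exists_weight hM hb
  letI : MulAction T b :=
    { smul := fun t θ => ⟨conjIrr (t : G)⁻¹ θ.1, hT _ (T.inv_mem t.2) _ θ.2⟩
      one_smul := fun θ => Subtype.ext (by
        show conjIrr ((1 : T) : G)⁻¹ θ.1 = θ.1
        rw [OneMemClass.coe_one, inv_one, conjIrr_one])
      mul_smul := fun s t θ => Subtype.ext (by
        show conjIrr ((s * t : T) : G)⁻¹ θ.1 = conjIrr (s : G)⁻¹ (conjIrr (t : G)⁻¹ θ.1)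
        rw [conjIrr_conjIrr, Subgroup.coe_mul, mul_inv_rev]) }
  have hwinv : ∀ (t : T) (θ : b), w (t • θ).1 = w θ.1 := fun t θ =>
    hinv (MulAut.conjNormal (t : G)⁻¹) θ.1 _ (by
      funext h
      show (θ.1 : H → ℂ) _ = (θ.1 : H → ℂ) _
      rfl)
  obtain ⟨θ, hθ⟩ : ∃ θ : b, ¬ p ∣ Nat.card (MulAction.orbit T θ) * w θ.1 := by
    by_contra hcon
    push Not at hcon
    refine hw ?_
    rw [← finsum_set_coe_eq_finsum_mem, finsum_eq_sum_of_fintype,
      ← Finset.sum_fiberwise (Finset.univ : Finset b)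
        (fun θ => (Quotient.mk (MulAction.orbitRel T b) θ))]
    refine Finset.dvd_sum fun q _ => ?_
    induction q using Quotient.inductionOn with
    | h θ =>
      have hmem : ∀ η : b, η ∈ (Finset.univ.filter fun η => Quotient.mk (MulAction.orbitRel T b) η =
          Quotient.mk (MulAction.orbitRel T b) θ) ↔ η ∈ MulAction.orbit T θ := fun η => by
        simp [Quotient.eq, MulAction.orbitRel_apply]
      rw [Finset.sum_congr rfl fun η hη => show w η.1 = w θ.1 by
        obtain ⟨t, rfl⟩ := (hmem η).1 hη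
        exact hwinv t θ, Finset.sum_const, smul_eq_mul]
      refine (hcon θ).trans (dvd_of_eq ?_)
      congr 1
      rw [← Nat.card_eq_finsetCard]
      exact Nat.card_congr (Equiv.subtypeEquivRight fun η => (hmem η).symm)
  have hS : ∀ t : T, t ∈ MulAction.stabilizer T θ ↔ conjIrr (t : G) θ.1 = θ.1 := fun t => by
    rw [← inv_mem_iff, MulAction.mem_stabilizer_iff]
    refine ⟨fun h => ?_, fun h => Subtype.ext ?_⟩
    · have h' : conjIrr (((t⁻¹ : T) : G))⁻¹ θ.1 = θ.1 := congrArg Subtype.val h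
      simpa using h'
    · show conjIrr (((t⁻¹ : T) : G))⁻¹ θ.1 = θ.1
      simpa using h
  refine ⟨θ.1, θ.2, hht θ.1 θ.2 fun h => hθ (dvd_mul_of_dvd_right h _),
    (MulAction.stabilizer T θ).map T.subtype, Subgroup.map_subtype_le _, fun g => ⟨?_, ?_⟩, ?_⟩
  · rintro ⟨t, ht, rfl⟩
    exact ⟨t.2, (hS t).1 ht⟩
  · rintro ⟨hg, he⟩
    exact ⟨⟨g, hg⟩, (hS _).2 he, rfl⟩
  · rw [Subgroup.relIndex, Subgroup.subgroupOf, Subgroup.comap_map_eq_self_of_injective T.subtype_injective, MulAction.index_stabilizer]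
    intro h
    exact hθ (dvd_mul_of_dvd_left (by rwa [Nat.card_coe_set_eq]) _)

end Cfsg.Agent.Blocks.OrbitHeightZero
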