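import Cfsg.Agent.BlockCharsA.CoverOver
import Cfsg.Agent.BlockCharsA.Garrison
import Cfsg.Agent.OddLocal.PLength
import Cfsg.Agent.Lib.Transfer.NormalPComplement
import Cfsg.Agent.Lib.Blocks.RegularSum
import Cfsg.Agent.S1946

/-!
# `p`-length one and irreducible restriction of the principal block to the Sylow normaliser
-/

set_option linter.style.haveILetI false
set_option linter.unusedSectionVars false

namespace Cfsg.Agent.Blocks.PLengthOne

open scoped ComplexConjugate
open Cfsg.Agent.Characters Cfsg.Agent.CharTheory Cfsg.Agent.Blocks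

universe u

variable {G : Type u} [Group G] [Finite G] {p : ℕ} {M : Ideal Cfsg.AlgInt}

/-- If the trivial character is the only member of the principal block whose restriction to a
Sylow subgroup contains the trivial character, every character of that subgroup extends. -/
theorem exists_extension (hM : Cfsg.IsPModular p M) (P : Sylow p G) [Fintype (P : Subgroup G)]
    (h : ∀ η ∈ Cfsg.principalBlock M G,
      Cfsg.classInner (fun x : (P : Subgroup G) => (η : G → ℂ) x)
        (trivIrr (P : Subgroup G) : ↥(P : Subgroup G) → ℂ) ≠ 0 → η = trivIrr G)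
    (ζ : Cfsg.IrrCharacter (P : Subgroup G)) :
    ∃ η : Cfsg.IrrCharacter G,
      (fun x : (P : Subgroup G) => (η : G → ℂ) x) = (ζ : ↥(P : Subgroup G) → ℂ) := by
  classical
  haveI := Fact.mk hM.1
  haveI := Fintype.ofFinite G
  haveI := Fintype.ofFinite (Cfsg.IrrCharacter G)
  haveI := Fintype.ofFinite (Cfsg.IrrCharacter (P : Subgroup G))
  set B := Finset.univ.filter fun χ : Cfsg.IrrCharacter G => χ ∈ Cfsg.principalBlock M G
  let f : ↥(P : Subgroup G) → ℂ := ∑ χ ∈ B, (χ : G → ℂ) 1 • fun x : (P : Subgroup G) => (χ : G → ℂ) x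
  have hf0 : ∀ x : (P : Subgroup G), x ≠ 1 → f x = 0 := by
    intro x hx
    have hd : p ∣ orderOf (x : G) := by
      obtain ⟨k, hk⟩ := (IsPGroup.iff_orderOf.1 P.2) x
      rcases k with _ | k
      · exact absurd (orderOf_eq_one_iff.1 (by simpa using hk)) hx
      · rw [Subgroup.orderOf_coe, hk]; exact dvd_pow_self p k.succ_ne_zero
    have h0 := congrArg conj (sum_block_reg_sing hM
      (intEl_blockIdem hM (isPBlock_principal M G)) (x := (1 : G))
      (by simpa using hM.1.ne_one) hd)
    rw [map_zero, finsum_mem_eq_finite_toFinset_sum _ (Set.toFinite _),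
      show (Set.toFinite (Cfsg.principalBlock M G)).toFinset = B from
        Finset.ext fun χ => by simp [B], map_sum] at h0
    simp only [f, Finset.sum_apply, Pi.smul_apply, smul_eq_mul]
    rw [← h0]
    refine Finset.sum_congr rfl fun χ _ => ?_
    rw [map_mul, Complex.conj_conj, ← charDegree_cast, Complex.conj_natCast]
  have hval : ∀ ψ : Cfsg.IrrCharacter (P : Subgroup G),
      Cfsg.classInner f (ψ : ↥(P : Subgroup G) → ℂ) =
        (Nat.card (P : Subgroup G) : ℂ)⁻¹ * f 1 * (ψ : ↥(P : Subgroup G) → ℂ) 1 := by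
    intro ψ
    rw [classInner_def, Finset.sum_eq_single (1 : (P : Subgroup G))]
    · rw [← charDegree_cast ψ, Complex.conj_natCast, ← mul_assoc]
    · exact fun x _ hx => by rw [hf0 x hx, zero_mul]
    · simp
  have hexp : ∀ ψ : Cfsg.IrrCharacter (P : Subgroup G),
      Cfsg.classInner f (ψ : ↥(P : Subgroup G) → ℂ) = ∑ χ ∈ B, (χ : G → ℂ) 1 *
        Cfsg.classInner (fun x : (P : Subgroup G) => (χ : G → ℂ) x)
          (ψ : ↥(P : Subgroup G) → ℂ) := by
    intro ψ
    simp only [f, classInner_sum_left, classInner_smul_left]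
  have hone : (Nat.card (P : Subgroup G) : ℂ)⁻¹ * f 1 = 1 := by
    have h1 := hval (trivIrr _)
    rw [hexp, Finset.sum_eq_single (trivIrr G)] at h1
    · have h2 : Cfsg.classInner (fun x : (P : Subgroup G) => (trivIrr G : G → ℂ) x)
          (trivIrr (P : Subgroup G) : ↥(P : Subgroup G) → ℂ) = 1 :=
        classInner_isIrr_self (trivIrr (P : Subgroup G)).2
      rw [h2] at h1
      simpa [trivIrr] using h1.symm
    · intro χ hχ hne
      rw [mul_eq_zero]
      exact Or.inr (by_contra fun hc => hne (h χ (Finset.mem_filter.1 hχ).2 hc))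
    · exact fun hn => absurd (Finset.mem_filter.2 ⟨Finset.mem_univ _, trivIrr_mem_principal hM⟩) hn
  have hζ := hval ζ
  rw [hone, one_mul, hexp] at hζ
  choose n hn using fun χ : Cfsg.IrrCharacter G =>
    classInner_char_nat (isCharacter_restrict (P : Subgroup G) (irr_isCharacter χ))
      (irr_isCharacter ζ)
  simp only [← charDegree_cast, hn, ← Nat.cast_mul, ← Nat.cast_sum, Nat.cast_inj] at hζ
  obtain ⟨χ, hχ, hne⟩ : ∃ χ ∈ B, n χ ≠ 0 := by
    by_contra hc
    push Not at hc
    rw [Finset.sum_eq_zero fun χ hχ => by rw [hc χ hχ, mul_zero]] at hζ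
    exact (charDegree_pos ζ).ne' hζ.symm
  have hle : Cfsg.charDegree (χ : G → ℂ) * n χ ≤
      Cfsg.charDegree (ζ : ↥(P : Subgroup G) → ℂ) := by
    rw [← hζ]
    exact Finset.single_le_sum (f := fun x : Cfsg.IrrCharacter G =>
      Cfsg.charDegree (x : G → ℂ) * n x) (fun x _ => Nat.zero_le _) hχ
  refine ⟨χ, ?_⟩
  obtain ⟨m, hm⟩ := char_eq_sum_nat (isCharacter_restrict (P : Subgroup G) (irr_isCharacter χ))
  have hmζ : m ζ = n χ := by
    have h1 := hn χ
    rw [hm, classInner_sum_smul_irr (c := fun ψ => (m ψ : ℂ)), if_pos (Finset.mem_univ _)] at h1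
    exact_mod_cast h1
  have hdeg : Cfsg.charDegree (χ : G → ℂ) =
      ∑ ψ, m ψ * Cfsg.charDegree (ψ : ↥(P : Subgroup G) → ℂ) := by
    have h1 := congrFun hm 1
    simp only [OneMemClass.coe_one, Finset.sum_apply, Pi.smul_apply, smul_eq_mul,
      ← charDegree_cast, ← Nat.cast_mul, ← Nat.cast_sum, Nat.cast_inj] at h1
    exact h1
  rw [← Finset.add_sum_erase _ _ (Finset.mem_univ ζ), hmζ] at hdeg
  set R := ∑ ψ ∈ Finset.univ.erase ζ, m ψ * Cfsg.charDegree (ψ : ↥(P : Subgroup G) → ℂ) with hR
  have hn1 : 1 ≤ n χ := Nat.one_le_iff_ne_zero.2 hne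
  have hzpos := charDegree_pos ζ
  have hkey : n χ = 1 ∧ R = 0 := by
    rw [hdeg] at hle
    have h1 : n χ ≤ 1 := by
      by_contra hc
      nlinarith
    have h2 : n χ = 1 := by omega
    rw [h2] at hle
    exact ⟨h2, by omega⟩
  rw [hm]
  rw [← Finset.add_sum_erase _ _ (Finset.mem_univ ζ), hmζ, hkey.1, Nat.cast_one, one_smul,
    Finset.sum_eq_zero, add_zero]
  intro ψ hψ
  have h0 := (Finset.sum_eq_zero_iff.1 (hR.symm.trans hkey.2)) ψ hψ
  rw [(Nat.mul_eq_zero.1 h0).resolve_right (charDegree_pos ψ).ne', Nat.cast_zero, zero_smul]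

/-- If every character of a Sylow subgroup extends, there is a normal `p`-complement. -/
theorem hasNormalPComplement_of_extension [Fact p.Prime] (P : Sylow p G)
    (h : ∀ ζ : Cfsg.IrrCharacter (P : Subgroup G), ∃ η : Cfsg.IrrCharacter G,
      (fun x : (P : Subgroup G) => (η : G → ℂ) x) = (ζ : ↥(P : Subgroup G) → ℂ)) :
    Cfsg.HasNormalPComplement p G := by
  haveI := Fintype.ofFinite (P : Subgroup G)
  refine (Cfsg.Agent.S1946.result P).2 fun a ha _ g hga => ?_
  have hc : IsConj (⟨a, ha⟩ : (P : Subgroup G)) ⟨g * a * g⁻¹, hga⟩ := by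
    refine isConj_of_forall_irr_eq fun ζ => ?_
    obtain ⟨η, hη⟩ := h ζ
    rw [← hη]
    exact (irr_isClassFunction η a g).symm
  obtain ⟨c, hc⟩ := isConj_iff.1 hc
  exact ⟨c, c.2, by simpa using (congrArg Subtype.val hc).symm⟩

/-- The converse direction of the criterion. -/
theorem pLengthLE_one (hM : Cfsg.IsPModular p M) [Fact p.Prime] (P : Sylow p G)
    (h : ∀ χ ∈ Cfsg.principalBlock M G,
      Cfsg.IsIrrCharacter ↥(Subgroup.normalizer ((P : Subgroup G) : Set G))
        (fun n : ↥(Subgroup.normalizer ((P : Subgroup G) : Set G)) => (χ : G → ℂ) n)) :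
    Cfsg.PLengthLE p 1 G := by
  classical
  haveI := Fintype.ofFinite G
  set K := Subgroup.normalClosure ((P : Subgroup G) : Set G) with hK
  haveI : K.Normal := Subgroup.normalClosure_normal
  haveI := Fintype.ofFinite K
  have hPK : (P : Subgroup G) ≤ K := Subgroup.subset_normalClosure
  let PK : Sylow p K := P.subtype hPK
  haveI := Fintype.ofFinite (PK : Subgroup K)
  have hPKeq : (PK : Subgroup K) = (P : Subgroup G).subgroupOf K := rfl
  have hext : ∀ η ∈ Cfsg.principalBlock M K,
      Cfsg.classInner (fun x : (PK : Subgroup K) => (η : K → ℂ) x)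
        (trivIrr (PK : Subgroup K) : ↥(PK : Subgroup K) → ℂ) ≠ 0 → η = trivIrr K := by
    intro η hη h1
    obtain ⟨χ, hχ, hχη⟩ := BlockCharsA.CoverOver.principal_over (G := G) hM hη
    have hres := isCharacter_restrict K (irr_isCharacter χ)
    have h2 := Clifford.classInner_restrict_ne_zero (PK : Subgroup K) hres η.2
      (irr_isCharacter (trivIrr (PK : Subgroup K))) hχη h1
    -- the same on `P` inside its normaliser
    set N := Subgroup.normalizer ((P : Subgroup G) : Set G) with hN
    haveI := Fintype.ofFinite N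
    set Q := (P : Subgroup G).subgroupOf N with hQ
    haveI : Q.Normal := Subgroup.normal_in_normalizer
    haveI := Fintype.ofFinite Q
    let χN : Cfsg.IrrCharacter N := ⟨fun n : N => (χ : G → ℂ) n, h χ hχ⟩
    have hcard : Nat.card Q = Nat.card (PK : Subgroup K) :=
      (Nat.card_congr (Subgroup.subgroupOfEquivOfLe Subgroup.le_normalizer).toEquiv).trans
        (Nat.card_congr (Subgroup.subgroupOfEquivOfLe hPK).toEquiv).symm
    have h3 : Cfsg.classInner (fun x : Q => (χN : N → ℂ) x) (trivIrr Q : Q → ℂ) ≠ 0 := by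
      let e : (PK : Subgroup K) ≃ Q :=
        (Subgroup.subgroupOfEquivOfLe hPK).toEquiv.trans
          (Subgroup.subgroupOfEquivOfLe Subgroup.le_normalizer).toEquiv.symm
      have he : Cfsg.classInner (fun x : Q => (χN : N → ℂ) x) (trivIrr Q : Q → ℂ) =
          Cfsg.classInner (fun x : (PK : Subgroup K) => (χ : G → ℂ) ((x : K) : G))
            (trivIrr (PK : Subgroup K) : ↥(PK : Subgroup K) → ℂ) := by
        rw [classInner_def, classInner_def, hcard]
        congr 1
        exact (Fintype.sum_equiv e _ _ fun x => rfl).symm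
      rwa [he]
    have hP : ∀ x ∈ (P : Subgroup G), (χ : G → ℂ) x = (χ : G → ℂ) 1 := fun x hx =>
      (constituent_trivIrr_iff χN).1 h3 ⟨x, Subgroup.le_normalizer hx⟩ (Subgroup.mem_subgroupOf.2 hx)
    have hKker : ∀ k ∈ K, (χ : G → ℂ) k = (χ : G → ℂ) 1 := by
      haveI := charKernel_normal (irr_isCharacter χ)
      intro k hk
      exact (Subgroup.normalClosure_le_normal (N := charKernel _ (irr_isCharacter χ))
        (fun x hx => hP x hx)) hk
    have hK' : (fun k : K => (χ : G → ℂ) k) = (χ : G → ℂ) 1 • (trivIrr K : K → ℂ) :=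
      funext fun k => by simp [trivIrr, hKker k k.2]
    by_contra hne
    rw [hK', classInner_smul_left, classInner_irr, if_neg (Ne.symm hne), mul_zero] at hχη
    exact hχη rfl
  have hK1 := hasNormalPComplement_of_extension PK (exists_extension hM PK hext)
  obtain ⟨k, hk⟩ := Transfer.NormalPComplement.hasNormalPComplement_iff_pPrimeCore.1 hK1
  have hle : K ≤ Cfsg.pPrimePCore p G := by
    haveI := PLocal.Cores.pPrimeCore_normal' (p := p) (G := G)
    refine PLocal.Cores.le_pPrimePCore ?_
    have h1 : (Cfsg.pPrimeCore p G).relIndex K ∣ p ^ k := by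
      rw [← hk]
      refine Subgroup.index_dvd_of_le (K := (Cfsg.pPrimeCore p G).subgroupOf K) ?_
      intro x hx
      exact PLocal.Cores.map_subtype_pPrimeCore_le K ⟨x, hx, rfl⟩
    obtain ⟨j, -, hj⟩ := (Nat.dvd_prime_pow hM.1).1 h1
    refine IsPGroup.of_card (n := j) ?_
    rw [← hj, ← Subgroup.relIndex_ker, QuotientGroup.ker_mk']
  rw [OddLocal.pLengthLE_one_iff]
  have h1 : (Cfsg.pPrimePCore p G).index ∣ (P : Subgroup G).index :=
    Subgroup.index_dvd_of_le (hPK.trans hle)
  exact Nat.Coprime.coprime_dvd_left h1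
    ((hM.1.coprime_iff_not_dvd.2 P.not_dvd_index).symm)

/-- The direct direction of the criterion. -/
theorem restrict_irr (hM : Cfsg.IsPModular p M) [Fact p.Prime] (P : Sylow p G)
    (h : Cfsg.PLengthLE p 1 G) {χ : Cfsg.IrrCharacter G} (hχ : χ ∈ Cfsg.principalBlock M G) :
    Cfsg.IsIrrCharacter ↥(Subgroup.normalizer ((P : Subgroup G) : Set G))
      (fun n : ↥(Subgroup.normalizer ((P : Subgroup G) : Set G)) => (χ : G → ℂ) n) := by
  haveI := Fintype.ofFinite G
  haveI := PLocal.Cores.pPrimeCore_normal' (p := p) (G := G)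
  refine BlockCharsA.Garrison.restrict_irr_of_sup χ.2 (Cfsg.pPrimeCore p G) ?_ _
    (OddLocal.pPrimeCore_sup_normalizer h P)
  exact trivial_on_transfer hM (PLocal.Cores.not_dvd_card_pPrimeCore hM.1.ne_one)
    (sameBlock_of_mem hM (isPBlock_principal M G) (trivIrr_mem_principal hM) hχ) fun _ _ => rfl

end Cfsg.Agent.Blocks.PLengthOne
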