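import Cfsg.Agent.S4551
import Cfsg.Agent.S4937
import Cfsg.Agent.Lib.CharTheory.ExtendChar
import Cfsg.Agent.Lib.Characters.Galois
import Cfsg.Agent.Lib.Blocks.FixedOddDegree

/-!
# `p`-rational extensions in the principal block
-/

set_option linter.style.haveILetI false
set_option linter.unusedSectionVars false

namespace Cfsg.Agent.Blocks.PRationalExtension

open scoped ComplexConjugate
open Polynomial
open Cfsg.Agent.Characters Cfsg.Agent.CharTheory Cfsg.Agent.Blocks

universe u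

variable {G : Type u} [Group G] [Finite G] {p : ℕ} {M : Ideal Cfsg.AlgInt}

/-- The exponents of the Galois automorphisms fixing the roots of unity of order prime to `p`. -/
def IsTwist (p n k : ℕ) : Prop := k.Coprime n ∧ k ≡ 1 [MOD ordCompl[p] n]

theorem exists_twist_exp (hp : p.Prime) {n : ℕ} (hn : n ≠ 0) {j : ℕ} (hj : ¬ p ∣ j) :
    ∃ k, IsTwist p n k ∧ k ≡ j [MOD ordProj[p] n] := by
  have hc : (ordProj[p] n).Coprime (ordCompl[p] n) :=
    (Nat.coprime_ordCompl hp hn).pow_left _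
  obtain ⟨k, h1, h2⟩ := Nat.chineseRemainder hc j 1
  refine ⟨k, ⟨?_, h2⟩, h1⟩
  conv => arg 2; rw [← Nat.ordProj_mul_ordCompl_eq_self n p]
  refine Nat.Coprime.mul_right ?_ ?_
  · rw [Nat.coprime_iff_gcd_eq_one, h1.gcd_eq, ← Nat.coprime_iff_gcd_eq_one]
    exact ((hp.coprime_iff_not_dvd.2 hj).symm).pow_right _
  · rw [Nat.coprime_iff_gcd_eq_one, h2.gcd_eq, Nat.gcd_one_left]

/-- A `p`-rational character is fixed by the twists. -/
theorem value_pow_eq (hp : p.Prime) {H : Type u} [Group H] [Finite H] {n : ℕ} (hn : n ≠ 0)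
    (hH : Nat.card H ∣ n) {χ : H → ℂ} (hχ : Cfsg.IsCharacter H χ) {r : ℕ} (hr : ¬ p ∣ r)
    {h : H} (hv : χ h ∈ IntermediateField.adjoin ℚ
      ({Complex.exp (2 * Real.pi * Complex.I / r)} : Set ℂ))
    {k : ℕ} (hk : IsTwist p n k) : χ (h ^ k) = χ h := by
  obtain ⟨d, ρ, rfl⟩ := hχ
  have hr0 : r ≠ 0 := fun e => hr (e ▸ dvd_zero p)
  set q := ordProj[p] n
  set m := ordCompl[p] n
  have hq0 : q ≠ 0 := pow_ne_zero _ hp.ne_zero
  have hqm : q * m = n := Nat.ordProj_mul_ordCompl_eq_self n p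
  have hm0 : m ≠ 0 := (Nat.ordCompl_pos p hn).ne'
  have hcop : q.Coprime (m * r) :=
    Nat.Coprime.mul_right ((Nat.coprime_ordCompl hp hn).pow_left _)
      ((hp.coprime_iff_not_dvd.2 hr).pow_left _)
  obtain ⟨K, hK1, hK2⟩ := Nat.chineseRemainder hcop k 1
  have hM0 : q * (m * r) ≠ 0 := Nat.mul_ne_zero hq0 (Nat.mul_ne_zero hm0 hr0)
  set η := Complex.exp (2 * Real.pi * Complex.I / (q * (m * r) : ℕ)) with hη
  have hηp : IsPrimitiveRoot η (q * (m * r)) := Complex.isPrimitiveRoot_exp _ hM0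
  have hζr : η ^ n = Complex.exp (2 * Real.pi * Complex.I / r) := by
    rw [hη, ← Complex.exp_nat_mul, ← hqm]
    congr 1
    have h1 : (q : ℂ) ≠ 0 := Nat.cast_ne_zero.2 hq0
    have h2 : (r : ℂ) ≠ 0 := Nat.cast_ne_zero.2 hr0
    have h3 : (m : ℂ) ≠ 0 := Nat.cast_ne_zero.2 hm0
    simp only [Nat.cast_mul]
    field_simp
  have hζn : IsPrimitiveRoot (η ^ r) n :=
    hηp.pow (Nat.pos_of_ne_zero hM0) (by rw [← hqm]; ring)
  have hhn : h ^ n = 1 := orderOf_dvd_iff_pow_eq_one.1 ((orderOf_dvd_natCard h).trans hH)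
  obtain ⟨P, hP⟩ := exists_poly_values ρ h (Nat.pos_of_ne_zero hn) hhn hζn
  rw [← hζr] at hv
  have hint : IsIntegral ℚ (η ^ n) := ((hηp.isIntegral (Nat.pos_of_ne_zero hM0)).tower_top).pow _
  rw [← IntermediateField.mem_toSubalgebra,
    IntermediateField.adjoin_simple_toSubalgebra_of_isAlgebraic hint.isAlgebraic,
    Algebra.adjoin_singleton_eq_range_aeval] at hv
  obtain ⟨Q, hQ⟩ := hv
  replace hQ : aeval (η ^ n) Q = ρ.character h := hQ
  have hP1 := hP 1
  rw [pow_one, pow_one] at hP1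
  have hKc : K.Coprime (q * (m * r)) := by
    refine Nat.Coprime.mul_right ?_ ?_
    · rw [Nat.coprime_iff_gcd_eq_one, hK1.gcd_eq, ← Nat.coprime_iff_gcd_eq_one]
      exact hk.1.coprime_dvd_right (Dvd.intro m hqm)
    · rw [Nat.coprime_iff_gcd_eq_one, hK2.gcd_eq, Nat.gcd_one_left]
  have h0 := aeval_eq_rat_of_primitive (Nat.pos_of_ne_zero hM0) hηp (hηp.pow_of_coprime K hKc)
    (Q.comp (X ^ n) - P.comp (X ^ r)) (q := 0) (by simp [aeval_comp, hQ, ← hP1])
  rw [map_sub, aeval_comp, aeval_comp, map_pow, map_pow, aeval_X, Rat.cast_zero, sub_eq_zero,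
    ← pow_mul, mul_comm K, pow_mul, ← pow_mul η K, mul_comm K, pow_mul η r] at h0
  have e1 : (η ^ n) ^ K = η ^ n := by
    conv_rhs => rw [← pow_one (η ^ n)]
    have hx : (η ^ n) ^ r = 1 := by rw [← pow_mul, ← hqm, mul_assoc, hηp.pow_eq_one]
    rw [pow_eq_pow_mod K hx, pow_eq_pow_mod 1 hx,
      show K % r = 1 % r from hK2.of_dvd (dvd_mul_left r m)]
  have hKk : K ≡ k [MOD n] := by
    rw [← hqm]
    exact (Nat.modEq_and_modEq_iff_modEq_mul ((Nat.coprime_ordCompl hp hn).pow_left _)).1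
      ⟨hK1, (hK2.of_dvd (dvd_mul_right m r)).trans hk.2.symm⟩
  have e2 : (η ^ r) ^ K = (η ^ r) ^ k := by
    rw [pow_eq_pow_mod K hζn.pow_eq_one, pow_eq_pow_mod k hζn.pow_eq_one, hKk]
  rw [e1, e2, hQ, ← hP] at h0
  exact h0.symm

theorem geom_sum_root {x : ℂ} {N : ℕ} (h : x ^ N = 1) :
    ∑ j ∈ Finset.range N, x ^ j = if x = 1 then (N : ℂ) else 0 := by
  split_ifs with hx
  · simp [hx]
  · rw [geom_sum_eq hx, h, sub_self, zero_div]

/-- A character fixed by the twists is `p`-rational. -/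
theorem value_mem_adjoin (hp : p.Prime) {χ : G → ℂ} (hχ : Cfsg.IsCharacter G χ) {g : G}
    (hfix : ∀ k, IsTwist p (Nat.card G) k → χ (g ^ k) = χ g) :
    χ g ∈ IntermediateField.adjoin ℚ
      ({Complex.exp (2 * Real.pi * Complex.I / (ordCompl[p] (Nat.card G) : ℕ))} : Set ℂ) := by
  classical
  set n := Nat.card G with hn
  have hn0 : n ≠ 0 := Nat.card_pos.ne'
  set m := ordCompl[p] n
  set A := n.factorization p
  have hm0 : m ≠ 0 := (Nat.ordCompl_pos p hn0).ne'
  set K := IntermediateField.adjoin ℚ ({Complex.exp (2 * Real.pi * Complex.I / (m : ℕ))} : Set ℂ)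
  have hζ : Complex.exp (2 * Real.pi * Complex.I / (m : ℕ)) ∈ K :=
    IntermediateField.subset_adjoin ℚ _ rfl
  obtain ⟨d, ρ, rfl⟩ := hχ
  obtain ⟨w, hw, hsum⟩ := exists_rootsOfUnity_sum ρ g
  set S := (Finset.range (p ^ A)).filter fun j => ¬ p ∣ j ∨ A = 0 with hS
  have hex : ∀ j, ∃ k, j ∈ S → IsTwist p n k ∧ k ≡ j [MOD p ^ A] := by
    intro j
    by_cases hj : j ∈ S
    · rcases (Finset.mem_filter.1 hj).2 with h | h
      · obtain ⟨k, hk⟩ := exists_twist_exp hp hn0 h
        exact ⟨k, fun _ => hk⟩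
      · obtain ⟨k, hk, -⟩ := exists_twist_exp hp hn0 (j := 1) hp.not_dvd_one
        exact ⟨k, fun _ => ⟨hk, by rw [h, pow_zero]; exact Nat.modEq_one⟩⟩
    · exact ⟨0, fun h => absurd h hj⟩
  choose kf hkf using hex
  have hSne : S.Nonempty := by
    by_cases hA : A = 0
    · exact ⟨0, Finset.mem_filter.2 ⟨Finset.mem_range.2 (pow_pos hp.pos A), Or.inr hA⟩⟩
    · exact ⟨1, Finset.mem_filter.2 ⟨Finset.mem_range.2 (Nat.one_lt_pow hA hp.one_lt),
        Or.inl hp.not_dvd_one⟩⟩
  have hkey : (S.card : ℂ) * ρ.character g = ∑ i, ∑ j ∈ S, w i ^ kf j := by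
    rw [Finset.sum_comm, Finset.sum_congr rfl (g := fun _ => ρ.character g) fun j hj => by
      rw [← hsum, hfix _ (hkf j hj).1], Finset.sum_const, nsmul_eq_mul]
  have hmem : ∀ i, ∑ j ∈ S, w i ^ kf j ∈ K := by
    intro i
    have hwn : w i ^ n = 1 := by
      obtain ⟨c, hc⟩ := orderOf_dvd_natCard g
      rw [hn, hc, pow_mul, hw, one_pow]
    have hqm : p ^ A * m = n := Nat.ordProj_mul_ordCompl_eq_self n p
    obtain ⟨u, v, huv⟩ : ∃ u v : ℕ, p ^ A * u + m * v ≡ 1 [MOD n] := by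
      obtain ⟨x, hx1, hx2⟩ := Nat.chineseRemainder ((Nat.coprime_ordCompl hp hn0).pow_left A) 0 1
      obtain ⟨y, hy1, hy2⟩ := Nat.chineseRemainder ((Nat.coprime_ordCompl hp hn0).pow_left A) 1 0
      obtain ⟨u, hu⟩ := Nat.modEq_zero_iff_dvd.1 hx1
      obtain ⟨v, hv⟩ := Nat.modEq_zero_iff_dvd.1 hy2
      refine ⟨u, v, ?_⟩
      rw [← hu, ← hv, ← hqm]
      exact (Nat.modEq_and_modEq_iff_modEq_mul ((Nat.coprime_ordCompl hp hn0).pow_left A)).1
        ⟨by simpa using hx1.add hy1, by simpa using hx2.add hy2⟩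
    set b := w i ^ (p ^ A * u) with hb
    set a := w i ^ (m * v) with ha
    have hab : b * a = w i := by
      rw [hb, ha, ← pow_add]
      conv_rhs => rw [← pow_one (w i)]
      rw [pow_eq_pow_mod _ hwn, pow_eq_pow_mod 1 hwn, huv]
    have hbm : b ^ m = 1 := by
      rw [hb, ← pow_mul, mul_right_comm, hqm, pow_mul, hwn, one_pow]
    have haA : a ^ p ^ A = 1 := by
      rw [ha, ← pow_mul, mul_comm, ← mul_assoc, hqm, pow_mul, hwn, one_pow]
    have hbK : b ∈ K := by
      haveI : NeZero m := ⟨hm0⟩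
      obtain ⟨e, -, he⟩ := (Complex.isPrimitiveRoot_exp m hm0).eq_pow_of_pow_eq_one hbm
      rw [← he]
      exact pow_mem hζ e
    rw [Finset.sum_congr rfl (g := fun j => b * a ^ j) fun j hj => ?_, ← Finset.mul_sum]
    · refine mul_mem hbK ?_
      by_cases hA : A = 0
      · rw [hA, pow_zero, pow_one] at haA
        simp only [haA, one_pow, Finset.sum_const, nsmul_eq_mul, mul_one]
        exact natCast_mem K _
      · have hsplit := Finset.sum_filter_add_sum_filter_not (Finset.range (p ^ A))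
          (fun j => ¬ p ∣ j ∨ A = 0) fun j => a ^ j
        rw [eq_sub_of_add_eq hsplit]
        have hdiv : (Finset.range (p ^ A)).filter (fun j => ¬ (¬ p ∣ j ∨ A = 0)) =
            (Finset.range (p ^ (A - 1))).image fun i => p * i := by
          have he : p * p ^ (A - 1) = p ^ A := by
            rw [← pow_succ', Nat.sub_add_cancel (Nat.one_le_iff_ne_zero.2 hA)]
          ext j
          simp only [Finset.mem_filter, Finset.mem_range, not_or, not_not, Finset.mem_image]
          constructor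
          · rintro ⟨hlt, ⟨c, rfl⟩, -⟩
            exact ⟨c, Nat.lt_of_mul_lt_mul_left (he.symm ▸ hlt), rfl⟩
          · rintro ⟨c, hc, rfl⟩
            exact ⟨he ▸ Nat.mul_lt_mul_of_pos_left hc hp.pos, dvd_mul_right p c, hA⟩
        rw [hdiv, Finset.sum_image fun x _ y _ h => Nat.eq_of_mul_eq_mul_left hp.pos h]
        simp only [pow_mul]
        have hap : (a ^ p) ^ p ^ (A - 1) = 1 := by
          rw [← pow_mul, ← pow_succ', Nat.sub_add_cancel (Nat.one_le_iff_ne_zero.2 hA), haA]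
        rw [geom_sum_root haA, geom_sum_root hap]
        refine sub_mem ?_ ?_ <;> split_ifs <;>
          first | exact zero_mem K | exact natCast_mem K _
    · obtain ⟨⟨-, h2⟩, h1⟩ := hkf j hj
      rw [← hab, mul_pow, pow_eq_pow_mod (kf j) hbm, h2, ← pow_eq_pow_mod 1 hbm, pow_one,
        pow_eq_pow_mod (kf j) haA, h1, ← pow_eq_pow_mod j haA]
  have hc : (S.card : ℂ) ≠ 0 := Nat.cast_ne_zero.2 (Finset.card_pos.2 hSne).ne'
  rw [show ρ.character g = (S.card : ℂ)⁻¹ * ∑ i, ∑ j ∈ S, w i ^ kf j by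
    rw [← hkey, inv_mul_cancel_left₀ hc]]
  exact mul_mem (inv_mem (natCast_mem K _)) (sum_mem fun i _ => hmem i)

/-- The principal block is closed under power twists. -/
theorem mem_principal_pow {H : Type u} [Group H] [Finite H] (hM : Cfsg.IsPModular p M) {k : ℕ}
    (hk : k.Coprime (Nat.card H)) {χ χ' : Cfsg.IrrCharacter H}
    (he : ∀ x, (χ' : H → ℂ) x = (χ : H → ℂ) (x ^ k)) (hχ : χ ∈ Cfsg.principalBlock M H) :
    χ' ∈ Cfsg.principalBlock M H := by
  intro g
  have h := hχ (g ^ k)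
  have hidx : Subgroup.centralizer ({g ^ k} : Set H) = Subgroup.centralizer {g} := by
    obtain ⟨m, hm⟩ := exists_pow_eq_self_of_coprime (x := g) (n := k)
      (hk.coprime_dvd_right (orderOf_dvd_natCard _))
    ext x
    simp only [Subgroup.mem_centralizer_singleton_iff]
    refine ⟨fun h => ?_, fun h => (Commute.pow_right (h : Commute x g) k : _)⟩
    have := (Commute.pow_right (h : Commute x (g ^ k)) m : _)
    rwa [hm] at this
  simp only [Cfsg.centralChar] at h ⊢
  rw [hidx] at h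
  simpa [he] using h

/-! ## Groups covered by a normal subgroup and the centralizer of its Sylow subgroup -/

section Covered

variable {N : Subgroup G} [N.Normal]

/-- The character of `N.subgroupOf R` given by a character of `N`. -/
noncomputable def pullSub {R : Subgroup G} (hNR : N ≤ R) (θ : Cfsg.IrrCharacter N) :
    Cfsg.IrrCharacter (N.subgroupOf R) :=
  ⟨(θ : N → ℂ) ∘ (Subgroup.subgroupOfEquivOfLe hNR),
    (isIrrCharacter_comp_mulEquiv _).2 θ.2⟩

theorem pullSub_mem {R : Subgroup G} (hNR : N ≤ R) {θ : Cfsg.IrrCharacter N}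
    (hθ : θ ∈ Cfsg.principalBlock M N) :
    pullSub hNR θ ∈ Cfsg.principalBlock M (N.subgroupOf R) :=
  sameBlock_comp_mulEquiv (Subgroup.subgroupOfEquivOfLe hNR) hθ

/-- The Sylow subgroup of `N` as a subgroup of `G`. -/
abbrev up (Q : Sylow p N) : Subgroup G := (Q : Subgroup N).map N.subtype

/-- Restriction is a bijection of principal blocks over `N` for intermediate groups of index
prime to `p`. -/
theorem bij_sub [Fact p.Prime] (hM : Cfsg.IsPModular p M) (Q : Sylow p N)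
    (hcov : N ⊔ Subgroup.centralizer (up Q : Set G) = ⊤) {θ : Cfsg.IrrCharacter N}
    (hθ : θ ∈ Cfsg.principalBlock M N) {R : Subgroup G} (hNR : N ≤ R)
    (hR : ¬ p ∣ N.relIndex R) :
    ∃! χ : Cfsg.IrrCharacter R, χ ∈ Cfsg.principalBlock M R ∧
      ∀ n : N, (χ : R → ℂ) ⟨n, hNR n.2⟩ = (θ : N → ℂ) n := by
  have hQN : up Q ≤ N := Subgroup.map_subtype_le _
  have hPG : IsPGroup p ↥((up Q).subgroupOf R) :=
    (Q.2.map N.subtype).comap_of_injective R.subtype R.subtype_injective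
  have hidx : ¬ p ∣ ((up Q).subgroupOf R).index := by
    show ¬ p ∣ (up Q).relIndex R
    rw [← Subgroup.relIndex_mul_relIndex _ _ _ hQN hNR]
    refine fun h => (hM.1.dvd_mul.1 h).elim (fun h1 => Q.not_dvd_index ?_) hR
    rwa [Subgroup.relIndex, Subgroup.subgroupOf,
      Subgroup.comap_map_eq_self_of_injective N.subtype_injective] at h1
  let P : Sylow p R := hPG.toSylow hidx
  have hsup : N.subgroupOf R ⊔ Subgroup.centralizer ((P : Subgroup R) : Set R) = ⊤ := by
    refine eq_top_iff.2 fun x _ => ?_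
    have hx : (x : G) ∈ N ⊔ Subgroup.centralizer (up Q : Set G) := hcov ▸ Subgroup.mem_top _
    obtain ⟨n, hn, c, hc, e⟩ := Subgroup.mem_sup_of_normal_left.1 hx
    have hcR : c ∈ R := by
      rw [show c = n⁻¹ * x by rw [← e, inv_mul_cancel_left]]
      exact mul_mem (inv_mem (hNR hn)) x.2
    refine Subgroup.mem_sup_of_normal_left.2
      ⟨⟨n, hNR hn⟩, Subgroup.mem_subgroupOf.2 hn, ⟨c, hcR⟩, ?_, Subtype.ext e⟩
    exact Subgroup.mem_centralizer_iff.2 fun y hy =>
      Subtype.ext (Subgroup.mem_centralizer_iff.1 hc y (Subgroup.mem_subgroupOf.1 hy))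
  obtain ⟨χ, ⟨hχ, hres⟩, huniq⟩ := (Cfsg.Agent.S4551.result p M hM (N.subgroupOf R)
    (show ¬ p ∣ (N.subgroupOf R).index from hR) P hsup).2 (pullSub hNR θ) (pullSub_mem hNR hθ)
  refine ⟨χ, ⟨hχ, fun n => hres ⟨⟨n, hNR n.2⟩, Subgroup.mem_subgroupOf.2 n.2⟩⟩, fun χ' h => ?_⟩
  exact huniq χ' ⟨h.1, fun n => h.2 ⟨_, Subgroup.mem_subgroupOf.1 n.2⟩⟩

variable {θ : Cfsg.IrrCharacter N}

/-- An invariant character of degree and determinantal order prime to `p` extends to the whole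
group. -/
theorem exists_extension [Fact p.Prime] (hM : Cfsg.IsPModular p M) (Q : Sylow p N)
    (hcov : N ⊔ Subgroup.centralizer (up Q : Set G) = ⊤) (hθ : θ ∈ Cfsg.principalBlock M N)
    (hinv : ∀ g : G, Clifford.conjBy N g (θ : N → ℂ) = (θ : N → ℂ))
    (hdeg : ¬ p ∣ Cfsg.charDegree (θ : N → ℂ))
    (hdet : (orderOf (Cfsg.detChar (θ : N → ℂ))).Coprime p) :
    ∃ ψ : Cfsg.IrrCharacter G, ∀ n : N, (ψ : G → ℂ) n = (θ : N → ℂ) n := by
  suffices h : ∃ χ : G → ℂ, Cfsg.IsIrrCharacter G χ ∧ ∀ n : N, χ n = (θ : N → ℂ) n by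
    obtain ⟨χ, h1, h2⟩ := h; exact ⟨⟨χ, h1⟩, h2⟩
  refine ExtendChar.exists_extension_sylow N θ.2 hinv fun r hr => ?_
  haveI := Fact.mk hr
  obtain ⟨S⟩ : Nonempty (Sylow r (G ⧸ N)) := inferInstance
  set R := (S : Subgroup (G ⧸ N)).comap (QuotientGroup.mk' N) with hR
  have hNR : N ≤ R := fun n hn => by
    rw [hR, Subgroup.mem_comap, QuotientGroup.mk'_apply, (QuotientGroup.eq_one_iff n).2 hn]
    exact one_mem _
  have hidx : Nat.Coprime R.index r := by
    rw [hR, Subgroup.index_comap_of_surjective _ (QuotientGroup.mk'_surjective N)]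
    exact ((hr.coprime_iff_not_dvd).2 S.not_dvd_index).symm
  obtain ⟨a, ha⟩ := S.2.exists_card_eq
  have hrel : N.relIndex R = r ^ a := by
    rw [← ha]
    conv_lhs => rw [← QuotientGroup.ker_mk' N]
    rw [Subgroup.relIndex_ker, hR, Subgroup.map_comap_eq_self_of_surjective
      (QuotientGroup.mk'_surjective N)]
  by_cases hrp : r = p
  · subst hrp
    have hcop : ∀ x : ℕ, x.Coprime r → (N.subgroupOf R).index.Coprime x := fun x hx => by
      show (N.relIndex R).Coprime x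
      rw [hrel]
      exact hx.symm.pow_left a
    set θ' := pullSub hNR θ
    have hinv' : ∀ x : R, Clifford.conjBy (N.subgroupOf R) x
        (θ' : N.subgroupOf R → ℂ) = (θ' : N.subgroupOf R → ℂ) := fun x => by
      funext n
      rw [Clifford.conjBy_apply]
      have := congrFun (hinv (x : G)) (Subgroup.subgroupOfEquivOfLe hNR n)
      rw [Clifford.conjBy_apply] at this
      exact this
    have hd : (θ' : N.subgroupOf R → ℂ) 1 = (Cfsg.charDegree (θ : N → ℂ) : ℂ) := by
      rw [charDegree_cast]; simp [θ', pullSub]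
    have hdet' : (orderOf (Cfsg.detChar (θ' : N.subgroupOf R → ℂ))).Coprime r := by
      refine hdet.coprime_dvd_left (orderOf_dvd_of_pow_eq_one (funext fun n => ?_))
      have h := congrFun (ExtendChar.detChar_comp
        (Subgroup.subgroupOfEquivOfLe hNR).toMonoidHom (irr_isCharacter θ)) n
      rw [Pi.pow_apply, Pi.one_apply]
      exact (congrArg (· ^ _) h).trans (ExtendChar.linear_pow_orderOf _ _)
    have hlinv : ∀ (g : R) (n : N.subgroupOf R), Cfsg.detChar (θ' : N.subgroupOf R → ℂ)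
        ⟨g * n * g⁻¹, (inferInstance : (N.subgroupOf R).Normal).conj_mem (n : R) n.2 g⟩ =
        Cfsg.detChar (θ' : N.subgroupOf R → ℂ) n := fun g n => by
      have h := congrFun (ExtendChar.detChar_comp
        (MulAut.conjNormal g : N.subgroupOf R ≃* N.subgroupOf R).toMonoidHom
        (irr_isCharacter θ')) n
      rw [← Clifford.conjBy_eq_comp, hinv' g] at h
      refine (congrArg _ (Subtype.ext ?_)).trans h.symm
      simp
    obtain ⟨μ, hμ, -⟩ := ExtendChar.exists_linear_extension_coprime (N.subgroupOf R)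
      (ExtendChar.detChar_isLinear (irr_isCharacter θ')) hlinv (hcop _ hdet')
    obtain ⟨η, hη, hηN⟩ := ExtendChar.exists_extension_det (N.subgroupOf R) θ'.2 hinv' hd
      (hcop _ ((hr.coprime_iff_not_dvd.2 hdeg).symm)) μ hμ
    exact ⟨R, hNR, η, hidx, isCharacter_of_isIrr hη,
      fun n => hηN ⟨⟨n, hNR n.2⟩, Subgroup.mem_subgroupOf.2 n.2⟩⟩
  · have hpR : ¬ p ∣ N.relIndex R := by
      rw [hrel]
      exact fun h => hrp (((Nat.prime_dvd_prime_iff_eq hM.1 hr).1
        (hM.1.dvd_of_dvd_pow h)).symm)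
    obtain ⟨χ, ⟨-, hres⟩, -⟩ := bij_sub hM Q hcov hθ hNR hpR
    exact ⟨R, hNR, (χ : R → ℂ), hidx, irr_isCharacter χ, hres⟩

/-- The extensions singled out by block and determinant. -/
structure Good (M : Ideal Cfsg.AlgInt) (p : ℕ) (θ : Cfsg.IrrCharacter N) (χ : G → ℂ) : Prop where
  irr : Cfsg.IsIrrCharacter G χ
  ext : ∀ n : N, χ n = (θ : N → ℂ) n
  det : (orderOf (Cfsg.detChar χ)).Coprime p
  sub : ∀ J : Subgroup G, N ≤ J → ∀ ξ : Cfsg.IrrCharacter J, (∀ y : J, (ξ : J → ℂ) y = χ y) →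
    ξ ∈ Cfsg.principalBlock M J
  mem : (⟨χ, irr⟩ : Cfsg.IrrCharacter G) ∈ Cfsg.principalBlock M G

/-- Multiplication by a linear character of `p`-power order stays in the principal block. -/
theorem mem_principal_mul {H : Type u} [Group H] [Finite H] (hM : Cfsg.IsPModular p M) {a : ℕ}
    {μ : H →* ℂˣ} (hμ : ∀ g, μ g ^ p ^ a = 1) {χ χ' : Cfsg.IrrCharacter H}
    (he : ∀ x, (χ' : H → ℂ) x = (μ x : ℂ) * (χ : H → ℂ) x)
    (hχ : χ ∈ Cfsg.principalBlock M H) : χ' ∈ Cfsg.principalBlock M H := by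
  refine mem_of_sameBlock hM (isPBlock_principal M H) hχ (fun g => ?_)
  have hc : Cfsg.centralChar (χ' : H → ℂ) g = (μ g : ℂ) * Cfsg.centralChar (χ : H → ℂ) g := by
    simp only [Cfsg.centralChar, he, map_one, Units.val_one, one_mul]
    ring
  have hμg : ((μ g : ℂ)) ^ p ^ a = 1 := by rw [← Units.val_pow_eq_pow_val, hμ, Units.val_one]
  have h := cong_mul_left hM (centralChar_ring hM χ g)
    (cong_one_of_pow_prime_pow hM hμg)
  rw [mul_one] at h
  rw [hc, mul_comm]
  exact cong_symm hM h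

theorem isIrr_sub {χ : G → ℂ} (hχ : Cfsg.IsIrrCharacter G χ)
    (hres : ∀ n : N, χ n = (θ : N → ℂ) n) (J : Subgroup G) (hJ : N ≤ J) :
    Cfsg.IsIrrCharacter J (fun y : J => χ y) :=
  NormalSylow.isIrr_of_restrict (Subgroup.inclusion hJ)
    (isCharacter_restrict J (isCharacter_of_isIrr hχ))
    (by rw [show (fun y : J => χ y) ∘ Subgroup.inclusion hJ = (θ : N → ℂ) from funext hres]
        exact θ.2)

theorem exists_good [Fact p.Prime] (hM : Cfsg.IsPModular p M) (Q : Sylow p N)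
    (hcov : N ⊔ Subgroup.centralizer (up Q : Set G) = ⊤) (hθ : θ ∈ Cfsg.principalBlock M N)
    (hinv : ∀ g : G, Clifford.conjBy N g (θ : N → ℂ) = (θ : N → ℂ))
    (hdeg : ¬ p ∣ Cfsg.charDegree (θ : N → ℂ))
    (hdet : (orderOf (Cfsg.detChar (θ : N → ℂ))).Coprime p) :
    ∃ χ, Good (G := G) M p θ χ := by
  classical
  haveI := Fintype.ofFinite G
  obtain ⟨χ₀, hB, hext, hsub⟩ := Cfsg.Agent.S4937.result p M hM N Q hcov θ hθ
    (exists_extension hM Q hcov hθ hinv hdeg hdet)
  have hc := irr_isCharacter χ₀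
  obtain ⟨f, hf⟩ := ExtendChar.exists_hom (ExtendChar.detChar_isLinear hc).1
    (ExtendChar.detChar_isLinear hc).2
  set n := Nat.card G
  have hn0 : n ≠ 0 := Nat.card_pos.ne'
  set q := ordProj[p] n
  set m := ordCompl[p] n
  set d := Cfsg.charDegree (θ : N → ℂ) with hd
  have hqm : q * m = n := Nat.ordProj_mul_ordCompl_eq_self n p
  have hmd : (m * d).Coprime q := by
    refine (Nat.Coprime.pow_left _ (Nat.Coprime.mul_right ?_ ?_)).symm
    · exact Nat.coprime_ordCompl hM.1 hn0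
    · exact hM.1.coprime_iff_not_dvd.2 hdeg
  obtain ⟨s, hs⟩ : ∃ s, q ∣ 1 + s * (m * d) := by
    obtain ⟨s₀, hs₀⟩ := (Nat.chineseRemainder hmd.symm (q - 1) 0)
    obtain ⟨s, rfl⟩ := Nat.modEq_zero_iff_dvd.1 hs₀.2
    refine ⟨s, Nat.modEq_zero_iff_dvd.1 ?_⟩
    have h1 := (hs₀.1.add_left 1)
    rw [mul_comm (m * d)] at h1
    refine h1.trans ?_
    rw [Nat.add_sub_cancel' (Nat.one_le_iff_ne_zero.2 (pow_ne_zero _ hM.1.ne_zero))]
    exact Nat.modEq_zero_iff_dvd.2 dvd_rfl
  set μ := f ^ (s * m)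
  have hfn : ∀ g, f g ^ (q * m) = 1 := fun g => by
    rw [hqm, ← map_pow, pow_card_eq_one', map_one]
  have hμq : ∀ g, μ g ^ q = 1 := fun g => by
    rw [MonoidHom.pow_apply, ← pow_mul, show s * m * q = q * m * s by ring, pow_mul, hfn, one_pow]
  have hdN : ∀ x : N, f x ^ m = 1 := fun x => by
    have h1 : Cfsg.detChar (θ : N → ℂ) x = (f x : ℂ) := by
      rw [hf, ExtendChar.detChar_restrict N hc hext]
    refine ExtendChar.eq_one_of_pow_coprime (m := q) (n := orderOf (Cfsg.detChar (θ : N → ℂ)))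
      (by rw [← pow_mul, mul_comm, hfn]) ?_ (hdet.symm.pow_left _)
    refine Units.ext ?_
    rw [← pow_mul, mul_comm, pow_mul, Units.val_pow_eq_pow_val, Units.val_pow_eq_pow_val, ← h1,
      ExtendChar.linear_pow_orderOf, one_pow, Units.val_one]
  have hμN : ∀ x : N, μ x = 1 := fun x => by
    rw [MonoidHom.pow_apply, mul_comm, pow_mul, hdN, one_pow]
  obtain ⟨hμc, hμ1⟩ := ExtendChar.hom_isLinear μ
  set χ : G → ℂ := fun g => (μ g : ℂ) * (χ₀ : G → ℂ) g with hχ
  have hirr : Cfsg.IsIrrCharacter G χ := isIrrCharacter_mul_linear χ₀.2 μ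
  have hres : ∀ x : N, χ x = (θ : N → ℂ) x := fun x => by
    rw [hχ]
    simp only [hμN, Units.val_one, one_mul, hext]
  refine ⟨χ, hirr, hres, ?_, fun J hJ ξ hξ => ?_, ?_⟩
  · have h1 : (χ₀ : G → ℂ) 1 = (d : ℂ) := by
      rw [hd, charDegree_cast, ← OneMemClass.coe_one N, hext]
    have hdvd : orderOf (Cfsg.detChar χ) ∣ m := by
      refine orderOf_dvd_of_pow_eq_one (funext fun g => ?_)
      rw [Pi.pow_apply, Pi.one_apply, show χ = (fun g => (μ g : ℂ)) * (χ₀ : G → ℂ) from rfl,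
        ExtendChar.detChar_mul_linear hc hμc hμ1 h1, ← hf, ← Units.val_pow_eq_pow_val,
        ← Units.val_mul, ← Units.val_pow_eq_pow_val, MonoidHom.pow_apply]
      obtain ⟨t, ht⟩ := hs
      rw [← pow_mul, ← pow_succ, ← pow_mul,
        show (s * m * d + 1) * m = q * m * t by
          rw [mul_comm q m, mul_assoc m q t, ← ht]; ring,
        pow_mul, hfn, one_pow, Units.val_one]
    exact Nat.Coprime.coprime_dvd_left hdvd (Nat.coprime_ordCompl hM.1 hn0).symm
  · obtain ⟨ξ₀, hξ₀, hξ₀e⟩ := hsub J hJ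
    exact mem_principal_mul hM (μ := μ.comp J.subtype) (fun g => hμq g)
      (fun y => by rw [hξ, hξ₀e]; rfl) hξ₀
  · exact mem_principal_mul hM hμq (fun y => rfl) hB

theorem good_unique [Fact p.Prime] (hM : Cfsg.IsPModular p M) (Q : Sylow p N)
    (hcov : N ⊔ Subgroup.centralizer (up Q : Set G) = ⊤) (hθ : θ ∈ Cfsg.principalBlock M N)
    (hdeg : ¬ p ∣ Cfsg.charDegree (θ : N → ℂ)) {χ χ' : G → ℂ} (h : Good M p θ χ)
    (h' : Good M p θ χ') : χ' = χ := by
  classical
  haveI := Fintype.ofFinite G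
  haveI := Fintype.ofFinite N
  have hres : (fun n : N => χ n) = (θ : N → ℂ) := funext h.ext
  have hres' : (fun n : N => χ' n) = (θ : N → ℂ) := funext h'.ext
  obtain ⟨hlirr, hmul⟩ := Average.gallagher N h.irr (hres ▸ θ.2) h'.irr
    (by rw [hres, hres', classInner_isIrr_self θ.2]; exact one_ne_zero)
  set l := Average.quotChar N χ χ' with hl
  have hl1 : l 1 = 1 := by
    rw [hl, Average.quotChar_one, hres, hres', classInner_isIrr_self θ.2]
  obtain ⟨f, hf⟩ := ExtendChar.exists_hom (isCharacter_of_isIrr hlirr) hl1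
  have hreg : ∀ c : G, ¬ p ∣ orderOf c → f c = 1 := by
    intro c hc
    set J := N ⊔ Subgroup.zpowers c with hJ
    have hNJ : N ≤ J := le_sup_left
    have hpJ : ¬ p ∣ N.relIndex J := by
      rw [hJ, sup_comm, Subgroup.relIndex_sup_right]
      refine fun hd => hc (hd.trans ?_)
      rw [← Nat.card_zpowers]
      exact Subgroup.relIndex_dvd_card _ _
    let ξ : Cfsg.IrrCharacter J := ⟨_, isIrr_sub h.irr h.ext J hNJ⟩
    let ξ' : Cfsg.IrrCharacter J := ⟨_, isIrr_sub h'.irr h'.ext J hNJ⟩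
    have he : ξ' = ξ := (bij_sub hM Q hcov hθ hNJ hpJ).unique
      ⟨h'.sub J hNJ ξ' fun _ => rfl, fun n => h'.ext n⟩
      ⟨h.sub J hNJ ξ fun _ => rfl, fun n => h.ext n⟩
    have hcJ : c ∈ J := Subgroup.mem_sup_right (Subgroup.mem_zpowers c)
    refine Units.ext ?_
    rw [hf, Units.val_one, hl,
      ← congrFun (Average.quotChar_self N h.irr (hres ▸ θ.2)) c, Average.quotChar_apply,
      Average.quotChar_apply]
    refine congrArg _ (Finset.sum_congr rfl fun n _ => ?_)
    have := congrFun (congrArg Subtype.val he) ⟨(n : G) * c, mul_mem (hNJ n.2) hcJ⟩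
    exact congrArg (· * _) this
  set n := Nat.card G
  have hn0 : n ≠ 0 := Nat.card_pos.ne'
  have hfq : ∀ g, f g ^ ordProj[p] n = 1 := fun g => by
    rw [← map_pow]
    refine hreg _ fun hd => ?_
    have h1 : (g ^ ordProj[p] n) ^ ordCompl[p] n = 1 := by
      rw [← pow_mul, Nat.ordProj_mul_ordCompl_eq_self, pow_card_eq_one']
    exact Nat.not_dvd_ordCompl hM.1 hn0 (hd.trans (orderOf_dvd_of_pow_eq_one h1))
  have hdetl : ∀ g, f g ^ Cfsg.charDegree (θ : N → ℂ) = 1 := fun g => by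
    obtain ⟨δ, hδ⟩ := ExtendChar.exists_hom
      (ExtendChar.detChar_isLinear (isCharacter_of_isIrr h.irr)).1
      (ExtendChar.detChar_isLinear (isCharacter_of_isIrr h.irr)).2
    obtain ⟨δ', hδ'⟩ := ExtendChar.exists_hom
      (ExtendChar.detChar_isLinear (isCharacter_of_isIrr h'.irr)).1
      (ExtendChar.detChar_isLinear (isCharacter_of_isIrr h'.irr)).2
    have hd1 : χ 1 = (Cfsg.charDegree (θ : N → ℂ) : ℂ) := by
      rw [charDegree_cast, ← OneMemClass.coe_one N, h.ext]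
    have hkey := ExtendChar.detChar_mul_linear (isCharacter_of_isIrr h.irr)
      (isCharacter_of_isIrr hlirr) hl1 hd1 g
    rw [hmul, ← hf, ← hδ, ← hδ', ← Units.val_pow_eq_pow_val, ← Units.val_mul] at hkey
    have hkey' := Units.ext hkey
    refine ExtendChar.eq_one_of_pow_coprime
      (m := ordProj[p] n) (n := orderOf (Cfsg.detChar χ) * orderOf (Cfsg.detChar χ'))
      (by rw [← pow_mul, mul_comm, pow_mul, hfq, one_pow]) ?_
      ((Nat.Coprime.mul_left h.det h'.det).symm.pow_left _)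
    have e1 : δ g ^ orderOf (Cfsg.detChar χ) = 1 := Units.ext (by
      rw [Units.val_pow_eq_pow_val, hδ, ExtendChar.linear_pow_orderOf, Units.val_one])
    have e2 : δ' g ^ orderOf (Cfsg.detChar χ') = 1 := Units.ext (by
      rw [Units.val_pow_eq_pow_val, hδ', ExtendChar.linear_pow_orderOf, Units.val_one])
    rw [eq_mul_inv_of_mul_eq hkey'.symm, mul_pow, inv_pow, pow_mul (δ g), e1, one_pow, inv_one,
      mul_one, mul_comm, pow_mul (δ' g), e2, one_pow]
  rw [← hmul]
  funext g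
  have : f g = 1 := ExtendChar.eq_one_of_pow_coprime (hfq g) (hdetl g)
    ((hM.1.coprime_iff_not_dvd.2 hdeg).pow_left _)
  rw [Pi.mul_apply, ← hf, this, Units.val_one, one_mul]

theorem good_comp (hM : Cfsg.IsPModular p M) (α : G ≃* G) (hαN : ∀ x ∈ N, α x ∈ N)
    (hθα : ∀ n : N, (θ : N → ℂ) ⟨α n, hαN n n.2⟩ = (θ : N → ℂ) n) {χ : G → ℂ}
    (h : Good M p θ χ) : Good M p θ (χ ∘ α) := by
  refine ⟨(isIrrCharacter_comp_mulEquiv α).2 h.irr, fun n => ?_, ?_, fun J hJ ξ hξ => ?_, ?_⟩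
  · exact (h.ext ⟨α n, hαN n n.2⟩).trans (hθα n)
  · refine Nat.Coprime.coprime_dvd_left ?_ h.det
    refine orderOf_dvd_of_pow_eq_one (funext fun g => ?_)
    have e := congrFun (ExtendChar.detChar_comp α.toMonoidHom (isCharacter_of_isIrr h.irr)) g
    rw [Pi.pow_apply, Pi.one_apply]
    exact (congrArg (· ^ _) e).trans (ExtendChar.linear_pow_orderOf _ _)
  · have hle : N ≤ J.map α.toMonoidHom := by
      intro x hx
      have hsurj : ∀ y ∈ N, α.symm y ∈ N := by
        have hinj : Function.Injective fun z : N => (⟨α z, hαN z z.2⟩ : N) := fun a b e =>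
          Subtype.ext (α.injective (congrArg Subtype.val e))
        intro y hy
        obtain ⟨z, hz⟩ := (Finite.injective_iff_surjective.1 hinj) ⟨y, hy⟩
        rw [show y = α z from (congrArg Subtype.val hz).symm, MulEquiv.symm_apply_apply]
        exact z.2
      exact ⟨α.symm x, hJ (hsurj x hx), α.apply_symm_apply x⟩
    let ξ' : Cfsg.IrrCharacter ↥(J.map α.toMonoidHom) := ⟨_, isIrr_sub h.irr h.ext _ hle⟩
    have h2 := sameBlock_comp_mulEquiv (α.subgroupMap J) (h.sub _ hle ξ' fun _ => rfl)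
    have he : (ξ : J → ℂ) = (ξ' : ↥(J.map α.toMonoidHom) → ℂ) ∘ (α.subgroupMap J) :=
      funext fun y => hξ y
    show Cfsg.SameBlock M (fun _ => (1 : ℂ)) (ξ : J → ℂ)
    rw [he]
    exact h2
  · exact sameBlock_comp_mulEquiv α h.mem

theorem good_pow [Fintype G] (hM : Cfsg.IsPModular p M) {k : ℕ} (hk : k.Coprime (Nat.card G))
    (hθk : ∀ n : N, (θ : N → ℂ) (n ^ k) = (θ : N → ℂ) n) {χ : G → ℂ} (h : Good M p θ χ) :
    Good M p θ (fun g => χ (g ^ k)) := by
  refine ⟨OddChar.PowTwist.isIrr_comp_pow h.irr hk, fun n => ?_, ?_, fun J hJ ξ hξ => ?_, ?_⟩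
  · show χ ((n : G) ^ k) = _
    rw [← Subgroup.coe_pow, h.ext, hθk]
  · rw [FixedOddDegree.detChar_comp_pow (isCharacter_of_isIrr h.irr)
      (isCharacter_of_isIrr (OddChar.PowTwist.isIrr_comp_pow h.irr hk))]
    exact h.det.coprime_dvd_left (orderOf_pow_dvd k)
  · let ξ₀ : Cfsg.IrrCharacter J := ⟨_, isIrr_sub h.irr h.ext J hJ⟩
    exact mem_principal_pow hM (hk.coprime_dvd_right (Subgroup.card_subgroup_dvd_card J))
      (χ := ξ₀) (fun y => by rw [hξ]; rfl) (h.sub J hJ ξ₀ fun _ => rfl)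
  · exact mem_principal_pow hM hk (χ := ⟨χ, h.irr⟩) (fun _ => rfl) h.mem

end Covered

/-- The `p`-rational extension in the principal block. -/
theorem exists_prational_extension [Fact p.Prime] (hp2 : p ≠ 2) (hM : Cfsg.IsPModular p M)
    (N : Subgroup G) [N.Normal] (θ : Cfsg.IrrCharacter N)
    (hinv : ∀ g : G, Clifford.conjBy N g (θ : N → ℂ) = (θ : N → ℂ))
    (hdeg : ¬ p ∣ Cfsg.charDegree (θ : N → ℂ))
    (hfix : ∀ k, IsTwist p (Nat.card G) k → ∀ n : N, (θ : N → ℂ) (n ^ k) = (θ : N → ℂ) n)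
    (hB : θ ∈ Cfsg.principalBlock M N) (Q : Sylow p N)
    (hidx : ∃ a : ℕ, (N ⊔ Subgroup.centralizer (up Q : Set G)).index = p ^ a) :
    ∃ χ : Cfsg.IrrCharacter G, χ ∈ Cfsg.principalBlock M G ∧
      (∀ k, IsTwist p (Nat.card G) k → ∀ g : G, (χ : G → ℂ) (g ^ k) = (χ : G → ℂ) g) ∧
      ∀ n : N, (χ : G → ℂ) n = (θ : N → ℂ) n := by
  classical
  haveI := Fintype.ofFinite G
  have hp := hM.1
  set n := Nat.card G
  have hn0 : n ≠ 0 := Nat.card_pos.ne'
  have hNn : Nat.card N ∣ n := Subgroup.card_subgroup_dvd_card N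
  -- the determinant has order prime to `p`
  have hdet : (orderOf (Cfsg.detChar (θ : N → ℂ))).Coprime p := by
    obtain ⟨f, hf⟩ := ExtendChar.exists_hom (ExtendChar.detChar_isLinear (irr_isCharacter θ)).1
      (ExtendChar.detChar_isLinear (irr_isCharacter θ)).2
    obtain ⟨k, hk, hk2⟩ := exists_twist_exp hp hn0 (j := 2)
      (fun h => hp2 ((Nat.prime_dvd_prime_iff_eq hp Nat.prime_two).1 h))
    have he : (fun x : N => (θ : N → ℂ) (x ^ k)) = (θ : N → ℂ) := funext (hfix k hk)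
    have hd := FixedOddDegree.detChar_comp_pow (k := k) (irr_isCharacter θ)
      (by rw [he]; exact irr_isCharacter θ)
    rw [he] at hd
    have hdvd : orderOf (Cfsg.detChar (θ : N → ℂ)) ∣ ordCompl[p] n := by
      refine orderOf_dvd_of_pow_eq_one (funext fun x => ?_)
      rw [Pi.pow_apply, Pi.one_apply, ← hf, ← Units.val_pow_eq_pow_val]
      have h1 : f x ^ k = f x := Units.ext (by
        rw [Units.val_pow_eq_pow_val, hf]
        exact (congrFun hd x).symm)
      have h2 : f x ^ n = 1 := by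
        obtain ⟨c, hc⟩ := hNn
        rw [hc, pow_mul, ← map_pow, pow_card_eq_one', map_one, one_pow]
      have h3 : orderOf (f x) ∣ ordCompl[p] n := by
        have hdiv : orderOf (f x) ∣ ordProj[p] n * ordCompl[p] n := by
          rw [Nat.ordProj_mul_ordCompl_eq_self]; exact orderOf_dvd_of_pow_eq_one h2
        refine ((Nat.Coprime.pow_right _ ?_)).dvd_of_dvd_mul_left hdiv
        refine (hp.coprime_iff_not_dvd.2 fun hpd => ?_).symm
        have h4 : k ≡ 1 [MOD orderOf (f x)] := by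
          rw [← pow_eq_pow_iff_modEq, pow_one, h1]
        have h5 : k ≡ 1 [MOD p] := h4.of_dvd hpd
        by_cases hA : n.factorization p = 0
        · exact Nat.not_dvd_ordCompl hp hn0
            (by simpa [hA] using hpd.trans hdiv)
        · have h6 : k ≡ 2 [MOD p] := hk2.of_dvd (dvd_pow_self p hA)
          have h7 : (1 : ℕ) ≡ 2 [MOD p] := h5.symm.trans h6
          exact hp.ne_one (Nat.dvd_one.1 (by
            simpa using (Nat.modEq_iff_dvd' (by norm_num)).1 h7))
      rw [orderOf_dvd_iff_pow_eq_one.1 h3, Units.val_one]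
    exact Nat.Coprime.coprime_dvd_left hdvd (Nat.coprime_ordCompl hp hn0).symm
  -- the intermediate group
  set C := Subgroup.centralizer (up Q : Set G)
  set H := N ⊔ C with hH
  haveI : H.Normal := by
    rw [← Subgroup.normalizer_eq_top_iff, eq_top_iff, ← Sylow.normalizer_sup_eq_top Q]
    refine sup_le (fun g hg => ?_) (le_sup_left.trans Subgroup.le_normalizer)
    have hgN : ∀ x, x ∈ up Q ↔ g * x * g⁻¹ ∈ up Q := Subgroup.mem_normalizer_iff.1 hg
    have hgC : ∀ x, x ∈ C ↔ g * x * g⁻¹ ∈ C := by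
      intro x
      constructor
      · intro hx
        refine Subgroup.mem_centralizer_iff.2 fun y hy => ?_
        have h2 := Subgroup.mem_centralizer_iff.1 hx (g⁻¹ * y * g) ((hgN _).2 (by
          rw [show g * (g⁻¹ * y * g) * g⁻¹ = y by group]; exact hy))
        calc y * (g * x * g⁻¹) = g * ((g⁻¹ * y * g) * x) * g⁻¹ := by group
          _ = g * (x * (g⁻¹ * y * g)) * g⁻¹ := by rw [h2]
          _ = g * x * g⁻¹ * y := by group
      · intro hx
        refine Subgroup.mem_centralizer_iff.2 fun y hy => ?_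
        have h2 := Subgroup.mem_centralizer_iff.1 hx (g * y * g⁻¹) ((hgN y).1 hy)
        calc y * x = g⁻¹ * ((g * y * g⁻¹) * (g * x * g⁻¹)) * g := by group
          _ = g⁻¹ * ((g * x * g⁻¹) * (g * y * g⁻¹)) * g := by rw [h2]
          _ = x * y := by group
    have hconj : ∀ y : G, y ∈ H → g * y * g⁻¹ ∈ H := by
      intro y hy
      obtain ⟨n, hn, c, hc, rfl⟩ := Subgroup.mem_sup_of_normal_left.1 hy
      exact Subgroup.mem_sup_of_normal_left.2 ⟨g * n * g⁻¹,
        (inferInstance : N.Normal).conj_mem n hn g, g * c * g⁻¹, (hgC c).1 hc, by group⟩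
    have hconj' : ∀ y : G, y ∈ H → g⁻¹ * y * g ∈ H := by
      intro y hy
      obtain ⟨n, hn, c, hc, rfl⟩ := Subgroup.mem_sup_of_normal_left.1 hy
      refine Subgroup.mem_sup_of_normal_left.2 ⟨g⁻¹ * n * g,
        by simpa using (inferInstance : N.Normal).conj_mem n hn g⁻¹, g⁻¹ * c * g,
        (hgC _).2 (by simpa [mul_assoc] using hc), by group⟩
    exact Subgroup.mem_normalizer_iff.2 fun y => ⟨hconj y, fun hy => by
      simpa [mul_assoc] using hconj' _ hy⟩
  have hNH : N ≤ H := le_sup_left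
  set N' := N.subgroupOf H
  set θ' := pullSub hNH θ
  let e := Subgroup.subgroupOfEquivOfLe hNH
  let Q' : Sylow p N' := Q.comapOfInjective e.toMonoidHom e.injective
    (by intro x _; exact ⟨e.symm x, e.apply_symm_apply x⟩)
  have hcov : N' ⊔ Subgroup.centralizer (up Q' : Set H) = ⊤ := by
    refine eq_top_iff.2 fun x _ => ?_
    obtain ⟨a, ha, c, hc, he⟩ := Subgroup.mem_sup_of_normal_left.1 x.2
    refine Subgroup.mem_sup_of_normal_left.2 ⟨⟨a, hNH ha⟩, Subgroup.mem_subgroupOf.2 ha,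
      ⟨c, le_sup_right (a := N) hc⟩, Subgroup.mem_centralizer_iff.2 ?_, Subtype.ext he⟩
    rintro _ ⟨y, hy, rfl⟩
    exact Subtype.ext (Subgroup.mem_centralizer_iff.1 hc _ ⟨e y, hy, rfl⟩)
  have hB' : θ' ∈ Cfsg.principalBlock M N' := pullSub_mem hNH hB
  have hdeg' : ¬ p ∣ Cfsg.charDegree (θ' : N' → ℂ) := by
    have : Cfsg.charDegree (θ' : N' → ℂ) = Cfsg.charDegree (θ : N → ℂ) := by
      simp [Cfsg.charDegree, θ', pullSub]
    rwa [this]
  have hdet' : (orderOf (Cfsg.detChar (θ' : N' → ℂ))).Coprime p := by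
    refine hdet.coprime_dvd_left (orderOf_dvd_of_pow_eq_one (funext fun x => ?_))
    have h := congrFun (ExtendChar.detChar_comp e.toMonoidHom (irr_isCharacter θ)) x
    rw [Pi.pow_apply, Pi.one_apply]
    exact (congrArg (· ^ _) h).trans (ExtendChar.linear_pow_orderOf _ _)
  have hinv' : ∀ x : H, Clifford.conjBy N' x (θ' : N' → ℂ) = (θ' : N' → ℂ) := fun x => by
    funext y
    rw [Clifford.conjBy_apply]
    have := congrFun (hinv (x : G)) (e y)
    rw [Clifford.conjBy_apply] at this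
    exact this
  obtain ⟨χ, hgood⟩ := exists_good hM Q' hcov hB' hinv' hdeg' hdet'
  -- invariance under the group
  have hχinv : ∀ g : G, Clifford.conjBy H g χ = χ := fun g => by
    have hαN : ∀ x ∈ N', (MulAut.conjNormal g : H ≃* H) x ∈ N' := fun x hx => by
      rw [Subgroup.mem_subgroupOf, MulAut.conjNormal_apply]
      exact (inferInstance : N.Normal).conj_mem _ (Subgroup.mem_subgroupOf.1 hx) g
    rw [Clifford.conjBy_eq_comp]
    refine good_unique hM Q' hcov hB' hdeg' hgood (good_comp hM _ hαN (fun y => ?_) hgood)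
    have := congrFun (hinv g) (e y)
    rw [Clifford.conjBy_apply] at this
    refine (congrArg (θ : N → ℂ) (Subtype.ext ?_)).trans this
    rfl
  have hχfix : ∀ k, IsTwist p n k → ∀ x : H, χ (x ^ k) = χ x := fun k hk x =>
    congrFun (good_unique hM Q' hcov hB' hdeg' hgood (good_pow hM
      (hk.1.coprime_dvd_right (Subgroup.card_subgroup_dvd_card H))
      (fun y => (congrArg (θ : N → ℂ) (map_pow e y k)).trans (hfix k hk (e y))) hgood)) x
  -- the canonical extension
  obtain ⟨a, ha⟩ := hidx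
  have hcop : ∀ x : ℕ, x.Coprime p → H.index.Coprime x := fun x hx => by
    rw [ha]; exact hx.symm.pow_left a
  have hχc := isCharacter_of_isIrr hgood.irr
  have hlin := ExtendChar.detChar_isLinear hχc
  have hlinv : ∀ (g : G) (x : H), Cfsg.detChar χ
      ⟨g * x * g⁻¹, (inferInstance : H.Normal).conj_mem (x : G) x.2 g⟩ = Cfsg.detChar χ x :=
    fun g x => by
    have h := congrFun (ExtendChar.detChar_comp (MulAut.conjNormal g : H ≃* H).toMonoidHom hχc) x
    rw [← Clifford.conjBy_eq_comp, hχinv g] at h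
    refine (congrArg _ (Subtype.ext ?_)).trans h.symm
    simp
  obtain ⟨μ, hμH, hμo⟩ := ExtendChar.exists_linear_extension_coprime H hlin hlinv
    (hcop _ hgood.det)
  obtain ⟨hμc, hμ1⟩ := ExtendChar.hom_isLinear μ
  have hd1 : χ 1 = (Cfsg.charDegree (θ : N → ℂ) : ℂ) := by
    rw [charDegree_cast]
    have h1 := hgood.ext 1
    rw [OneMemClass.coe_one] at h1
    rw [h1]
    simp [θ', pullSub]
  have hdcop := hcop _ ((hp.coprime_iff_not_dvd.2 hdeg).symm)
  obtain ⟨ξ, hξ, hξH⟩ := ExtendChar.exists_extension_det H hgood.irr hχinv hd1 hdcop μ hμH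
  obtain ⟨χG, ⟨hG, hGH, hGdet⟩, huniq⟩ := ExtendChar.existsUnique_extension_det H hgood.irr hd1
    hdcop hξ hξH hμc hμ1 hμH
  refine ⟨⟨χG, hG⟩, ?_, fun k hk g => ?_, fun x => ?_⟩
  · haveI := Fintype.ofFinite H
    refine mem_of_sameBlock hM (isPBlock_principal M G) (trivIrr_mem_principal hM) ?_
    refine sameBlock_of_covers_same hM ⟨a, ha⟩ (χ := trivIrr G) (χ' := ⟨χG, hG⟩)
      (θ := trivIrr H) (θ' := ⟨χ, hgood.irr⟩) ?_ ?_
      (sameBlock_of_mem hM (isPBlock_principal M H) (trivIrr_mem_principal hM) hgood.mem)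
    · exact (constituent_trivIrr_iff (trivIrr G)).2 fun _ _ => rfl
    · rw [show (fun x : H => χG x) = χ from funext hGH, classInner_isIrr_self hgood.irr]
      exact one_ne_zero
  · have hψ := OddChar.PowTwist.isIrr_comp_pow hG hk.1
    have hψc := isCharacter_of_isIrr hψ
    have hd := FixedOddDegree.detChar_comp_pow (k := k) (isCharacter_of_isIrr hG) hψc
    rw [hGdet] at hd
    have hψH : ∀ x : H, χG ((x : G) ^ k) = χ x := fun x => by
      rw [← Subgroup.coe_pow, hGH, hχfix k hk]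
    refine congrFun (huniq (fun g => χG (g ^ k)) ⟨hψ, hψH, ?_⟩) g
    refine ExtendChar.linear_extension_unique H hμc hμ1
      (ExtendChar.detChar_isLinear hψc).1 (ExtendChar.detChar_isLinear hψc).2
      (fun x => (ExtendChar.detChar_restrict H hψc hψH x).trans (hμH x).symm)
      (hμo ▸ hcop _ hgood.det) ?_
    rw [hd]
    exact Nat.Coprime.coprime_dvd_right (orderOf_pow_dvd k) (hμo ▸ hcop _ hgood.det)
  · exact (hGH ⟨x, hNH x.2⟩).trans (hgood.ext ⟨⟨x, hNH x.2⟩, Subgroup.mem_subgroupOf.2 x.2⟩)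

end Cfsg.Agent.Blocks.PRationalExtension
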