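import Mathlib
import Cfsg.Prelude.Def_Blocks
import Cfsg.Agent.Lib.Blocks.InducedChars

/-!
# The coefficients of the principal block idempotent
-/

set_option linter.style.haveILetI false
set_option linter.unusedSectionVars false

namespace Cfsg.Agent.Blocks

open Cfsg.Agent.Characters Cfsg.Agent.BlockCharsA.RegularPart

universe u v

variable {G : Type u} [Group G] [Finite G] {p : ℕ} {M : Ideal Cfsg.AlgInt}

/-- The Frobenius map is additive modulo the local ideal. -/
theorem cong_sum_pow (hM : Cfsg.IsPModular p M) {ι : Type v} (s : Finset ι) (a : ι → ℂ)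
    (ha : ∀ i, Cfsg.MemLocalRing M (a i)) (n : ℕ) :
    Cong M ((∑ i ∈ s, a i) ^ p ^ n) (∑ i ∈ s, a i ^ p ^ n) := by
  classical
  induction s using Finset.induction with
  | empty =>
    rw [Finset.sum_empty, Finset.sum_empty, zero_pow (pow_ne_zero _ hM.1.ne_zero)]
    exact cong_refl hM 0
  | insert i s hi ih =>
    rw [Finset.sum_insert hi, Finset.sum_insert hi]
    obtain ⟨r, hr⟩ := exists_add_pow_prime_pow_eq hM.1 (x := (⟨a i, ha i⟩ : locSubring hM))
      (y := (⟨∑ j ∈ s, a j, ring_sum hM fun j _ => ha j⟩ : locSubring hM)) (n := n)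
    have h := congrArg (fun z : locSubring hM => (z : ℂ)) hr
    simp only [Subring.coe_add, Subring.coe_mul, SubmonoidClass.coe_pow, Subring.coe_natCast] at h
    refine cong_trans hM ?_ (cong_add hM (cong_refl hM _) ih)
    unfold Cong
    rw [h, add_sub_cancel_left]
    exact ideal_mul_right hM (ideal_mul_right hM (ideal_mul_right hM (ideal_p hM) (ha i))
      (ring_sum hM fun j _ => ha j)) r.2

theorem cong_natCast_pow (hM : Cfsg.IsPModular p M) (N n : ℕ) :
    Cong M ((N : ℂ) ^ p ^ n) (N : ℂ) := by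
  have h := cong_sum_pow hM (Finset.range N) (fun _ => (1 : ℂ)) (fun _ => ring_one hM) n
  simpa using h

open scoped Classical in
/-- The coefficients of a power, as sums over tuples. -/
theorem coeff_pow_vector [Fintype G] (x : MonoidAlgebra ℂ G) (m : ℕ) (c : G) :
    (x ^ m).coeff c = ∑ v : List.Vector G m,
      if v.toList.prod = c then (v.toList.map fun g => x.coeff g).prod else 0 := by
  induction m generalizing c with
  | zero =>
    rw [pow_zero, MonoidAlgebra.one_def, MonoidAlgebra.coeff_single, Finsupp.single_apply,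
      Finset.sum_eq_single (List.Vector.nil : List.Vector G 0)
        (fun v _ h => absurd v.eq_nil h) (by simp), List.Vector.toList_nil,
      List.prod_nil, List.map_nil, List.prod_nil]
  | succ m ih =>
    let e : G × List.Vector G m ≃ List.Vector G (m + 1) :=
      { toFun := fun hv => hv.1 ::ᵥ hv.2
        invFun := fun v => (v.head, v.tail)
        left_inv := fun hv => by simp
        right_inv := fun v => by simp }
    rw [pow_succ', coeff_mul', ← e.sum_comp, Fintype.sum_prod_type]
    refine Finset.sum_congr rfl fun h _ => ?_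
    rw [ih, Finset.mul_sum]
    refine Finset.sum_congr rfl fun v _ => ?_
    simp only [e, Equiv.coe_fn_mk, List.Vector.toList_cons, List.prod_cons, List.map_cons,
      mul_ite, mul_zero]
    exact if_congr (eq_inv_mul_iff_mul_eq) rfl rfl

open scoped Classical in
/-- The coefficient at `1` of a `q`-th power, `q` a power of `p`, is the sum of the `q`-th powers
of the coefficients at the solutions of `g ^ q = 1`. -/
theorem cong_pow_coeff_one [Fintype G] (hM : Cfsg.IsPModular p M) {x : MonoidAlgebra ℂ G}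
    (hx : IntEl M x) (n : ℕ) :
    Cong M ((x ^ p ^ n).coeff 1)
      (∑ g ∈ Finset.univ.filter (fun g : G => g ^ p ^ n = 1), x.coeff g ^ p ^ n) := by
  haveI := fact_prime_of_pm hM
  haveI : NeZero (p ^ n) := ⟨pow_ne_zero _ hM.1.ne_zero⟩
  set X := Equiv.Perm.vectorsProdEqOne G (p ^ n)
  rw [coeff_pow_vector, ← Finset.sum_filter,
    Finset.sum_subtype (p := fun v : List.Vector G (p ^ n) => v ∈ X) _
      (fun v => by simp [X, Equiv.Perm.VectorsProdEqOne.mem_iff])]
  letI : MulAction (Multiplicative (ZMod (p ^ n))) X :=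
    { smul := fun k v => Equiv.Perm.VectorsProdEqOne.rotate v (Multiplicative.toAdd k).val
      one_smul := fun v => by
        show Equiv.Perm.VectorsProdEqOne.rotate v (0 : ZMod (p ^ n)).val = v
        rw [ZMod.val_zero, Equiv.Perm.VectorsProdEqOne.rotate_zero]
      mul_smul := fun j k v => by
        show Equiv.Perm.VectorsProdEqOne.rotate v
            (Multiplicative.toAdd j + Multiplicative.toAdd k).val =
          Equiv.Perm.VectorsProdEqOne.rotate (Equiv.Perm.VectorsProdEqOne.rotate v
            (Multiplicative.toAdd k).val) (Multiplicative.toAdd j).val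
        rw [Equiv.Perm.VectorsProdEqOne.rotate_rotate, ZMod.val_add]
        refine Subtype.ext (Subtype.ext ?_)
        show v.1.1.rotate _ = v.1.1.rotate _
        conv_rhs => rw [← List.rotate_mod, v.1.2, add_comm] }
  let rep : G → List.Vector G (p ^ n) := fun g => List.Vector.replicate (p ^ n) g
  refine cong_trans hM (cong_sum_fixed hM
    (IsPGroup.of_card (n := n) (by simp) : IsPGroup p (Multiplicative (ZMod (p ^ n))))
    (fun v : X => (v.1.toList.map fun g => x.coeff g).prod) ?_ ?_
    (Finset.univ.filter fun v : X => ∃ g, v.1 = rep g) ?_) (cong_of_eq hM ?_)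
  · intro v
    exact list_prod_mem (S := (locSubring hM).toSubmonoid) fun z hz => by
      obtain ⟨g, -, rfl⟩ := List.mem_map.1 hz
      exact hx g
  · intro k v
    exact ((v.1.1.rotate_perm _).map _).prod_eq
  · intro v
    rw [Finset.mem_filter, and_iff_right (Finset.mem_univ v)]
    constructor
    · rintro ⟨g, hg⟩ k
      refine Subtype.ext (Subtype.ext ?_)
      show v.1.1.rotate _ = v.1.1
      rw [hg]
      exact List.rotate_replicate g (p ^ n) _
    · intro h
      have h1 := congrArg (fun w : X => w.1.1) (h (Multiplicative.ofAdd 1))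
      change v.1.1.rotate (1 : ZMod (p ^ n)).val = v.1.1 at h1
      rw [← Nat.cast_one, ZMod.val_natCast] at h1
      replace h1 : v.1.1.rotate 1 = v.1.1 := by rw [← List.rotate_mod, v.1.2]; exact h1
      obtain ⟨g, hg⟩ := List.rotate_one_eq_self_iff_eq_replicate.1 h1
      refine ⟨g, Subtype.ext (hg.trans ?_)⟩
      rw [v.1.2]
      rfl
  · symm
    refine Finset.sum_bij (fun g hg => ⟨rep g, ?_⟩) (fun g hg => ?_) (fun a ha b hb h => ?_)
      (fun v hv => ?_) fun g hg => ?_
    · show (List.replicate (p ^ n) g).prod = 1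
      rw [List.prod_replicate]
      exact (Finset.mem_filter.1 hg).2
    · exact Finset.mem_filter.2 ⟨Finset.mem_univ _, g, rfl⟩
    · have h2 := congrArg (fun w : X => w.1.1) h
      exact List.replicate_right_injective (pow_ne_zero _ hM.1.ne_zero) h2
    · obtain ⟨g, hg⟩ := (Finset.mem_filter.1 hv).2
      refine ⟨g, Finset.mem_filter.2 ⟨Finset.mem_univ _, ?_⟩, Subtype.ext hg.symm⟩
      have h1 : (List.replicate (p ^ n) g).prod = 1 := by
        have h2 := v.2
        rw [Equiv.Perm.VectorsProdEqOne.mem_iff, hg] at h2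
        exact h2
      rwa [List.prod_replicate] at h1
    · show x.coeff g ^ p ^ n = ((List.replicate (p ^ n) g).map fun g => x.coeff g).prod
      rw [List.map_replicate, List.prod_replicate]

open scoped Classical in
/-- The sum of the coefficients at `p`-elements, raised to a large power of `p`. -/
theorem cong_pSum_pow [Fintype G] (hM : Cfsg.IsPModular p M) {x : MonoidAlgebra ℂ G}
    (hx : IntEl M x) {n : ℕ} (hn : (Nat.card G).factorization p ≤ n) :
    Cong M ((∑ g ∈ Finset.univ.filter (fun g : G => ∃ k : ℕ, orderOf g = p ^ k),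
      x.coeff g) ^ p ^ n) ((x ^ p ^ n).coeff 1) := by
  refine cong_trans hM (cong_sum_pow hM _ _ hx n) (cong_symm hM ?_)
  refine cong_trans hM (cong_pow_coeff_one hM hx n) (cong_of_eq hM (Finset.sum_congr ?_ fun _ _ => rfl))
  ext g
  simp only [Finset.mem_filter, Finset.mem_univ, true_and]
  refine ⟨fun h => ?_, fun ⟨k, hk⟩ => ?_⟩
  · obtain ⟨k, -, hk⟩ := (Nat.dvd_prime_pow hM.1).1 (orderOf_dvd_of_pow_eq_one h)
    exact ⟨k, hk⟩
  · refine orderOf_dvd_iff_pow_eq_one.1 (hk ▸ pow_dvd_pow p (le_trans ?_ hn))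
    exact (hM.1.pow_dvd_iff_le_factorization Nat.card_pos.ne').1 (hk ▸ orderOf_dvd_natCard g)

/-- The principal block coefficient at a `p`-regular element. -/
theorem principal_coeff (hM : Cfsg.IsPModular p M) {g : G} (hg : ¬ p ∣ orderOf g) :
    Cong M (Cfsg.blockCoeff (Cfsg.principalBlock M G) g)
      ((Nat.card {xy : G × G // (∃ k : ℕ, orderOf xy.1 = p ^ k) ∧ ¬ p ∣ orderOf xy.2 ∧
          xy.1 * xy.2 = g} : ℂ) / (Nat.card {y : G // ¬ p ∣ orderOf y} : ℂ)) := by
  classical
  haveI := Fintype.ofFinite G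
  set N := Nat.card {xy : G × G // (∃ k : ℕ, orderOf xy.1 = p ^ k) ∧ ¬ p ∣ orderOf xy.2 ∧
    xy.1 * xy.2 = g}
  set r := Nat.card {y : G // ¬ p ∣ orderOf y}
  set S := Finset.univ.filter fun u : G => ∃ k : ℕ, orderOf u = p ^ k
  have hB : Cfsg.IsPBlock M (Cfsg.principalBlock M G) := isPBlock_principal M G
  have h1B : trivIrr G ∈ Cfsg.principalBlock M G := trivIrr_mem_principal hM
  set e := blockIdem (Cfsg.principalBlock M G) with he
  have hec : IsCentralEl e := central_blockIdem _
  have hei : IntEl M e := intEl_blockIdem hM hB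
  set z : MonoidAlgebra ℂ G := regEl p (trivIrr G : G → ℂ) with hz
  have hzc : IsCentralEl z := central_regEl (irr_isClassFunction _)
  have hzi : IntEl M z := intEl_regEl hM (irr_isCharacter _)
  have hzv : ∀ u, z.coeff u = if p ∣ orderOf u then 0 else 1 := fun u => by
    rw [hz, coeff_regEl]; rfl
  have hr : omega (trivIrr G : G → ℂ) z = (r : ℂ) := by
    rw [omega, evalChar_eq_sum]
    simp only [hzv, trivIrr, div_one, mul_one]
    rw [Finset.sum_congr rfl (g := fun u : G => if ¬ p ∣ orderOf u then (1 : ℂ) else 0)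
      fun u _ => by by_cases h : p ∣ orderOf u <;> simp [h], Finset.sum_boole,
      Nat.cast_inj, ← Fintype.card_subtype]
    exact Nat.card_eq_fintype_card.symm
  have hru : ¬ Cfsg.MemLocalIdeal M (r : ℂ) := by
    rw [← hr]
    exact omega_regEl_unit hM hB h1B h1B (blockHeight_one _)
  set w : MonoidAlgebra ℂ G := z - (r : ℂ) • e with hw
  have hwc : IsCentralEl w := central_sub hzc (central_smul _ hec)
  have hwi : IntEl M w := intEl_sub hM hzi (intEl_smul hM (ring_natCast hM r) hei)
  obtain ⟨n₀, hn₀⟩ := exists_pow_idealEl hM hwc fun ψ => by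
    rw [hw, omega_sub, omega_smul]
    by_cases hψ : ψ ∈ Cfsg.principalBlock M G
    · rw [he, omega_blockIdem_mem hψ, mul_one, ← hr]
      exact omega_cong_of_mem hM hB hψ h1B hzc hzi
    · rw [he, omega_blockIdem_notMem hψ, mul_zero, sub_zero, hz,
        omega_regEl_eq_zero hM fun h => hψ (mem_of_sameBlock hM hB h1B h)]
      exact ideal_zero hM
  set a := (Nat.card G).factorization p
  set single := MonoidAlgebra.single (R := ℂ) g⁻¹ (1 : ℂ)
  have hΦ : ∀ y : MonoidAlgebra ℂ G, ∀ u, (y * single).coeff u = y.coeff (u * g) := fun y u => by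
    simp [single, coeff_mul_single']
  have hsi : IntEl M single := intEl_single hM _ (ring_one hM)
  -- the nilpotent part contributes nothing
  have hA : Cfsg.MemLocalIdeal M (∑ u ∈ S, w.coeff (u * g)) := by
    refine ideal_of_pow hM (ring_sum hM fun u _ => hwi _) (n := p ^ (a + n₀)) ?_
    simp only [← hΦ w]
    refine (ideal_iff_of_cong hM (cong_pSum_pow hM (intEl_mul hM hwi hsi) le_self_add)).2 ?_
    rw [(central_commute hwc single).mul_pow]
    refine idealEl_mul_right hM (hn₀ _ ?_) (intEl_pow hM hsi _) 1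
    exact ((a + n₀).lt_pow_self hM.1.one_lt).le.trans' (Nat.le_add_left _ _)
  have hN : ∑ u ∈ S, z.coeff (u * g) = (N : ℂ) := by
    simp only [hzv]
    rw [Finset.sum_congr rfl (g := fun u : G => if ¬ p ∣ orderOf (u * g) then (1 : ℂ) else 0)
      fun u _ => by by_cases h : p ∣ orderOf (u * g) <;> simp [h], Finset.sum_boole,
      Nat.cast_inj]
    rw [show N = Fintype.card {xy : G × G // (∃ k : ℕ, orderOf xy.1 = p ^ k) ∧
      ¬ p ∣ orderOf xy.2 ∧ xy.1 * xy.2 = g} from Nat.card_eq_fintype_card, Fintype.card_subtype]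
    refine Finset.card_bij (fun u _ => (u⁻¹, u * g)) ?_ ?_ ?_
    · intro u hu
      obtain ⟨hu1, hu2⟩ := Finset.mem_filter.1 hu
      exact Finset.mem_filter.2 ⟨Finset.mem_univ _,
        by simpa [S, orderOf_inv] using hu1, hu2, inv_mul_cancel_left u g⟩
    · exact fun a _ b _ h => inv_injective (congrArg Prod.fst h)
    · rintro ⟨x, y⟩ hxy
      obtain ⟨hx, hy, hxg⟩ := (Finset.mem_filter.1 hxy).2
      refine ⟨x⁻¹, Finset.mem_filter.2 ⟨by simpa [S, orderOf_inv] using hx, ?_⟩, ?_⟩
      · rw [← hxg, inv_mul_cancel_left]; exact hy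
      · rw [inv_inv, ← hxg, inv_mul_cancel_left]
  set T := ∑ u ∈ S, e.coeff (u * g)
  have hT : Cong M T ((N : ℂ) / (r : ℂ)) := by
    have h1 : ∑ u ∈ S, w.coeff (u * g) = (N : ℂ) - (r : ℂ) * T := by
      simp only [hw, MonoidAlgebra.coeff_sub, Finsupp.sub_apply, MonoidAlgebra.coeff_smul,
        Finsupp.smul_apply, smul_eq_mul, T, Finset.mul_sum, ← hN, Finset.sum_sub_distrib]
    have h2 := ideal_mul_left hM (ring_inv hM (ring_natCast hM r) hru)
      (ideal_neg hM (h1 ▸ hA))
    unfold Cong
    have hr0 : (r : ℂ) ≠ 0 := ne_zero_of_not_ideal hM hru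
    rwa [show (r : ℂ)⁻¹ * -((N : ℂ) - (r : ℂ) * T) = T - (N : ℂ) / (r : ℂ) by
      field_simp; ring] at h2
  set n := a * (orderOf g).totient
  set q := p ^ n
  have hgq : g ^ q = g := by
    have hm : Nat.Coprime p (orderOf g) := hM.1.coprime_iff_not_dvd.2 hg
    have h1 : p ^ n ≡ 1 [MOD orderOf g] := by
      rw [show n = (orderOf g).totient * a from mul_comm _ _, pow_mul]
      simpa using (Nat.ModEq.pow_totient hm).pow a
    have h2 := pow_eq_pow_iff_modEq.2 h1
    rwa [pow_one] at h2
  have hq : Cong M (T ^ q) (Cfsg.blockCoeff (Cfsg.principalBlock M G) g) := by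
    simp only [T, ← hΦ e]
    refine cong_trans hM (cong_pSum_pow hM (intEl_mul hM hei hsi)
      (Nat.le_mul_of_pos_right a (Nat.totient_pos.2 (orderOf_pos g)))) (cong_of_eq hM ?_)
    have hid : ∀ m, e ^ (m + 1) = e := by
      intro m
      induction m with
      | zero => exact pow_one e
      | succ m ih => rw [pow_succ, ih, he, blockIdem_mul_self]
    have hqpos : 0 < q := pow_pos hM.1.pos _
    rw [(central_commute hec single).mul_pow, MonoidAlgebra.single_pow, inv_pow, one_pow, hgq,
      show p ^ n = p ^ n - 1 + 1 by omega, hid, coeff_mul_single', inv_inv, one_mul, mul_one,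
      he, coeff_blockIdem]
  have hfix : Cong M (((N : ℂ) / (r : ℂ)) ^ q) ((N : ℂ) / (r : ℂ)) := by
    rw [div_pow, div_eq_mul_inv, div_eq_mul_inv]
    refine cong_mul hM (cong_natCast_pow hM N n) ?_
      (ring_natCast hM N) (ring_inv hM (ring_natCast hM r) hru)
    have hq' := cong_natCast_pow hM r n
    have hr0 : (r : ℂ) ≠ 0 := ne_zero_of_not_ideal hM hru
    have h3 := cong_mul_left hM (ring_inv hM (ring_pow hM (ring_natCast hM r) q)
      fun h => hru (ideal_of_pow hM (ring_natCast hM r) h))
      (cong_mul_left hM (ring_inv hM (ring_natCast hM r) hru) hq')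
    have hrq : (r : ℂ) ^ q ≠ 0 := pow_ne_zero _ hr0
    rw [show ((r : ℂ) ^ q)⁻¹ * ((r : ℂ)⁻¹ * (r : ℂ) ^ q) = (r : ℂ)⁻¹ by field_simp,
      show ((r : ℂ) ^ q)⁻¹ * ((r : ℂ)⁻¹ * (r : ℂ)) = ((r : ℂ) ^ q)⁻¹ by field_simp] at h3
    exact cong_symm hM h3
  exact cong_trans hM (cong_symm hM hq) (cong_trans hM
    (cong_pow hM hT (ring_mul hM (ring_natCast hM N) (ring_inv hM (ring_natCast hM r) hru)) q)
    hfix)

end Cfsg.Agent.Blocks
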