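import Mathlib
import Cfsg.Prelude.Def_Blocks
import Cfsg.Prelude.Def_Local
import Cfsg.Agent.Lib.Blocks.InvariantCore
import Cfsg.Agent.Lib.Coprime.PGroup
import Cfsg.Agent.BlockCharsA.Glauberman

/-!
# Blocks of principal type over an invariant character of `O_{p'}(G)`
-/

set_option linter.style.haveILetI false
set_option linter.unusedSectionVars false

namespace Cfsg.Agent.Blocks.PrincipalType

open Cfsg.Agent.Characters Cfsg.Agent.BlockCharsA.NormalSupport
open Cfsg.Agent.CharTheory Cfsg.Agent.Blocks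

universe u

variable {G : Type u} [Group G] [Finite G] {p : ℕ} {M : Ideal Cfsg.AlgInt}

/-- An element centralising a `p`-subgroup modulo a normal `p'`-subgroup is a centralising element
times an element of that subgroup. -/
theorem exists_lift_centralizer [Fact p.Prime] {K R : Subgroup G} [K.Normal]
    (hK : ¬ p ∣ Nat.card K) (hR : IsPGroup p R) {x : G}
    (hx : ∀ r ∈ R, x * r * x⁻¹ * r⁻¹ ∈ K) :
    ∃ k ∈ K, k * x ∈ Subgroup.centralizer (R : Set G) := by
  classical
  set H := K ⊔ R with hH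
  have hRH : R ≤ H := le_sup_right
  have hconj : R.map (MulAut.conj x).toMonoidHom ≤ H := by
    rintro _ ⟨r, hr, rfl⟩
    have : x * r * x⁻¹ = x * r * x⁻¹ * r⁻¹ * r := by group
    show x * r * x⁻¹ ∈ H
    rw [this]
    exact mul_mem (Subgroup.mem_sup_left (hx r hr)) (hRH hr)
  have hdisj : Disjoint R K := by
    obtain ⟨j, hj⟩ := hR.exists_card_eq
    exact Subgroup.disjoint_of_coprime_natCard
      (hj ▸ Nat.Coprime.pow_left j ((Fact.out : p.Prime).coprime_iff_not_dvd.2 hK))
  have hmul : ∀ h ∈ H, ∃ k ∈ K, ∃ r ∈ R, k * r = h := fun h hh => by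
    have : h ∈ ((K ⊔ R : Subgroup G) : Set G) := hh
    rw [Subgroup.normal_mul] at this
    exact Set.mem_mul.1 this
  have hidx : ¬ p ∣ (R.subgroupOf H).index := by
    have hc : Nat.card H = Nat.card K * Nat.card R := by
      have e : Nat.card (K × R) = Nat.card H :=
        Nat.card_eq_of_bijective (fun kr : K × R => (⟨(kr.1 : G) * kr.2,
          mul_mem (Subgroup.mem_sup_left kr.1.2) (hRH kr.2.2)⟩ : H))
          ⟨fun a b e => Subgroup.mul_injective_of_disjoint hdisj.symm (congrArg Subtype.val e),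
            fun h => by
              obtain ⟨k, hk, r, hr, e⟩ := hmul h h.2
              exact ⟨⟨⟨k, hk⟩, ⟨r, hr⟩⟩, Subtype.ext e⟩⟩
      rw [← e, Nat.card_prod]
    have h1 := Subgroup.index_mul_card (R.subgroupOf H)
    rw [Nat.card_congr (Subgroup.subgroupOfEquivOfLe hRH).toEquiv, hc] at h1
    rw [Nat.eq_of_mul_eq_mul_right Nat.card_pos h1]
    exact hK
  set S : Sylow p H := (isPGroup_subgroupOf hR hRH).toSylow hidx
  have hR' : IsPGroup p ((R.map (MulAut.conj x).toMonoidHom).subgroupOf H) :=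
    isPGroup_subgroupOf (hR.map _) hconj
  obtain ⟨S', hS'⟩ := hR'.exists_le_sylow
  obtain ⟨h, hh⟩ := MulAction.exists_smul_eq H S S'
  obtain ⟨k, hk, r₀, hr₀, hkr⟩ := hmul (h : G) h.2
  refine ⟨k⁻¹, inv_mem hk, Subgroup.mem_centralizer_iff.2 fun r hr => ?_⟩
  -- `k⁻¹ x` conjugates `R` into itself
  have hmem : k⁻¹ * x * r * (k⁻¹ * x)⁻¹ ∈ R := by
    have h1 : (⟨x * r * x⁻¹, hconj ⟨r, hr, rfl⟩⟩ : H) ∈ (S' : Subgroup H) :=
      hS' (Subgroup.mem_subgroupOf.2 ⟨r, hr, rfl⟩)
    rw [← hh, Sylow.coe_subgroup_smul] at h1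
    obtain ⟨s, hs, hse⟩ := h1
    have hs' : (s : G) ∈ R := hs
    have he : (h : G) * s * (h : G)⁻¹ = x * r * x⁻¹ := congrArg Subtype.val hse
    have e2 : k⁻¹ * x * r * (k⁻¹ * x)⁻¹ = r₀ * s * r₀⁻¹ :=
      calc k⁻¹ * x * r * (k⁻¹ * x)⁻¹ = k⁻¹ * (x * r * x⁻¹) * k := by group
        _ = k⁻¹ * (k * r₀ * s * (k * r₀)⁻¹) * k := by rw [← he, ← hkr]
        _ = r₀ * s * r₀⁻¹ := by group
    rw [e2]
    exact mul_mem (mul_mem hr₀ hs') (inv_mem hr₀)
  have hmemK : k⁻¹ * x * r * (k⁻¹ * x)⁻¹ * r⁻¹ ∈ K := by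
    have e3 : k⁻¹ * x * r * (k⁻¹ * x)⁻¹ * r⁻¹ = k⁻¹ * (x * r * x⁻¹ * r⁻¹) * (r * k * r⁻¹) := by
      group
    rw [e3]
    exact mul_mem (mul_mem (inv_mem hk) (hx r hr))
      ((inferInstance : K.Normal).conj_mem k hk r)
  have h0 : k⁻¹ * x * r * (k⁻¹ * x)⁻¹ * r⁻¹ = 1 := by
    rw [← Subgroup.mem_bot, ← hdisj.eq_bot]
    exact Subgroup.mem_inf.2 ⟨mul_mem hmem (inv_mem hr), hmemK⟩
  rw [mul_inv_eq_one, mul_inv_eq_iff_eq_mul] at h0
  exact h0.symm

/-- Constraint passes to `G ⧸ K`. -/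
theorem centralizer_pCore_quotient_le [Fact p.Prime] {K L Q : Subgroup G} [K.Normal]
    (hK : ¬ p ∣ Nat.card K) (hL : L = (Cfsg.pCore p (G ⧸ K)).comap (QuotientGroup.mk' K))
    (hQL : Q ≤ L) (hQp : IsPGroup p Q) (hQS : ¬ p ∣ Q.relIndex L)
    (hCQ : Subgroup.centralizer (Q : Set G) ≤ L) :
    Subgroup.centralizer (Cfsg.pCore p (G ⧸ K) : Set (G ⧸ K)) ≤ Cfsg.pCore p (G ⧸ K) := by
  have hmap : L.map (QuotientGroup.mk' K) = Cfsg.pCore p (G ⧸ K) := by
    rw [hL]; exact Subgroup.map_comap_eq_self_of_surjective (QuotientGroup.mk'_surjective K) _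
  intro y hy
  obtain ⟨x, rfl⟩ := QuotientGroup.mk'_surjective K y
  obtain ⟨k, hk, hkx⟩ := exists_lift_centralizer hK hQp (x := x) fun q hq => by
    have h := Subgroup.mem_centralizer_iff.1 hy _
      (show QuotientGroup.mk' K q ∈ (Cfsg.pCore p (G ⧸ K) : Set (G ⧸ K)) from
        hmap ▸ Subgroup.mem_map_of_mem _ (hQL hq))
    refine (QuotientGroup.eq_one_iff _).1 ?_
    simp only [QuotientGroup.mk'_apply] at h
    simp only [QuotientGroup.mk_mul, QuotientGroup.mk_inv]
    rw [← h]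
    group
  rw [← hmap]
  refine ⟨k * x, hCQ hkx, ?_⟩
  rw [map_mul, show QuotientGroup.mk' K k = 1 from (QuotientGroup.eq_one_iff k).2 hk, one_mul]

/-- Constraint passes to centralisers of `p`-subgroups. -/
theorem centralizer_pCore_local_le [Fact p.Prime] {K : Subgroup G} [K.Normal]
    (hK : ¬ p ∣ Nat.card K)
    (hcent : Subgroup.centralizer (Cfsg.pCore p (G ⧸ K) : Set (G ⧸ K)) ≤ Cfsg.pCore p (G ⧸ K))
    {R : Subgroup G} (hR : IsPGroup p R) {C : Subgroup G}
    (hC : C = Subgroup.centralizer (R : Set G)) :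
    Subgroup.centralizer (Cfsg.pCore p (C ⧸ K.subgroupOf C) : Set (C ⧸ K.subgroupOf C)) ≤
      Cfsg.pCore p (C ⧸ K.subgroupOf C) := by
  classical
  set f : C ⧸ K.subgroupOf C →* G ⧸ K :=
    QuotientGroup.map _ K C.subtype (fun x hx => hx) with hf
  have hfinj : Function.Injective f := by
    rw [injective_iff_map_eq_one]
    intro z hz
    obtain ⟨c, rfl⟩ := QuotientGroup.mk'_surjective _ z
    exact (QuotientGroup.eq_one_iff c).2 ((QuotientGroup.eq_one_iff (c : G)).1 hz)
  set O := Cfsg.pCore p (G ⧸ K) with hO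
  haveI : O.Normal := hO ▸ Cores.pCore_normal p
  set R' := R.map (QuotientGroup.mk' K) with hR'
  have hOp : IsPGroup p O := hO ▸ Cores.pCore_isPGroup p
  -- the part over `O` lies in the core
  have hU : O.comap f ≤ Cfsg.pCore p (C ⧸ K.subgroupOf C) :=
    PLocal.Cores.le_pCore (hOp.comap_of_injective f hfinj)
  haveI : (Cfsg.pCore p (C ⧸ K.subgroupOf C)).Normal := Cores.pCore_normal p
  refine PLocal.Cores.le_pCore (IsPGroup.iff_orderOf.2 fun w => ?_)
  obtain ⟨n, hn⟩ : ∃ n, orderOf (w : C ⧸ K.subgroupOf C) = n := ⟨_, rfl⟩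
  have hn0 : n ≠ 0 := hn ▸ (orderOf_pos _).ne'
  set v : C ⧸ K.subgroupOf C := (w : C ⧸ K.subgroupOf C) ^ (p ^ n.factorization p) with hv
  have hvord : ¬ p ∣ orderOf v := by
    rw [hv, orderOf_pow, hn, Nat.gcd_eq_right (Nat.ordProj_dvd n p)]
    exact Nat.not_dvd_ordCompl Fact.out hn0
  have hvC : f v ∈ Subgroup.centralizer (R' : Set (G ⧸ K)) := by
    obtain ⟨c, hc⟩ := QuotientGroup.mk'_surjective _ v
    rw [← hc]
    refine Subgroup.mem_centralizer_iff.2 ?_
    rintro _ ⟨r, hr, rfl⟩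
    have := Subgroup.mem_centralizer_iff.1 (hC.le c.2) r hr
    show (QuotientGroup.mk' K r) * QuotientGroup.mk' K (c : G) = _
    rw [← map_mul, this, map_mul]
    rfl
  have hvW : v ∈ Subgroup.centralizer
      (Cfsg.pCore p (C ⧸ K.subgroupOf C) : Set (C ⧸ K.subgroupOf C)) :=
    pow_mem w.2 _
  have hfix : O ⊓ Subgroup.centralizer (R' : Set (G ⧸ K)) ≤
      Subgroup.centralizer ((Subgroup.zpowers (f v) : Subgroup (G ⧸ K)) : Set (G ⧸ K)) := by
    rintro z ⟨hzO, hzR⟩
    obtain ⟨x, rfl⟩ := QuotientGroup.mk'_surjective K z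
    obtain ⟨k, hk, hkx⟩ := exists_lift_centralizer hK hR (x := x) fun r hr => by
      have h := Subgroup.mem_centralizer_iff.1 hzR _ (Subgroup.mem_map_of_mem _ hr)
      refine (QuotientGroup.eq_one_iff _).1 ?_
      simp only [QuotientGroup.mk'_apply] at h
      simp only [QuotientGroup.mk_mul, QuotientGroup.mk_inv]
      rw [← h]
      group
    have hfx : f (QuotientGroup.mk' _ (⟨k * x, hC.ge hkx⟩ : C)) = QuotientGroup.mk' K x := by
      show QuotientGroup.mk' K (k * x) = _
      rw [map_mul, show QuotientGroup.mk' K k = 1 from (QuotientGroup.eq_one_iff k).2 hk, one_mul]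
    have hmem := hU (show QuotientGroup.mk' _ (⟨k * x, hC.ge hkx⟩ : C) ∈ O.comap f by
      rw [Subgroup.mem_comap, hfx]; exact hzO)
    refine Subgroup.mem_centralizer_iff.2 fun y hy => ?_
    obtain ⟨j, rfl⟩ := Subgroup.mem_zpowers_iff.1 hy
    have hcm : Commute v (QuotientGroup.mk' _ (⟨k * x, hC.ge hkx⟩ : C)) :=
      (Subgroup.mem_centralizer_iff.1 hvW _ hmem).symm
    have h2 := hcm.map f
    rw [hfx] at h2
    exact (h2.zpow_left j).eq
  have hcop : (Nat.card (Subgroup.zpowers (f v))).Coprime p := by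
    rw [Nat.card_zpowers, orderOf_injective f hfinj]
    exact ((Fact.out : p.Prime).coprime_iff_not_dvd.2 hvord).symm
  have hle := Coprime.le_centralizer_of_pxq (hR.map (QuotientGroup.mk' K)) hcop hOp
    (show R' ≤ Subgroup.centralizer ((Subgroup.zpowers (f v) : Subgroup (G ⧸ K)) : Set (G ⧸ K)) from
      Subgroup.le_centralizer_iff.1 (Subgroup.zpowers_le.2 hvC))
    (by rw [Subgroup.normalizer_eq_top]; exact le_top)
    (by rw [Subgroup.normalizer_eq_top]; exact le_top) hfix
  have hfO : f v ∈ O := hcent (hle (Subgroup.mem_zpowers _))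
  obtain ⟨j, hj⟩ := IsPGroup.iff_orderOf.1 hOp ⟨f v, hfO⟩
  rw [← Subgroup.orderOf_coe, orderOf_injective f hfinj] at hj
  have hv1 : v = 1 := by
    rcases Nat.eq_zero_or_pos j with rfl | hj0
    · rwa [pow_zero, orderOf_eq_one_iff] at hj
    · exact absurd (hj ▸ dvd_pow_self p hj0.ne') hvord
  obtain ⟨i, -, hi⟩ := (Nat.dvd_prime_pow Fact.out).1 (orderOf_dvd_of_pow_eq_one hv1)
  exact ⟨i, by rw [← Subgroup.orderOf_coe]; exact hi⟩

/-- The idempotent of all characters over an invariant character. -/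
theorem blockIdem_over_eq [Fintype G] {K : Subgroup G} [K.Normal] [Fintype K] (θ : Cfsg.IrrCharacter K)
    (hinv : ∀ g : G, conjIrr g θ = θ) {B : Set (Cfsg.IrrCharacter G)}
    (hB : ∀ χ : Cfsg.IrrCharacter G, χ ∈ B ↔
      Cfsg.classInner (fun k : K => (χ : G → ℂ) k) (θ : K → ℂ) ≠ 0) :
    blockIdem B = push K (blockIdem ({θ} : Set (Cfsg.IrrCharacter K))) := by
  classical
  have hi : IsInvEl (blockIdem ({θ} : Set (Cfsg.IrrCharacter K))) :=
    isInvEl_blockIdem fun g η hη => by rw [Set.mem_singleton_iff.1 hη, hinv g]; rfl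
  refine central_omega_ext (central_blockIdem B) (central_push hi) fun χ => ?_
  obtain ⟨η, hη⟩ := exists_under (N := K) χ
  rw [omega_push_eq χ η hη hi, omega_blockIdem, omega_blockIdem]
  by_cases h : χ ∈ B
  · rw [if_pos h, if_pos]
    obtain ⟨g, hg⟩ := Clifford.exists_conjBy_eq K χ.2 θ.2 η.2 ((hB χ).1 h) hη
    exact Set.mem_singleton_iff.2 (Subtype.ext (hg.symm.trans (congrArg Subtype.val (hinv g))))
  · rw [if_neg h, if_neg]
    exact fun e => h ((hB χ).2 (Set.mem_singleton_iff.1 e ▸ hη))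

set_option maxHeartbeats 1600000 in
theorem existsUnique_local [Fintype G] (hM : Cfsg.IsPModular p M) [Fact p.Prime]
    {K : Subgroup G} [K.Normal] [Fintype K] (hK : ¬ p ∣ Nat.card K)
    (hcent : Subgroup.centralizer (Cfsg.pCore p (G ⧸ K) : Set (G ⧸ K)) ≤ Cfsg.pCore p (G ⧸ K))
    (θ : Cfsg.IrrCharacter K) (hinv : ∀ g : G, conjIrr g θ = θ)
    {B : Set (Cfsg.IrrCharacter G)} (hBb : Cfsg.IsPBlock M B)
    (hB : ∀ χ : Cfsg.IrrCharacter G, χ ∈ B ↔
      Cfsg.classInner (fun k : K => (χ : G → ℂ) k) (θ : K → ℂ) ≠ 0)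
    {R : Subgroup G} (hR : IsPGroup p R) :
    ∃! f : Set (Cfsg.IrrCharacter (Subgroup.centralizer (R : Set G))),
      Cfsg.IsInducedBlock M (Subgroup.centralizer (R : Set G)) f B := by
  classical
  obtain ⟨C, hC⟩ : ∃ C, C = Subgroup.centralizer (R : Set G) := ⟨_, rfl⟩
  suffices h : ∃! f : Set (Cfsg.IrrCharacter C), Cfsg.IsInducedBlock M C f B by subst hC; exact h
  haveI := Fintype.ofFinite C
  haveI := Fintype.ofFinite (K.subgroupOf C)
  letI : MulDistribMulAction R K :=
    MulDistribMulAction.compHom K ((MulAut.conjNormal (G := G) (H := K)).comp R.subtype)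
  have hsmul : ∀ (r : R) (k : K), ((r • k : K) : G) = (r : G) * k * (r : G)⁻¹ := fun r k =>
    MulAut.conjNormal_apply (r : G) k
  let i : K.subgroupOf C →* K :=
    { toFun := fun c => ⟨((c : C) : G), c.2⟩
      map_one' := rfl
      map_mul' := fun _ _ => rfl }
  have hinj : Function.Injective i := fun a b e =>
    Subtype.ext (Subtype.ext (congrArg Subtype.val e :))
  have hfix : ∀ k : K, (∃ c, i c = k) ↔ ∀ r : R, r • k = k := by
    intro k
    constructor
    · rintro ⟨c, rfl⟩ r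
      refine Subtype.ext ?_
      rw [hsmul]
      show (r : G) * ((c : C) : G) * (r : G)⁻¹ = ((c : C) : G)
      rw [Subgroup.mem_centralizer_iff.1 (hC.le (c : C).2) r r.2, mul_inv_cancel_right]
    · intro h
      have hk : (k : G) ∈ C := by
        rw [hC]
        refine Subgroup.mem_centralizer_iff.2 fun r hr => ?_
        have h1 := congrArg Subtype.val (h ⟨r, hr⟩)
        rw [hsmul] at h1
        exact mul_inv_eq_iff_eq_mul.1 h1
      exact ⟨⟨⟨k, hk⟩, k.2⟩, rfl⟩
  have hIsInv : BlockCharsA.Glauberman.IsInv R θ := fun r k => by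
    have h := congrFun (congrArg Subtype.val (hinv (r : G))) k
    rw [coe_conjIrr, Clifford.conjBy_apply] at h
    refine Eq.trans (congrArg (θ : K → ℂ) (Subtype.ext (hsmul r k))) h
  obtain ⟨β, hβ⟩ := BlockCharsA.Glauberman.exists_corr i hinj hfix hM hR hK hIsInv
  set z := BlockCharsA.Glauberman.pull i (blockIdem ({θ} : Set (Cfsg.IrrCharacter K))) with hz
  have hK1 : ¬ p ∣ Nat.card (K.subgroupOf C) :=
    BlockCharsA.Glauberman.not_dvd_card_C i hinj hK
  have hzint : IntEl M z := fun c => by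
    rw [hz, BlockCharsA.Glauberman.coeff_pull]; exact BlockCharsA.Glauberman.intEl_single hM hK θ _
  have heK := blockIdem_over_eq θ hinv hB
  have hrestr : restrEl C (blockIdem B) = push (K.subgroupOf C) z := by
    refine el_ext fun c => ?_
    rw [coeff_restrEl, heK]
    by_cases hc : (c : G) ∈ K
    · rw [coeff_push_mem _ hc, coeff_push_mem _ (show c ∈ K.subgroupOf C from hc), hz,
        BlockCharsA.Glauberman.coeff_pull]
      rfl
    · rw [coeff_push_notMem _ hc, coeff_push_notMem _ (show c ∉ K.subgroupOf C from hc)]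
  have hzinv : IsInvEl z := by
    have h1 : res (K.subgroupOf C) (restrEl C (blockIdem B)) = z := by rw [hrestr, res_push]
    rw [← h1]
    exact isInvEl_res (central_restrEl C (central_blockIdem B))
  have hω : ∀ η : Cfsg.IrrCharacter (K.subgroupOf C),
      Cong M (omega (η : K.subgroupOf C → ℂ) z) (if η = β then 1 else 0) := by
    intro η
    refine cong_trans hM (omega_cong hM η (central_of_isInvEl hzinv) (central_blockIdem _) hβ) ?_
    refine cong_of_eq hM ?_
    rw [omega_blockIdem]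
    by_cases h : η = β
    · rw [if_pos h, if_pos (Set.mem_singleton_iff.2 h)]
    · rw [if_neg h, if_neg (mt Set.mem_singleton_iff.1 h)]
  have hβinv : ∀ c : C, conjIrr c β = β := by
    intro c
    by_contra hne
    obtain ⟨ψ, hψ⟩ := exists_over (G := C) β
    have h1 : Cong M (omega (β : K.subgroupOf C → ℂ) z)
        (omega (conjIrr c β : K.subgroupOf C → ℂ) z) := by
      rw [← omega_push_eq ψ β hψ hzinv,
        ← omega_push_eq ψ (conjIrr c β) (by rwa [constituent_conjIrr]) hzinv]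
      exact cong_refl hM _
    have h2 := hω β
    rw [if_pos rfl] at h2
    have h3 := hω (conjIrr c β)
    rw [if_neg hne] at h3
    exact not_cong_zero_one hM
      (cong_trans hM (cong_symm hM h3) (cong_trans hM (cong_symm hM h1) h2))
  obtain ⟨f, hf, hfmem, -, -⟩ := InvariantCore.constrained_block hM hK1
    (centralizer_pCore_local_le hK hcent hR hC) β hβinv
  -- the functional of a character of `C`
  have hCN : C ≤ Subgroup.normalizer (R : Set G) := hC ▸ centralizer_le_normalizer' R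
  have hbr : ∀ w : MonoidAlgebra ℂ G, brEl R C w = restrEl C w := fun w => el_ext fun c => by
    rw [brEl, coeff_restrEl, coeff_restrEl, cutEl_coeff_mem w (hC.le c.2)]
  have hval : ∀ ψ : Cfsg.IrrCharacter C, Cong M (omega (ψ : C → ℂ) (restrEl C (blockIdem B)))
      (if ψ ∈ f then 1 else 0) := by
    intro ψ
    obtain ⟨η, hη⟩ := exists_under (N := K.subgroupOf C) ψ
    rw [hrestr, omega_push_eq ψ η hη hzinv]
    refine cong_trans hM (hω η) (cong_of_eq hM ?_)
    by_cases h : η = β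
    · subst h
      rw [if_pos rfl, if_pos ((hfmem ψ).2 hη)]
    · rw [if_neg h, if_neg]
      intro hψ
      obtain ⟨g, hg⟩ := Clifford.exists_conjBy_eq (K.subgroupOf C) ψ.2 β.2 η.2 ((hfmem ψ).1 hψ) hη
      exact h (Subtype.ext (hg.symm.trans (congrArg Subtype.val (hβinv g))))
  have hexi : ∀ ψ : Cfsg.IrrCharacter C, ∃ B' : Set (Cfsg.IrrCharacter G),
      Cfsg.IsInducedBlock M C (Cfsg.blockOf M (ψ : C → ℂ)) B' := by
    intro ψ
    let φ : MonoidAlgebra ℂ G →ₗ[ℂ] ℂ :=
      { toFun := fun w => omega (ψ : C → ℂ) (restrEl C w)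
        map_add' := fun a b => by
          show omega (ψ : C → ℂ) (restrEl C (a + b)) = _
          rw [restrEl_add, omega_add]
        map_smul' := fun c a => by
          show omega (ψ : C → ℂ) (restrEl C (c • a)) = _
          rw [restrEl_smul, omega_smul]; rfl }
    obtain ⟨B', hB', hh⟩ := exists_block_of_functional hM φ
      (fun w hw hwi => omega_ring hM ψ (central_restrEl C hw) (intEl_restrEl C hwi))
      (fun w hw hwi => omega_ideal hM ψ (central_restrEl C hw) fun x => by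
        rw [coeff_restrEl]; exact hwi _)
      (cong_of_eq hM (by
        show omega (ψ : C → ℂ) (restrEl C 1) = 1
        rw [restrEl_one, omega_one (irr_one_ne_zero ψ.2)]))
      (fun x y hx hxi hy hyi => by
        show Cong M (omega (ψ : C → ℂ) (restrEl C (x * y)))
          (omega (ψ : C → ℂ) (restrEl C x) * omega (ψ : C → ℂ) (restrEl C y))
        rw [← omega_mul ψ (central_restrEl C hx)]
        refine omega_cong hM ψ (central_restrEl C (central_mul hx hy))
          (central_mul (central_restrEl C hx) (central_restrEl C hy)) ?_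
        have h := congEl_brEl_mul hM hR (H := C) (hC ▸ le_rfl) hx hy hxi hyi
        rwa [hbr, hbr, hbr] at h)
    obtain ⟨χ, hχ⟩ := block_nonempty hM hB'
    refine ⟨B', isInduced_of_omega hM (isPBlock_blockOf M ψ) hB' (mem_blockOf_self hM ψ) hχ
      fun g => ?_⟩
    have h := hh χ hχ _ (central_classSum g) (intEl_classSum hM g)
    rwa [omega_classSum (irr_isClassFunction χ)] at h
  have hiff : ∀ (f' : Set (Cfsg.IrrCharacter C)), Cfsg.IsPBlock M f' → ∀ ψ ∈ f',
      (Cfsg.IsInducedBlock M C f' B ↔ ψ ∈ f) := by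
    intro f' hf' ψ hψ
    obtain ⟨B', hB'⟩ := hexi ψ
    rw [← block_eq_blockOf hM hf' hψ] at hB'
    obtain ⟨χ, hχ⟩ := block_nonempty hM hB'.2.1
    have h1 := cong_trans hM (cong_symm hM (omega_cong_of_isInduced hM hB' hψ hχ
      (central_blockIdem B) (intEl_blockIdem hM hBb))) (hval ψ)
    rw [omega_blockIdem] at h1
    constructor
    · intro h
      have he := isInduced_unique hM h hB'
      subst he
      rw [if_pos hχ] at h1
      by_contra hne
      rw [if_neg hne] at h1
      exact not_cong_zero_one hM (cong_symm hM h1)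
    · intro h
      rw [if_pos h] at h1
      by_cases hχB : χ ∈ B
      · rwa [block_eq_of_mem hM hBb hB'.2.1 hχB hχ]
      · rw [if_neg hχB] at h1
        exact absurd h1 (not_cong_zero_one hM)
  obtain ⟨ψ₀, hψ₀⟩ := block_nonempty hM hf
  refine ⟨f, (hiff f hf ψ₀ hψ₀).2 hψ₀, fun f' hf' => ?_⟩
  obtain ⟨ψ, hψ⟩ := block_nonempty hM hf'.1
  exact block_eq_of_mem hM hf'.1 hf hψ ((hiff f' hf'.1 ψ hψ).1 hf')

end Cfsg.Agent.Blocks.PrincipalType
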