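import Mathlib
import Cfsg.Agent.Lib.Blocks.Defect
import Cfsg.Agent.BlockCharsA.DegreeSum
import Cfsg.Agent.Lib.Characters.Kernel

/-!
# Real 2-blocks of full defect
-/

set_option linter.style.haveILetI false

namespace Cfsg.Agent.Blocks

open Cfsg.Agent.Characters
open scoped ComplexConjugate

universe u

variable {G : Type u} [Group G] [Finite G] {M : Ideal Cfsg.AlgInt}

/-- The complex conjugate of an irreducible character. -/
noncomputable def starIrr (χ : Cfsg.IrrCharacter G) : Cfsg.IrrCharacter G :=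
  ⟨fun g => conj ((χ : G → ℂ) g), isIrrCharacter_conj χ.2⟩

theorem coe_starIrr (χ : Cfsg.IrrCharacter G) (g : G) :
    (starIrr χ : G → ℂ) g = conj ((χ : G → ℂ) g) := rfl

theorem starIrr_starIrr (χ : Cfsg.IrrCharacter G) : starIrr (starIrr χ) = χ :=
  Subtype.ext (funext fun g => Complex.conj_conj _)

theorem centralChar_starIrr (χ : Cfsg.IrrCharacter G) (g : G) :
    Cfsg.centralChar (starIrr χ : G → ℂ) g = Cfsg.centralChar (χ : G → ℂ) g⁻¹ := by
  rw [Cfsg.centralChar, Cfsg.centralChar, coe_starIrr, coe_starIrr, ← char_inv (irr_isCharacter χ),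
    ← char_inv (irr_isCharacter χ), inv_one]
  congr 4
  ext x
  rw [Subgroup.mem_centralizer_singleton_iff, Subgroup.mem_centralizer_singleton_iff]
  exact (Commute.inv_right_iff (a := x) (b := g)).symm

theorem sameBlock_starIrr {χ ψ : Cfsg.IrrCharacter G}
    (h : Cfsg.SameBlock M (χ : G → ℂ) (ψ : G → ℂ)) :
    Cfsg.SameBlock M (starIrr χ : G → ℂ) (starIrr ψ : G → ℂ) := fun g => by
  rw [centralChar_starIrr, centralChar_starIrr]
  exact h g⁻¹

/-- A real 2-block of full defect is the principal block. -/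
theorem eq_principal_of_real_full (hM : Cfsg.IsPModular 2 M) {B : Set (Cfsg.IrrCharacter G)}
    (hB : Cfsg.IsPBlock M B) (hreal : ∀ χ ∈ B, starIrr χ ∈ B)
    (hfull : Cfsg.blockDefect 2 B = (Nat.card G).factorization 2) :
    B = Cfsg.principalBlock M G := by
  classical
  by_contra hne
  haveI := Fintype.ofFinite G
  haveI := Fintype.ofFinite (Cfsg.IrrCharacter G)
  have htriv : trivIrr G ∉ B := fun h =>
    hne (block_eq_of_mem hM hB (isPBlock_principal M G) h (trivIrr_mem_principal hM))
  have hsym : ∀ g, Cfsg.blockCoeff B g⁻¹ = Cfsg.blockCoeff B g := by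
    intro g
    simp only [blockCoeff_eq_sum]
    congr 1
    refine Fintype.sum_equiv
      { toFun := starIrr, invFun := starIrr, left_inv := starIrr_starIrr, right_inv := starIrr_starIrr }
      _ _ fun χ => ?_
    show _ = if starIrr χ ∈ B then _ else 0
    by_cases hχ : χ ∈ B
    · obtain ⟨n, -, hn⟩ := irr_one_pos χ.2
      rw [if_pos hχ, if_pos (hreal χ hχ)]
      show _ = (starIrr χ : G → ℂ) 1 * conj ((starIrr χ : G → ℂ) g)
      rw [coe_starIrr, coe_starIrr, hn, Complex.conj_natCast,
        char_inv (irr_isCharacter χ), Complex.conj_conj]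
    · rw [if_neg hχ, if_neg fun h => hχ (by simpa [starIrr_starIrr] using hreal _ h)]
  have hsum : ∑ g : G, Cfsg.blockCoeff B g = 0 := by
    have h := omega_blockIdem_notMem htriv
    rw [omega, evalChar_eq_sum] at h
    simpa [trivIrr] using h
  let iv : Equiv.Perm G := Equiv.inv G
  have hiv : iv ^ 2 ^ 1 = 1 := by
    rw [pow_one, sq]; ext g; simp [iv]
  have hpg : IsPGroup 2 (Subgroup.zpowers iv) := by
    obtain ⟨j, -, hj⟩ := (Nat.dvd_prime_pow Nat.prime_two).1 (orderOf_dvd_of_pow_eq_one hiv)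
    exact IsPGroup.of_card (n := j) (by rw [Nat.card_zpowers, hj])
  have hinvar : ∀ (u : Subgroup.zpowers iv) (g : G),
      Cfsg.blockCoeff B (u • g) = Cfsg.blockCoeff B g := by
    rintro ⟨u, hu⟩ g
    obtain ⟨k, hk⟩ := Subgroup.mem_zpowers_iff.1 hu
    show Cfsg.blockCoeff B (u g) = _
    have hsq : iv * iv = 1 := by rw [← sq, ← pow_one 2]; exact hiv
    rcases Int.even_or_odd k with ⟨j, rfl⟩ | ⟨j, rfl⟩
    · rw [← hk, zpow_add, ← (Commute.refl iv).mul_zpow, hsq, one_zpow]; rfl
    · rw [← hk, zpow_add, zpow_one, show (2 : ℤ) * j = j + j by ring, zpow_add,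
        ← (Commute.refl iv).mul_zpow, hsq, one_zpow, one_mul]
      exact hsym g
  set s := Finset.univ.filter fun g : G => g⁻¹ = g
  have hcong := cong_sum_fixed hM hpg (Cfsg.blockCoeff B) (fun g => by
      rw [← coeff_blockIdem]; exact intEl_blockIdem hM hB g) hinvar s (fun g => by
      simp only [s, Finset.mem_filter, Finset.mem_univ, true_and]
      refine ⟨fun h u => ?_, fun h => h ⟨iv, Subgroup.mem_zpowers iv⟩⟩
      obtain ⟨u, hu⟩ := u
      obtain ⟨k, hk⟩ := Subgroup.mem_zpowers_iff.1 hu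
      show u g = g
      rw [← hk]
      exact Equiv.Perm.zpow_apply_eq_self_of_apply_eq_self h k)
  rw [hsum, Finset.sum_eq_single (1 : G) (fun g hg hg1 => ?_) (by simp [s])] at hcong
  · have hunit : ¬ Cfsg.MemLocalIdeal M (Cfsg.blockCoeff B 1) := by
      obtain ⟨g, hg⟩ := exists_defectClass hM hB
      obtain ⟨χ₀, hχ₀⟩ := block_nonempty hM hB
      have hv := (BlockCharsA.DegreeSum.degreeSum_valuation hM hB hg).2
      rw [hfull, finsum_mem_def, finsum_eq_sum_of_fintype] at hv
      have heq : Cfsg.blockCoeff B 1 = ((∑ χ : Cfsg.IrrCharacter G,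
          B.indicator (fun χ => Cfsg.charDegree (χ : G → ℂ) ^ 2) χ : ℕ) : ℂ) / (Nat.card G : ℂ) := by
        rw [blockCoeff_eq_sum, div_eq_inv_mul, Nat.cast_sum]
        congr 1
        refine Finset.sum_congr rfl fun χ _ => ?_
        rw [Set.indicator_apply]
        obtain ⟨n, -, hn⟩ := irr_one_pos χ.2
        split
        · rw [Nat.cast_pow, charDegree_cast, hn, Complex.conj_natCast, sq]
        · simp
      rw [heq]
      refine not_ideal_natCast_div hM ?_ Nat.card_pos.ne' (by rw [hv]; omega)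
      intro h0
      have := Finset.sum_eq_zero_iff.1 h0 χ₀ (Finset.mem_univ _)
      rw [Set.indicator_apply, if_pos hχ₀] at this
      exact (pow_pos (charDegree_pos χ₀) 2).ne' this
    exact hunit (cong_zero_iff.1 (cong_symm hM hcong))
  · refine blockCoeff_eq_zero_of_singular hM (intEl_blockIdem hM hB) ?_
    have h2 : g ^ 2 = 1 := by
      rw [sq]
      nth_rewrite 1 [← (Finset.mem_filter.1 hg).2]
      rw [inv_mul_cancel]
    rcases (Nat.dvd_prime Nat.prime_two).1 (orderOf_dvd_of_pow_eq_one h2) with h | h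
    · exact absurd (orderOf_eq_one_iff.1 h) hg1
    · rw [h]

/-- A real character of odd degree lies in the principal 2-block. -/
theorem mem_principal_of_real_odd (hM : Cfsg.IsPModular 2 M) (χ : Cfsg.IrrCharacter G)
    (hreal : ∀ g : G, ((χ : G → ℂ) g).im = 0) (hodd : Odd (Cfsg.charDegree (χ : G → ℂ))) :
    χ ∈ Cfsg.principalBlock M G := by
  have hB := isPBlock_blockOf M χ
  have hχ : starIrr χ = χ := Subtype.ext (funext fun g => Complex.conj_eq_iff_im.2 (hreal g))
  rw [← eq_principal_of_real_full hM hB (fun ψ hψ => by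
    have h : Cfsg.SameBlock M (starIrr χ : G → ℂ) (starIrr ψ : G → ℂ) := sameBlock_starIrr hψ
    rw [hχ] at h
    exact h) ?_]
  · exact mem_blockOf_self hM χ
  · have h1 := degree_factorization_eq hM hB (mem_blockOf_self hM χ)
    rw [Nat.factorization_eq_zero_of_not_dvd
      (fun h => Nat.not_even_iff_odd.2 hodd (even_iff_two_dvd.2 h))] at h1
    have h2 := blockDefect_le 2 (Cfsg.blockOf M (χ : G → ℂ))
    omega

end Cfsg.Agent.Blocks
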