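import Mathlib
import Cfsg.Prelude.Def_Blocks
import Cfsg.Agent.Lib.Blocks.SectionNorm
import Cfsg.Agent.Lib.Blocks.Star.Parts
import Cfsg.Agent.Lib.FrobeniusSchur.Basic
import Cfsg.Agent.Lib.Characters.Schur
import Cfsg.Agent.S0161

/-!
# Square roots on a `p`-section

The square roots of `x c` (`c` a `p`-regular element of `C(x)`) centralise `x`.  Projecting this
identity to the principal block of `C(x)` compares the Frobenius-Schur weighted sums of the two
principal blocks on the section of `x`.
-/

set_option linter.style.haveILetI false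
set_option linter.unusedSectionVars false

namespace Cfsg.Agent.Blocks

open Cfsg.Agent.Characters
open scoped ComplexConjugate

universe u

variable {G : Type u} [Group G] [Finite G] {p : ℕ} {M : Ideal Cfsg.AlgInt}

/-- The Frobenius-Schur indicator is real. -/
theorem conj_nu [Fintype G] (χ : Cfsg.IrrCharacter G) :
    conj (FrobeniusSchur.nu (χ : G → ℂ)) = FrobeniusSchur.nu (χ : G → ℂ) := by
  rcases FrobeniusSchur.nu_trichotomy χ with h | h | h <;> simp [h]

/-- The number of square roots of `g` is `∑ nu(χ) χ(g)`. -/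
theorem card_sq_eq [Fintype G] [Fintype (Cfsg.IrrCharacter G)] (g : G) :
    (Nat.card {s : G // s * s = g} : ℂ) =
      ∑ χ : Cfsg.IrrCharacter G, FrobeniusSchur.nu (χ : G → ℂ) * (χ : G → ℂ) g := by
  classical
  set R : G → ℂ := fun g => (Nat.card {s : G // s * s = g} : ℂ) with hR
  have hcl : Cfsg.IsClassFunction G R := fun g k => by
    simp only [R, Nat.cast_inj]
    refine (Nat.card_congr (Equiv.subtypeEquiv (MulAut.conj k).toEquiv fun s => ?_)).symm
    simp only [MulEquiv.toEquiv_eq_coe, EquivLike.coe_coe, MulAut.conj_apply]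
    constructor
    · intro h; rw [← h]; group
    · intro h
      calc s * s = k⁻¹ * (k * s * k⁻¹ * (k * s * k⁻¹)) * k := by group
        _ = g := by rw [h]; group
  have hin : ∀ χ : Cfsg.IrrCharacter G,
      Cfsg.classInner R (χ : G → ℂ) = FrobeniusSchur.nu (χ : G → ℂ) := by
    intro χ
    rw [← conj_nu χ, FrobeniusSchur.nu, map_mul, map_inv₀, Complex.conj_natCast, map_sum,
      classInner_def]
    congr 1
    conv_rhs => rw [← Finset.sum_fiberwise (s := Finset.univ) (g := fun s : G => s * s)]
    refine Finset.sum_congr rfl fun a _ => Eq.symm ?_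
    rw [Finset.sum_congr rfl (g := fun _ => conj ((χ : G → ℂ) a)) (fun s hs => by
      rw [(Finset.mem_filter.1 hs).2]), Finset.sum_const, nsmul_eq_mul]
    simp only [R, Nat.card_eq_fintype_card, Fintype.card_subtype]
  have h := congrFun (classFun_eq_sum hcl) g
  simp only [Finset.sum_apply, Pi.smul_apply, smul_eq_mul, hin] at h
  exact h

/-- An irreducible character on a translate by a central element. -/
theorem irr_central_mul {η : G → ℂ} (hη : Cfsg.IsIrrCharacter G η) {z : G}
    (hz : ∀ g : G, g * z = z * g) : ∃ ω : ℂ, ∀ g : G, η (z * g) = ω * η g := by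
  obtain ⟨d, ρ, hρ, rfl⟩ := hη
  obtain ⟨k, hk⟩ := schur_scalar ρ (ρ z) fun g v => by
    rw [← Module.End.mul_apply, ← Module.End.mul_apply, ← map_mul, ← map_mul, hz g]
  exact ⟨k, fun g => by simp [Representation.character, hk, Module.End.mul_eq_comp,
    LinearMap.smul_comp]⟩

open scoped Classical in
/-- The Frobenius-Schur sum of the principal block on the section of `x`. -/
theorem root_section (hM : Cfsg.IsPModular p M) [Fintype G] {x : G}
    [Fintype (Subgroup.centralizer ({x} : Set G))] [Fintype (Cfsg.IrrCharacter G)]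
    [Fintype (Cfsg.IrrCharacter (Subgroup.centralizer ({x} : Set G)))]
    (hx : ∃ k : ℕ, orderOf x = p ^ k)
    {y : Subgroup.centralizer ({x} : Set G)} (hy : ¬ p ∣ orderOf y) :
    ∑ ζ : Cfsg.IrrCharacter G, (if ζ ∈ Cfsg.principalBlock M G then
        FrobeniusSchur.nu (ζ : G → ℂ) * (ζ : G → ℂ) (x * (y : G)) else 0) =
      ∑ η : Cfsg.IrrCharacter (Subgroup.centralizer ({x} : Set G)),
        (if η ∈ Cfsg.principalBlock M (Subgroup.centralizer ({x} : Set G)) then
          FrobeniusSchur.nu (η : Subgroup.centralizer ({x} : Set G) → ℂ) *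
            (η : Subgroup.centralizer ({x} : Set G) → ℂ)
              (⟨x, Subgroup.mem_centralizer_singleton_iff.2 rfl⟩ * y) else 0) := by
  haveI := fact_prime_of_pm hM
  set xC : (Subgroup.centralizer ({x} : Set G)) := ⟨x, Subgroup.mem_centralizer_singleton_iff.2 rfl⟩ with hxC
  set b₀ := Cfsg.principalBlock M (Subgroup.centralizer ({x} : Set G)) with hb₀
  have hb₀B : Cfsg.IsPBlock M b₀ := isPBlock_principal M _
  have hcomm : ∀ c : (Subgroup.centralizer ({x} : Set G)), Commute x (c : G) := fun c =>
    (Subgroup.mem_centralizer_singleton_iff.1 c.2).symm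
  have hroot : ∀ c : (Subgroup.centralizer ({x} : Set G)), ¬ p ∣ orderOf c →
      (∑ ζ : Cfsg.IrrCharacter G, FrobeniusSchur.nu (ζ : G → ℂ) * (ζ : G → ℂ) (x * (c : G))) =
        ∑ η : Cfsg.IrrCharacter (Subgroup.centralizer ({x} : Set G)), FrobeniusSchur.nu (η : (Subgroup.centralizer ({x} : Set G)) → ℂ) * (η : (Subgroup.centralizer ({x} : Set G)) → ℂ) (xC * c) := by
    intro c hc
    rw [← card_sq_eq, ← card_sq_eq, Nat.cast_inj]
    have hreg : ¬ p ∣ orderOf (c : G) := by rwa [Subgroup.orderOf_coe]
    refine Nat.card_congr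
      { toFun := fun s => ⟨⟨s.1, Subgroup.mem_centralizer_singleton_iff.2 ?_⟩, Subtype.ext s.2⟩
        invFun := fun t => ⟨(t.1 : G), congrArg Subtype.val t.2⟩
        left_inv := fun s => rfl
        right_inv := fun t => rfl }
    refine commute_of_isConj_section hM.1 hx (hcomm c) hreg (hcomm c) hreg ?_
    have e : s.1 * (s.1 * s.1) * s.1⁻¹ = s.1 * s.1 := by group
    rwa [s.2] at e
  have hG : ∀ ζ : Cfsg.IrrCharacter G,
      Cfsg.blockPart b₀ (fun c : (Subgroup.centralizer ({x} : Set G)) => (ζ : G → ℂ) (x * (c : G))) y =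
        if ζ ∈ Cfsg.principalBlock M G then (ζ : G → ℂ) (x * (y : G)) else 0 := by
    intro ζ
    split
    · next h => exact (value_eq_principal_part hM hx h hy).symm
    · next h =>
      refine blockPart_eq_zero_of_not_induced hM hx (isPBlock_blockOf M ζ) (mem_blockOf_self hM ζ)
        hb₀B (fun hi => h ?_) hy
      rw [← isInduced_unique hM hi ((third_main hM ⟨_, hi⟩).2 rfl)]
      exact mem_blockOf_self hM ζ
  have hH : ∀ η : Cfsg.IrrCharacter (Subgroup.centralizer ({x} : Set G)),
      Cfsg.blockPart b₀ (fun c : (Subgroup.centralizer ({x} : Set G)) => (η : (Subgroup.centralizer ({x} : Set G)) → ℂ) (xC * c)) y =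
        if η ∈ b₀ then (η : (Subgroup.centralizer ({x} : Set G)) → ℂ) (xC * y) else 0 := by
    intro η
    obtain ⟨ω, hω⟩ := irr_central_mul η.2 (z := xC) fun c => Subtype.ext (hcomm c).eq.symm
    simp only [hω]
    have := Star.blockPart_sum_smul b₀ ({()} : Finset Unit) (fun _ => ω)
      (fun _ => (η : (Subgroup.centralizer ({x} : Set G)) → ℂ)) y
    simp only [Finset.sum_singleton] at this
    rw [this, blockPart_irr, mul_ite, mul_zero]
  have h := Star.blockPart_congr_reg hM hb₀B hroot hy
  rw [Star.blockPart_sum_smul, Star.blockPart_sum_smul] at h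
  simp only [hG, hH, mul_ite, mul_zero] at h
  exact h

/-- In a group with a normal `p`-complement, `p` odd, the only real member of the principal block
is the trivial character. -/
theorem real_principal_pnilpotent (hM : Cfsg.IsPModular p M) (hp : p ≠ 2) {N : Subgroup G}
    [N.Normal] (hN : ¬ p ∣ Nat.card N) (hidx : ∃ k : ℕ, N.index = p ^ k)
    {η : Cfsg.IrrCharacter G} (hη : η ∈ Cfsg.principalBlock M G)
    (hr : ∀ g : G, ((η : G → ℂ) g).im = 0) : η = trivIrr G := by
  obtain ⟨φ, -, hφ, hirr⟩ := exists_deflate_quotient N (irr_isCharacter η)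
    ((sameBlock_one_iff hM hN hidx η).1 hη)
  have hodd : Odd (Nat.card (G ⧸ N)) := by
    obtain ⟨k, hk⟩ := hidx
    rw [← Subgroup.index_eq_card, hk]
    exact (hM.1.odd_of_ne_two hp).pow
  have h1 := Cfsg.Agent.S0161.result hodd ⟨φ, hirr η.2⟩ fun q => by
    obtain ⟨g, rfl⟩ := QuotientGroup.mk_surjective q
    show (φ (g : G ⧸ N)).im = 0
    rw [hφ g]; exact hr g
  refine Subtype.ext (funext fun g => ?_)
  rw [← hφ g, show φ = fun _ => 1 from h1]
  simp [trivIrr]

open scoped Classical in
/-- `p` odd and `C(x)` with a normal `p`-complement: the weighted sum is one. -/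
theorem sum_nu_section_eq_one (hM : Cfsg.IsPModular p M) (hp : p ≠ 2) [Fintype G] {x : G}
    [Fintype (Cfsg.IrrCharacter G)] (hx : ∃ k : ℕ, orderOf x = p ^ k)
    {N : Subgroup (Subgroup.centralizer ({x} : Set G))} [N.Normal] (hN : ¬ p ∣ Nat.card N)
    (hidx : ∃ k : ℕ, N.index = p ^ k) :
    ∑ ζ : Cfsg.IrrCharacter G, (if ζ ∈ Cfsg.principalBlock M G then
        FrobeniusSchur.nu (ζ : G → ℂ) * (ζ : G → ℂ) x else 0) = 1 := by
  haveI := Fintype.ofFinite (Subgroup.centralizer ({x} : Set G))
  haveI := Fintype.ofFinite (Cfsg.IrrCharacter (Subgroup.centralizer ({x} : Set G)))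
  set C := Subgroup.centralizer ({x} : Set G) with hC
  have h := root_section hM hx (y := (1 : C)) (by rw [orderOf_one]; exact hM.1.not_dvd_one)
  simp only [Subgroup.coe_one, mul_one] at h
  rw [h, Finset.sum_eq_single (trivIrr C) (fun η _ hne => ?_) (by simp)]
  · rw [if_pos (trivIrr_mem_principal hM)]
    have : FrobeniusSchur.nu (trivIrr C : C → ℂ) = 1 := by
      simp [FrobeniusSchur.nu, trivIrr]
    rw [this]; simp [trivIrr]
  · split_ifs with hb
    · rw [FrobeniusSchur.nu_eq_zero_of_not_real η
        (fun hr => hne (real_principal_pnilpotent hM hp hN hidx hb hr)), zero_mul]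
    · rfl

end Cfsg.Agent.Blocks
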