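import Mathlib
import Cfsg.Prelude.Def_Blocks
import Cfsg.Agent.Lib.Blocks.FirstMain

/-!
# Green's theorem: defect groups are intersections of Sylow subgroups
-/

set_option linter.style.haveILetI false
set_option linter.unusedSectionVars false

namespace Cfsg.Agent.Blocks

open Cfsg.Agent.Characters
open scoped ComplexConjugate

universe u

variable {G : Type u} [Group G] [Finite G] {p : ℕ} {M : Ideal Cfsg.AlgInt}

/-- The coefficients of a class sum times a block idempotent vanish at singular elements. -/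
theorem coeff_classSum_mul_blockIdem_singular (hM : Cfsg.IsPModular p M)
    {B : Set (Cfsg.IrrCharacter G)} (hB : Cfsg.IsPBlock M B) {g x : G}
    (hg : ¬ p ∣ orderOf g) (hx : p ∣ orderOf x) : (classSum g * blockIdem B).coeff x = 0 := by
  classical
  haveI := Fintype.ofFinite G
  haveI := Fintype.ofFinite (Cfsg.IrrCharacter G)
  have h0 := sum_block_reg_sing hM (intEl_blockIdem hM hB) hg hx
  rw [finsum_mem_def, finsum_eq_sum_of_fintype] at h0
  simp only [Set.indicator_apply] at h0
  rw [← fourier_omega (central_mul (central_classSum g) (central_blockIdem B)), coeff_fourier]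
  refine mul_eq_zero_of_right _ ?_
  rw [← mul_zero ((Subgroup.centralizer ({g} : Set G)).index : ℂ), ← h0, Finset.mul_sum]
  refine Finset.sum_congr rfl fun χ _ => ?_
  rw [omega_mul χ (central_classSum g), omega_classSum (irr_isClassFunction χ), omega_blockIdem]
  by_cases hχ : χ ∈ B
  · rw [if_pos hχ, if_pos hχ, Cfsg.centralChar]
    field_simp [irr_one_ne_zero χ.2]
  · rw [if_neg hχ, if_neg hχ]; ring

/-- A coset sum of the coefficients of a block idempotent is negligible when the intersection of
the Sylow subgroups is larger than a defect group. -/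
theorem ideal_coset_sum (hM : Cfsg.IsPModular p M) {B : Set (Cfsg.IrrCharacter G)}
    (hB : Cfsg.IsPBlock M B) {D : Subgroup G} (hD : Cfsg.IsDefectGroup p M B D)
    {P : Subgroup G} (hP : IsPGroup p P) [Fintype P] {y : G}
    (hlt : Nat.card D < Nat.card (P ⊓ P.map (MulAut.conj y).toMonoidHom : Subgroup G)) :
    Cfsg.MemLocalIdeal M (∑ u : P, Cfsg.blockCoeff B (y * (u : G))) := by
  classical
  haveI := Fintype.ofFinite G
  set R := P ⊓ P.map (MulAut.conj y).toMonoidHom
  have hR : ∀ r : R, (r : G) ∈ P ∧ y⁻¹ * (r : G) * y ∈ P :=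
    fun r => ⟨r.2.1, mem_map_conj_iff.1 r.2.2⟩
  let act : R → P → P := fun r u =>
    ⟨y⁻¹ * (r : G) * y * u * (r : G)⁻¹, P.mul_mem (P.mul_mem (hR r).2 u.2) (P.inv_mem (hR r).1)⟩
  letI : MulAction R P :=
    { smul := act
      one_smul := fun u => Subtype.ext (by simp [HSMul.hSMul, SMul.smul, act])
      mul_smul := fun r s u => Subtype.ext (by
        simp [HSMul.hSMul, SMul.smul, act, mul_assoc]) }
  have hact : ∀ (r : R) (u : P), y * ((r • u : P) : G) = (r : G) * (y * u) * (r : G)⁻¹ := fun r u => by
    show y * (y⁻¹ * (r : G) * y * u * (r : G)⁻¹) = _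
    group
  refine (ideal_iff_of_cong hM (cong_sum_fixed hM (hP.to_le inf_le_left : IsPGroup p R)
    (fun u : P => Cfsg.blockCoeff B (y * (u : G))) (fun u => blockCoeff_ring hM hB _)
    (fun r u => ?_) (Finset.univ.filter fun u : P => ∀ r : R, r • u = u)
    (fun u => ⟨fun h => (Finset.mem_filter.1 h).2,
      fun h => Finset.mem_filter.2 ⟨Finset.mem_univ _, h⟩⟩))).2 ?_
  · have := central_blockIdem B (y * (u : G)) (r : G)
    rw [coeff_blockIdem, coeff_blockIdem] at this
    rw [hact, this]
  refine ideal_sum hM fun u hu => ?_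
  by_contra hne
  have hc : y * (u : G) ∈ Subgroup.centralizer (R : Set G) :=
    (conj_fixed_iff R _).1 fun r => by rw [← hact, (Finset.mem_filter.1 hu).2 r]
  obtain ⟨x, hx⟩ := le_defect_of_coeff hM hB hD hne (hP.to_le inf_le_left) hc
  have := Subgroup.card_le_of_le hx
  rw [card_map_conj] at this
  exact absurd (lt_of_lt_of_le hlt this) (lt_irrefl _)

/-- Some defect group is the intersection of the Sylow subgroup `P` with a conjugate by an element
of the corresponding defect class. -/
theorem exists_sylow_inter (hM : Cfsg.IsPModular p M) {B : Set (Cfsg.IrrCharacter G)}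
    (hB : Cfsg.IsPBlock M B) (P : Sylow p G) :
    ∃ y : G, Cfsg.IsDefectClass M B y ∧
      IsSylCent p y ((P : Subgroup G) ⊓ (P : Subgroup G).map (MulAut.conj y).toMonoidHom) := by
  classical
  haveI := fact_prime_of_pm hM
  haveI := Fintype.ofFinite G
  haveI := Fintype.ofFinite (P : Subgroup G)
  obtain ⟨g, hg⟩ := exists_defectClass hM hB
  obtain ⟨D, hDs⟩ := exists_isSylCent p g
  have hD : Cfsg.IsDefectGroup p M B D := isDefectGroup_iff.2 ⟨g, hg, hDs⟩
  set d := Cfsg.blockDefect p B
  set a := (Nat.card G).factorization p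
  have hcardD : Nat.card D = p ^ d := card_defectGroup hM hB hD
  have hda : d ≤ a := blockDefect_le p B
  have hreg := defectClass_regular hM hB hg
  set X := {y : G // IsConj g y}
  letI : MulAction (P : Subgroup G) X :=
    { smul := fun u x => ⟨(u : G) * x.1 * (u : G)⁻¹, x.2.trans (isConj_iff.2 ⟨u, rfl⟩)⟩
      one_smul := fun x => Subtype.ext (by simp [HSMul.hSMul, SMul.smul])
      mul_smul := fun u w x => Subtype.ext (by simp [HSMul.hSMul, SMul.smul, mul_assoc]) }
  let f : X → ℂ := fun x => ∑ u : (P : Subgroup G), Cfsg.blockCoeff B (x.1 * (u : G))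
  have hfr : ∀ x, Cfsg.MemLocalRing M (f x) := fun x =>
    ring_sum hM fun u _ => blockCoeff_ring hM hB _
  have hfinv : ∀ (u : (P : Subgroup G)) x, f (u • x) = f x := by
    intro u x
    refine (Fintype.sum_equiv (MulAut.conj u).toEquiv _ _ fun v => ?_).symm
    show Cfsg.blockCoeff B (x.1 * (v : G)) =
      Cfsg.blockCoeff B ((u : G) * x.1 * (u : G)⁻¹ * ((u : G) * v * (u : G)⁻¹))
    have := central_blockIdem B (x.1 * (v : G)) (u : G)
    rw [coeff_blockIdem, coeff_blockIdem] at this
    rw [← this]; congr 1; group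
  -- the total is `|g^G| a(g)`
  have htot : ∑ x : X, f x =
      ((Subgroup.centralizer ({g} : Set G)).index : ℂ) * Cfsg.blockCoeff B g := by
    have hK : ∀ v : G, (classSum g⁻¹ * blockIdem B).coeff v =
        ∑ x : X, Cfsg.blockCoeff B (x.1 * v) := by
      intro v
      rw [coeff_mul', ← Finset.sum_subtype (Finset.univ.filter fun y : G => IsConj g y) (by simp)
        fun y => Cfsg.blockCoeff B (y * v), Finset.sum_filter]
      refine Fintype.sum_equiv (Equiv.inv G) _ _ fun h => ?_
      rw [coeff_classSum, coeff_blockIdem, ite_mul, one_mul, zero_mul, Equiv.inv_apply]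
      have hiff : IsConj g⁻¹ h ↔ IsConj g h⁻¹ := by
        simp only [isConj_iff]
        exact exists_congr fun c => by
          constructor <;> intro hh
          · rw [← hh]; group
          · rw [← inv_inv h, ← hh]; group
      convert if_congr hiff rfl rfl using 1 <;> (try rfl) <;> congr
    simp only [f]
    rw [Finset.sum_comm]
    simp only [← hK]
    rw [Finset.sum_eq_single (1 : (P : Subgroup G))]
    · rw [Subgroup.coe_one, hK 1]
      simp only [mul_one]
      rw [Finset.sum_congr rfl fun x _ => show Cfsg.blockCoeff B x.1 = Cfsg.blockCoeff B g by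
          rw [← coeff_blockIdem, ← coeff_blockIdem, central_isConj (central_blockIdem B) x.2],
        Finset.sum_const, Finset.card_univ, nsmul_eq_mul, ← card_conjugates,
        Nat.card_eq_fintype_card]
    · intro u _ hu
      refine coeff_classSum_mul_blockIdem_singular hM hB (by rwa [orderOf_inv]) ?_
      obtain ⟨j, hj⟩ := IsPGroup.iff_orderOf.1 P.isPGroup' u
      rw [Subgroup.orderOf_coe, hj]
      exact dvd_pow_self p fun h => hu (orderOf_eq_one_iff.1 (by rw [hj, h, pow_zero]))
    · simp
  have hidx : (Subgroup.centralizer ({g} : Set G)).index.factorization p = a - d := by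
    have := factorization_index_add (Subgroup.centralizer ({g} : Set G)) p
    rw [← blockDefect_eq hM hB hg] at this
    omega
  have hpad : (p ^ (a - d)).factorization p = a - d := by
    rw [hM.1.factorization_pow, Finsupp.single_eq_same]
  have hunit : ¬ Cfsg.MemLocalIdeal M ((∑ x : X, f x) / ((p ^ (a - d) : ℕ) : ℂ)) := by
    rw [htot, mul_div_right_comm, ideal_mul_iff hM (ring_natCast_div hM (pow_ne_zero _ hM.1.ne_zero)
      (by rw [hpad, hidx])) (blockCoeff_ring hM hB g)]
    rintro (h | h)
    · exact not_ideal_natCast_div hM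
        (Subgroup.centralizer ({g} : Set G)).index_ne_zero_of_finite (pow_ne_zero _ hM.1.ne_zero)
        (by rw [hpad, hidx]) h
    · exact hg.2.1 h
  by_contra hcon
  push Not at hcon
  apply hunit
  haveI := Fintype.ofFinite (MulAction.orbitRel.Quotient (P : Subgroup G) X)
  haveI : ∀ x : X, Fintype (MulAction.orbit (P : Subgroup G) x) := fun x => Fintype.ofFinite _
  rw [← (MulAction.selfEquivSigmaOrbits (P : Subgroup G) X).symm.sum_comp f, Fintype.sum_sigma,
    Finset.sum_div]
  refine ideal_sum hM fun ω _ => ?_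
  set x := Quotient.out ω
  rw [Finset.sum_congr rfl (g := fun _ => f x) fun z _ => ?_, Finset.sum_const, Finset.card_univ,
    nsmul_eq_mul, mul_div_right_comm]
  swap
  · obtain ⟨u, hu⟩ := z.2
    show f z.1 = f x
    rw [← hu]; exact hfinv u x
  haveI := Fintype.ofFinite (MulAction.stabilizer (P : Subgroup G) x)
  have horb : Fintype.card (MulAction.orbit (P : Subgroup G) x) *
      Nat.card (MulAction.stabilizer (P : Subgroup G) x) = p ^ a := by
    rw [Nat.card_eq_fintype_card, MulAction.card_orbit_mul_card_stabilizer_eq_card_group,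
      ← Nat.card_eq_fintype_card]
    exact P.card_eq_multiplicity
  obtain ⟨i, -, hi⟩ := (Nat.dvd_prime_pow hM.1).1
    (horb ▸ dvd_mul_left _ _ : Nat.card (MulAction.stabilizer (P : Subgroup G) x) ∣ p ^ a)
  -- the stabiliser, as a subgroup of `G`
  set S := (MulAction.stabilizer (P : Subgroup G) x).map (P : Subgroup G).subtype
  have hSP : S ≤ (P : Subgroup G) ⊓ (P : Subgroup G).map (MulAut.conj x.1).toMonoidHom := by
    rintro _ ⟨u, hu, rfl⟩
    refine ⟨u.2, mem_map_conj_iff.2 ?_⟩
    have h2 : (u : G) * x.1 * (u : G)⁻¹ = x.1 := congrArg Subtype.val (hu : u • x = x)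
    have h3 : (u : G) * x.1 = x.1 * u := mul_inv_eq_iff_eq_mul.1 h2
    show x.1⁻¹ * (u : G) * x.1 ∈ (P : Subgroup G)
    rw [mul_assoc, h3, inv_mul_cancel_left]
    exact u.2
  have hSC : S ≤ Subgroup.centralizer ({x.1} : Set G) := by
    rintro _ ⟨u, hu, rfl⟩
    exact Subgroup.mem_centralizer_singleton_iff.2
      (mul_inv_eq_iff_eq_mul.1 (congrArg Subtype.val (hu : u • x = x)))
  have hSp : IsPGroup p S := (P.isPGroup'.to_subgroup _).map _
  have hScard : Nat.card S = p ^ i := by
    rw [← hi]; exact Subgroup.card_map_of_injective (P : Subgroup G).subtype_injective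
  obtain ⟨c, hc⟩ := isConj_iff.1 x.2
  have hxdef : Cfsg.IsDefectClass M B x.1 := hc ▸ defectClass_conj hg c
  have hxs := isSylCent_conj hDs c
  rw [hc] at hxs
  have hid : i ≤ d := by
    obtain ⟨z, hz⟩ := exists_conj_le_of_meets hSp hxs
      ⟨x.1, IsConj.refl _, le_centralizer_iff_mem.1 hSC⟩
    have := Subgroup.card_le_of_le hz
    rw [card_map_conj, card_map_conj, hScard, hcardD] at this
    exact (Nat.pow_le_pow_iff_right hM.1.one_lt).1 this
  have hfac : (Fintype.card (MulAction.orbit (P : Subgroup G) x)).factorization p = a - i := by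
    haveI : Nonempty (MulAction.orbit (P : Subgroup G) x) := ⟨⟨x, MulAction.mem_orbit_self x⟩⟩
    have := congrArg (fun n : ℕ => n.factorization p) horb
    simp only [hi] at this
    rw [Nat.factorization_mul Fintype.card_pos.ne' (pow_ne_zero _ hM.1.ne_zero), Finsupp.add_apply,
      hM.1.factorization_pow, hM.1.factorization_pow, Finsupp.single_eq_same,
      Finsupp.single_eq_same] at this
    omega
  rcases hid.eq_or_lt with rfl | hlt
  · refine ideal_mul_left hM (ring_natCast_div hM (pow_ne_zero _ hM.1.ne_zero)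
      (by rw [hpad, hfac])) ?_
    refine ideal_coset_sum hM hB hD P.isPGroup' ?_
    rw [hcardD, ← hScard]
    refine lt_of_le_of_ne (Subgroup.card_le_of_le hSP) fun he => ?_
    have heq := eq_of_le_of_card_le hSP he.ge
    refine hcon x.1 hxdef ?_
    rw [← heq, isSylCent_iff]
    exact ⟨hSC, by rw [hScard, ← blockDefect_eq hM hB hxdef]⟩
  · refine ideal_mul_right hM (ideal_natCast_div hM (pow_ne_zero _ hM.1.ne_zero) ?_) (hfr x)
    rw [hpad, hfac]
    omega

/-- Green's theorem. -/
theorem defectGroup_eq_sylow_inter (hM : Cfsg.IsPModular p M) {B : Set (Cfsg.IrrCharacter G)}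
    (hB : Cfsg.IsPBlock M B) {D : Subgroup G} (hD : Cfsg.IsDefectGroup p M B D) (P : Sylow p G)
    (hDP : D ≤ P) :
    ∃ x : G, ¬ p ∣ orderOf x ∧ IsSylCent p x D ∧
      (P : Subgroup G) ⊓ (P : Subgroup G).map (MulAut.conj x).toMonoidHom = D := by
  haveI := fact_prime_of_pm hM
  have hDp := isPGroup_defect hD
  obtain ⟨b, ⟨hb, hbD, -⟩, -⟩ := existsUnique_correspondent hM hB hD
  haveI hDn := normal_subgroupOf (H := Subgroup.normalizer (D : Set G)) (P := D) le_rfl
  obtain ⟨Q, hQ⟩ := (P.isPGroup'.comap_of_injective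
    (Subgroup.normalizer (D : Set G)).subtype Subtype.val_injective).exists_le_sylow
  obtain ⟨y, hy, hys⟩ := exists_sylow_inter hM hb Q
  obtain ⟨c, hc⟩ := exists_defectGroup_conj_eq hM hb hbD (isDefectGroup_iff.2 ⟨y, hy, hys⟩)
  have hinter : (Q : Subgroup (Subgroup.normalizer (D : Set G))) ⊓
      (Q : Subgroup (Subgroup.normalizer (D : Set G))).map (MulAut.conj y).toMonoidHom =
      D.subgroupOf (Subgroup.normalizer (D : Set G)) := by
    rw [hc]
    ext x
    rw [mem_map_conj_iff]
    refine ⟨fun h => ?_, fun h => by simpa using hDn.conj_mem _ h c⁻¹⟩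
    have := hDn.conj_mem _ h c
    simpa [mul_assoc] using this
  rw [hinter] at hys
  have hyC : (y : G) ∈ Subgroup.centralizer (D : Set G) :=
    (mem_centralizer_subgroupOf Subgroup.le_normalizer).1 (isSylCent_mem hys)
  refine ⟨y, fun h => defectClass_regular hM hb hy (by rwa [Subgroup.orderOf_coe] at h),
    (isSylCent_normalizer_iff hDp hyC).1 hys, ?_⟩
  have hle : D ≤ (P : Subgroup G) ⊓ (P : Subgroup G).map (MulAut.conj (y : G)).toMonoidHom := by
    refine le_inf hDP fun x hx => mem_map_conj_iff.2 (hDP ?_)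
    have h1 := Subgroup.mem_centralizer_iff.1 hyC x hx
    rwa [mul_assoc, h1, inv_mul_cancel_left]
  refine eq_of_max_normalizer (p := p) (D := D)
    (K := (P : Subgroup G) ⊓ (P : Subgroup G).map (MulAut.conj (y : G)).toMonoidHom)
    (fun R _ hDR hRK hRN => le_antisymm (fun r hr => ?_) hDR)
    (P.isPGroup'.to_le inf_le_left) hle le_rfl
  obtain ⟨hr1, hr2⟩ := hRK hr
  have hrQ : (⟨r, hRN hr⟩ : Subgroup.normalizer (D : Set G)) ∈
      (Q : Subgroup (Subgroup.normalizer (D : Set G))) ⊓
        (Q : Subgroup (Subgroup.normalizer (D : Set G))).map (MulAut.conj y).toMonoidHom := by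
    refine ⟨hQ (Subgroup.mem_comap.2 hr1), mem_map_conj_iff.2 (hQ (Subgroup.mem_comap.2 ?_))⟩
    simpa using mem_map_conj_iff.1 hr2
  rw [hinter] at hrQ
  exact hrQ

end Cfsg.Agent.Blocks
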